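import Groth.Agent.Lib.Helper57.EtRes2

/-!
# Étale neighbourhoods with prescribed finite separable residue field extension (helper57)

Stacks 02LF.
-/

universe u

open CategoryTheory CategoryTheory.Limits AlgebraicGeometry TopologicalSpace Polynomial

namespace Groth.Agent.Lib.Helper57.EtRes

open Groth.Agent.Lib.Helper57.EtQF

/-- Ring level: a finite separable extension `Ω` of `κ(𝔭)` is the residue field of a prime of an
étale `R`-algebra lying over `𝔭`. -/
theorem exists_etale_residueField_equiv {R : Type u} [CommRing R] (𝔭 : Ideal R) [𝔭.IsPrime]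
    (Ω : Type u) [Field Ω] [Algebra 𝔭.ResidueField Ω] [FiniteDimensional 𝔭.ResidueField Ω]
    [Algebra.IsSeparable 𝔭.ResidueField Ω] :
    ∃ (R' : Type u) (_ : CommRing R') (_ : Algebra R R') (_ : Algebra.Etale R R')
      (𝔮 : Ideal R') (_ : 𝔮.IsPrime) (h : 𝔭 = 𝔮.comap (algebraMap R R'))
      (ψ : 𝔮.ResidueField ≃+* Ω),
      (ψ : 𝔮.ResidueField →+* Ω).comp (Ideal.ResidueField.map 𝔭 𝔮 (algebraMap R R') h) =
        algebraMap 𝔭.ResidueField Ω := by
  set k := 𝔭.ResidueField
  let _ : Algebra R Ω := ((algebraMap k Ω).comp (algebraMap R k)).toAlgebra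
  have : IsScalarTower R k Ω := IsScalarTower.of_algebraMap_eq' rfl
  obtain ⟨α, hα⟩ := Field.exists_primitive_element k Ω
  have hαsep : IsSeparable k α := Algebra.IsSeparable.isSeparable k α
  obtain ⟨A, _, _, _, φ, a, t, ht, hφa⟩ := exists_pointed_etale_of_isSeparable 𝔭 α hαsep
  have hker : ∀ x : R, algebraMap R Ω x = 0 ↔ x ∈ 𝔭 := by
    intro x
    rw [IsScalarTower.algebraMap_apply R k Ω, map_eq_zero_iff _ (algebraMap k Ω).injective,
      Ideal.algebraMap_residueField_eq_zero]
  let 𝔮 : Ideal A := RingHom.ker φ.toRingHom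
  have h𝔮 : 𝔮.IsPrime := RingHom.ker_isPrime _
  have h : 𝔭 = 𝔮.comap (algebraMap R A) := by
    ext x
    rw [Ideal.mem_comap, RingHom.mem_ker]
    show _ ↔ φ (algebraMap R A x) = 0
    rw [φ.commutes, hker]
  let ψ : 𝔮.ResidueField →+* Ω := Ideal.ResidueField.lift 𝔮 φ.toRingHom le_rfl (by
    intro x hx
    show IsUnit (φ x)
    rw [isUnit_iff_ne_zero]
    exact hx)
  have hψ : ∀ x : A, ψ (algebraMap A 𝔮.ResidueField x) = φ x := fun x =>
    Ideal.ResidueField.lift_algebraMap _ _ _ _ x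
  have hcomp : ψ.comp (Ideal.ResidueField.map 𝔭 𝔮 (algebraMap R A) h) = algebraMap k Ω := by
    apply Ideal.ResidueField.ringHom_ext
    ext r
    simp only [RingHom.comp_apply]
    rw [Ideal.ResidueField.map_algebraMap, hψ, φ.commutes, ← IsScalarTower.algebraMap_apply]
  have ht0 : algebraMap R Ω t ≠ 0 := fun h0 => ht ((hker t).mp h0)
  let ρ : 𝔮.ResidueField :=
    algebraMap A 𝔮.ResidueField a * (algebraMap A 𝔮.ResidueField (algebraMap R A t))⁻¹
  have hρ : ψ ρ = α := by
    show ψ (_ * _) = α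
    rw [map_mul, map_inv₀, hψ, hψ, hφa, φ.commutes, mul_comm, inv_mul_cancel_left₀ ht0]
  -- surjectivity of `ψ`
  let _ : Algebra k 𝔮.ResidueField := (Ideal.ResidueField.map 𝔭 𝔮 (algebraMap R A) h).toAlgebra
  let ψ' : 𝔮.ResidueField →ₐ[k] Ω := { ψ with commutes' := fun r => congr($hcomp r) }
  have hsurj : Function.Surjective ψ := by
    have h1 : ψ'.fieldRange = ⊤ := by
      rw [eq_top_iff, ← hα, IntermediateField.adjoin_simple_le_iff]
      exact ⟨ρ, hρ⟩
    exact AlgHom.fieldRange_eq_top.mp h1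
  exact ⟨A, inferInstance, inferInstance, inferInstance, 𝔮, h𝔮, h,
    RingEquiv.ofBijective ψ ⟨ψ.injective, hsurj⟩, hcomp⟩

set_option backward.isDefEq.respectTransparency false in
/-- **Étale neighbourhood with prescribed finite separable residue field extension**
(Stacks 02LF). -/
theorem exists_etale_nbhd_residueField_equiv (S : Scheme.{u}) (s : S) (k : Type u) [Field k]
    [Algebra (S.residueField s) k] [FiniteDimensional (S.residueField s) k]
    [Algebra.IsSeparable (S.residueField s) k] :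
    ∃ (U : Scheme.{u}) (g : U ⟶ S) (u : U) (hu : g u = s), Etale g ∧
      letI := ((S.residueFieldCongr hu).inv ≫ g.residueFieldMap u).hom.toAlgebra
      Nonempty (k ≃ₐ[S.residueField s] U.residueField u) := by
  obtain ⟨_, ⟨W, hW, rfl⟩, hsW, -⟩ := S.isBasis_affineOpens.exists_subset_of_mem_open
    (Set.mem_univ s) isOpen_univ
  let 𝔭' : PrimeSpectrum Γ(S, W) := hW.primeIdealOf ⟨s, hsW⟩
  have hfs : hW.fromSpec 𝔭' = s := hW.fromSpec_primeIdealOf ⟨s, hsW⟩
  let ε : S.residueField s ≅ .of 𝔭'.asIdeal.ResidueField :=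
    asIso (resMap hW.fromSpec hfs) ≪≫ Scheme.Spec.residueFieldIso Γ(S, W) 𝔭'
  -- the `κ(𝔭')`-algebra structure on `k`
  let _ : Algebra 𝔭'.asIdeal.ResidueField k := ((algebraMap (S.residueField s) k).comp ε.inv.hom).toAlgebra
  have halg : ∀ c : S.residueField s, algebraMap 𝔭'.asIdeal.ResidueField k (ε.hom.hom c) =
      algebraMap (S.residueField s) k c := by
    intro c
    show algebraMap (S.residueField s) k (ε.inv.hom (ε.hom.hom c)) = _
    congr 1
    exact congr($(ε.hom_inv_id).hom c)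
  let e₀ : S.residueField s ≃+* 𝔭'.asIdeal.ResidueField := ε.commRingCatIsoToRingEquiv
  have he₀ : (algebraMap 𝔭'.asIdeal.ResidueField k).comp (e₀ : S.residueField s →+* _) =
      ((RingEquiv.refl k : k ≃+* k) : k →+* k).comp (algebraMap (S.residueField s) k) := by
    ext c
    exact halg c
  have : FiniteDimensional 𝔭'.asIdeal.ResidueField k :=
    Module.Finite.of_equiv_equiv e₀ (RingEquiv.refl k) he₀
  have : Algebra.IsSeparable 𝔭'.asIdeal.ResidueField k :=
    Algebra.IsSeparable.of_equiv_equiv e₀ (RingEquiv.refl k) he₀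
  obtain ⟨R', _, _, _, 𝔮, _, h, ψ, hψ⟩ := exists_etale_residueField_equiv 𝔭'.asIdeal k
  let φ : Γ(S, W) ⟶ .of R' := CommRingCat.ofHom <| algebraMap Γ(S, W) R'
  have hφ : φ.hom.Etale := RingHom.etale_algebraMap.mpr ‹_›
  have : Etale (Spec.map φ) := HasRingHomProperty.Spec_iff.mpr hφ
  let u : PrimeSpectrum R' := ⟨𝔮, ‹_›⟩
  have hpt : Spec.map φ u = 𝔭' := PrimeSpectrum.ext h.symm
  have hu : (Spec.map φ ≫ hW.fromSpec) u = s := by
    rw [Scheme.Hom.comp_apply, hpt, hfs]
  refine ⟨Spec (.of R'), Spec.map φ ≫ hW.fromSpec, u, hu, inferInstance, ?_⟩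
  have h1 : resMap (Spec.map φ ≫ hW.fromSpec) hu =
      resMap hW.fromSpec hfs ≫ resMap (Spec.map φ) hpt := resMap_comp _ _ hpt hfs hu
  have h2 := resMap_SpecMap φ u 𝔭' hpt h
  have h3 : resMap (Spec.map φ ≫ hW.fromSpec) hu =
      ε.hom ≫ CommRingCat.ofHom (Ideal.ResidueField.map 𝔭'.asIdeal 𝔮 (algebraMap Γ(S, W) R') h) ≫
        (Scheme.Spec.residueFieldIso (.of R') u).inv := by
    have h4 : resMap (Spec.map φ) hpt = (Scheme.Spec.residueFieldIso Γ(S, W) 𝔭').hom ≫
        CommRingCat.ofHom (Ideal.ResidueField.map 𝔭'.asIdeal 𝔮 (algebraMap Γ(S, W) R') h) ≫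
        (Scheme.Spec.residueFieldIso (.of R') u).inv := by
      rw [← Category.assoc, Iso.eq_comp_inv]
      exact h2
    rw [h1, h4]
    simp [ε]
  let e : k ≃+* (Spec (.of R')).residueField u :=
    ψ.symm.trans (Scheme.Spec.residueFieldIso (.of R') u).symm.commRingCatIsoToRingEquiv
  have hcomm : ∀ c : S.residueField s,
      e (algebraMap (S.residueField s) k c) = (resMap (Spec.map φ ≫ hW.fromSpec) hu).hom c := by
    intro c
    have h5 : ψ.symm (algebraMap (S.residueField s) k c) =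
        Ideal.ResidueField.map 𝔭'.asIdeal 𝔮 (algebraMap Γ(S, W) R') h (ε.hom.hom c) := by
      apply ψ.injective
      rw [ψ.apply_symm_apply]
      have h6 := congr($hψ (ε.hom.hom c))
      rw [RingHom.comp_apply] at h6
      exact ((halg c).symm.trans h6.symm)
    rw [h3]
    show (Scheme.Spec.residueFieldIso (.of R') u).inv.hom
      (ψ.symm (algebraMap (S.residueField s) k c)) = _
    rw [h5]
    rfl
  let _ : Algebra (S.residueField s) ((Spec (.of R')).residueField u) :=
    ((S.residueFieldCongr hu).inv ≫ (Spec.map φ ≫ hW.fromSpec).residueFieldMap u).hom.toAlgebra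
  exact ⟨{ e with commutes' := hcomm }⟩

end Groth.Agent.Lib.Helper57.EtRes
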