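import Groth.Prelude.Def_Omega3
import Groth.Agent.Lib.Helper82.EffCartier

/-!
# First order thickenings of schemes (`MoreMor.IsFirstOrderThickening`)

* `comap_mul`: pullback of ideal sheaves is multiplicative (proof as in helper82's `BlowUpMul`,
  via `Groth.Agent.Lib.Helper82.ideal_comap_of_le`).
* `baseChange`: the base change of a first order thickening is a first order thickening.
* `spec_of_sq_zero`: `Spec (A ⧸ I) ⟶ Spec A` is a first order thickening when `I ^ 2 = ⊥`.
-/

set_option autoImplicit false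

universe u

open AlgebraicGeometry CategoryTheory Limits MorphismProperty

namespace Groth.Agent.Lib.Helper57.FOThick

open Scheme

variable {X X' Y : Scheme.{u}}

theorem comap_mul (f : X ⟶ Y) (I J : Y.IdealSheafData) :
    (I * J).comap f = I.comap f * J.comap f := by
  have key : ∀ x : X, ∃ (U : X.affineOpens) (W : Y.affineOpens), x ∈ U.1 ∧ U.1 ≤ f ⁻¹ᵁ W.1 := by
    intro x
    obtain ⟨W, hW, hxW, -⟩ := exists_isAffineOpen_mem_and_subset (U := ⊤) (x := f x) (by simp)
    obtain ⟨U, hU, hxU, hUW⟩ := exists_isAffineOpen_mem_and_subset (U := f ⁻¹ᵁ W) (x := x) hxW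
    exact ⟨⟨U, hU⟩, ⟨W, hW⟩, hxU, hUW⟩
  choose U W hxU hUW using key
  refine IdealSheafData.ext_of_iSup_eq_top U ?_ ?_
  · exact top_le_iff.mp (fun x _ ↦ TopologicalSpace.Opens.mem_iSup.mpr ⟨x, hxU x⟩)
  · intro x
    rw [IdealSheafData.ideal_mul]
    simp only [Pi.mul_apply]
    rw [Groth.Agent.Lib.Helper82.ideal_comap_of_le f (I * J) (U x).1 (U x).2 (W x).1 (W x).2 (hUW x),
      Groth.Agent.Lib.Helper82.ideal_comap_of_le f I (U x).1 (U x).2 (W x).1 (W x).2 (hUW x),
      Groth.Agent.Lib.Helper82.ideal_comap_of_le f J (U x).1 (U x).2 (W x).1 (W x).2 (hUW x),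
      IdealSheafData.ideal_mul]
    simp only [Pi.mul_apply]
    rw [Ideal.map_mul]

/-- The kernel of a base change of a closed immersion. -/
theorem ker_of_isPullback {i : X ⟶ X'} [IsClosedImmersion i] {T P : Scheme.{u}} {g : T ⟶ X'}
    {fst : P ⟶ X} {snd : P ⟶ T} (sq : IsPullback fst snd i g) : snd.ker = i.ker.comap g := by
  have h1 : sq.flip.isoPullback.hom ≫ pullback.fst g i = snd := sq.flip.isoPullback_hom_fst
  rw [← h1, Scheme.Hom.ker_comp_of_isIso, IdealSheafData.ker_fst_of_isClosedImmersion]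

/-- The base change of a first order thickening is a first order thickening. -/
theorem baseChange {i : X ⟶ X'} (h : MoreMor.IsFirstOrderThickening i) {T P : Scheme.{u}}
    {g : T ⟶ X'} {fst : P ⟶ X} {snd : P ⟶ T} (sq : IsPullback fst snd i g) :
    MoreMor.IsFirstOrderThickening snd := by
  obtain ⟨⟨h1, h2⟩, h3⟩ := h
  refine ⟨⟨MorphismProperty.of_isPullback (P := @IsClosedImmersion) sq h1,
    MorphismProperty.of_isPullback (P := @Surjective) sq h2⟩, ?_⟩
  rw [ker_of_isPullback sq, ← comap_mul, h3, IdealSheafData.comap_bot]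

/-- If `q` is a closed immersion and the square of the kernel of `l ≫ q` is contained in the
kernel of `q`, then the kernel of `l` has square zero. -/
theorem ker_mul_ker_eq_bot_of_comp {Z P Z' : Scheme.{u}} (l : Z ⟶ P) (q : P ⟶ Z')
    [IsClosedImmersion q] [QuasiCompact l] [QuasiCompact (l ≫ q)]
    (h3 : (l ≫ q).ker * (l ≫ q).ker ≤ q.ker) : l.ker * l.ker = ⊥ := by
  rw [eq_bot_iff]
  refine IdealSheafData.le_of_iSup_eq_top
    (fun U : Z'.affineOpens => (⟨q ⁻¹ᵁ U.1, U.2.preimage q⟩ : P.affineOpens)) ?_ ?_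
  · apply top_le_iff.mp
    intro p _
    obtain ⟨U, hU, hpU, -⟩ := exists_isAffineOpen_mem_and_subset (U := ⊤) (x := q p) (by simp)
    exact TopologicalSpace.Opens.mem_iSup.mpr ⟨⟨U, hU⟩, hpU⟩
  · intro U
    rw [IdealSheafData.ideal_mul, Pi.mul_apply, IdealSheafData.ideal_bot, Pi.bot_apply]
    intro z hz
    refine Submodule.mul_induction_on hz ?_ ?_
    · intro x hx y hy
      rw [Hom.ker_apply] at hx hy
      obtain ⟨x', rfl⟩ := q.app_surjective U.1 U.2 x
      obtain ⟨y', rfl⟩ := q.app_surjective U.1 U.2 y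
      have hx' : x' ∈ (l ≫ q).ker.ideal U := by
        rw [Hom.ker_apply]
        exact hx
      have hy' : y' ∈ (l ≫ q).ker.ideal U := by
        rw [Hom.ker_apply]
        exact hy
      have hxy : x' * y' ∈ ((l ≫ q).ker * (l ≫ q).ker).ideal U := by
        rw [IdealSheafData.ideal_mul, Pi.mul_apply]
        exact Ideal.mul_mem_mul hx' hy'
      have hxy' := h3 U hxy
      rw [Hom.ker_apply, RingHom.mem_ker] at hxy'
      rw [Ideal.mem_bot]
      exact (map_mul (q.app U.1).hom x' y').symm.trans hxy'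
    · intro x y hx hy
      exact Ideal.add_mem _ hx hy

/-- Cancellation: if `l ≫ q` is a first order thickening and `q` is a closed immersion, then `l` is
a first order thickening. -/
theorem of_comp {Z P Z' : Scheme.{u}} (l : Z ⟶ P) (q : P ⟶ Z') [IsClosedImmersion q]
    (h : MoreMor.IsFirstOrderThickening (l ≫ q)) : MoreMor.IsFirstOrderThickening l := by
  obtain ⟨⟨h1, h2⟩, h3⟩ := h
  have hl : IsClosedImmersion l := IsClosedImmersion.of_comp_isClosedImmersion l q
  refine ⟨⟨hl, ?_⟩, ?_⟩
  · constructor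
    intro p
    obtain ⟨z, hz⟩ := h2.surj (q p)
    refine ⟨z, q.isClosedEmbedding.injective ?_⟩
    simpa using hz
  · apply ker_mul_ker_eq_bot_of_comp l q
    rw [h3]
    exact bot_le

/-- A morphism from a first order thickening `T'` of `T` to `X` whose restriction to `T` factors
through the closed subscheme `V(I)` factors (uniquely) through `V(I²)`. -/
theorem existsUnique_lift_sq {X T T' : Scheme.{u}} (I : X.IdealSheafData) (t : T ⟶ T')
    (ht : MoreMor.IsFirstOrderThickening t) (a : T ⟶ I.subscheme) (b : T' ⟶ X)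
    (w : a ≫ I.subschemeι = t ≫ b) :
    ∃! a' : T' ⟶ (I ^ 2).subscheme, a' ≫ (I ^ 2).subschemeι = b := by
  have h1 : I ≤ t.ker.map b := by
    rw [← Scheme.Hom.ker_comp, ← w]
    calc I = I.subschemeι.ker := (IdealSheafData.ker_subschemeι I).symm
      _ ≤ (a ≫ I.subschemeι).ker := Scheme.Hom.le_ker_comp _ _
  have h2 : I.comap b ≤ t.ker := IdealSheafData.le_map_iff_comap_le.mp h1
  have h3 : (I ^ 2).comap b ≤ ⊥ := by
    rw [pow_two, comap_mul, ← ht.2]
    exact mul_le_mul' h2 h2
  have h4 : I ^ 2 ≤ b.ker := by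
    rw [← IdealSheafData.map_bot]
    exact IdealSheafData.le_map_iff_comap_le.mpr h3
  have h5 : (I ^ 2).subschemeι.ker ≤ b.ker := by
    rw [IdealSheafData.ker_subschemeι]
    exact h4
  refine ⟨IsClosedImmersion.lift (I ^ 2).subschemeι b h5, IsClosedImmersion.lift_fac _ _ _, ?_⟩
  intro a' ha'
  rw [← cancel_mono (I ^ 2).subschemeι, ha', IsClosedImmersion.lift_fac]

end Groth.Agent.Lib.Helper57.FOThick
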