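import Groth.Prelude.Def_MoreMor
import Groth.Agent.Lib.Helper19.FormallyEtaleGlue
import Groth.Agent.Lib.Helper57.FOThick

/-!
# Gluing solutions of infinitesimal lifting problems

For a lifting problem `(t : T ⟶ T', a : T ⟶ Y, b : T' ⟶ S)` for `f : Y ⟶ S` (with `t` a thickening),
`IsSol f t a b g l` says that `l : P ⟶ Y` solves the problem restricted along `g : P ⟶ T'`
(in "functor of points" form, following helper19's `FEG`).

* `existsUnique_of_local`: if the restricted problems along a "basis" of open immersions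
  `g k : P k ⟶ T'` all have exactly one solution, so has the problem itself.
* `existsUnique_of_affine`: if all problems `(Spec (A ⧸ I) ⟶ Spec A, c ≫ a, b)` with `I ^ 2 = ⊥`
  have exactly one solution for tops of the form `c ≫ a`, then so has `(t, a, b)`
  for a first order thickening `t`.
-/

set_option autoImplicit false

universe u

open AlgebraicGeometry CategoryTheory Limits

namespace Groth.Agent.Lib.Helper57.LiftGlue

variable {Y S T T' : Scheme.{u}} (f : Y ⟶ S) (t : T ⟶ T') (a : T ⟶ Y) (b : T' ⟶ S)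

/-- `l : P ⟶ Y` solves the lifting problem `(t, a, b)` for `f`, restricted along `g : P ⟶ T'`. -/
def IsSol {P : Scheme.{u}} (g : P ⟶ T') (l : P ⟶ Y) : Prop :=
  (∀ (W : Scheme.{u}) (p : W ⟶ T) (q : W ⟶ P), p ≫ t = q ≫ g → q ≫ l = p ≫ a) ∧ l ≫ f = g ≫ b

variable {f t a b}

lemma IsSol.restrict {P P₂ : Scheme.{u}} {g : P ⟶ T'} {l : P ⟶ Y} (hl : IsSol f t a b g l)
    (ρ : P₂ ⟶ P) (g₂ : P₂ ⟶ T') (hρ : ρ ≫ g = g₂) : IsSol f t a b g₂ (ρ ≫ l) := by
  refine ⟨fun W p q hpq => ?_, ?_⟩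
  · rw [← Category.assoc]
    apply hl.1
    rw [Category.assoc, hρ, hpq]
  · rw [Category.assoc, hl.2, ← Category.assoc, hρ]

lemma isSol_id_iff (l : T' ⟶ Y) : IsSol f t a b (𝟙 T') l ↔ t ≫ l = a ∧ l ≫ f = b := by
  constructor
  · rintro ⟨h1, h2⟩
    refine ⟨?_, by rw [h2, Category.id_comp]⟩
    have := h1 T (𝟙 T) t (by rw [Category.id_comp, Category.comp_id])
    rw [Category.id_comp] at this
    exact this
  · rintro ⟨h1, h2⟩
    refine ⟨fun W p q hpq => ?_, by rw [h2, Category.id_comp]⟩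
    rw [Category.comp_id] at hpq
    rw [← hpq, Category.assoc, h1]

lemma isSol_iff_of_isPullback {P TP : Scheme.{u}} {g : P ⟶ T'} {p₀ : TP ⟶ T} {q₀ : TP ⟶ P}
    (sq : IsPullback p₀ q₀ t g) (l : P ⟶ Y) :
    IsSol f t a b g l ↔ q₀ ≫ l = p₀ ≫ a ∧ l ≫ f = g ≫ b := by
  constructor
  · rintro ⟨h1, h2⟩
    exact ⟨h1 TP p₀ q₀ sq.w, h2⟩
  · rintro ⟨h1, h2⟩
    refine ⟨fun W p q hpq => ?_, h2⟩
    rw [← sq.lift_snd p q hpq, Category.assoc, h1, ← Category.assoc, sq.lift_fst]

/-- Transport of solutions along an isomorphism of the source. -/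
lemma isSol_iso_iff {P P₂ : Scheme.{u}} (e : P₂ ≅ P) (g : P ⟶ T') (l : P ⟶ Y) :
    IsSol f t a b (e.hom ≫ g) (e.hom ≫ l) ↔ IsSol f t a b g l := by
  constructor
  · intro h
    have := h.restrict e.inv g (by rw [Iso.inv_hom_id_assoc])
    rwa [Iso.inv_hom_id_assoc] at this
  · intro h
    exact h.restrict e.hom _ rfl

variable (f t a b)

/-- Solutions of a lifting problem can be glued: if the restricted problems along a "basis" of
open immersions all have exactly one solution, so has the problem itself. -/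
theorem existsUnique_of_local {K : Type u} (P : K → Scheme.{u}) (g : ∀ k, P k ⟶ T')
    [∀ k, IsOpenImmersion (g k)] (hcov : ∀ x : T', ∃ k, x ∈ Set.range (g k))
    (hbasis : ∀ (k m : K) (x : T'), x ∈ Set.range (g k) → x ∈ Set.range (g m) →
      ∃ n, x ∈ Set.range (g n) ∧ Set.range (g n) ⊆ Set.range (g k) ∧
        Set.range (g n) ⊆ Set.range (g m))
    (H : ∀ k, ∃! l : P k ⟶ Y, IsSol f t a b (g k) l) :
    ∃! l : T' ⟶ Y, t ≫ l = a ∧ l ≫ f = b := by
  choose lk hlk hlk_unique using H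
  have hres : ∀ (n k : K) (hnk : Set.range (g n) ⊆ Set.range (g k)),
      IsOpenImmersion.lift (g k) (g n) hnk ≫ lk k = lk n := by
    intro n k hnk
    apply hlk_unique
    exact (hlk k).restrict _ _ (IsOpenImmersion.lift_fac _ _ _)
  have hcompat : ∀ k m : K, pullback.fst (g k) (g m) ≫ lk k = pullback.snd (g k) (g m) ≫ lk m := by
    intro k m
    apply Scheme.hom_ext_of_forall
    intro x
    have hxk : (pullback.fst (g k) (g m) ≫ g k) x ∈ Set.range (g k) :=
      ⟨pullback.fst (g k) (g m) x, by simp⟩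
    have hxm : (pullback.fst (g k) (g m) ≫ g k) x ∈ Set.range (g m) :=
      ⟨pullback.snd (g k) (g m) x, by rw [pullback.condition]; simp⟩
    obtain ⟨n, hxn, hnk, hnm⟩ := hbasis k m _ hxk hxm
    refine ⟨(pullback.fst (g k) (g m) ≫ g k) ⁻¹ᵁ (g n).opensRange, hxn, ?_⟩
    have hr : Set.range (((pullback.fst (g k) (g m) ≫ g k) ⁻¹ᵁ (g n).opensRange).ι ≫
        pullback.fst (g k) (g m) ≫ g k) ⊆ Set.range (g n) := by
      rintro _ ⟨y, rfl⟩
      exact y.2
    have h1 : ((pullback.fst (g k) (g m) ≫ g k) ⁻¹ᵁ (g n).opensRange).ι ≫ pullback.fst (g k) (g m) =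
        IsOpenImmersion.lift (g n) _ hr ≫ IsOpenImmersion.lift (g k) (g n) hnk := by
      rw [← cancel_mono (g k), Category.assoc, Category.assoc, IsOpenImmersion.lift_fac,
        IsOpenImmersion.lift_fac]
    have h2 : ((pullback.fst (g k) (g m) ≫ g k) ⁻¹ᵁ (g n).opensRange).ι ≫ pullback.snd (g k) (g m) =
        IsOpenImmersion.lift (g n) _ hr ≫ IsOpenImmersion.lift (g m) (g n) hnm := by
      rw [← cancel_mono (g m), Category.assoc, Category.assoc, IsOpenImmersion.lift_fac,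
        IsOpenImmersion.lift_fac, pullback.condition]
    generalize IsOpenImmersion.lift (g n) _ hr = r at h1 h2
    calc _ = (((pullback.fst (g k) (g m) ≫ g k) ⁻¹ᵁ (g n).opensRange).ι ≫
          pullback.fst (g k) (g m)) ≫ lk k := (Category.assoc _ _ _).symm
      _ = r ≫ lk n := by rw [h1, Category.assoc, hres]
      _ = (((pullback.fst (g k) (g m) ≫ g k) ⁻¹ᵁ (g n).opensRange).ι ≫
          pullback.snd (g k) (g m)) ≫ lk m := by rw [h2, Category.assoc, hres]
      _ = _ := Category.assoc _ _ _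
  let 𝒱 : T'.OpenCover := Scheme.Cover.mkOfCovers K P g (fun x => by
    obtain ⟨k, y, hy⟩ := hcov x
    exact ⟨k, y, hy⟩)
  have hl : ∀ k, g k ≫ 𝒱.glueMorphisms lk hcompat = lk k := fun k =>
    𝒱.ι_glueMorphisms lk hcompat k
  generalize 𝒱.glueMorphisms lk hcompat = l at hl
  have hsol : IsSol f t a b (𝟙 T') l := by
    refine ⟨fun W p q hpq => ?_, ?_⟩
    · rw [Category.comp_id] at hpq
      refine Scheme.Cover.hom_ext (𝒱.pullback₁ q) _ _ fun k => ?_
      change pullback.fst q (g k) ≫ q ≫ l = pullback.fst q (g k) ≫ p ≫ a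
      rw [← Category.assoc, pullback.condition, Category.assoc, hl, ← Category.assoc]
      apply (hlk k).1
      rw [Category.assoc, hpq, pullback.condition]
    · refine Scheme.Cover.hom_ext 𝒱 _ _ fun k => ?_
      change g k ≫ l ≫ f = g k ≫ 𝟙 T' ≫ b
      rw [← Category.assoc, hl, (hlk k).2, Category.id_comp]
  refine ⟨l, (isSol_id_iff l).mp hsol, ?_⟩
  intro l' hl'
  have hsol' : IsSol f t a b (𝟙 T') l' := (isSol_id_iff l').mpr hl'
  refine Scheme.Cover.hom_ext 𝒱 _ _ fun k => ?_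
  change g k ≫ l' = g k ≫ l
  rw [hl]
  apply hlk_unique
  exact hsol'.restrict (g k) (g k) (Category.comp_id _)

/-- Affine-local reduction: if every lifting problem against `Spec (A ⧸ I) ⟶ Spec A`, `I ^ 2 = ⊥`,
whose top map is of the form `c ≫ a`, has exactly one solution, then the problem `(t, a, b)`
against the first order thickening `t` has exactly one solution. -/
theorem existsUnique_of_affine (ht : MoreMor.IsFirstOrderThickening t) (w : t ≫ b = a ≫ f)
    (H : ∀ (A : Type u) [CommRing A] (I : Ideal A), I ^ 2 = ⊥ →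
      ∀ (c : Spec (CommRingCat.of (A ⧸ I)) ⟶ T) (b' : Spec (CommRingCat.of A) ⟶ S),
        Spec.map (CommRingCat.ofHom (Ideal.Quotient.mk I)) ≫ b' = (c ≫ a) ≫ f →
        ∃! l : Spec (CommRingCat.of A) ⟶ Y,
          Spec.map (CommRingCat.ofHom (Ideal.Quotient.mk I)) ≫ l = c ≫ a ∧ l ≫ f = b') :
    ∃! l : T' ⟶ Y, t ≫ l = a ∧ l ≫ f = b := by
  have hcl : IsClosedImmersion t := ht.1.1
  have : ∀ U : T'.affineOpens, IsOpenImmersion U.2.fromSpec := fun U => inferInstance
  refine existsUnique_of_local f t a b (fun U : T'.affineOpens => Spec Γ(T', U.1))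
    (fun U => U.2.fromSpec) ?_ ?_ ?_
  · intro x
    obtain ⟨W, hW, hxW, -⟩ := exists_isAffineOpen_mem_and_subset (x := x) (U := ⊤) trivial
    refine ⟨⟨W, hW⟩, ?_⟩
    rw [hW.range_fromSpec]
    exact hxW
  · intro U V x hxU hxV
    rw [U.2.range_fromSpec] at hxU
    rw [V.2.range_fromSpec] at hxV
    obtain ⟨W, hW, hxW, hWUV⟩ := exists_isAffineOpen_mem_and_subset (x := x) (U := U.1 ⊓ V.1)
      ⟨hxU, hxV⟩
    refine ⟨⟨W, hW⟩, ?_, ?_, ?_⟩
    · rw [hW.range_fromSpec]
      exact hxW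
    · rw [hW.range_fromSpec, U.2.range_fromSpec]
      exact fun y hy => (hWUV hy).1
    · rw [hW.range_fromSpec, V.2.range_fromSpec]
      exact fun y hy => (hWUV hy).2
  · intro U
    have hsq : t.ker.ideal U ^ 2 = ⊥ := by
      rw [pow_two]
      exact congrArg (fun I : T'.IdealSheafData => I.ideal U) ht.2
    have hc : Spec.map (CommRingCat.ofHom (Ideal.Quotient.mk (t.ker.ideal U))) ≫
        (U.2.fromSpec ≫ b) = (Groth.Agent.Lib.Helper19.FEG.cU t U ≫ a) ≫ f := by
      rw [← Category.assoc, ← Groth.Agent.Lib.Helper19.FEG.cU_comp, Category.assoc, Category.assoc,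
        w]
    obtain ⟨l, hl, hlu⟩ := H Γ(T', U.1) (t.ker.ideal U) hsq
      (Groth.Agent.Lib.Helper19.FEG.cU t U) (U.2.fromSpec ≫ b) hc
    have key : ∀ l' : Spec Γ(T', U.1) ⟶ Y, IsSol f t a b U.2.fromSpec l' ↔
        (Spec.map (CommRingCat.ofHom (Ideal.Quotient.mk (t.ker.ideal U))) ≫ l' =
          Groth.Agent.Lib.Helper19.FEG.cU t U ≫ a ∧ l' ≫ f = U.2.fromSpec ≫ b) := by
      intro l'
      constructor
      · rintro ⟨h1, h2⟩
        exact ⟨h1 _ _ _ (Groth.Agent.Lib.Helper19.FEG.cU_comp t U), h2⟩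
      · rintro ⟨h1, h2⟩
        refine ⟨fun W p q hpq => ?_, h2⟩
        obtain ⟨r, hr₁, hr₂⟩ := Groth.Agent.Lib.Helper19.FEG.exists_factor t U p q hpq
        rw [← hr₂, Category.assoc, h1, ← Category.assoc, hr₁]
    exact ⟨l, (key l).mpr hl, fun l' hl' => hlu l' ((key l').mp hl')⟩

end Groth.Agent.Lib.Helper57.LiftGlue
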