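import Groth.Prelude.Def_Omega3
import Groth.Agent.Lib.Helper57.LiftGlue
import Groth.Agent.Lib.Helper57.FOThick

/-!
# Gluing universal first order thickenings

General facts on `OmegaSh.IsUnivThickening`: functoriality, uniqueness up to unique isomorphism,
restriction along open immersions, and the gluing of universal thickenings given locally on the
source (via Mathlib's locally directed gluing).
-/

set_option autoImplicit false

universe u

open AlgebraicGeometry CategoryTheory Limits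

namespace Groth.Agent.Lib.Helper57.UnivThickGlue

section general

/-- The unique morphism of thickenings induced by `g : Z₁ ⟶ Z₂` over `X`. -/
theorem existsUnique_map {Z₁ Z₂ Z₁' Z₂' X : Scheme.{u}} {h₁ : Z₁ ⟶ X} {h₂ : Z₂ ⟶ X}
    {i₁ : Z₁ ⟶ Z₁'} {h₁' : Z₁' ⟶ X} {i₂ : Z₂ ⟶ Z₂'} {h₂' : Z₂' ⟶ X}
    (hu₁ : OmegaSh.IsUnivThickening h₁ i₁ h₁') (hu₂ : OmegaSh.IsUnivThickening h₂ i₂ h₂')
    (g : Z₁ ⟶ Z₂) (hg : g ≫ h₂ = h₁) :
    ∃! g' : Z₁' ⟶ Z₂', i₁ ≫ g' = g ≫ i₂ ∧ g' ≫ h₂' = h₁' :=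
  hu₂.2.2 Z₁ Z₁' i₁ h₁' g hu₁.1 (by rw [hu₁.2.1, hg])

/-- Two universal thickenings of the same morphism are isomorphic. -/
theorem isIso_of_univ {Z Z₁' Z₂' X : Scheme.{u}} {h : Z ⟶ X}
    {i₁ : Z ⟶ Z₁'} {h₁' : Z₁' ⟶ X} {i₂ : Z ⟶ Z₂'} {h₂' : Z₂' ⟶ X}
    (hu₁ : OmegaSh.IsUnivThickening h i₁ h₁') (hu₂ : OmegaSh.IsUnivThickening h i₂ h₂')
    (e : Z₁' ⟶ Z₂') (he1 : i₁ ≫ e = i₂) (he2 : e ≫ h₂' = h₁') : IsIso e := by
  obtain ⟨e', ⟨he'1, he'2⟩, -⟩ := existsUnique_map hu₂ hu₁ (𝟙 Z) (Category.id_comp _)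
  rw [Category.id_comp] at he'1
  refine ⟨e', ?_, ?_⟩
  · refine (existsUnique_map hu₁ hu₁ (𝟙 Z) (Category.id_comp _)).unique ⟨?_, ?_⟩ ⟨?_, ?_⟩
    · rw [← Category.assoc, he1, he'1, Category.id_comp]
    · rw [Category.assoc, he'2, he2]
    · rw [Category.comp_id, Category.id_comp]
    · rw [Category.id_comp]
  · refine (existsUnique_map hu₂ hu₂ (𝟙 Z) (Category.id_comp _)).unique ⟨?_, ?_⟩ ⟨?_, ?_⟩
    · rw [← Category.assoc, he'1, he1, Category.id_comp]
    · rw [Category.assoc, he2, he'2]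
    · rw [Category.comp_id, Category.id_comp]
    · rw [Category.id_comp]

/-- Restriction of a universal thickening along open immersions. -/
theorem restrict {Z Z' X V V' : Scheme.{u}} {h : Z ⟶ X} {i : Z ⟶ Z'} {h' : Z' ⟶ X}
    (hu : OmegaSh.IsUnivThickening h i h') (g : V ⟶ Z) (g' : V' ⟶ Z') [IsOpenImmersion g']
    (iV : V ⟶ V') (sq : IsPullback g iV i g') :
    OmegaSh.IsUnivThickening (g ≫ h) iV (g' ≫ h') := by
  obtain ⟨hi, hih, huniv⟩ := hu
  refine ⟨FOThick.baseChange hi sq, ?_, ?_⟩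
  · rw [← Category.assoc, ← sq.w, Category.assoc, hih]
  · intro T T' j b a hj hab
    obtain ⟨a'', ⟨ha1, ha2⟩, hau⟩ := huniv T T' j b (a ≫ g) hj (by rw [hab, Category.assoc])
    have hsurj : Function.Surjective j := hj.1.2.surj
    have hrange : Set.range a'' ⊆ Set.range g' := by
      rintro _ ⟨t', rfl⟩
      obtain ⟨t, rfl⟩ := hsurj t'
      refine ⟨iV (a t), ?_⟩
      have h1 := congrArg (fun m : T ⟶ Z' => m t) ha1
      have h2 := congrArg (fun m : V ⟶ Z' => m (a t)) sq.w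
      simp only [Scheme.Hom.comp_apply] at h1 h2
      rw [h1, h2]
    have hl : IsOpenImmersion.lift g' a'' hrange ≫ g' = a'' := IsOpenImmersion.lift_fac _ _ _
    generalize IsOpenImmersion.lift g' a'' hrange = l at hl
    refine ⟨l, ⟨?_, ?_⟩, ?_⟩
    · rw [← cancel_mono g', Category.assoc, hl, ha1, Category.assoc, Category.assoc, sq.w]
    · rw [← Category.assoc, hl, ha2]
    · rintro l₂ ⟨hl1, hl2⟩
      rw [← cancel_mono g', hl]
      apply hau
      refine ⟨?_, by rw [Category.assoc, hl2]⟩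
      rw [← Category.assoc, hl1, Category.assoc, Category.assoc, sq.w]

/-- The open subset of a thickening corresponding to an open subset of the source. -/
def thickOpen {Z Z' : Scheme.{u}} (i : Z ⟶ Z') (hi : MoreMor.IsThickening i) (U : Z.Opens) :
    Z'.Opens :=
  ⟨i '' (U : Set Z), by
    have h1 : IsClosedImmersion i := hi.1
    have hbij : Function.Bijective i := ⟨i.isClosedEmbedding.injective, hi.2.surj⟩
    rw [← isClosed_compl_iff, ← Set.image_compl_eq hbij]
    exact i.isClosedEmbedding.isClosedMap _ (isClosed_compl_iff.mpr U.2)⟩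

theorem preimage_thickOpen {Z Z' : Scheme.{u}} (i : Z ⟶ Z') (hi : MoreMor.IsThickening i)
    (U : Z.Opens) : i ⁻¹ᵁ (thickOpen i hi U) = U := by
  have h1 : IsClosedImmersion i := hi.1
  ext z
  exact i.isClosedEmbedding.injective.mem_set_image

theorem mem_thickOpen {Z Z' : Scheme.{u}} (i : Z ⟶ Z') (hi : MoreMor.IsThickening i)
    (U : Z.Opens) (z : Z) : i z ∈ thickOpen i hi U ↔ z ∈ U := by
  have h1 : IsClosedImmersion i := hi.1
  exact i.isClosedEmbedding.injective.mem_set_image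

/-- Restriction of a universal thickening to the open image of an open immersion. -/
theorem exists_restrict {Z Z' X V : Scheme.{u}} {h : Z ⟶ X} {i : Z ⟶ Z'} {h' : Z' ⟶ X}
    (hu : OmegaSh.IsUnivThickening h i h') (g : V ⟶ Z) [IsOpenImmersion g] :
    ∃ (V' : Z'.Opens) (iV : V ⟶ (V' : Scheme.{u})), iV ≫ V'.ι = g ≫ i ∧
      OmegaSh.IsUnivThickening (g ≫ h) iV (V'.ι ≫ h') := by
  have hr : Set.range (g ≫ i) ⊆ Set.range (thickOpen i hu.1.1 g.opensRange).ι := by
    rintro _ ⟨v, rfl⟩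
    rw [Scheme.Opens.range_ι]
    exact (mem_thickOpen i hu.1.1 g.opensRange (g v)).mpr ⟨v, rfl⟩
  have hl : IsOpenImmersion.lift (thickOpen i hu.1.1 g.opensRange).ι (g ≫ i) hr ≫
      (thickOpen i hu.1.1 g.opensRange).ι = g ≫ i := IsOpenImmersion.lift_fac _ _ _
  generalize IsOpenImmersion.lift (thickOpen i hu.1.1 g.opensRange).ι (g ≫ i) hr = iV at hl
  refine ⟨thickOpen i hu.1.1 g.opensRange, iV, hl, ?_⟩
  have sq : IsPullback iV g (thickOpen i hu.1.1 g.opensRange).ι i :=
    IsOpenImmersion.isPullback iV g _ i hl.symm (by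
      rw [Scheme.Opens.opensRange_ι, preimage_thickOpen])
  exact restrict hu g _ iV sq.flip

/-- A morphism of universal thickenings lying over an open immersion is an open immersion. -/
theorem isOpenImmersion_map {Z₁ Z₂ Z₁' Z₂' X : Scheme.{u}} {h₁ : Z₁ ⟶ X} {h₂ : Z₂ ⟶ X}
    {i₁ : Z₁ ⟶ Z₁'} {h₁' : Z₁' ⟶ X} {i₂ : Z₂ ⟶ Z₂'} {h₂' : Z₂' ⟶ X}
    (hu₁ : OmegaSh.IsUnivThickening h₁ i₁ h₁') (hu₂ : OmegaSh.IsUnivThickening h₂ i₂ h₂')
    (g : Z₁ ⟶ Z₂) [IsOpenImmersion g] (hg : g ≫ h₂ = h₁) (g' : Z₁' ⟶ Z₂')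
    (hg1 : i₁ ≫ g' = g ≫ i₂) (hg2 : g' ≫ h₂' = h₁') : IsOpenImmersion g' := by
  obtain ⟨V', iV, hiV, huV⟩ := exists_restrict hu₂ g
  rw [hg] at huV
  obtain ⟨e, ⟨he1, he2⟩, -⟩ := existsUnique_map hu₁ huV (𝟙 Z₁) (Category.id_comp _)
  rw [Category.id_comp] at he1
  have : IsIso e := isIso_of_univ hu₁ huV e he1 he2
  have hge : g' = e ≫ V'.ι := by
    refine (existsUnique_map hu₁ hu₂ g hg).unique ⟨hg1, hg2⟩ ⟨?_, ?_⟩
    · rw [← Category.assoc, he1, hiV]
    · rw [Category.assoc, he2]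
  rw [hge]
  infer_instance

end general

section glue

variable {Z X : Scheme.{u}} (h : Z ⟶ X)

/-- The opens of `Z` over which a universal first order thickening over `X` exists. -/
def Good (U : Z.Opens) : Prop :=
  ∃ (Z' : Scheme.{u}) (i : (U : Scheme.{u}) ⟶ Z') (h' : Z' ⟶ X),
    OmegaSh.IsUnivThickening (U.ι ≫ h) i h'

variable {h} in
theorem Good.of_le {U V : Z.Opens} (hU : Good h U) (hVU : V ≤ U) : Good h V := by
  obtain ⟨Z', i, h', hu⟩ := hU
  obtain ⟨V', iV, -, huV⟩ := exists_restrict hu (Z.homOfLE hVU)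
  rw [Scheme.homOfLE_ι_assoc] at huV
  exact ⟨_, _, _, huV⟩

/-- The index type of the gluing: the good opens. -/
abbrev J := {U : Z.Opens // Good h U}

/-- The chosen universal thickening over a good open. -/
noncomputable def thick (U : J h) : Scheme.{u} := U.2.choose

/-- The thickening map of the chosen universal thickening. -/
noncomputable def thickι (U : J h) : (U.1 : Scheme.{u}) ⟶ thick h U := U.2.choose_spec.choose

/-- The structure map of the chosen universal thickening. -/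
noncomputable def thickπ (U : J h) : thick h U ⟶ X := U.2.choose_spec.choose_spec.choose

theorem thick_spec (U : J h) :
    OmegaSh.IsUnivThickening (U.1.ι ≫ h) (thickι h U) (thickπ h U) :=
  U.2.choose_spec.choose_spec.choose_spec

theorem trans_existsUnique {V U : J h} (hVU : V.1 ≤ U.1) :
    ∃! g' : thick h V ⟶ thick h U,
      thickι h V ≫ g' = Z.homOfLE hVU ≫ thickι h U ∧ g' ≫ thickπ h U = thickπ h V :=
  existsUnique_map (thick_spec h V) (thick_spec h U) (Z.homOfLE hVU) (Scheme.homOfLE_ι_assoc ..)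

/-- The transition maps between the chosen universal thickenings. -/
noncomputable def trans {V U : J h} (hVU : V.1 ≤ U.1) : thick h V ⟶ thick h U :=
  (trans_existsUnique h hVU).choose

@[reassoc]
theorem ι_trans {V U : J h} (hVU : V.1 ≤ U.1) :
    thickι h V ≫ trans h hVU = Z.homOfLE hVU ≫ thickι h U :=
  (trans_existsUnique h hVU).choose_spec.1.1

@[reassoc]
theorem trans_π {V U : J h} (hVU : V.1 ≤ U.1) : trans h hVU ≫ thickπ h U = thickπ h V :=
  (trans_existsUnique h hVU).choose_spec.1.2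

theorem trans_unique {V U : J h} (hVU : V.1 ≤ U.1) (g' : thick h V ⟶ thick h U)
    (h1 : thickι h V ≫ g' = Z.homOfLE hVU ≫ thickι h U) (h2 : g' ≫ thickπ h U = thickπ h V) :
    g' = trans h hVU :=
  (trans_existsUnique h hVU).choose_spec.2 g' ⟨h1, h2⟩

instance {V U : J h} (hVU : V.1 ≤ U.1) : IsOpenImmersion (trans h hVU) :=
  isOpenImmersion_map (thick_spec h V) (thick_spec h U) (Z.homOfLE hVU)
    (Scheme.homOfLE_ι_assoc ..) _ (ι_trans h hVU) (trans_π h hVU)

/-- The diagram of the chosen universal thickenings. -/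
noncomputable def F : J h ⥤ Scheme.{u} where
  obj := thick h
  map f := trans h (leOfHom f)
  map_id U := by
    symm
    apply trans_unique
    · rw [Category.comp_id, Scheme.homOfLE_rfl, Category.id_comp]
    · rw [Category.id_comp]
  map_comp {U V W} f g := by
    symm
    apply trans_unique
    · rw [ι_trans_assoc, ι_trans, Scheme.homOfLE_homOfLE_assoc]
    · rw [Category.assoc, trans_π, trans_π]

instance {U V : J h} (f : U ⟶ V) : IsOpenImmersion ((F h).map f) :=
  inferInstanceAs (IsOpenImmersion (trans h (leOfHom f)))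

theorem thickι_injective (U : J h) : Function.Injective (thickι h U) := by
  have : IsClosedImmersion (thickι h U) := (thick_spec h U).1.1.1
  exact (thickι h U).isClosedEmbedding.injective

theorem thickι_surjective (U : J h) : Function.Surjective (thickι h U) :=
  (thick_spec h U).1.1.2.surj

theorem trans_apply {V U : J h} (hVU : V.1 ≤ U.1) (z : (V.1 : Scheme.{u})) :
    trans h hVU (thickι h V z) = thickι h U (Z.homOfLE hVU z) := by
  have := congrArg (fun m : (V.1 : Scheme.{u}) ⟶ thick h U => m z) (ι_trans h hVU)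
  simpa using this

instance : ((F h) ⋙ Scheme.forget).IsLocallyDirected where
  cond {i j k} fi fj xi xj hx := by
    have hx' : trans h (leOfHom fi) xi = trans h (leOfHom fj) xj := hx
    obtain ⟨zi, rfl⟩ := thickι_surjective h i xi
    obtain ⟨zj, rfl⟩ := thickι_surjective h j xj
    rw [trans_apply, trans_apply] at hx'
    have hz := congrArg Subtype.val (thickι_injective h k hx')
    rw [Scheme.homOfLE_apply, Scheme.homOfLE_apply] at hz
    have hl : Good h (i.1 ⊓ j.1) := i.2.of_le inf_le_left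
    have hli : (⟨i.1 ⊓ j.1, hl⟩ : J h) ≤ i := (inf_le_left : i.1 ⊓ j.1 ≤ i.1)
    have hlj : (⟨i.1 ⊓ j.1, hl⟩ : J h) ≤ j := (inf_le_right : i.1 ⊓ j.1 ≤ j.1)
    refine ⟨⟨i.1 ⊓ j.1, hl⟩, homOfLE hli, homOfLE hlj,
      thickι h ⟨i.1 ⊓ j.1, hl⟩ ⟨zi.1, zi.2, hz ▸ zj.2⟩, ?_, ?_⟩
    · show trans h _ (thickι h ⟨i.1 ⊓ j.1, hl⟩ ⟨zi.1, zi.2, hz ▸ zj.2⟩) = thickι h i zi
      rw [trans_apply]
      congr 1
      apply Subtype.ext
      rw [Scheme.homOfLE_apply]
    · show trans h _ (thickι h ⟨i.1 ⊓ j.1, hl⟩ ⟨zi.1, zi.2, hz ▸ zj.2⟩) = thickι h j zj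
      rw [trans_apply]
      congr 1
      apply Subtype.ext
      rw [Scheme.homOfLE_apply]
      exact hz

/-- The glued thickening. -/
noncomputable def glued : Scheme.{u} := colimit (F h)

/-- The open immersions of the local universal thickenings into the glued thickening. -/
noncomputable def gluedι (U : J h) : thick h U ⟶ glued h := colimit.ι (F h) U

instance (U : J h) : IsOpenImmersion (gluedι h U) :=
  inferInstanceAs (IsOpenImmersion (colimit.ι (F h) U))

@[reassoc]
theorem trans_gluedι {V U : J h} (hVU : V.1 ≤ U.1) : trans h hVU ≫ gluedι h U = gluedι h V :=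
  colimit.w (F h) (homOfLE hVU)

/-- The structure map of the glued thickening. -/
noncomputable def gluedCocone : Cocone (F h) where
  pt := X
  ι :=
    { app := thickπ h
      naturality := fun U V f => by
        simp only [Functor.const_obj_obj, Functor.const_obj_map, Category.comp_id]
        exact trans_π h (leOfHom f) }

/-- The structure map of the glued thickening. -/
noncomputable def gluedπ : glued h ⟶ X :=
  colimit.desc (F h) (gluedCocone h)

@[reassoc]
theorem gluedι_π (U : J h) : gluedι h U ≫ gluedπ h = thickπ h U :=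
  colimit.ι_desc (gluedCocone h) U

theorem homOfLE_thickι_gluedι {W U : J h} (hWU : W.1 ≤ U.1) :
    Z.homOfLE hWU ≫ thickι h U ≫ gluedι h U = thickι h W ≫ gluedι h W := by
  rw [← ι_trans_assoc, trans_gluedι]

variable (hcov : ∀ z : Z, ∃ U : Z.Opens, Good h U ∧ z ∈ U)

/-- The cover of `Z` by the good opens. -/
noncomputable def cover : Z.OpenCover :=
  Scheme.Cover.mkOfCovers (J h) (fun U => (U.1 : Scheme.{u})) (fun U => U.1.ι) (fun z => by
    obtain ⟨U, hU, hz⟩ := hcov z
    exact ⟨⟨U, hU⟩, ⟨z, hz⟩, rfl⟩)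

theorem compat (U V : J h) :
    pullback.fst U.1.ι V.1.ι ≫ thickι h U ≫ gluedι h U =
      pullback.snd U.1.ι V.1.ι ≫ thickι h V ≫ gluedι h V := by
  rw [← cancel_epi (isPullback_opens_inf U.1 V.1).isoPullback.hom,
    IsPullback.isoPullback_hom_fst_assoc, IsPullback.isoPullback_hom_snd_assoc]
  have hl : Good h (U.1 ⊓ V.1) := U.2.of_le inf_le_left
  rw [homOfLE_thickι_gluedι h (W := ⟨U.1 ⊓ V.1, hl⟩) (U := U) inf_le_left,
    homOfLE_thickι_gluedι h (W := ⟨U.1 ⊓ V.1, hl⟩) (U := V) inf_le_right]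

/-- The thickening map of the glued thickening. -/
noncomputable def gluedThickι : Z ⟶ glued h :=
  (cover h hcov).glueMorphisms (fun U => thickι h U ≫ gluedι h U) (compat h)

@[reassoc]
theorem ι_gluedThickι (U : J h) :
    U.1.ι ≫ gluedThickι h hcov = thickι h U ≫ gluedι h U :=
  (cover h hcov).ι_glueMorphisms _ _ U

theorem gluedThickι_π : gluedThickι h hcov ≫ gluedπ h = h := by
  refine Scheme.Cover.hom_ext (cover h hcov) _ _ fun U => ?_
  change U.1.ι ≫ gluedThickι h hcov ≫ gluedπ h = U.1.ι ≫ h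
  rw [ι_gluedThickι_assoc, gluedι_π, (thick_spec h U).2.1]

theorem gluedThickι_apply (U : J h) (z : (U.1 : Scheme.{u})) :
    gluedThickι h hcov z.1 = gluedι h U (thickι h U z) := by
  have := congrArg (fun m : (U.1 : Scheme.{u}) ⟶ glued h => m z) (ι_gluedThickι h hcov U)
  simpa using this

theorem preimage_opensRange (U : J h) :
    gluedThickι h hcov ⁻¹ᵁ (gluedι h U).opensRange = U.1 := by
  ext z
  constructor
  · rintro ⟨x, hx⟩
    obtain ⟨V, hV, hzV⟩ := hcov z
    have h1 := gluedThickι_apply h hcov ⟨V, hV⟩ ⟨z, hzV⟩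
    rw [← hx] at h1
    obtain ⟨k, fU, fV, y, hy1, hy2⟩ :=
      (Scheme.IsLocallyDirected.ι_eq_ι_iff (F h)).mp h1
    obtain ⟨zk, rfl⟩ := thickι_surjective h k y
    have hy2' : trans h (leOfHom fV) (thickι h k zk) = thickι h ⟨V, hV⟩ ⟨z, hzV⟩ := hy2
    rw [trans_apply] at hy2'
    have hz := congrArg Subtype.val (thickι_injective h _ hy2')
    rw [Scheme.homOfLE_apply] at hz
    have hkU : k.1 ≤ U.1 := leOfHom fU
    have hz' : zk.1 = z := hz
    exact hkU (hz' ▸ zk.2)
  · intro hz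
    exact ⟨thickι h U ⟨z, hz⟩, (gluedThickι_apply h hcov U ⟨z, hz⟩).symm⟩

theorem isPullback_gluedThickι (U : J h) :
    IsPullback (thickι h U) U.1.ι (gluedι h U) (gluedThickι h hcov) :=
  IsOpenImmersion.isPullback _ _ _ _ (ι_gluedThickι h hcov U) (by
    rw [preimage_opensRange, Scheme.Opens.opensRange_ι])

theorem gluedι_jointly_surjective (x : glued h) : ∃ (U : J h) (y : thick h U), gluedι h U y = x :=
  Scheme.IsLocallyDirected.ι_jointly_surjective (F h) x

/-- The cover of the glued thickening by the local universal thickenings. -/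
noncomputable def gluedCover : (glued h).OpenCover :=
  Scheme.Cover.mkOfCovers (J h) (thick h) (gluedι h) (fun x => gluedι_jointly_surjective h x)

theorem isFirstOrderThickening_gluedThickι :
    MoreMor.IsFirstOrderThickening (gluedThickι h hcov) := by
  have hcl : IsClosedImmersion (gluedThickι h hcov) := by
    apply IsZariskiLocalAtTarget.of_openCover (P := @IsClosedImmersion) (gluedCover h)
    intro U
    have : IsClosedImmersion (thickι h U) := (thick_spec h U).1.1.1
    have e : pullback.snd (gluedThickι h hcov) (gluedι h U) =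
        (isPullback_gluedThickι h hcov U).flip.isoPullback.inv ≫ thickι h U :=
      ((isPullback_gluedThickι h hcov U).flip.isoPullback_inv_snd).symm
    change IsClosedImmersion (pullback.snd (gluedThickι h hcov) (gluedι h U))
    rw [e]
    infer_instance
  refine ⟨⟨hcl, ⟨fun x => ?_⟩⟩, ?_⟩
  · obtain ⟨U, y, rfl⟩ := gluedι_jointly_surjective h x
    obtain ⟨z, rfl⟩ := thickι_surjective h U y
    exact ⟨z.1, gluedThickι_apply h hcov U z⟩
  · have h1 : ∀ U : J h, (gluedThickι h hcov).ker * (gluedThickι h hcov).ker ≤ (gluedι h U).ker := by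
      intro U
      have h3 : ((gluedThickι h hcov).ker * (gluedThickι h hcov).ker).comap (gluedι h U) ≤ ⊥ := by
        rw [FOThick.comap_mul, ← FOThick.ker_of_isPullback (isPullback_gluedThickι h hcov U).flip,
          (thick_spec h U).1.2]
      have h4 := Scheme.IdealSheafData.le_map_iff_comap_le.mpr h3
      rwa [Scheme.IdealSheafData.map_bot] at h4
    have h2 := Scheme.Hom.iInf_ker_openCover_map_comp (𝟙 (glued h)) (gluedCover h)
    rw [Scheme.Hom.ker_eq_bot_of_isIso] at h2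
    rw [eq_bot_iff, ← h2]
    refine le_iInf fun U => ?_
    rw [Category.comp_id]
    exact h1 U

theorem local_existsUnique {T T' : Scheme.{u}} (j : T ⟶ T')
    (hj : MoreMor.IsFirstOrderThickening j) (b : T' ⟶ X) (a : T ⟶ Z) (hab : j ≫ b = a ≫ h)
    (U : J h) (V : T'.Opens) (hUV : j ⁻¹ᵁ V ≤ a ⁻¹ᵁ U.1) :
    ∃! l : (V : Scheme.{u}) ⟶ glued h,
      LiftGlue.IsSol (gluedπ h) j (a ≫ gluedThickι h hcov) b V.ι l := by
  have sq : IsPullback (pullback.fst j V.ι) (pullback.snd j V.ι) j V.ι :=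
    IsPullback.of_hasPullback j V.ι
  have hq : MoreMor.IsFirstOrderThickening (pullback.snd j V.ι) := FOThick.baseChange hj sq
  have hr : Set.range (pullback.fst j V.ι ≫ a) ⊆ Set.range U.1.ι := by
    rintro _ ⟨y, rfl⟩
    rw [Scheme.Opens.range_ι]
    have h1 : (pullback.fst j V.ι y) ∈ j ⁻¹ᵁ V := by
      show j (pullback.fst j V.ι y) ∈ V
      have := congrArg (fun m : pullback j V.ι ⟶ T' => m y) sq.w
      simp only [Scheme.Hom.comp_apply] at this
      rw [this]
      exact (pullback.snd j V.ι y).2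
    exact hUV h1
  have haP : IsOpenImmersion.lift U.1.ι (pullback.fst j V.ι ≫ a) hr ≫ U.1.ι =
      pullback.fst j V.ι ≫ a := IsOpenImmersion.lift_fac _ _ _
  generalize IsOpenImmersion.lift U.1.ι (pullback.fst j V.ι ≫ a) hr = aP at haP
  have hcond : pullback.snd j V.ι ≫ (V.ι ≫ b) = aP ≫ (U.1.ι ≫ h) := by
    rw [← Category.assoc, ← sq.w, Category.assoc, hab, ← Category.assoc, ← haP, Category.assoc]
  obtain ⟨l₀, ⟨hl1, hl2⟩, hl₀u⟩ :=
    (thick_spec h U).2.2 _ _ (pullback.snd j V.ι) (V.ι ≫ b) aP hq hcond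
  have key : ∀ l : (V : Scheme.{u}) ⟶ glued h,
      LiftGlue.IsSol (gluedπ h) j (a ≫ gluedThickι h hcov) b V.ι l ↔
        (pullback.snd j V.ι ≫ l = aP ≫ thickι h U ≫ gluedι h U ∧
          l ≫ gluedπ h = V.ι ≫ b) := by
    intro l
    rw [LiftGlue.isSol_iff_of_isPullback sq]
    have : pullback.fst j V.ι ≫ a ≫ gluedThickι h hcov = aP ≫ thickι h U ≫ gluedι h U := by
      rw [← Category.assoc, ← haP, Category.assoc, ι_gluedThickι]
    rw [this]
  refine ⟨l₀ ≫ gluedι h U, (key _).mpr ⟨?_, ?_⟩, ?_⟩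
  · rw [← Category.assoc, hl1, Category.assoc]
  · rw [Category.assoc, gluedι_π, hl2]
  · intro l' hl'
    obtain ⟨hl'1, hl'2⟩ := (key l').mp hl'
    have hrange : Set.range l' ⊆ Set.range (gluedι h U) := by
      rintro _ ⟨x, rfl⟩
      obtain ⟨y, rfl⟩ := hq.1.2.surj x
      have := congrArg (fun m : pullback j V.ι ⟶ glued h => m y) hl'1
      simp only [Scheme.Hom.comp_apply] at this
      exact ⟨_, this.symm⟩
    have hl'' : IsOpenImmersion.lift (gluedι h U) l' hrange ≫ gluedι h U = l' :=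
      IsOpenImmersion.lift_fac _ _ _
    generalize IsOpenImmersion.lift (gluedι h U) l' hrange = l₀' at hl''
    have : l₀' = l₀ := by
      apply hl₀u
      constructor
      · rw [← cancel_mono (gluedι h U), Category.assoc, hl'', hl'1, Category.assoc]
      · rw [← gluedι_π, ← Category.assoc, hl'', hl'2]
    rw [← hl'', this]

/-- The glued thickening is a universal first order thickening. -/
theorem isUnivThickening_glued :
    OmegaSh.IsUnivThickening h (gluedThickι h hcov) (gluedπ h) := by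
  refine ⟨isFirstOrderThickening_gluedThickι h hcov, gluedThickι_π h hcov, ?_⟩
  intro T T' j b a hj hab
  have : ∀ k : {p : J h × T'.Opens // j ⁻¹ᵁ p.2 ≤ a ⁻¹ᵁ p.1.1}, IsOpenImmersion k.1.2.ι :=
    fun k => inferInstance
  refine LiftGlue.existsUnique_of_local (gluedπ h) j (a ≫ gluedThickι h hcov) b
    (K := {p : J h × T'.Opens // j ⁻¹ᵁ p.2 ≤ a ⁻¹ᵁ p.1.1})
    (fun k => (k.1.2 : Scheme.{u})) (fun k => k.1.2.ι) ?_ ?_ ?_
  · intro x
    obtain ⟨y, rfl⟩ := hj.1.2.surj x
    obtain ⟨U, hU, hyU⟩ := hcov (a y)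
    refine ⟨⟨(⟨U, hU⟩, thickOpen j hj.1 (a ⁻¹ᵁ U)), ?_⟩, ?_⟩
    · show j ⁻¹ᵁ thickOpen j hj.1 (a ⁻¹ᵁ U) ≤ a ⁻¹ᵁ U
      rw [preimage_thickOpen]
    · rw [Scheme.Opens.range_ι]
      exact (mem_thickOpen j hj.1 _ y).mpr hyU
  · intro k m x hxk hxm
    rw [Scheme.Opens.range_ι] at hxk hxm
    refine ⟨⟨(k.1.1, k.1.2 ⊓ m.1.2), ?_⟩, ?_, ?_, ?_⟩
    · show j ⁻¹ᵁ (k.1.2 ⊓ m.1.2) ≤ a ⁻¹ᵁ k.1.1.1
      exact fun y hy => k.2 hy.1
    · rw [Scheme.Opens.range_ι]
      exact ⟨hxk, hxm⟩
    · rw [Scheme.Opens.range_ι, Scheme.Opens.range_ι]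
      exact fun y hy => hy.1
    · rw [Scheme.Opens.range_ι, Scheme.Opens.range_ι]
      exact fun y hy => hy.2
  · rintro ⟨⟨U, V⟩, hUV⟩
    exact local_existsUnique h hcov j hj b a hab U V hUV

end glue

/-- Existence of universal first order thickenings, given local existence. -/
theorem exists_of_local {Z X : Scheme.{u}} (h : Z ⟶ X)
    (hcov : ∀ z : Z, ∃ U : Z.Opens, Good h U ∧ z ∈ U) :
    ∃ (Z' : Scheme.{u}) (i : Z ⟶ Z') (h' : Z' ⟶ X), OmegaSh.IsUnivThickening h i h' :=
  ⟨_, _, _, isUnivThickening_glued h hcov⟩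

end Groth.Agent.Lib.Helper57.UnivThickGlue
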