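import Mathlib.RingTheory.Smooth.StandardSmoothOfFree
import Mathlib.RingTheory.Smooth.StandardSmoothCotangent
import Mathlib.RingTheory.Etale.Basic
import Mathlib.RingTheory.Nilpotent.Lemmas
import Mathlib.RingTheory.Polynomial.Basic

/-!
# Lifting étale algebras along surjections with nil kernel (ring level)

If `π : B → A` is a surjective ring homomorphism whose kernel consists of nilpotent elements and
`C` is an étale `A`-algebra, then there is an étale `B`-algebra `D` with a surjection `D → C`
over `π` whose kernel is `(ker π) D` (in particular consists of nilpotent elements).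
(The construction follows helper71's S18155: lift a submersive presentation.)
-/

set_option autoImplicit false

universe u

namespace Groth.Agent.Lib.Helper57.EtaleLiftRing

open MvPolynomial

/-- Lifting a submersive presentation along a surjection with nil kernel. -/
theorem exists_lift_of_presentation {A B C : Type u} [CommRing A] [CommRing B] [CommRing C]
    [Algebra A C] (π : B →+* A) (hπ : Function.Surjective π)
    (hnil : RingHom.ker π ≤ nilradical B)
    {ι σ : Type} [Finite σ] [Finite ι] (P : Algebra.SubmersivePresentation A C ι σ) :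
    ∃ (D : Type u) (_ : CommRing D) (_ : Algebra B D) (πD : D →+* C)
      (_ : Algebra.SubmersivePresentation B D ι σ),
      Function.Surjective πD ∧ RingHom.ker πD = (RingHom.ker π).map (algebraMap B D) ∧
        RingHom.ker πD ≤ nilradical D ∧
        πD.comp (algebraMap B D) = (algebraMap A C).comp π := by
  classical
  cases nonempty_fintype σ
  have hmapπ : Function.Surjective (MvPolynomial.map (σ := ι) π) :=
    MvPolynomial.map_surjective π hπ
  choose v hv using fun j => hmapπ (P.relation j)
  let I : Ideal (MvPolynomial ι B) := Ideal.span (Set.range v)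
  let ψ : MvPolynomial ι B →+* C := (algebraMap P.Ring C).comp (MvPolynomial.map π)
  have hψv : ∀ j, ψ (v j) = 0 := by
    intro j
    change algebraMap P.Ring C (MvPolynomial.map π (v j)) = 0
    rw [hv j]
    exact P.relation_mem_ker j
  have hψI : ∀ x ∈ I, ψ x = 0 := by
    intro x hx
    have hle : I ≤ RingHom.ker ψ := by
      refine Ideal.span_le.mpr ?_
      rintro _ ⟨j, rfl⟩
      exact hψv j
    exact hle hx
  let πC : (MvPolynomial ι B ⧸ I) →+* C := Ideal.Quotient.lift I ψ hψI
  have hπC_mk : ∀ f, πC (Ideal.Quotient.mk I f) = ψ f := fun f => Ideal.Quotient.lift_mk I ψ hψI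
  have hψsurj : Function.Surjective ψ := P.algebraMap_surjective.comp hmapπ
  have hπCsurj : Function.Surjective πC := by
    intro c
    obtain ⟨f, rfl⟩ := hψsurj c
    exact ⟨Ideal.Quotient.mk I f, hπC_mk f⟩
  have hπCalg : ∀ b : B, πC (algebraMap B (MvPolynomial ι B ⧸ I) b) = algebraMap A C (π b) := by
    intro b
    have h1 : algebraMap B (MvPolynomial ι B ⧸ I) b = Ideal.Quotient.mk I (MvPolynomial.C b) := rfl
    rw [h1, hπC_mk]
    change algebraMap P.Ring C (MvPolynomial.map π (MvPolynomial.C b)) = _
    rw [MvPolynomial.map_C, P.algebraMap_apply, MvPolynomial.aeval_C]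
  -- the kernel of `πC`
  have hker : RingHom.ker πC = (RingHom.ker π).map (algebraMap B (MvPolynomial ι B ⧸ I)) := by
    apply le_antisymm
    · intro x hx
      rw [RingHom.mem_ker] at hx
      obtain ⟨f, rfl⟩ := Ideal.Quotient.mk_surjective x
      rw [hπC_mk] at hx
      have h1 : MvPolynomial.map π f ∈ P.ker := hx
      rw [← P.span_range_relation_eq_ker] at h1
      have h2 : Ideal.span (Set.range P.relation) =
          Ideal.map (MvPolynomial.map (σ := ι) π) I := by
        rw [Ideal.map_span, ← Set.range_comp]
        congr 2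
        ext j : 1
        exact (hv j).symm
      rw [h2, Ideal.mem_map_iff_of_surjective _ hmapπ] at h1
      obtain ⟨g, hgI, hg⟩ := h1
      have h3 : f - g ∈ RingHom.ker (MvPolynomial.map (σ := ι) π) := by
        rw [RingHom.mem_ker, map_sub, hg, sub_self]
      rw [MvPolynomial.ker_map] at h3
      have h4 : Ideal.Quotient.mk I f = Ideal.Quotient.mk I (f - g) := by
        rw [map_sub, Ideal.Quotient.eq_zero_iff_mem.mpr hgI, sub_zero]
      rw [h4]
      have h5 : (RingHom.ker π).map (algebraMap B (MvPolynomial ι B ⧸ I)) =
          ((RingHom.ker π).map (MvPolynomial.C (σ := ι))).map (Ideal.Quotient.mk I) := by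
        rw [Ideal.map_map]
        rfl
      rw [h5]
      exact Ideal.mem_map_of_mem _ h3
    · rw [Ideal.map_le_iff_le_comap]
      intro b hb
      rw [RingHom.mem_ker] at hb
      rw [Ideal.mem_comap, RingHom.mem_ker, hπCalg, hb, map_zero]
  have hkernil : RingHom.ker πC ≤ nilradical (MvPolynomial ι B ⧸ I) := by
    rw [hker, Ideal.map_le_iff_le_comap]
    intro b hb
    have hb' : IsNilpotent b := hnil hb
    exact hb'.map _
  let Q : Algebra.PreSubmersivePresentation B (MvPolynomial ι B ⧸ I) ι σ :=
    Algebra.PreSubmersivePresentation.naive (v := v) P.map P.map_inj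
  have hjac : πC Q.jacobian = P.jacobian := by
    rw [Q.jacobian_eq_jacobiMatrix_det, P.jacobian_eq_jacobiMatrix_det]
    have hmk : ∀ x : MvPolynomial ι B, algebraMap Q.Ring (MvPolynomial ι B ⧸ I) x =
        Ideal.Quotient.mk I x := fun x => rfl
    rw [hmk, hπC_mk, RingHom.map_det, RingHom.map_det]
    congr 1
    ext a b
    simp only [RingHom.mapMatrix_apply, Matrix.map_apply]
    rw [P.jacobiMatrix_apply]
    have : Q.jacobiMatrix a b = MvPolynomial.pderiv (P.map a) (v b) :=
      Algebra.PreSubmersivePresentation.jacobiMatrix_naive _ _ _ _ a b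
    rw [this]
    change algebraMap P.Ring C (MvPolynomial.map π (MvPolynomial.pderiv (P.map a) (v b))) = _
    rw [← MvPolynomial.pderiv_map, hv b]
  have hunit_of : ∀ x : MvPolynomial ι B ⧸ I, IsUnit (πC x) → IsUnit x := by
    intro x hx
    obtain ⟨c, hc⟩ := hx.exists_right_inv
    obtain ⟨y, rfl⟩ := hπCsurj c
    have h0 : 1 - x * y ∈ RingHom.ker πC := by
      rw [RingHom.mem_ker, map_sub, map_one, map_mul, hc, sub_self]
    have hnil' : IsNilpotent (1 - x * y) := hkernil h0
    have hu : IsUnit (x * y) := by
      have := hnil'.isUnit_one_sub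
      rwa [sub_sub_cancel] at this
    exact isUnit_of_mul_isUnit_left hu
  have hQunit : IsUnit Q.jacobian := hunit_of _ (hjac ▸ P.jacobian_isUnit)
  exact ⟨MvPolynomial ι B ⧸ I, inferInstance, inferInstance, πC, ⟨Q, hQunit⟩, hπCsurj, hker,
    hkernil, RingHom.ext hπCalg⟩

/-- Lifting étale algebras along a surjection with nil kernel. -/
theorem exists_etale_lift {A B C : Type u} [CommRing A] [CommRing B] [CommRing C]
    [Algebra A C] [Algebra.Etale A C] (π : B →+* A) (hπ : Function.Surjective π)
    (hnil : RingHom.ker π ≤ nilradical B) :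
    ∃ (D : Type u) (_ : CommRing D) (_ : Algebra B D) (πD : D →+* C),
      Algebra.Etale B D ∧ Function.Surjective πD ∧
        RingHom.ker πD = (RingHom.ker π).map (algebraMap B D) ∧
        RingHom.ker πD ≤ nilradical D ∧
        πD.comp (algebraMap B D) = (algebraMap A C).comp π := by
  have hstd : Algebra.IsStandardSmoothOfRelativeDimension 0 A C :=
    Algebra.Etale.iff_isStandardSmoothOfRelativeDimension_zero.mp inferInstance
  obtain ⟨ι, σ, _, _, P, hP⟩ := hstd.out
  obtain ⟨D, _, _, πD, Q, h1, h2, h3, h4⟩ := exists_lift_of_presentation π hπ hnil P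
  have hQ : Q.dimension = 0 := hP
  have : Algebra.IsStandardSmoothOfRelativeDimension 0 B D :=
    Q.isStandardSmoothOfRelativeDimension hQ
  exact ⟨D, inferInstance, inferInstance, πD, inferInstance, h1, h2, h3, h4⟩

end Groth.Agent.Lib.Helper57.EtaleLiftRing
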