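import Groth.Agent.Lib.Helper57.FlatThick
import Groth.Agent.Lib.Helper57.EtaleLiftRing
import Mathlib.AlgebraicGeometry.Morphisms.Etale

/-!
# Lifting étale schemes along thickenings (topological invariance of the étale site)

`IsEtLift h ι π`: for `h : Z ⟶ S`, a thickening `ι : Z ⟶ Z'` and an étale `π : Z' ⟶ S` with
`ι ≫ π = h`.  Such lifts are unique up to unique isomorphism (unique lifting for étale morphisms
against thickenings, `FlatThick.existsUnique_lift`), restrict to opens, and glue (Mathlib's locally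
directed gluing).  Local existence comes from the ring-level lifting of étale algebras
(`EtaleLiftRing.exists_etale_lift`).  Main result: `exists_isPullback`: for a thickening
`i : S₀ ⟶ S` and an étale `f₀ : X₀ ⟶ S₀` there is an étale `f : X ⟶ S` whose base change to `S₀`
is `f₀`.
-/

set_option autoImplicit false

universe u

open AlgebraicGeometry CategoryTheory Limits

namespace Groth.Agent.Lib.Helper57.EtLift

open Groth.Agent.Lib.Helper57.FlatThick

/-- `(ι, π)` is an étale lift of `h : Z ⟶ S`: `ι` is a thickening, `π` is étale and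
`ι ≫ π = h`. -/
def IsEtLift {Z Z' S : Scheme.{u}} (h : Z ⟶ S) (ι : Z ⟶ Z') (π : Z' ⟶ S) : Prop :=
  MoreMor.IsThickening ι ∧ ι ≫ π = h ∧ Etale π

section general

/-- The universal property of an étale lift against all thickenings. -/
theorem IsEtLift.univ {Z Z' S : Scheme.{u}} {h : Z ⟶ S} {ι : Z ⟶ Z'} {π : Z' ⟶ S}
    (hu : IsEtLift h ι π) {T T' : Scheme.{u}} (j : T ⟶ T') (hj : MoreMor.IsThickening j)
    (b : T' ⟶ S) (a : T ⟶ Z) (hab : j ≫ b = a ≫ h) :
    ∃! a' : T' ⟶ Z', j ≫ a' = a ≫ ι ∧ a' ≫ π = b := by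
  have : Etale π := hu.2.2
  have h1 : Flat π := inferInstance
  have h2 : FormallyUnramified π := inferInstance
  have h3 : LocallyOfFiniteType π := inferInstance
  exact existsUnique_lift π j hj (a ≫ ι) b (by rw [hab, Category.assoc, hu.2.1])

/-- The unique morphism of étale lifts induced by `g : Z₁ ⟶ Z₂` over `S`. -/
theorem existsUnique_map {Z₁ Z₂ Z₁' Z₂' X : Scheme.{u}} {h₁ : Z₁ ⟶ X} {h₂ : Z₂ ⟶ X}
    {i₁ : Z₁ ⟶ Z₁'} {h₁' : Z₁' ⟶ X} {i₂ : Z₂ ⟶ Z₂'} {h₂' : Z₂' ⟶ X}
    (hu₁ : IsEtLift h₁ i₁ h₁') (hu₂ : IsEtLift h₂ i₂ h₂')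
    (g : Z₁ ⟶ Z₂) (hg : g ≫ h₂ = h₁) :
    ∃! g' : Z₁' ⟶ Z₂', i₁ ≫ g' = g ≫ i₂ ∧ g' ≫ h₂' = h₁' :=
  hu₂.univ i₁ hu₁.1 h₁' g (by rw [hu₁.2.1, hg])

/-- Two étale lifts of the same morphism are isomorphic. -/
theorem isIso_of_univ {Z Z₁' Z₂' X : Scheme.{u}} {h : Z ⟶ X}
    {i₁ : Z ⟶ Z₁'} {h₁' : Z₁' ⟶ X} {i₂ : Z ⟶ Z₂'} {h₂' : Z₂' ⟶ X}
    (hu₁ : IsEtLift h i₁ h₁') (hu₂ : IsEtLift h i₂ h₂')
    (e : Z₁' ⟶ Z₂') (he1 : i₁ ≫ e = i₂) (he2 : e ≫ h₂' = h₁') : IsIso e := by
  obtain ⟨e', ⟨he'1, he'2⟩, -⟩ := existsUnique_map hu₂ hu₁ (𝟙 Z) (Category.id_comp _)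
  rw [Category.id_comp] at he'1
  refine ⟨e', ?_, ?_⟩
  · refine (existsUnique_map hu₁ hu₁ (𝟙 Z) (Category.id_comp _)).unique ⟨?_, ?_⟩ ⟨?_, ?_⟩
    · rw [← Category.assoc, he1, he'1, Category.id_comp]
    · rw [Category.assoc, he'2, he2]
    · rw [Category.comp_id, Category.id_comp]
    · rw [Category.id_comp]
  · refine (existsUnique_map hu₂ hu₂ (𝟙 Z) (Category.id_comp _)).unique ⟨?_, ?_⟩ ⟨?_, ?_⟩
    · rw [← Category.assoc, he'1, he1, Category.id_comp]
    · rw [Category.assoc, he2, he'2]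
    · rw [Category.comp_id, Category.id_comp]
    · rw [Category.id_comp]

/-- Restriction of an étale lift along open immersions. -/
theorem restrict {Z Z' X V V' : Scheme.{u}} {h : Z ⟶ X} {i : Z ⟶ Z'} {h' : Z' ⟶ X}
    (hu : IsEtLift h i h') (g : V ⟶ Z) (g' : V' ⟶ Z') [IsOpenImmersion g']
    (iV : V ⟶ V') (sq : IsPullback g iV i g') :
    IsEtLift (g ≫ h) iV (g' ≫ h') := by
  obtain ⟨hi, hih, het⟩ := hu
  refine ⟨thickening_baseChange hi sq, ?_, ?_⟩
  · rw [← Category.assoc, ← sq.w, Category.assoc, hih]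
  · infer_instance

/-- Restriction of an étale lift to the open image of an open immersion. -/
theorem exists_restrict {Z Z' X V : Scheme.{u}} {h : Z ⟶ X} {i : Z ⟶ Z'} {h' : Z' ⟶ X}
    (hu : IsEtLift h i h') (g : V ⟶ Z) [IsOpenImmersion g] :
    ∃ (V' : Z'.Opens) (iV : V ⟶ (V' : Scheme.{u})), iV ≫ V'.ι = g ≫ i ∧
      IsEtLift (g ≫ h) iV (V'.ι ≫ h') := by
  have hr : Set.range (g ≫ i) ⊆ Set.range (thickOpen i hu.1 g.opensRange).ι := by
    rintro _ ⟨v, rfl⟩
    rw [Scheme.Opens.range_ι]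
    exact (mem_thickOpen i hu.1 g.opensRange (g v)).mpr ⟨v, rfl⟩
  have hl : IsOpenImmersion.lift (thickOpen i hu.1 g.opensRange).ι (g ≫ i) hr ≫
      (thickOpen i hu.1 g.opensRange).ι = g ≫ i := IsOpenImmersion.lift_fac _ _ _
  generalize IsOpenImmersion.lift (thickOpen i hu.1 g.opensRange).ι (g ≫ i) hr = iV at hl
  refine ⟨thickOpen i hu.1 g.opensRange, iV, hl, ?_⟩
  have sq : IsPullback iV g (thickOpen i hu.1 g.opensRange).ι i :=
    IsOpenImmersion.isPullback iV g _ i hl.symm (by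
      rw [Scheme.Opens.opensRange_ι, preimage_thickOpen])
  exact restrict hu g _ iV sq.flip

/-- A morphism of étale lifts lying over an open immersion is an open immersion. -/
theorem isOpenImmersion_map {Z₁ Z₂ Z₁' Z₂' X : Scheme.{u}} {h₁ : Z₁ ⟶ X} {h₂ : Z₂ ⟶ X}
    {i₁ : Z₁ ⟶ Z₁'} {h₁' : Z₁' ⟶ X} {i₂ : Z₂ ⟶ Z₂'} {h₂' : Z₂' ⟶ X}
    (hu₁ : IsEtLift h₁ i₁ h₁') (hu₂ : IsEtLift h₂ i₂ h₂')
    (g : Z₁ ⟶ Z₂) [IsOpenImmersion g] (hg : g ≫ h₂ = h₁) (g' : Z₁' ⟶ Z₂')
    (hg1 : i₁ ≫ g' = g ≫ i₂) (hg2 : g' ≫ h₂' = h₁') : IsOpenImmersion g' := by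
  obtain ⟨V', iV, hiV, huV⟩ := exists_restrict hu₂ g
  rw [hg] at huV
  obtain ⟨e, ⟨he1, he2⟩, -⟩ := existsUnique_map hu₁ huV (𝟙 Z₁) (Category.id_comp _)
  rw [Category.id_comp] at he1
  have : IsIso e := isIso_of_univ hu₁ huV e he1 he2
  have hge : g' = e ≫ V'.ι := by
    refine (existsUnique_map hu₁ hu₂ g hg).unique ⟨hg1, hg2⟩ ⟨?_, ?_⟩
    · rw [← Category.assoc, he1, hiV]
    · rw [Category.assoc, he2]
  rw [hge]
  infer_instance

end general

section glue

variable {Z X : Scheme.{u}} (h : Z ⟶ X)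

/-- The opens of `Z` over which an étale lift over `X` exists. -/
def Good (U : Z.Opens) : Prop :=
  ∃ (Z' : Scheme.{u}) (i : (U : Scheme.{u}) ⟶ Z') (h' : Z' ⟶ X),
    IsEtLift (U.ι ≫ h) i h'

variable {h} in
theorem Good.of_le {U V : Z.Opens} (hU : Good h U) (hVU : V ≤ U) : Good h V := by
  obtain ⟨Z', i, h', hu⟩ := hU
  obtain ⟨V', iV, -, huV⟩ := exists_restrict hu (Z.homOfLE hVU)
  rw [Scheme.homOfLE_ι_assoc] at huV
  exact ⟨_, _, _, huV⟩

/-- The index type of the gluing: the good opens. -/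
abbrev J := {U : Z.Opens // Good h U}

/-- The chosen universal thickening over a good open. -/
noncomputable def thick (U : J h) : Scheme.{u} := U.2.choose

/-- The thickening map of the chosen universal thickening. -/
noncomputable def thickι (U : J h) : (U.1 : Scheme.{u}) ⟶ thick h U := U.2.choose_spec.choose

/-- The structure map of the chosen universal thickening. -/
noncomputable def thickπ (U : J h) : thick h U ⟶ X := U.2.choose_spec.choose_spec.choose

theorem thick_spec (U : J h) :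
    IsEtLift (U.1.ι ≫ h) (thickι h U) (thickπ h U) :=
  U.2.choose_spec.choose_spec.choose_spec

theorem trans_existsUnique {V U : J h} (hVU : V.1 ≤ U.1) :
    ∃! g' : thick h V ⟶ thick h U,
      thickι h V ≫ g' = Z.homOfLE hVU ≫ thickι h U ∧ g' ≫ thickπ h U = thickπ h V :=
  existsUnique_map (thick_spec h V) (thick_spec h U) (Z.homOfLE hVU) (Scheme.homOfLE_ι_assoc ..)

/-- The transition maps between the chosen universal thickenings. -/
noncomputable def trans {V U : J h} (hVU : V.1 ≤ U.1) : thick h V ⟶ thick h U :=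
  (trans_existsUnique h hVU).choose

@[reassoc]
theorem ι_trans {V U : J h} (hVU : V.1 ≤ U.1) :
    thickι h V ≫ trans h hVU = Z.homOfLE hVU ≫ thickι h U :=
  (trans_existsUnique h hVU).choose_spec.1.1

@[reassoc]
theorem trans_π {V U : J h} (hVU : V.1 ≤ U.1) : trans h hVU ≫ thickπ h U = thickπ h V :=
  (trans_existsUnique h hVU).choose_spec.1.2

theorem trans_unique {V U : J h} (hVU : V.1 ≤ U.1) (g' : thick h V ⟶ thick h U)
    (h1 : thickι h V ≫ g' = Z.homOfLE hVU ≫ thickι h U) (h2 : g' ≫ thickπ h U = thickπ h V) :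
    g' = trans h hVU :=
  (trans_existsUnique h hVU).choose_spec.2 g' ⟨h1, h2⟩

instance {V U : J h} (hVU : V.1 ≤ U.1) : IsOpenImmersion (trans h hVU) :=
  isOpenImmersion_map (thick_spec h V) (thick_spec h U) (Z.homOfLE hVU)
    (Scheme.homOfLE_ι_assoc ..) _ (ι_trans h hVU) (trans_π h hVU)

/-- The diagram of the chosen universal thickenings. -/
noncomputable def F : J h ⥤ Scheme.{u} where
  obj := thick h
  map f := trans h (leOfHom f)
  map_id U := by
    symm
    apply trans_unique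
    · rw [Category.comp_id, Scheme.homOfLE_rfl, Category.id_comp]
    · rw [Category.id_comp]
  map_comp {U V W} f g := by
    symm
    apply trans_unique
    · rw [ι_trans_assoc, ι_trans, Scheme.homOfLE_homOfLE_assoc]
    · rw [Category.assoc, trans_π, trans_π]

instance {U V : J h} (f : U ⟶ V) : IsOpenImmersion ((F h).map f) :=
  inferInstanceAs (IsOpenImmersion (trans h (leOfHom f)))

theorem thickι_injective (U : J h) : Function.Injective (thickι h U) := by
  have : IsClosedImmersion (thickι h U) := (thick_spec h U).1.1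
  exact (thickι h U).isClosedEmbedding.injective

theorem thickι_surjective (U : J h) : Function.Surjective (thickι h U) :=
  (thick_spec h U).1.2.surj

theorem trans_apply {V U : J h} (hVU : V.1 ≤ U.1) (z : (V.1 : Scheme.{u})) :
    trans h hVU (thickι h V z) = thickι h U (Z.homOfLE hVU z) := by
  have := congrArg (fun m : (V.1 : Scheme.{u}) ⟶ thick h U => m z) (ι_trans h hVU)
  simpa using this

instance : ((F h) ⋙ Scheme.forget).IsLocallyDirected where
  cond {i j k} fi fj xi xj hx := by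
    have hx' : trans h (leOfHom fi) xi = trans h (leOfHom fj) xj := hx
    obtain ⟨zi, rfl⟩ := thickι_surjective h i xi
    obtain ⟨zj, rfl⟩ := thickι_surjective h j xj
    rw [trans_apply, trans_apply] at hx'
    have hz := congrArg Subtype.val (thickι_injective h k hx')
    rw [Scheme.homOfLE_apply, Scheme.homOfLE_apply] at hz
    have hl : Good h (i.1 ⊓ j.1) := i.2.of_le inf_le_left
    have hli : (⟨i.1 ⊓ j.1, hl⟩ : J h) ≤ i := (inf_le_left : i.1 ⊓ j.1 ≤ i.1)
    have hlj : (⟨i.1 ⊓ j.1, hl⟩ : J h) ≤ j := (inf_le_right : i.1 ⊓ j.1 ≤ j.1)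
    refine ⟨⟨i.1 ⊓ j.1, hl⟩, homOfLE hli, homOfLE hlj,
      thickι h ⟨i.1 ⊓ j.1, hl⟩ ⟨zi.1, zi.2, hz ▸ zj.2⟩, ?_, ?_⟩
    · show trans h _ (thickι h ⟨i.1 ⊓ j.1, hl⟩ ⟨zi.1, zi.2, hz ▸ zj.2⟩) = thickι h i zi
      rw [trans_apply]
      congr 1
      apply Subtype.ext
      rw [Scheme.homOfLE_apply]
    · show trans h _ (thickι h ⟨i.1 ⊓ j.1, hl⟩ ⟨zi.1, zi.2, hz ▸ zj.2⟩) = thickι h j zj
      rw [trans_apply]
      congr 1
      apply Subtype.ext
      rw [Scheme.homOfLE_apply]
      exact hz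

/-- The glued thickening. -/
noncomputable def glued : Scheme.{u} := colimit (F h)

/-- The open immersions of the local universal thickenings into the glued thickening. -/
noncomputable def gluedι (U : J h) : thick h U ⟶ glued h := colimit.ι (F h) U

instance (U : J h) : IsOpenImmersion (gluedι h U) :=
  inferInstanceAs (IsOpenImmersion (colimit.ι (F h) U))

@[reassoc]
theorem trans_gluedι {V U : J h} (hVU : V.1 ≤ U.1) : trans h hVU ≫ gluedι h U = gluedι h V :=
  colimit.w (F h) (homOfLE hVU)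

/-- The structure map of the glued thickening. -/
noncomputable def gluedCocone : Cocone (F h) where
  pt := X
  ι :=
    { app := thickπ h
      naturality := fun U V f => by
        simp only [Functor.const_obj_obj, Functor.const_obj_map, Category.comp_id]
        exact trans_π h (leOfHom f) }

/-- The structure map of the glued thickening. -/
noncomputable def gluedπ : glued h ⟶ X :=
  colimit.desc (F h) (gluedCocone h)

@[reassoc]
theorem gluedι_π (U : J h) : gluedι h U ≫ gluedπ h = thickπ h U :=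
  colimit.ι_desc (gluedCocone h) U

theorem homOfLE_thickι_gluedι {W U : J h} (hWU : W.1 ≤ U.1) :
    Z.homOfLE hWU ≫ thickι h U ≫ gluedι h U = thickι h W ≫ gluedι h W := by
  rw [← ι_trans_assoc, trans_gluedι]

variable (hcov : ∀ z : Z, ∃ U : Z.Opens, Good h U ∧ z ∈ U)

/-- The cover of `Z` by the good opens. -/
noncomputable def cover : Z.OpenCover :=
  Scheme.Cover.mkOfCovers (J h) (fun U => (U.1 : Scheme.{u})) (fun U => U.1.ι) (fun z => by
    obtain ⟨U, hU, hz⟩ := hcov z
    exact ⟨⟨U, hU⟩, ⟨z, hz⟩, rfl⟩)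

theorem compat (U V : J h) :
    pullback.fst U.1.ι V.1.ι ≫ thickι h U ≫ gluedι h U =
      pullback.snd U.1.ι V.1.ι ≫ thickι h V ≫ gluedι h V := by
  rw [← cancel_epi (isPullback_opens_inf U.1 V.1).isoPullback.hom,
    IsPullback.isoPullback_hom_fst_assoc, IsPullback.isoPullback_hom_snd_assoc]
  have hl : Good h (U.1 ⊓ V.1) := U.2.of_le inf_le_left
  rw [homOfLE_thickι_gluedι h (W := ⟨U.1 ⊓ V.1, hl⟩) (U := U) inf_le_left,
    homOfLE_thickι_gluedι h (W := ⟨U.1 ⊓ V.1, hl⟩) (U := V) inf_le_right]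

/-- The thickening map of the glued thickening. -/
noncomputable def gluedThickι : Z ⟶ glued h :=
  (cover h hcov).glueMorphisms (fun U => thickι h U ≫ gluedι h U) (compat h)

@[reassoc]
theorem ι_gluedThickι (U : J h) :
    U.1.ι ≫ gluedThickι h hcov = thickι h U ≫ gluedι h U :=
  (cover h hcov).ι_glueMorphisms _ _ U

theorem gluedThickι_π : gluedThickι h hcov ≫ gluedπ h = h := by
  refine Scheme.Cover.hom_ext (cover h hcov) _ _ fun U => ?_
  change U.1.ι ≫ gluedThickι h hcov ≫ gluedπ h = U.1.ι ≫ h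
  rw [ι_gluedThickι_assoc, gluedι_π, (thick_spec h U).2.1]

theorem gluedThickι_apply (U : J h) (z : (U.1 : Scheme.{u})) :
    gluedThickι h hcov z.1 = gluedι h U (thickι h U z) := by
  have := congrArg (fun m : (U.1 : Scheme.{u}) ⟶ glued h => m z) (ι_gluedThickι h hcov U)
  simpa using this

theorem preimage_opensRange (U : J h) :
    gluedThickι h hcov ⁻¹ᵁ (gluedι h U).opensRange = U.1 := by
  ext z
  constructor
  · rintro ⟨x, hx⟩
    obtain ⟨V, hV, hzV⟩ := hcov z
    have h1 := gluedThickι_apply h hcov ⟨V, hV⟩ ⟨z, hzV⟩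
    rw [← hx] at h1
    obtain ⟨k, fU, fV, y, hy1, hy2⟩ :=
      (Scheme.IsLocallyDirected.ι_eq_ι_iff (F h)).mp h1
    obtain ⟨zk, rfl⟩ := thickι_surjective h k y
    have hy2' : trans h (leOfHom fV) (thickι h k zk) = thickι h ⟨V, hV⟩ ⟨z, hzV⟩ := hy2
    rw [trans_apply] at hy2'
    have hz := congrArg Subtype.val (thickι_injective h _ hy2')
    rw [Scheme.homOfLE_apply] at hz
    have hkU : k.1 ≤ U.1 := leOfHom fU
    have hz' : zk.1 = z := hz
    exact hkU (hz' ▸ zk.2)
  · intro hz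
    exact ⟨thickι h U ⟨z, hz⟩, (gluedThickι_apply h hcov U ⟨z, hz⟩).symm⟩

theorem isPullback_gluedThickι (U : J h) :
    IsPullback (thickι h U) U.1.ι (gluedι h U) (gluedThickι h hcov) :=
  IsOpenImmersion.isPullback _ _ _ _ (ι_gluedThickι h hcov U) (by
    rw [preimage_opensRange, Scheme.Opens.opensRange_ι])

theorem gluedι_jointly_surjective (x : glued h) : ∃ (U : J h) (y : thick h U), gluedι h U y = x :=
  Scheme.IsLocallyDirected.ι_jointly_surjective (F h) x

/-- The cover of the glued thickening by the local universal thickenings. -/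
noncomputable def gluedCover : (glued h).OpenCover :=
  Scheme.Cover.mkOfCovers (J h) (thick h) (gluedι h) (fun x => gluedι_jointly_surjective h x)

theorem isThickening_gluedThickι :
    MoreMor.IsThickening (gluedThickι h hcov) := by
  have hcl : IsClosedImmersion (gluedThickι h hcov) := by
    apply IsZariskiLocalAtTarget.of_openCover (P := @IsClosedImmersion) (gluedCover h)
    intro U
    have : IsClosedImmersion (thickι h U) := (thick_spec h U).1.1
    have e : pullback.snd (gluedThickι h hcov) (gluedι h U) =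
        (isPullback_gluedThickι h hcov U).flip.isoPullback.inv ≫ thickι h U :=
      ((isPullback_gluedThickι h hcov U).flip.isoPullback_inv_snd).symm
    change IsClosedImmersion (pullback.snd (gluedThickι h hcov) (gluedι h U))
    rw [e]
    infer_instance
  refine ⟨hcl, ⟨fun x => ?_⟩⟩
  obtain ⟨U, y, rfl⟩ := gluedι_jointly_surjective h x
  obtain ⟨z, rfl⟩ := thickι_surjective h U y
  exact ⟨z.1, gluedThickι_apply h hcov U z⟩

theorem etale_gluedπ : Etale (gluedπ h) := by
  apply IsZariskiLocalAtSource.of_openCover (P := @Etale) (gluedCover h)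
  intro U
  change Etale (gluedι h U ≫ gluedπ h)
  rw [gluedι_π]
  exact (thick_spec h U).2.2

/-- The glued lift is an étale lift. -/
theorem isEtLift_glued : IsEtLift h (gluedThickι h hcov) (gluedπ h) :=
  ⟨isThickening_gluedThickι h hcov, gluedThickι_π h hcov, etale_gluedπ h⟩

end glue

/-- Existence of étale lifts, given local existence. -/
theorem exists_of_local {Z X : Scheme.{u}} (h : Z ⟶ X)
    (hcov : ∀ z : Z, ∃ U : Z.Opens, Good h U ∧ z ∈ U) :
    ∃ (Z' : Scheme.{u}) (i : Z ⟶ Z') (h' : Z' ⟶ X), IsEtLift h i h' :=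
  ⟨_, _, _, isEtLift_glued h hcov⟩

section affine

/-- `Spec` of a surjection with nil kernel is a thickening. -/
theorem isThickening_spec {R S : CommRingCat.{u}} (φ : R ⟶ S) (hφ : Function.Surjective φ.hom)
    (hk : RingHom.ker φ.hom ≤ nilradical R) : MoreMor.IsThickening (Spec.map φ) := by
  have hc : IsClosedImmersion (Spec.map φ) := IsClosedImmersion.spec_of_surjective φ hφ
  refine ⟨hc, ⟨fun x => ?_⟩⟩
  have h1 : Set.range (PrimeSpectrum.comap φ.hom) = Set.univ := by
    rw [_root_.range_comap_of_surjective _ _ hφ, PrimeSpectrum.zeroLocus_eq_univ_iff]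
    exact fun a ha => hk ha
  have hx : x ∈ Set.range (PrimeSpectrum.comap φ.hom) := by
    rw [h1]; trivial
  obtain ⟨y, hy⟩ := hx
  exact ⟨y, hy⟩

/-- For a surjective morphism, the kernel of the map on sections over an affine open is nil. -/
theorem ker_app_le_nilradical {S₀ S : Scheme.{u}} (i : S₀ ⟶ S) [Surjective i] (V : S.Opens)
    (hV : IsAffineOpen V) : RingHom.ker (i.app V).hom ≤ nilradical Γ(S, V) := by
  intro a ha
  rw [mem_nilradical, Scheme.isNilpotent_iff_basicOpen_eq_bot_of_isCompact hV.isCompact,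
    eq_bot_iff]
  intro x hx
  obtain ⟨y, rfl⟩ := i.surjective x
  have h1 : y ∈ i ⁻¹ᵁ S.basicOpen a := hx
  rw [Scheme.preimage_basicOpen, RingHom.mem_ker.mp ha, Scheme.basicOpen_zero] at h1
  exact h1

/-- Local existence of étale lifts. -/
theorem good_of_affine {S₀ S X₀ : Scheme.{u}} (i : S₀ ⟶ S) [IsClosedImmersion i] [Surjective i]
    (f₀ : X₀ ⟶ S₀) [Etale f₀] (V : S.Opens) (hV : IsAffineOpen V) (U : X₀.Opens)
    (hU : IsAffineOpen U) (hUV : U ≤ f₀ ⁻¹ᵁ (i ⁻¹ᵁ V)) : Good (f₀ ≫ i) U := by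
  have hV₀ : IsAffineOpen (i ⁻¹ᵁ V) := hV.preimage i
  have hφs : Function.Surjective (i.app V).hom := i.app_surjective V hV
  have hφn := ker_app_le_nilradical i V hV
  have hψ : (f₀.appLE (i ⁻¹ᵁ V) U hUV).hom.Etale :=
    HasRingHomProperty.appLE @Etale f₀ inferInstance ⟨_, hV₀⟩ ⟨U, hU⟩ hUV
  algebraize [(f₀.appLE (i ⁻¹ᵁ V) U hUV).hom]
  obtain ⟨D, _, _, πD, hD, hs, -, hn, hc⟩ := EtaleLiftRing.exists_etale_lift
    (A := Γ(S₀, i ⁻¹ᵁ V)) (B := Γ(S, V)) (C := Γ(X₀, U)) (i.app V).hom hφs hφn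
  have hth : MoreMor.IsThickening (Spec.map (CommRingCat.ofHom πD)) :=
    isThickening_spec (CommRingCat.ofHom πD) hs hn
  have h1 : IsClosedImmersion (Spec.map (CommRingCat.ofHom πD)) := hth.1
  have h2 : Surjective (Spec.map (CommRingCat.ofHom πD)) := hth.2
  have het : Etale (Spec.map (CommRingCat.ofHom (algebraMap Γ(S, V) D))) :=
    HasRingHomProperty.Spec_iff.mpr (RingHom.etale_algebraMap.mpr hD)
  refine ⟨Spec (.of D), hU.isoSpec.hom ≫ Spec.map (CommRingCat.ofHom πD),
    Spec.map (CommRingCat.ofHom (algebraMap Γ(S, V) D)) ≫ hV.fromSpec,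
    ⟨inferInstance, inferInstance⟩, ?_, inferInstance⟩
  have hring : CommRingCat.ofHom (algebraMap Γ(S, V) D) ≫ CommRingCat.ofHom πD =
      (f₀ ≫ i).appLE V U hUV := by
    rw [← Scheme.Hom.appLE_comp_appLE f₀ i V (i ⁻¹ᵁ V) U le_rfl hUV, ← Scheme.Hom.app_eq_appLE]
    ext x
    have := congrArg (fun g : Γ(S, V) →+* Γ(X₀, U) => g x) hc
    exact this
  rw [Category.assoc, ← Spec.map_comp_assoc, hring, hV.SpecMap_appLE_fromSpec (f₀ ≫ i) hU hUV,
    ← Category.assoc, hU.isoSpec_hom_fromSpec]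

end affine

/-- An étale lift of `f₀ ≫ i`, for `i` a thickening and `f₀` étale, is a base change. -/
theorem isPullback_of_isEtLift {S₀ S X₀ X : Scheme.{u}} (i : S₀ ⟶ S) [IsClosedImmersion i]
    [Surjective i] (f₀ : X₀ ⟶ S₀) [Etale f₀] (j : X₀ ⟶ X) (f : X ⟶ S)
    (hu : IsEtLift (f₀ ≫ i) j f) : IsPullback j f₀ f i := by
  have hf : Etale f := hu.2.2
  have hj1 : IsClosedImmersion j := hu.1.1
  have hj2 : Surjective j := hu.1.2
  have hu1 : pullback.lift j f₀ hu.2.1 ≫ pullback.fst f i = j := pullback.lift_fst _ _ _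
  have hu2 : pullback.lift j f₀ hu.2.1 ≫ pullback.snd f i = f₀ := pullback.lift_snd _ _ _
  generalize pullback.lift j f₀ hu.2.1 = u at hu1 hu2
  have hsnd : Etale (pullback.snd f i) := inferInstance
  have hfst : IsClosedImmersion (pullback.fst f i) := inferInstance
  have hu_et : Etale u := by
    have h1 : Etale (u ≫ pullback.snd f i) := by rw [hu2]; infer_instance
    exact MorphismProperty.of_postcomp (W := @Etale) (W' := @Etale) u (pullback.snd f i) hsnd h1
  have hu_cl : IsClosedImmersion u := by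
    have h1 : IsClosedImmersion (u ≫ pullback.fst f i) := by rw [hu1]; infer_instance
    exact IsClosedImmersion.of_comp_isClosedImmersion u (pullback.fst f i)
  have hu_surj : Surjective u := by
    constructor
    intro y
    obtain ⟨x, hx⟩ := j.surjective (pullback.fst f i y)
    refine ⟨x, (pullback.fst f i).isClosedEmbedding.injective ?_⟩
    rw [← Scheme.Hom.comp_apply, hu1, hx]
  have h1 : Flat u := inferInstance
  have h2 : FormallyUnramified u := inferInstance
  have h3 : LocallyOfFiniteType u := inferInstance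
  have hiso : IsIso u := isIso_of_thickenings u (𝟙 X₀) u (Category.id_comp u)
    ⟨inferInstance, inferInstance⟩ ⟨hu_cl, hu_surj⟩
  exact IsPullback.of_iso_pullback ⟨hu.2.1⟩ (asIso u) hu1 hu2

/-- **Topological invariance of the étale site, essential surjectivity**: an étale scheme over a
closed subscheme `S₀` of `S` with the same underlying space lifts to an étale scheme over `S`. -/
theorem exists_isPullback {S₀ S X₀ : Scheme.{u}} (i : S₀ ⟶ S) [IsClosedImmersion i] [Surjective i]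
    (f₀ : X₀ ⟶ S₀) [Etale f₀] :
    ∃ (X : Scheme.{u}) (j : X₀ ⟶ X) (f : X ⟶ S), Etale f ∧ MoreMor.IsThickening j ∧
      IsPullback j f₀ f i := by
  have hcov : ∀ z : X₀, ∃ U : X₀.Opens, Good (f₀ ≫ i) U ∧ z ∈ U := by
    intro z
    obtain ⟨V, hV, hzV, -⟩ := exists_isAffineOpen_mem_and_subset (x := i (f₀ z))
      (U := (⊤ : S.Opens)) trivial
    have hz : z ∈ f₀ ⁻¹ᵁ (i ⁻¹ᵁ V) := hzV
    obtain ⟨U, hU, hzU, hUV⟩ := exists_isAffineOpen_mem_and_subset (x := z)
      (U := f₀ ⁻¹ᵁ (i ⁻¹ᵁ V)) hz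
    exact ⟨U, good_of_affine i f₀ V hV U hU hUV, hzU⟩
  obtain ⟨X, j, f, hu⟩ := exists_of_local (f₀ ≫ i) hcov
  exact ⟨X, j, f, hu.2.2, hu.1, isPullback_of_isEtLift i f₀ j f hu⟩

end Groth.Agent.Lib.Helper57.EtLift
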