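import Groth.Prelude.Def_Omega3
import Mathlib.RingTheory.Kaehler.Basic
import Mathlib.RingTheory.Unramified.Basic
import Mathlib.Algebra.TrivSqZeroExt.Basic

/-!
# Universal first order thickenings of rings (`OmegaSh.IsUnivThickeningRing`)

* `sectionForm`: the universal property tested against surjections `ρ : T → S` with square-zero
  kernel (instead of quotient maps `A → A ⧸ I`).
* `existsUnique_derivation`: for `R → A → S' → S` with `S' → S` universal over `A`, an `S'`-module
  `M` killed by the kernel and an `R`-derivation `d₀ : A → M`, there is exactly one `R`-derivation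
  `S' → M` extending `d₀`.
* `subsingleton_kaehler`: `Ω[S'⁄R] = 0`.
-/

set_option autoImplicit false
set_option linter.unusedSectionVars false

universe u

open OmegaSh TensorProduct

namespace Groth.Agent.Lib.Helper57.UnivThick

section SectionForm

variable {R S S' : Type u} [CommRing R] [CommRing S] [CommRing S'] [Algebra R S] [Algebra R S']
  {π : S' →ₐ[R] S}

theorem surjective (hπ : IsUnivThickeningRing R S S' π) : Function.Surjective π := hπ.1

theorem mul_eq_zero (hπ : IsUnivThickeningRing R S S' π) {x y : S'} (hx : π x = 0) (hy : π y = 0) :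
    x * y = 0 := by
  have : x * y ∈ RingHom.ker π.toRingHom ^ 2 := by
    rw [pow_two]
    exact Ideal.mul_mem_mul hx hy
  rwa [hπ.2.1, Ideal.mem_bot] at this

/-- The universal property in "section form". -/
theorem sectionForm (hπ : IsUnivThickeningRing R S S' π) (T : Type u) [CommRing T] [Algebra R T]
    (ρ : T →ₐ[R] S) (hρ : Function.Surjective ρ)
    (hsq : ∀ x y : T, ρ x = 0 → ρ y = 0 → x * y = 0) :
    ∃! f : S' →ₐ[R] T, ρ.comp f = π := by
  have hI : RingHom.ker ρ ^ 2 = ⊥ := by
    rw [eq_bot_iff, pow_two, Ideal.mul_le]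
    intro x hx y hy
    rw [Ideal.mem_bot]
    exact hsq x y hx hy
  let e := Ideal.quotientKerAlgEquivOfSurjective hρ
  have he : ∀ t : T, e (Ideal.Quotient.mk _ t) = ρ t :=
    fun t => Ideal.quotientKerAlgEquivOfSurjective_mk hρ t
  obtain ⟨f, hf, hfu⟩ := hπ.2.2 T (RingHom.ker ρ) hI e.symm.toAlgHom
  have key : ∀ g : S' →ₐ[R] T,
      ((Ideal.Quotient.mkₐ R (RingHom.ker ρ)).comp g = (e.symm.toAlgHom).comp π) ↔
        ρ.comp g = π := by
    intro g
    constructor
    · intro h
      apply AlgHom.ext
      intro x
      have h1 : Ideal.Quotient.mk (RingHom.ker ρ) (g x) = e.symm (π x) := AlgHom.congr_fun h x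
      show ρ (g x) = π x
      rw [← he, h1, AlgEquiv.apply_symm_apply]
    · intro h
      apply AlgHom.ext
      intro x
      show Ideal.Quotient.mk (RingHom.ker ρ) (g x) = e.symm (π x)
      have h1 : ρ (g x) = π x := AlgHom.congr_fun h x
      rw [← h1, ← he, AlgEquiv.symm_apply_apply]
  exact ⟨f, (key f).mp hf, fun g hg => hfu g ((key g).mpr hg)⟩

end SectionForm

section Derivation

variable (S' M : Type u) [CommRing S'] [AddCommGroup M] [Module S' M]

/-- The right action of a commutative ring on a module (needed to use `TrivSqZeroExt`). -/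
@[reducible] def opModule : Module S'ᵐᵒᵖ M :=
  Module.compHom M ((RingHom.id S').fromOpposite fun _ _ => mul_comm _ _)

attribute [local instance] opModule

theorem isCentralScalar : IsCentralScalar S' M := ⟨fun _ _ => rfl⟩

attribute [local instance] isCentralScalar

/-- The trivial square-zero extension, as a type synonym (so that it carries no algebra structure
over the rings acting on `S'`). -/
def Tw : Type u := TrivSqZeroExt S' M

noncomputable instance : CommRing (Tw S' M) := inferInstanceAs (CommRing (TrivSqZeroExt S' M))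

variable {S' M}

/-- The two components. -/
def Tw.fst (t : Tw S' M) : S' := TrivSqZeroExt.fst t
/-- The two components. -/
def Tw.snd (t : Tw S' M) : M := TrivSqZeroExt.snd t
/-- Constructor. -/
def Tw.mk (x : S') (m : M) : Tw S' M := (TrivSqZeroExt.inl x + TrivSqZeroExt.inr m : TrivSqZeroExt S' M)

@[simp] theorem Tw.fst_mk (x : S') (m : M) : (Tw.mk x m).fst = x := by simp [Tw.fst, Tw.mk]
@[simp] theorem Tw.snd_mk (x : S') (m : M) : (Tw.mk x m).snd = m := by simp [Tw.snd, Tw.mk]
theorem Tw.ext {s t : Tw S' M} (h1 : s.fst = t.fst) (h2 : s.snd = t.snd) : s = t :=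
  TrivSqZeroExt.ext h1 h2
@[simp] theorem Tw.fst_mul (s t : Tw S' M) : (s * t).fst = s.fst * t.fst := rfl
@[simp] theorem Tw.snd_mul (s t : Tw S' M) : (s * t).snd = s.fst • t.snd + t.fst • s.snd := rfl
@[simp] theorem Tw.fst_add (s t : Tw S' M) : (s + t).fst = s.fst + t.fst := rfl
@[simp] theorem Tw.snd_add (s t : Tw S' M) : (s + t).snd = s.snd + t.snd := rfl
@[simp] theorem Tw.fst_one : (1 : Tw S' M).fst = 1 := rfl
@[simp] theorem Tw.snd_one : (1 : Tw S' M).snd = 0 := rfl
@[simp] theorem Tw.fst_zero : (0 : Tw S' M).fst = 0 := rfl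
@[simp] theorem Tw.snd_zero : (0 : Tw S' M).snd = 0 := rfl

end Derivation

section Main

variable {R A S S' : Type u} [CommRing R] [CommRing A] [CommRing S] [CommRing S']
  [Algebra R A] [Algebra A S] [Algebra A S'] [Algebra R S'] [IsScalarTower R A S']
  {π : S' →ₐ[A] S}
  {M : Type u} [AddCommGroup M] [Module S' M] [Module A M] [Module R M]
  [IsScalarTower A S' M] [IsScalarTower R S' M]

/-- Key lemma: for `S' → S` universal over `A`, an `S'`-module `M` killed by the kernel, and an
`R`-derivation `d₀ : A → M`, there is exactly one `R`-derivation `S' → M` extending `d₀`. -/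
theorem existsUnique_derivation (hπ : IsUnivThickeningRing A S S' π)
    (hM : ∀ x : S', π x = 0 → ∀ m : M, x • m = 0) (d₀ : Derivation R A M) :
    ∃! D : Derivation R S' M, ∀ a : A, D (algebraMap A S' a) = d₀ a := by
  -- the twisted algebra structure
  let τ : A →+* Tw S' M :=
    { toFun := fun a => Tw.mk (algebraMap A S' a) (d₀ a)
      map_one' := by
        apply Tw.ext <;> simp
      map_mul' := fun a b => by
        apply Tw.ext
        · simp
        · simp only [Tw.snd_mk, Tw.snd_mul, Tw.fst_mk, Derivation.leibniz, algebraMap_smul]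
      map_zero' := by
        apply Tw.ext <;> simp
      map_add' := fun a b => by
        apply Tw.ext <;> simp }
  let _ : Algebra A (Tw S' M) := τ.toAlgebra
  have hτ : ∀ a : A, algebraMap A (Tw S' M) a = Tw.mk (algebraMap A S' a) (d₀ a) := fun a => rfl
  let ρ : Tw S' M →ₐ[A] S :=
    { toFun := fun t => π t.fst
      map_one' := by simp
      map_mul' := fun s t => by simp
      map_zero' := by simp
      map_add' := fun s t => by simp
      commutes' := fun a => by
        rw [hτ]
        simp }
  have hρ_apply : ∀ t : Tw S' M, ρ t = π t.fst := fun t => rfl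
  have hρ : Function.Surjective ρ := by
    intro s
    obtain ⟨x, rfl⟩ := hπ.1 s
    exact ⟨Tw.mk x 0, by rw [hρ_apply, Tw.fst_mk]⟩
  have hsq : ∀ x y : Tw S' M, ρ x = 0 → ρ y = 0 → x * y = 0 := by
    intro x y hx hy
    rw [hρ_apply] at hx hy
    apply Tw.ext
    · rw [Tw.fst_mul, Tw.fst_zero]
      exact mul_eq_zero hπ hx hy
    · rw [Tw.snd_mul, Tw.snd_zero, hM _ hx, hM _ hy, add_zero]
  obtain ⟨f, hf, hfu⟩ := sectionForm hπ (Tw S' M) ρ hρ hsq
  -- the first component of `f` is the identity
  have hfst : ∀ x : S', (f x).fst = x := by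
    obtain ⟨g₀, _, hgu⟩ := sectionForm hπ S' π hπ.1 (fun x y hx hy => mul_eq_zero hπ hx hy)
    let g : S' →ₐ[A] S' :=
      { toFun := fun x => (f x).fst
        map_one' := by simp
        map_mul' := fun s t => by simp
        map_zero' := by simp
        map_add' := fun s t => by simp
        commutes' := fun a => by
          rw [f.commutes, hτ]
          simp }
    have h1 : g = g₀ := hgu g (by
      apply AlgHom.ext
      intro x
      exact AlgHom.congr_fun hf x)
    have h2 : AlgHom.id A S' = g₀ := hgu _ (by
      apply AlgHom.ext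
      intro x
      rfl)
    intro x
    exact AlgHom.congr_fun (h1.trans h2.symm) x
  have hfmul : ∀ x y : S', (f (x * y)).snd = x • (f y).snd + y • (f x).snd := by
    intro x y
    rw [map_mul, Tw.snd_mul, hfst, hfst]
  have hfalg : ∀ a : A, (f (algebraMap A S' a)).snd = d₀ a := by
    intro a
    rw [f.commutes, hτ, Tw.snd_mk]
  let D : Derivation R S' M :=
    { toFun := fun x => (f x).snd
      map_add' := fun x y => by rw [map_add, Tw.snd_add]
      map_smul' := fun r x => by
        simp only [RingHom.id_apply]
        rw [Algebra.smul_def, hfmul, IsScalarTower.algebraMap_apply R A S', hfalg,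
          Derivation.map_algebraMap, smul_zero, add_zero, ← IsScalarTower.algebraMap_apply,
          algebraMap_smul]
      map_one_eq_zero' := by
        show (f 1).snd = 0
        rw [map_one, Tw.snd_one]
      leibniz' := fun x y => hfmul x y }
  have hD : ∀ x : S', D x = (f x).snd := fun x => rfl
  refine ⟨D, hfalg, ?_⟩
  intro D' hD'
  -- the algebra map attached to `D'`
  let f' : S' →ₐ[A] Tw S' M :=
    { toFun := fun x => Tw.mk x (D' x)
      map_one' := by
        apply Tw.ext <;> simp
      map_mul' := fun x y => by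
        apply Tw.ext
        · simp
        · simp only [Tw.snd_mk, Tw.snd_mul, Tw.fst_mk, Derivation.leibniz]
      map_zero' := by
        apply Tw.ext <;> simp
      map_add' := fun x y => by
        apply Tw.ext <;> simp
      commutes' := fun a => by
        rw [hτ, hD'] }
  have hf' : f' = f := hfu f' (by
    apply AlgHom.ext
    intro x
    show π (Tw.mk x (D' x)).fst = π x
    rw [Tw.fst_mk])
  apply Derivation.ext
  intro x
  rw [hD, ← hf']
  show D' x = (Tw.mk x (D' x)).snd
  rw [Tw.snd_mk]

end Main

section Kaehler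

variable {A S S' : Type u} [CommRing A] [CommRing S] [CommRing S'] [Algebra A S] [Algebra A S']
  {π : S' →ₐ[A] S}

/-- Any two `A`-derivations from a universal thickening `S'` (over `A`) into a module killed by the
kernel agree. -/
theorem derivation_ext (hπ : IsUnivThickeningRing A S S' π)
    {M : Type u} [AddCommGroup M] [Module S' M] [Module A M] [IsScalarTower A S' M]
    (hM : ∀ x : S', π x = 0 → ∀ m : M, x • m = 0) (D₁ D₂ : Derivation A S' M) : D₁ = D₂ := by
  obtain ⟨D, _, hDu⟩ := existsUnique_derivation (R := A) hπ hM (0 : Derivation A A M)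
  rw [hDu D₁ (fun a => by simp), hDu D₂ (fun a => by simp)]

/-- A universal first order thickening `S'` over `A` is formally unramified over `A`. -/
theorem subsingleton_kaehler (hπ : IsUnivThickeningRing A S S' π) : Subsingleton Ω[S'⁄A] := by
  let J : Ideal S' := RingHom.ker π
  let N : Submodule S' Ω[S'⁄A] := J • ⊤
  have hM : ∀ x : S', π x = 0 → ∀ m : Ω[S'⁄A] ⧸ N, x • m = 0 := by
    intro x hx m
    obtain ⟨ω, rfl⟩ := Submodule.mkQ_surjective N m
    rw [← map_smul, Submodule.mkQ_apply, Submodule.Quotient.mk_eq_zero]
    exact Submodule.smul_mem_smul hx trivial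
  have h0 := derivation_ext hπ hM (N.mkQ.compDer (KaehlerDifferential.D A S')) 0
  have hD : ∀ x : S', KaehlerDifferential.D A S' x ∈ N := by
    intro x
    have h1 : N.mkQ (KaehlerDifferential.D A S' x) = 0 := Derivation.congr_fun h0 x
    rwa [Submodule.mkQ_apply, Submodule.Quotient.mk_eq_zero] at h1
  have htop : (⊤ : Submodule S' Ω[S'⁄A]) ≤ N := by
    rw [← KaehlerDifferential.span_range_derivation, Submodule.span_le]
    rintro _ ⟨x, rfl⟩
    exact hD x
  have hN : N = ⊥ := by
    have h1 : N = J • N := by
      apply le_antisymm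
      · calc N = J • ⊤ := rfl
          _ ≤ J • N := smul_mono_right _ htop
      · exact Submodule.smul_le_right
    have h2 : J * J = ⊥ := by
      rw [← pow_two]
      exact hπ.2.1
    rw [h1]
    show J • (J • ⊤) = ⊥
    rw [← Submodule.mul_smul, h2, Submodule.bot_smul]
  rw [hN] at htop
  constructor
  intro x y
  have hx : x ∈ (⊥ : Submodule S' Ω[S'⁄A]) := htop trivial
  have hy : y ∈ (⊥ : Submodule S' Ω[S'⁄A]) := htop trivial
  rw [Submodule.mem_bot] at hx hy
  rw [hx, hy]

theorem formallyUnramified (hπ : IsUnivThickeningRing A S S' π) : Algebra.FormallyUnramified A S' :=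
  ⟨subsingleton_kaehler hπ⟩

end Kaehler

end Groth.Agent.Lib.Helper57.UnivThick
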