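import Groth.Prelude.Def_Omega3
import Groth.Agent.Lib.Helper57.LiftGlue
import Groth.Agent.S9426
import Groth.Agent.S9732

/-!
# Universal first order thickenings: the affine case

* `of_isIso_source`, `comp_openImmersion`: transport of `OmegaSh.IsUnivThickening`.
* `spec`: a ring level universal thickening gives a scheme level one on spectra.
* `exists_of_affine`: for formally unramified `h : Z ⟶ X`, an affine open `U` of `Z` mapping into an
  affine open of `X` has a universal first order thickening over `X`.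
-/

set_option autoImplicit false

universe u

open AlgebraicGeometry CategoryTheory Limits

namespace Groth.Agent.Lib.Helper57.UnivThickAffine

theorem of_isIso_source {Z Z₀ Z' X : Scheme.{u}} {h : Z ⟶ X} {i : Z ⟶ Z'} {h' : Z' ⟶ X}
    (hu : OmegaSh.IsUnivThickening h i h') (e : Z₀ ⟶ Z) [IsIso e] :
    OmegaSh.IsUnivThickening (e ≫ h) (e ≫ i) h' := by
  obtain ⟨⟨⟨hi1, hi2⟩, hi3⟩, hih, huniv⟩ := hu
  refine ⟨⟨⟨inferInstance, inferInstance⟩, ?_⟩, by rw [Category.assoc, hih], ?_⟩
  · rw [Scheme.Hom.ker_comp_of_isIso]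
    exact hi3
  · intro T T' j b a hj hab
    obtain ⟨a', ⟨h1, h2⟩, hu'⟩ := huniv T T' j b (a ≫ e) hj (by rw [hab, Category.assoc])
    exact ⟨a', ⟨by rw [h1, Category.assoc], h2⟩,
      fun a'' ⟨h1', h2'⟩ => hu' a'' ⟨by rw [h1', Category.assoc], h2'⟩⟩

theorem comp_openImmersion {Z Z' W X : Scheme.{u}} {h₀ : Z ⟶ W} {i : Z ⟶ Z'} {h'' : Z' ⟶ W}
    (hu : OmegaSh.IsUnivThickening h₀ i h'') (m : W ⟶ X) [IsOpenImmersion m] :
    OmegaSh.IsUnivThickening (h₀ ≫ m) i (h'' ≫ m) := by
  obtain ⟨hi, hih, huniv⟩ := hu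
  refine ⟨hi, by rw [← Category.assoc, hih], ?_⟩
  intro T T' j b a hj hab
  have hsurj : Function.Surjective j := hj.1.2.surj
  have hrange : Set.range b ⊆ Set.range m := by
    rintro _ ⟨t', rfl⟩
    obtain ⟨t, rfl⟩ := hsurj t'
    have := congrArg (fun g : T ⟶ X => g t) hab
    refine ⟨h₀ (a t), ?_⟩
    simpa using this.symm
  have hb : IsOpenImmersion.lift m b hrange ≫ m = b := IsOpenImmersion.lift_fac _ _ _
  generalize IsOpenImmersion.lift m b hrange = b₀ at hb
  have hab₀ : j ≫ b₀ = a ≫ h₀ := by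
    rw [← cancel_mono m, Category.assoc, hb, hab, Category.assoc]
  obtain ⟨a', ⟨h1, h2⟩, hu'⟩ := huniv T T' j b₀ a hj hab₀
  refine ⟨a', ⟨h1, by rw [← Category.assoc, h2, hb]⟩, fun a'' ⟨h1', h2'⟩ => hu' a'' ⟨h1', ?_⟩⟩
  rw [← cancel_mono m, Category.assoc, h2', hb]

/-- A ring level universal first order thickening gives a scheme level one. -/
theorem spec (R S S' : Type u) [CommRing R] [CommRing S] [CommRing S'] [Algebra R S]
    [Algebra R S'] (π : S' →ₐ[R] S) (hπ : OmegaSh.IsUnivThickeningRing R S S' π) :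
    OmegaSh.IsUnivThickening (Spec.map (CommRingCat.ofHom (algebraMap R S)))
      (Spec.map (CommRingCat.ofHom π.toRingHom))
      (Spec.map (CommRingCat.ofHom (algebraMap R S'))) := by
  obtain ⟨hsurj, hker, huniv⟩ := hπ
  have hfot : MoreMor.IsFirstOrderThickening (Spec.map (CommRingCat.ofHom π.toRingHom)) :=
    Groth.Agent.S9732.fot_spec _ hsurj hker
  have hcomp : Spec.map (CommRingCat.ofHom π.toRingHom) ≫
      Spec.map (CommRingCat.ofHom (algebraMap R S')) =
      Spec.map (CommRingCat.ofHom (algebraMap R S)) := by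
    rw [← Spec.map_comp, ← CommRingCat.ofHom_comp]
    congr 2
    exact π.comp_algebraMap
  refine ⟨hfot, hcomp, ?_⟩
  intro T T' j b a hj hab
  have w : j ≫ b = (a ≫ Spec.map (CommRingCat.ofHom π.toRingHom)) ≫
      Spec.map (CommRingCat.ofHom (algebraMap R S')) := by
    rw [Category.assoc, hcomp, hab]
  refine LiftGlue.existsUnique_of_affine _ j _ b hj w ?_
  intro A _ I hI c b' hcb
  -- translate to rings
  obtain ⟨α, hα⟩ : ∃ α : CommRingCat.of S ⟶ CommRingCat.of (A ⧸ I), Spec.map α = c ≫ a :=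
    ⟨_, Spec.map_preimage _⟩
  obtain ⟨β, hβ⟩ : ∃ β : CommRingCat.of R ⟶ CommRingCat.of A, Spec.map β = b' :=
    ⟨_, Spec.map_preimage _⟩
  have hαβ : β ≫ CommRingCat.ofHom (Ideal.Quotient.mk I) =
      CommRingCat.ofHom (algebraMap R S) ≫ α := by
    apply Spec.map_injective
    rw [Spec.map_comp, Spec.map_comp, hα, hβ, hcb, Category.assoc, Category.assoc, hcomp,
      Category.assoc]
  let _ : Algebra R A := β.hom.toAlgebra
  have hRA : ∀ r : R, algebraMap R A r = β.hom r := fun r => rfl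
  have hαr : ∀ r : R, α.hom (algebraMap R S r) = Ideal.Quotient.mk I (β.hom r) := fun r =>
    (congrArg (fun g => g.hom r) hαβ).symm
  obtain ⟨a', ha', ha'u⟩ := huniv A I hI
    { α.hom with commutes' := fun r => hαr r }
  have ha'x : ∀ x : S', Ideal.Quotient.mk I (a' x) = α.hom (π x) := fun x =>
    congrArg (fun g => g x) ha'
  have key : ∀ γ : CommRingCat.of S' ⟶ CommRingCat.of A,
      (Spec.map (CommRingCat.ofHom (Ideal.Quotient.mk I)) ≫ Spec.map γ =
        (c ≫ a) ≫ Spec.map (CommRingCat.ofHom π.toRingHom) ∧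
      Spec.map γ ≫ Spec.map (CommRingCat.ofHom (algebraMap R S')) = b') ↔
      ((∀ x : S', Ideal.Quotient.mk I (γ.hom x) = α.hom (π x)) ∧
        ∀ r : R, γ.hom (algebraMap R S' r) = β.hom r) := by
    intro γ
    rw [← hα, ← hβ, ← Spec.map_comp, ← Spec.map_comp, ← Spec.map_comp,
      Spec.map_injective.eq_iff, Spec.map_injective.eq_iff]
    constructor
    · rintro ⟨h1, h2⟩
      exact ⟨fun x => congrArg (fun g => g.hom x) h1, fun r => congrArg (fun g => g.hom r) h2⟩
    · rintro ⟨h1, h2⟩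
      exact ⟨CommRingCat.hom_ext (RingHom.ext h1), CommRingCat.hom_ext (RingHom.ext h2)⟩
  refine ⟨Spec.map (CommRingCat.ofHom a'.toRingHom), ?_, ?_⟩
  · have := (key (CommRingCat.ofHom a'.toRingHom)).mpr ⟨ha'x, fun r => a'.commutes r⟩
    refine ⟨?_, this.2⟩
    rw [this.1, Category.assoc]
  · rintro l ⟨hl1, hl2⟩
    obtain ⟨γ, rfl⟩ : ∃ γ : CommRingCat.of S' ⟶ CommRingCat.of A, Spec.map γ = l :=
      ⟨_, Spec.map_preimage _⟩
    have hγ := (key γ).mp ⟨by rw [hl1, Category.assoc], hl2⟩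
    have : ({ γ.hom with commutes' := fun r => hγ.2 r } : S' →ₐ[R] A) = a' := by
      apply ha'u
      ext x
      exact hγ.1 x
    congr 1
    apply CommRingCat.hom_ext
    ext x
    exact congrArg (fun g : S' →ₐ[R] A => g x) this

/-- Existence of a universal thickening of `Spec` of a formally unramified ring map. -/
theorem exists_spec {R S : CommRingCat.{u}} (φ : R ⟶ S) (hφ : φ.hom.FormallyUnramified) :
    ∃ (Z' : Scheme.{u}) (i : Spec S ⟶ Z') (h' : Z' ⟶ Spec R),
      OmegaSh.IsUnivThickening (Spec.map φ) i h' := by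
  let _ : Algebra R S := φ.hom.toAlgebra
  have _ : Algebra.FormallyUnramified R S := hφ
  obtain ⟨S', _, _, π, hπ⟩ := Groth.Agent.S9426.result R S
  exact ⟨_, _, _, spec R S S' π hπ⟩

/-- For formally unramified `h : Z ⟶ X`, an affine open `U` of `Z` mapping into an affine open `W`
of `X` has a universal first order thickening over `X`. -/
theorem exists_of_affine {Z X : Scheme.{u}} (h : Z ⟶ X) [FormallyUnramified h] (U : Z.Opens)
    (hU : IsAffineOpen U) (W : X.Opens) (hW : IsAffineOpen W) (e : U ≤ h ⁻¹ᵁ W) :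
    ∃ (Z' : Scheme.{u}) (i : (U : Scheme.{u}) ⟶ Z') (h' : Z' ⟶ X),
      OmegaSh.IsUnivThickening (U.ι ≫ h) i h' := by
  obtain ⟨Z', i, h', hu⟩ := exists_spec (h.appLE W U e) (h.formallyUnramified_appLE hW hU e)
  have h1 := comp_openImmersion hu hW.fromSpec
  have h2 := of_isIso_source h1 hU.isoSpec.hom
  have h3 : hU.isoSpec.hom ≫ Spec.map (h.appLE W U e) ≫ hW.fromSpec = U.ι ≫ h := by
    rw [IsAffineOpen.SpecMap_appLE_fromSpec h hW hU e, ← Category.assoc,
      IsAffineOpen.isoSpec_hom_fromSpec]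
  rw [h3] at h2
  exact ⟨_, _, _, h2⟩

end Groth.Agent.Lib.Helper57.UnivThickAffine
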