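import Mathlib.AlgebraicGeometry.Morphisms.FlatMono
import Mathlib.AlgebraicGeometry.Morphisms.FormallyUnramified
import Mathlib.AlgebraicGeometry.Morphisms.UniversallyInjective
import Mathlib.AlgebraicGeometry.Morphisms.IsIso
import Groth.Prelude.Def_MoreMor

/-!
# Flat unramified morphisms compatible with thickenings are isomorphisms

`isIso_of_thickenings`: if `u : U ⟶ T'` is flat, formally unramified and locally of finite type and
`s : T ⟶ U`, `t : T ⟶ T'` are thickenings (surjective closed immersions) with `s ≫ u = t`, then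
`u` is an isomorphism (it is a flat surjective quasi-compact monomorphism).
-/

set_option autoImplicit false

universe u

open AlgebraicGeometry CategoryTheory Limits

namespace Groth.Agent.Lib.Helper57.FlatThick

/-- A closed immersion induces isomorphisms on residue fields. -/
theorem residueFieldMap_bijective {X Y : Scheme.{u}} (f : X ⟶ Y) [IsClosedImmersion f] (x : X) :
    Function.Bijective (f.residueFieldMap x).hom := by
  constructor
  · exact (f.residueFieldMap x).hom.injective
  · intro z
    obtain ⟨z', rfl⟩ := X.residue_surjective x z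
    obtain ⟨y', rfl⟩ := f.stalkMap_surjective x z'
    refine ⟨Y.residue (f x) y', ?_⟩
    exact congrArg (fun g => g.hom y') (Scheme.residue_residueFieldMap f x)

theorem isIso_of_thickenings {U T T' : Scheme.{u}} (u : U ⟶ T') (s : T ⟶ U) (t : T ⟶ T')
    (hst : s ≫ u = t) (hs : MoreMor.IsThickening s) (ht : MoreMor.IsThickening t)
    [Flat u] [FormallyUnramified u] [LocallyOfFiniteType u] : IsIso u := by
  subst hst
  have hs1 : IsClosedImmersion s := hs.1
  have ht1 : IsClosedImmersion (s ≫ u) := ht.1
  have hsb : Function.Bijective s := ⟨s.isClosedEmbedding.injective, hs.2.surj⟩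
  have htb : Function.Bijective (s ≫ u) := ⟨(s ≫ u).isClosedEmbedding.injective, ht.2.surj⟩
  have hpt : ∀ w : T, u (s w) = (s ≫ u) w := fun w => rfl
  have hub : Function.Bijective u := by
    constructor
    · intro x y hxy
      obtain ⟨w, rfl⟩ := hsb.2 x
      obtain ⟨w', rfl⟩ := hsb.2 y
      rw [hpt, hpt] at hxy
      rw [htb.1 hxy]
    · intro y
      obtain ⟨w, rfl⟩ := htb.2 y
      exact ⟨s w, hpt w⟩
  have hopen : IsOpenMap u := by
    intro O hO
    have h1 : u '' O = (s ≫ u) '' (s ⁻¹' O) := by
      ext y
      constructor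
      · rintro ⟨x, hx, rfl⟩
        obtain ⟨w, rfl⟩ := hsb.2 x
        exact ⟨w, hx, (hpt w).symm⟩
      · rintro ⟨w, hw, rfl⟩
        exact ⟨s w, hw, hpt w⟩
    rw [h1, ← isClosed_compl_iff, ← Set.image_compl_eq htb]
    exact (s ≫ u).isClosedEmbedding.isClosedMap _
      (isClosed_compl_iff.mpr (hO.preimage s.continuous))
  have hhomeo : IsHomeomorph u := ⟨u.continuous, hopen, hub⟩
  have : QuasiCompact u := ⟨fun V hV hc => hhomeo.homeomorph.isCompact_preimage.mpr hc⟩
  have : Surjective u := ⟨hub.2⟩
  have hres : ∀ x : U, (u.residueFieldMap x).hom.IsPurelyInseparable := by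
    intro x
    obtain ⟨w, rfl⟩ := hsb.2 x
    have h1 := Scheme.residueFieldMap_comp s u w
    have hsw := residueFieldMap_bijective s w
    have htw := residueFieldMap_bijective (s ≫ u) w
    have hsurj : Function.Surjective (u.residueFieldMap (s w)).hom := by
      intro z
      obtain ⟨y, hy⟩ := htw.2 ((s.residueFieldMap w).hom z)
      refine ⟨y, hsw.1 ?_⟩
      rw [← hy, h1]
      rfl
    show (letI := (u.residueFieldMap (s w)).hom.toAlgebra; IsPurelyInseparable _ _)
    let _ := (u.residueFieldMap (s w)).hom.toAlgebra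
    rw [isPurelyInseparable_iff]
    intro z
    obtain ⟨y, rfl⟩ := hsurj z
    exact ⟨isIntegral_algebraMap, fun _ => ⟨y, rfl⟩⟩
  have h23 : (Function.Injective u ∧ ∀ x, (u.residueFieldMap x).hom.IsPurelyInseparable) ↔
      Surjective (pullback.diagonal u) := (tfae_universallyInjective u).out 2 3
  have hdiag : Surjective (pullback.diagonal u) := h23.mp ⟨hub.1, hres⟩
  have hiso : IsIso (pullback.diagonal u) :=
    (isIso_iff_isOpenImmersion_and_surjective _).mpr ⟨inferInstance, hdiag⟩
  have : Mono u := (pullback.isIso_diagonal_iff u).mp hiso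
  exact Flat.isIso_of_surjective_of_mono u

/-- Thickenings are stable under base change. -/
theorem thickening_baseChange {X X' T P : Scheme.{u}} {i : X ⟶ X'} (h : MoreMor.IsThickening i)
    {g : T ⟶ X'} {fst : P ⟶ X} {snd : P ⟶ T} (sq : IsPullback fst snd i g) :
    MoreMor.IsThickening snd :=
  ⟨MorphismProperty.of_isPullback (P := @IsClosedImmersion) sq h.1,
    MorphismProperty.of_isPullback (P := @Surjective) sq h.2⟩

/-- The open subset of the target of a thickening corresponding to an open subset of the source. -/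
def thickOpen {Z Z' : Scheme.{u}} (i : Z ⟶ Z') (hi : MoreMor.IsThickening i) (U : Z.Opens) :
    Z'.Opens :=
  ⟨i '' (U : Set Z), by
    have h1 : IsClosedImmersion i := hi.1
    have hbij : Function.Bijective i := ⟨i.isClosedEmbedding.injective, hi.2.surj⟩
    rw [← isClosed_compl_iff, ← Set.image_compl_eq hbij]
    exact i.isClosedEmbedding.isClosedMap _ (isClosed_compl_iff.mpr U.2)⟩

theorem preimage_thickOpen {Z Z' : Scheme.{u}} (i : Z ⟶ Z') (hi : MoreMor.IsThickening i)
    (U : Z.Opens) : i ⁻¹ᵁ (thickOpen i hi U) = U := by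
  have h1 : IsClosedImmersion i := hi.1
  ext z
  exact i.isClosedEmbedding.injective.mem_set_image

theorem mem_thickOpen {Z Z' : Scheme.{u}} (i : Z ⟶ Z') (hi : MoreMor.IsThickening i)
    (U : Z.Opens) (z : Z) : i z ∈ thickOpen i hi U ↔ z ∈ U := by
  have h1 : IsClosedImmersion i := hi.1
  exact i.isClosedEmbedding.injective.mem_set_image

/-- Two morphisms into an unramified `S`-scheme which agree after precomposition with a surjective
morphism are equal. -/
theorem eq_of_surjective_comp_eq {X S Y Y₀ : Scheme.{u}} (g : X ⟶ S)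
    [IsOpenImmersion (pullback.diagonal g)] (j : Y₀ ⟶ Y) [Surjective j] (φ₁ φ₂ : Y ⟶ X)
    (h1 : j ≫ φ₁ = j ≫ φ₂) (h2 : φ₁ ≫ g = φ₂ ≫ g) : φ₁ = φ₂ := by
  have hd1 : pullback.lift φ₁ φ₂ h2 ≫ pullback.fst g g = φ₁ := pullback.lift_fst _ _ _
  have hd2 : pullback.lift φ₁ φ₂ h2 ≫ pullback.snd g g = φ₂ := pullback.lift_snd _ _ _
  generalize pullback.lift φ₁ φ₂ h2 = d at hd1 hd2
  have hjl : j ≫ d = (j ≫ φ₁) ≫ pullback.diagonal g := by
    apply pullback.hom_ext
    · rw [Category.assoc, hd1, Category.assoc, pullback.diagonal_fst, Category.comp_id]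
    · rw [Category.assoc, hd2, Category.assoc, pullback.diagonal_snd, Category.comp_id, h1]
  have hsurj : Surjective (pullback.snd (pullback.diagonal g) d) := by
    constructor
    intro y
    obtain ⟨y₀, rfl⟩ := Surjective.surj (f := j) y
    refine ⟨(pullback.lift (j ≫ φ₁) j hjl.symm :
      Y₀ ⟶ pullback (pullback.diagonal g) d) y₀, ?_⟩
    rw [← Scheme.Hom.comp_apply, pullback.lift_snd]
  have hiso : IsIso (pullback.snd (pullback.diagonal g) d) :=
    (isIso_iff_isOpenImmersion_and_surjective _).mpr ⟨inferInstance, hsurj⟩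
  rw [← cancel_epi (pullback.snd (pullback.diagonal g) d)]
  have e1 : pullback.snd (pullback.diagonal g) d ≫ φ₁ =
      pullback.fst (pullback.diagonal g) d := by
    rw [← hd1, ← Category.assoc, ← pullback.condition, Category.assoc,
      pullback.diagonal_fst, Category.comp_id]
  have e2 : pullback.snd (pullback.diagonal g) d ≫ φ₂ =
      pullback.fst (pullback.diagonal g) d := by
    rw [← hd2, ← Category.assoc, ← pullback.condition, Category.assoc,
      pullback.diagonal_snd, Category.comp_id]
  rw [e1, e2]

/-- Topological invariance of lifts: a flat unramified morphism (locally of finite type) has the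
unique lifting property against ALL thickenings (surjective closed immersions), nilpotent or
not. -/
theorem existsUnique_lift {X S T T' : Scheme.{u}} (f : X ⟶ S) [Flat f] [FormallyUnramified f]
    [LocallyOfFiniteType f] (t : T ⟶ T') (ht : MoreMor.IsThickening t) (a : T ⟶ X) (b : T' ⟶ S)
    (hab : t ≫ b = a ≫ f) : ∃! l : T' ⟶ X, t ≫ l = a ∧ l ≫ f = b := by
  have htcl : IsClosedImmersion t := ht.1
  have htsurj : Surjective t := ht.2
  have hc : MoreMor.IsThickening (pullback.fst (pullback.snd f b) t) :=
    thickening_baseChange ht (IsPullback.of_hasPullback (pullback.snd f b) t).flip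
  have hσT1 : pullback.lift (pullback.lift a t hab.symm) (𝟙 _) (by
      rw [pullback.lift_snd, Category.id_comp]) ≫ pullback.snd (pullback.snd f b) t = 𝟙 _ :=
    pullback.lift_snd _ _ _
  have hσT2 : pullback.lift (pullback.lift a t hab.symm) (𝟙 _) (by
      rw [pullback.lift_snd, Category.id_comp]) ≫ pullback.fst (pullback.snd f b) t =
      pullback.lift a t hab.symm :=
    pullback.lift_fst _ _ _
  generalize pullback.lift (pullback.lift a t hab.symm) (𝟙 _) (by
      rw [pullback.lift_snd, Category.id_comp]) = σT at hσT1 hσT2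
  have hσ1 : pullback.lift a t hab.symm ≫ pullback.fst f b = a := pullback.lift_fst _ _ _
  have hσ2 : pullback.lift a t hab.symm ≫ pullback.snd f b = t := pullback.lift_snd _ _ _
  generalize pullback.lift a t hab.symm = σ at hσT2 hσ1 hσ2
  have : FormallyUnramified (pullback.snd f b) :=
    MorphismProperty.pullback_snd (P := @FormallyUnramified) f b inferInstance
  have : LocallyOfFiniteType (pullback.snd f b) :=
    MorphismProperty.pullback_snd (P := @LocallyOfFiniteType) f b inferInstance
  have : Flat (pullback.snd f b) :=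
    MorphismProperty.pullback_snd (P := @Flat) f b inferInstance
  have : FormallyUnramified (pullback.snd (pullback.snd f b) t) :=
    MorphismProperty.pullback_snd (P := @FormallyUnramified) _ _ inferInstance
  have : LocallyOfFiniteType (pullback.snd (pullback.snd f b) t) :=
    MorphismProperty.pullback_snd (P := @LocallyOfFiniteType) _ _ inferInstance
  have hpost : MorphismProperty.HasOfPostcompProperty @IsOpenImmersion
      (@LocallyOfFiniteType ⊓ @FormallyUnramified) := by
    rw [MorphismProperty.hasOfPostcompProperty_iff_le_diagonal]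
    intro X Y g ⟨hft, hfu⟩
    exact inferInstanceAs (IsOpenImmersion (pullback.diagonal g))
  have hσTopen : IsOpenImmersion σT :=
    MorphismProperty.of_postcomp (W := @IsOpenImmersion)
      (W' := @LocallyOfFiniteType ⊓ @FormallyUnramified) σT
      (pullback.snd (pullback.snd f b) t) ⟨inferInstance, inferInstance⟩ (by
        rw [hσT1]; exact inferInstanceAs (IsOpenImmersion (𝟙 _)))
  have hmem := mem_thickOpen _ hc σT.opensRange
  have hpre := preimage_thickOpen _ hc σT.opensRange
  generalize thickOpen _ hc σT.opensRange = U at hmem hpre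
  have hr : Set.range σ ⊆ Set.range U.ι := by
    rintro _ ⟨x, rfl⟩
    rw [Scheme.Opens.range_ι, ← hσT2]
    exact (hmem (σT x)).mpr ⟨x, rfl⟩
  have hσ' : IsOpenImmersion.lift U.ι σ hr ≫ U.ι = σ := IsOpenImmersion.lift_fac _ _ _
  generalize IsOpenImmersion.lift U.ι σ hr = σ' at hσ'
  have sq1 : IsPullback σ' σT U.ι (pullback.fst (pullback.snd f b) t) :=
    IsOpenImmersion.isPullback σ' σT U.ι _ (by rw [hσT2, hσ']) (by
      rw [Scheme.Opens.opensRange_ι, hpre])
  have hσ'th : MoreMor.IsThickening σ' := thickening_baseChange hc sq1.flip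
  have hst : σ' ≫ (U.ι ≫ pullback.snd f b) = t := by
    rw [← Category.assoc, hσ', hσ2]
  have : FormallyUnramified (U.ι ≫ pullback.snd f b) :=
    MorphismProperty.comp_mem (W := @FormallyUnramified) _ _ inferInstance inferInstance
  have hiso : IsIso (U.ι ≫ pullback.snd f b) := isIso_of_thickenings _ σ' t hst hσ'th ht
  have h1 : t ≫ inv (U.ι ≫ pullback.snd f b) = σ' := by
    rw [← hst, Category.assoc, IsIso.hom_inv_id, Category.comp_id]
  refine ⟨inv (U.ι ≫ pullback.snd f b) ≫ U.ι ≫ pullback.fst f b, ⟨?_, ?_⟩, ?_⟩
  · rw [← Category.assoc, h1, ← Category.assoc, hσ', hσ1]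
  · rw [Category.assoc, Category.assoc, pullback.condition, ← Category.assoc U.ι,
      IsIso.inv_hom_id_assoc]
  · rintro l' ⟨hl'1, hl'2⟩
    apply eq_of_surjective_comp_eq f t
    · rw [hl'1, ← Category.assoc, h1, ← Category.assoc, hσ', hσ1]
    · rw [hl'2, Category.assoc, Category.assoc, pullback.condition, ← Category.assoc U.ι,
        IsIso.inv_hom_id_assoc]

end Groth.Agent.Lib.Helper57.FlatThick
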