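import Mathlib.AlgebraicGeometry.ZariskisMainTheorem
import Mathlib.AlgebraicGeometry.PullbackCarrier

/-!
# Étale localization of a quasi-finite point (helper57)

Scheme-level version of Stacks 00UJ / 02LK keeping all the information of the ring lemma
`Algebra.exists_etale_isIdempotentElem_forall_liesOver_eq`:
the étale neighbourhood has trivial residue field extension and the finite clopen piece has a
unique point over the marked point.
-/

universe u

open CategoryTheory CategoryTheory.Limits AlgebraicGeometry TopologicalSpace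

namespace Groth.Agent.Lib.Helper57.EtQF

set_option backward.isDefEq.respectTransparency false in
/-- Naturality of `Spec.residueFieldIso`. -/
theorem residueFieldMap_SpecMap {R R' : CommRingCat.{u}} (φ : R ⟶ R') (x' : PrimeSpectrum R') :
    (Spec.map φ).residueFieldMap x' ≫ (Scheme.Spec.residueFieldIso R' x').hom =
      (Scheme.Spec.residueFieldIso R (PrimeSpectrum.comap φ.hom x')).hom ≫
        CommRingCat.ofHom (Ideal.ResidueField.map (PrimeSpectrum.comap φ.hom x').asIdeal
          x'.asIdeal φ.hom rfl) := by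
  rw [← cancel_epi ((Spec R).residue (PrimeSpectrum.comap φ.hom x'))]
  have h1 := Scheme.residue_residueFieldMap_assoc (Spec.map φ) x'
    (Scheme.Spec.residueFieldIso R' x').hom
  refine h1.trans ?_
  rw [Scheme.Spec.residue_residueFieldIso_hom,
    Scheme.Spec.residue_residueFieldIso_hom_assoc, ← Scheme.localRingHom_comp_stalkIso]
  simp only [Category.assoc, Iso.inv_hom_id_assoc]
  congr 1

/-- If the ring-level residue field map is bijective then the scheme-level residue field map of
`Spec.map φ` is an isomorphism. -/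
theorem isIso_residueFieldMap_SpecMap {R R' : CommRingCat.{u}} (φ : R ⟶ R')
    (x' : PrimeSpectrum R')
    (h : Function.Bijective (Ideal.ResidueField.map (PrimeSpectrum.comap φ.hom x').asIdeal
          x'.asIdeal φ.hom rfl)) :
    IsIso ((Spec.map φ).residueFieldMap x') := by
  have h2 : IsIso (CommRingCat.ofHom (Ideal.ResidueField.map
      (PrimeSpectrum.comap φ.hom x').asIdeal x'.asIdeal φ.hom rfl)) :=
    (ConcreteCategory.isIso_iff_bijective _).mpr h
  have h3 : IsIso ((Spec.map φ).residueFieldMap x' ≫ (Scheme.Spec.residueFieldIso R' x').hom) := by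
    rw [residueFieldMap_SpecMap]; exact IsIso.comp_isIso' inferInstance h2
  exact IsIso.of_isIso_comp_right _ (Scheme.Spec.residueFieldIso R' x').hom


theorem bijective_residueField_map_of_eq {R R' : Type*} [CommRing R] [CommRing R'] (φ : R →+* R')
    (p p' : Ideal R) [p.IsPrime] [p'.IsPrime] (P : Ideal R') [P.IsPrime]
    (h : p = P.comap φ) (h' : p' = P.comap φ)
    (hb : Function.Bijective (Ideal.ResidueField.map p P φ h)) :
    Function.Bijective (Ideal.ResidueField.map p' P φ h') := by
  subst h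
  subst h'
  exact hb

set_option backward.defeqAttrib.useBackward true in
set_option backward.isDefEq.respectTransparency false in
open TensorProduct in
/-- **Étale localization of a quasi-finite point** (Stacks 02LK), with all the information:
trivial residue field extension at the marked point and uniqueness of the point over it. -/
theorem exists_etale_nbhd_split' {X S : Scheme.{u}} (f : X ⟶ S) [LocallyOfFiniteType f]
    (x : X) (hx : f.QuasiFiniteAt x) :
    ∃ (U : Scheme.{u}) (g : U ⟶ S) (u : U), Etale g ∧ g u = f x ∧ IsIso (g.residueFieldMap u) ∧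
      ∃ (V : (pullback f g).Opens) (v : ↑(pullback f g)),
        IsFinite (V.ι ≫ pullback.snd f g) ∧ v ∈ V ∧ pullback.fst f g v = x ∧
        pullback.snd f g v = u ∧
        (∀ w : ↑(pullback f g), w ∈ V → pullback.snd f g w = u → w = v) := by
  obtain ⟨_, ⟨U, hU, rfl⟩, hxU, -⟩ := S.isBasis_affineOpens.exists_subset_of_mem_open
    (Set.mem_univ (f x)) isOpen_univ
  obtain ⟨_, ⟨V, hV, rfl⟩, hxV, hUV : V ≤ f ⁻¹ᵁ U⟩ :=
    X.isBasis_affineOpens.exists_subset_of_mem_open hxU (f ⁻¹ᵁ U).2
  have : (f.appLE U V hUV).hom.FiniteType := f.finiteType_appLE hU hV hUV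
  algebraize [(f.appLE U V hUV).hom]
  have : (hV.primeIdealOf ⟨x, hxV⟩).asIdeal.LiesOver (hU.primeIdealOf ⟨f x, hxU⟩).asIdeal := by
    suffices hU.primeIdealOf ⟨f x, hxU⟩ = Spec.map (f.appLE U V hUV) (hV.primeIdealOf ⟨x, hxV⟩) from
      ⟨congr(($this).1)⟩
    apply hU.isoSpec.inv.homeomorph.injective
    apply Subtype.ext
    simp only [IsAffineOpen.primeIdealOf, Scheme.Hom.homeomorph_apply,
      ← Scheme.Hom.comp_apply, ← Scheme.Opens.ι_apply, IsAffineOpen.isoSpec_hom]
    simp
  have : Algebra.QuasiFiniteAt Γ(S, U) (hV.primeIdealOf ⟨x, hxV⟩).asIdeal :=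
    hx.quasiFiniteAt hV hU hUV hxV
  obtain ⟨R, _, _, _, P, _, _, e, _, P', _, _, hP', heP', hbij, _, huniq⟩ :=
    Algebra.exists_etale_isIdempotentElem_forall_liesOver_eq
    (hU.primeIdealOf ⟨f x, hxU⟩).asIdeal (hV.primeIdealOf ⟨x, hxV⟩).asIdeal
  have : (algebraMap R (Localization.Away e)).Finite := RingHom.finite_algebraMap.mpr ‹_›
  let φ : Γ(S, U) ⟶ .of R := CommRingCat.ofHom <| algebraMap Γ(S, U) R
  have hφ : φ.hom.Etale := RingHom.etale_algebraMap.mpr ‹_›
  have : Etale (Spec.map φ) := HasRingHomProperty.Spec_iff.mpr hφ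
  let e₁ : Spec (.of (R ⊗ Γ(X, V))) ≅ pullback (Spec.map (f.appLE U V hUV)) (Spec.map φ) :=
    (pullbackSpecIso _ _ _).symm ≪≫ pullbackSymmetry _ _
  have he₁ : e₁.hom ≫ pullback.fst _ _ =
      Spec.map (CommRingCat.ofHom Algebra.TensorProduct.includeRight.toRingHom) := by
    dsimp [e₁, RingHom.algebraMap_toAlgebra]
    rw [Category.assoc, pullbackSymmetry_hom_comp_fst]
    exact pullbackSpecIso_inv_snd ..
  have he₁' : e₁.hom ≫ pullback.snd _ _ =
      Spec.map (CommRingCat.ofHom (algebraMap R (R ⊗[Γ(S, U)] Γ(X, V)))) := by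
    dsimp [e₁, RingHom.algebraMap_toAlgebra]
    rw [Category.assoc, pullbackSymmetry_hom_comp_snd]
    exact pullbackSpecIso_inv_fst ..
  let g : Spec (.of (R ⊗[Γ(S, U)] Γ(X, V))) ⟶ pullback f (Spec.map φ ≫ hU.fromSpec) :=
    e₁.hom ≫ pullback.map _ _ _ _ hV.fromSpec (𝟙 _) hU.fromSpec
      (IsAffineOpen.SpecMap_appLE_fromSpec ..) (by simp)
  have hg_snd : g ≫ pullback.snd f _ =
      Spec.map (CommRingCat.ofHom (algebraMap R (R ⊗[Γ(S, U)] Γ(X, V)))) := by
    simp [g, he₁']
  let W₁ := g ''ᵁ PrimeSpectrum.basicOpen e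
  have : IsFinite (W₁.ι ≫ pullback.snd f _) := by
    let ι : Spec (.of (Localization.Away e)) ⟶ pullback f (Spec.map φ ≫ hU.fromSpec) :=
      Spec.map (CommRingCat.ofHom <| algebraMap _ _) ≫ g
    have : ι.opensRange = W₁ := by
      simp only [Scheme.Hom.opensRange_comp, ι, W₁]
      congr 1
      exact TopologicalSpace.Opens.ext <| PrimeSpectrum.localization_away_comap_range _ _
    rw [← this, ← MorphismProperty.cancel_left_of_respectsIso @IsFinite
      (Scheme.Hom.isoOpensRange _).hom]
    have H : (pullbackSpecIso _ R _).inv ≫ pullback.fst _ (Spec.map (f.appLE U V hUV)) = _ :=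
      pullbackSpecIso_inv_fst ..
    simpa [Scheme.Hom.isoOpensRange, ι, g, e₁, RingHom.algebraMap_toAlgebra, φ, H,
      ← Spec.map_comp, IsFinite.SpecMap_iff]
  have hu : (Spec.map φ ≫ hU.fromSpec) ⟨P, ‹_›⟩ = f x := by
    dsimp [Spec.map_apply]
    convert! hU.fromSpec_primeIdealOf ⟨f x, hxU⟩
    exact PrimeSpectrum.ext (Ideal.over_def _ _).symm
  refine ⟨Spec (.of R), Spec.map φ ≫ hU.fromSpec, ⟨P, ‹_›⟩, inferInstance, hu, ?_,
    W₁, g ⟨P', ‹_›⟩, ‹_›, ?_, ?_, ?_, ?_⟩
  · rw [Scheme.residueFieldMap_comp]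
    have : IsIso ((Spec.map φ).residueFieldMap (⟨P, ‹_›⟩ : PrimeSpectrum R)) := by
      apply isIso_residueFieldMap_SpecMap
      exact bijective_residueField_map_of_eq (algebraMap Γ(S, U) R)
        (hU.primeIdealOf ⟨f x, hxU⟩).asIdeal _ P
        (P.over_def (hU.primeIdealOf ⟨f x, hxU⟩).asIdeal) rfl hbij
    infer_instance
  · exact ⟨⟨P', ‹_›⟩, heP', rfl⟩
  · trans hV.fromSpec ⟨P'.comap Algebra.TensorProduct.includeRight.toRingHom, inferInstance⟩
    · simp [← Scheme.Hom.comp_apply, -Scheme.Hom.comp_base, g, reassoc_of% he₁]; rfl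
    convert! hV.fromSpec_primeIdealOf ⟨x, hxV⟩
  · rw [← Scheme.Hom.comp_apply, hg_snd]
    exact PrimeSpectrum.ext (Ideal.over_def P' P).symm
  · intro w hwW hw
    obtain ⟨y, hy, rfl⟩ := (show w ∈ g '' (PrimeSpectrum.basicOpen e).1 from hwW)
    have hw' : (g ≫ pullback.snd f _) y = ⟨P, ‹_›⟩ := by
      rw [Scheme.Hom.comp_apply]; exact hw
    rw [hg_snd] at hw'
    obtain ⟨P'', hP''⟩ := y
    have hlies : P''.LiesOver P := ⟨congr(($hw').1).symm⟩
    have := huniq P'' hP'' hlies hy
    subst this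
    rfl


/-- **Étale localization of a quasi-finite point**, separated case: the finite piece is open and
closed. -/
theorem exists_etale_nbhd_split {X S : Scheme.{u}} (f : X ⟶ S) [LocallyOfFiniteType f]
    [IsSeparated f] (x : X) (hx : f.QuasiFiniteAt x) :
    ∃ (U : Scheme.{u}) (g : U ⟶ S) (u : U), Etale g ∧ g u = f x ∧ IsIso (g.residueFieldMap u) ∧
      ∃ (V : (pullback f g).Opens) (v : ↑(pullback f g)),
        IsClopen (V : Set ↑(pullback f g)) ∧
        IsFinite (V.ι ≫ pullback.snd f g) ∧ v ∈ V ∧ pullback.fst f g v = x ∧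
        pullback.snd f g v = u ∧
        (∀ w : ↑(pullback f g), w ∈ V → pullback.snd f g w = u → w = v) := by
  obtain ⟨U, g, u, hg, hu, hiso, V, v, hfin, h1, h2, h3, h4⟩ := exists_etale_nbhd_split' f x hx
  have : IsFinite V.ι := .of_comp _ (pullback.snd f g)
  have hclosed : IsClosed (V : Set ↑(pullback f g)) := by
    simpa using V.ι.isClosedMap.isClosed_range
  exact ⟨U, g, u, hg, hu, hiso, V, v, ⟨hclosed, V.2⟩, hfin, h1, h2, h3, h4⟩

end Groth.Agent.Lib.Helper57.EtQF
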