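import Mathlib.AlgebraicGeometry.PullbackCarrier
import Mathlib.RingTheory.Ideal.GoingUp
import Mathlib.RingTheory.RingHom.Integral

/-!
# Points and residue fields of fibre products (helper57)

* `eq_of_fst_eq_of_snd_eq`: if `κ(s) → κ(u)` is an isomorphism, a point of `X ×_S U` over `u` is
  determined by its image in `X`.
* `subring_eq_top`: if the point `t` of `X ×_S U` corresponds to a maximal ideal of
  `κ(x) ⊗_{κ(s)} κ(u)` then `κ(t)` is generated (as a ring) by the images of `κ(x)` and `κ(u)`.
-/

universe u

open CategoryTheory CategoryTheory.Limits AlgebraicGeometry TopologicalSpace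

namespace Groth.Agent.Lib.Helper57.EtQF

open AlgebraicGeometry.Scheme.Pullback

variable {X U S : Scheme.{u}} {f : X ⟶ S} {g : U ⟶ S}

/-- If the right leg of the triplet is an isomorphism of residue fields then the tensor product
of residue fields has a unique prime. -/
theorem subsingleton_spec_tensor (T : Triplet f g) [IsIso (g.residueFieldMap T.y)] :
    Subsingleton (Spec T.tensor) := by
  have h1 : IsIso ((S.residueFieldCongr T.hy).inv ≫ g.residueFieldMap T.y) := inferInstance
  have h2 : IsIso T.tensorInl := by
    unfold Triplet.tensorInl Triplet.tensor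
    infer_instance
  let e : X.residueField T.x ≃+* T.tensor := (asIso T.tensorInl).commRingCatIsoToRingEquiv
  have : Subsingleton (PrimeSpectrum (X.residueField T.x)) := inferInstance
  exact (PrimeSpectrum.comapEquiv e).symm.toEquiv.subsingleton

/-- **Lemma B**: over a point `u` with trivial residue field extension, a point of the fibre
product is determined by its first projection. -/
theorem eq_of_fst_eq_of_snd_eq (u : U) [IsIso (g.residueFieldMap u)]
    (w w' : ↑(pullback f g)) (hw : pullback.snd f g w = u) (hw' : pullback.snd f g w' = u)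
    (h : pullback.fst f g w = pullback.fst f g w') : w = w' := by
  apply carrierEquiv.injective
  have hT : Triplet.ofPoint w = Triplet.ofPoint w' := by
    ext
    · exact h
    · exact hw.trans hw'.symm
  apply carrierEquiv_eq_iff.mpr
  refine ⟨hT, ?_⟩
  have : IsIso (g.residueFieldMap (Triplet.ofPoint w').y) := by
    show IsIso (g.residueFieldMap (pullback.snd f g w'))
    rw [hw']; infer_instance
  have hs : Subsingleton (Spec (carrierEquiv w').fst.tensor) :=
    subsingleton_spec_tensor (Triplet.ofPoint w')
  exact hs.elim _ _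


/-- If `p` is a maximal ideal of `κ(x) ⊗ κ(u)`, the residue field of the corresponding point of
the fibre product is a quotient of `κ(x) ⊗ κ(u)`. -/
theorem ofPointTensor_surjective_aux (T : Triplet f g) (p : Spec T.tensor)
    (hp : (show PrimeSpectrum T.tensor from p).asIdeal.IsMaximal) :
    Function.Surjective (ofPointTensor (T.SpecTensorTo p)).hom := by
  have h1 := Triplet.Spec_ofPointTensor_SpecTensorTo T p
  rw [← Scheme.Spec.map_residueFieldIso_inv_eq_fromSpecResidueField, ← Spec.map_comp,
    ← Spec.map_comp, ← Spec.map_comp] at h1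
  have h2 := Spec.map_injective h1
  have hsurj : Function.Surjective
      ((Triplet.tensorCongr (T.ofPoint_SpecTensorTo p).symm).hom ≫
        ofPointTensor (T.SpecTensorTo p) ≫ Scheme.Hom.residueFieldMap T.SpecTensorTo p).hom := by
    rw [← Category.assoc, h2]
    have ha : Function.Surjective (algebraMap T.tensor
        (show PrimeSpectrum T.tensor from p).asIdeal.ResidueField) :=
      Ideal.algebraMap_residueField_surjective _
    have hb : Function.Bijective (Scheme.Spec.residueFieldIso T.tensor p).inv.hom :=
      (ConcreteCategory.isIso_iff_bijective _).mp inferInstance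
    exact hb.surjective.comp ha
  intro y
  obtain ⟨z, hz⟩ := hsurj (Scheme.Hom.residueFieldMap T.SpecTensorTo p y)
  refine ⟨(Triplet.tensorCongr (T.ofPoint_SpecTensorTo p).symm).hom z, ?_⟩
  exact (Scheme.Hom.residueFieldMap T.SpecTensorTo p).hom.injective hz

/-- The residue field at a point of the fibre product is a quotient of `κ(x) ⊗ κ(u)` when the
point corresponds to a maximal ideal. -/
theorem ofPointTensor_surjective (t : ↑(pullback f g))
    (hp : (show PrimeSpectrum (Triplet.ofPoint t).tensor from SpecOfPoint t).asIdeal.IsMaximal) :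
    Function.Surjective (ofPointTensor t).hom := by
  have := ofPointTensor_surjective_aux (Triplet.ofPoint t) (SpecOfPoint t) hp
  rwa [SpecTensorTo_SpecOfPoint] at this


/-- If `κ(t)` is a quotient of `κ(x) ⊗ κ(u)`, any subring of `κ(t)` containing the images of
`κ(x)` and `κ(u)` is everything. -/
theorem subring_eq_top (t : ↑(pullback f g)) (hsurj : Function.Surjective (ofPointTensor t).hom)
    (R₀ : Subring ((pullback f g).residueField t))
    (ha : ∀ a, ((pullback.fst f g).residueFieldMap t).hom a ∈ R₀)
    (hb : ∀ b, ((pullback.snd f g).residueFieldMap t).hom b ∈ R₀) : R₀ = ⊤ := by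
  let ι : CommRingCat.of R₀ ⟶ (pullback f g).residueField t := CommRingCat.ofHom R₀.subtype
  let a₀ : X.residueField (Triplet.ofPoint t).x ⟶ CommRingCat.of R₀ :=
    CommRingCat.ofHom (((pullback.fst f g).residueFieldMap t).hom.codRestrict R₀ ha)
  let b₀ : U.residueField (Triplet.ofPoint t).y ⟶ CommRingCat.of R₀ :=
    CommRingCat.ofHom (((pullback.snd f g).residueFieldMap t).hom.codRestrict R₀ hb)
  have ha₀ : a₀ ≫ ι = (pullback.fst f g).residueFieldMap t := rfl
  have hb₀ : b₀ ≫ ι = (pullback.snd f g).residueFieldMap t := rfl
  have hcond : ((S.residueFieldCongr (Triplet.ofPoint t).hx).inv ≫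
      f.residueFieldMap (Triplet.ofPoint t).x) ≫ a₀ =
      ((S.residueFieldCongr (Triplet.ofPoint t).hy).inv ≫
        g.residueFieldMap (Triplet.ofPoint t).y) ≫ b₀ := by
    ext z
    exact congr($(residueFieldCongr_inv_residueFieldMap_ofPoint t).hom z)
  let d : (Triplet.ofPoint t).tensor ⟶ CommRingCat.of R₀ := pushout.desc a₀ b₀ hcond
  have hd1 : pushout.inl _ _ ≫ d = a₀ := pushout.inl_desc _ _ _
  have hd2 : pushout.inr _ _ ≫ d = b₀ := pushout.inr_desc _ _ _
  have e1 : pushout.inl _ _ ≫ ofPointTensor t = (pullback.fst f g).residueFieldMap t :=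
    pushout.inl_desc _ _ _
  have e2 : pushout.inr _ _ ≫ ofPointTensor t = (pullback.snd f g).residueFieldMap t :=
    pushout.inr_desc _ _ _
  have hd : d ≫ ι = ofPointTensor t := by
    apply pushout.hom_ext
    · exact ((Category.assoc _ _ _).symm.trans (congrArg (· ≫ ι) hd1)).trans (ha₀.trans e1.symm)
    · exact ((Category.assoc _ _ _).symm.trans (congrArg (· ≫ ι) hd2)).trans (hb₀.trans e2.symm)
  rw [eq_top_iff]
  intro y _
  obtain ⟨z, rfl⟩ := hsurj y
  rw [← hd]
  exact (d.hom z).2


/-- If `κ(x)/κ(s)` is integral (algebraic) then every prime of `κ(x) ⊗ κ(u)` is maximal. -/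
theorem isMaximal_of_isIntegral (T : Triplet f g) (hint : (f.residueFieldMap T.x).hom.IsIntegral)
    (p : PrimeSpectrum T.tensor) : p.asIdeal.IsMaximal := by
  have h1 : ((S.residueFieldCongr T.hx).inv ≫ f.residueFieldMap T.x).hom.IsIntegral :=
    (RingHom.isIntegral_respectsIso.cancel_left_isIso _ _).mpr hint
  have h2 : T.tensorInr.hom.IsIntegral := by
    have h3 := RingHom.isIntegral_isStableUnderBaseChange.pushout_inl
      RingHom.isIntegral_respectsIso
      ((S.residueFieldCongr T.hy).inv ≫ g.residueFieldMap T.y)
      ((S.residueFieldCongr T.hx).inv ≫ f.residueFieldMap T.x) h1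
    have h4 : T.tensorInr = pushout.inl _ _ ≫ (pushoutSymmetry
      ((S.residueFieldCongr T.hy).inv ≫ g.residueFieldMap T.y)
      ((S.residueFieldCongr T.hx).inv ≫ f.residueFieldMap T.x)).hom :=
      (inl_comp_pushoutSymmetry_hom _ _).symm
    rw [h4]
    exact (RingHom.isIntegral_respectsIso.cancel_right_isIso _ _).mpr h3
  have := p.2
  apply Ideal.isMaximal_of_isIntegral_of_isMaximal_comap' T.tensorInr.hom h2
  have : (p.asIdeal.comap T.tensorInr.hom).IsPrime := inferInstance
  rw [Ideal.eq_bot_of_prime (p.asIdeal.comap T.tensorInr.hom)]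
  exact Ideal.bot_isMaximal

/-- If `κ(s) → κ(u)` is an isomorphism then every prime of `κ(x) ⊗ κ(u)` is maximal. -/
theorem isMaximal_of_isIso (T : Triplet f g) [IsIso (g.residueFieldMap T.y)]
    (p : PrimeSpectrum T.tensor) : p.asIdeal.IsMaximal := by
  have h2 : IsIso T.tensorInl := by
    unfold Triplet.tensorInl Triplet.tensor
    infer_instance
  let e : X.residueField T.x ≃+* T.tensor := (asIso T.tensorInl).commRingCatIsoToRingEquiv
  have := p.2
  apply Ideal.isMaximal_of_isIntegral_of_isMaximal_comap' e.toRingHom
    (RingHom.isIntegral_of_surjective _ e.surjective)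
  have : (p.asIdeal.comap e.toRingHom).IsPrime := inferInstance
  rw [Ideal.eq_bot_of_prime (p.asIdeal.comap e.toRingHom)]
  exact Ideal.bot_isMaximal

/-- Over a point with trivial residue field extension, the residue field of a point of the
fibre product is that of its image in `X`. -/
theorem residueFieldMap_fst_surjective (t : ↑(pullback f g))
    [IsIso (g.residueFieldMap (pullback.snd f g t))] :
    Function.Surjective ((pullback.fst f g).residueFieldMap t).hom := by
  have : IsIso (g.residueFieldMap (Triplet.ofPoint t).y) := ‹_›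
  have hs := ofPointTensor_surjective t (isMaximal_of_isIso _ _)
  have htop := subring_eq_top t hs ((pullback.fst f g).residueFieldMap t).hom.range
    (fun a => ⟨a, rfl⟩) ?_
  · intro y
    have : y ∈ ((pullback.fst f g).residueFieldMap t).hom.range := htop ▸ Subring.mem_top y
    exact this
  · intro b
    obtain ⟨c, rfl⟩ : ∃ c, ((S.residueFieldCongr (Triplet.ofPoint t).hy).inv ≫
        g.residueFieldMap (Triplet.ofPoint t).y).hom c = b :=
      ((ConcreteCategory.isIso_iff_bijective
        ((S.residueFieldCongr (Triplet.ofPoint t).hy).inv ≫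
          g.residueFieldMap (Triplet.ofPoint t).y)).mp inferInstance).surjective b
    refine ⟨((S.residueFieldCongr (Triplet.ofPoint t).hx).inv ≫
      f.residueFieldMap (Triplet.ofPoint t).x).hom c, ?_⟩
    exact congr($(residueFieldCongr_inv_residueFieldMap_ofPoint t).hom c)

end Groth.Agent.Lib.Helper57.EtQF
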