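import Groth.Agent.Lib.Helper57.EtQF3

/-!
# Finite unions of finite clopen pieces; pieces as opens of the chosen pullback (helper57)
-/

universe u v

open CategoryTheory CategoryTheory.Limits AlgebraicGeometry TopologicalSpace

namespace Groth.Agent.Lib.Helper57.EtQF

/-- A clopen open subset and its complement are complementary opens. -/
theorem isCompl_compl {X : Scheme.{u}} (V : X.Opens) (h : IsClosed (V : Set X)) :
    IsCompl V ⟨(V : Set X)ᶜ, h.isOpen_compl⟩ := by
  constructor
  · rw [disjoint_iff]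
    ext x
    simp
  · rw [codisjoint_iff]
    ext x
    simp only [Opens.coe_sup, Opens.coe_mk, Set.union_compl_self, Set.mem_univ, Opens.coe_top]

/-- The empty open subscheme is finite over anything. -/
theorem isFinite_bot_ι_comp {X' U : Scheme.{u}} (f' : X' ⟶ U) :
    IsFinite ((⊥ : X'.Opens).ι ≫ f') := by
  have : IsEmpty ↥((⊥ : X'.Opens).toScheme) := ⟨fun x => x.2⟩
  infer_instance

/-- The union of two disjoint opens, each finite over `U`, is finite over `U`. -/
theorem isFinite_sup_ι_comp {X' U : Scheme.{u}} (f' : X' ⟶ U) (V₁ V₂ : X'.Opens)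
    (hd : Disjoint V₁ V₂) [IsFinite (V₁.ι ≫ f')] [IsFinite (V₂.ι ≫ f')] :
    IsFinite ((V₁ ⊔ V₂).ι ≫ f') := by
  let a₁ : V₁.toScheme ⟶ (V₁ ⊔ V₂).toScheme := X'.homOfLE le_sup_left
  let a₂ : V₂.toScheme ⟶ (V₁ ⊔ V₂).toScheme := X'.homOfLE le_sup_right
  have hc : IsCompl a₁.opensRange a₂.opensRange := by
    simp only [a₁, a₂, Scheme.opensRange_homOfLE]
    constructor
    · rw [disjoint_iff, ← Scheme.Hom.preimage_inf, disjoint_iff.mp hd]
      rfl
    · rw [codisjoint_iff, ← Scheme.Hom.preimage_sup]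
      exact Scheme.Opens.ι_preimage_self _
  obtain ⟨hcol⟩ := nonempty_isColimit_binaryCofanMk_of_isCompl a₁ a₂ hc
  let e : V₁.toScheme ⨿ V₂.toScheme ≅ (V₁ ⊔ V₂).toScheme :=
    (colimit.isColimit _).coconePointUniqueUpToIso hcol
  have he₁ : coprod.inl ≫ e.hom = a₁ :=
    (colimit.isColimit _).comp_coconePointUniqueUpToIso_hom hcol ⟨.left⟩
  have he₂ : coprod.inr ≫ e.hom = a₂ :=
    (colimit.isColimit _).comp_coconePointUniqueUpToIso_hom hcol ⟨.right⟩
  have key : e.hom ≫ (V₁ ⊔ V₂).ι ≫ f' = coprod.desc (V₁.ι ≫ f') (V₂.ι ≫ f') := by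
    apply coprod.hom_ext
    · rw [reassoc_of% he₁, coprod.inl_desc]
      simp [a₁]
    · rw [reassoc_of% he₂, coprod.inr_desc]
      simp [a₂]
  rw [← MorphismProperty.cancel_left_of_respectsIso @IsFinite e.hom, key]
  infer_instance

/-- A finite union of pairwise disjoint opens, each finite over `U`, is finite over `U`. -/
theorem isFinite_iSup_ι_comp {X' U : Scheme.{u}} (f' : X' ⟶ U) {ι : Type v} [Finite ι] :
    ∀ (V : ι → X'.Opens) (_ : ∀ i i', i ≠ i' → Disjoint (V i) (V i'))
      (_ : ∀ i, IsFinite ((V i).ι ≫ f')), IsFinite ((⨆ i, V i).ι ≫ f') := by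
  induction ι using Finite.induction_empty_option with
  | of_equiv e ih =>
    intro V hd hf
    have := ih (V ∘ e) (fun i i' hii' => hd _ _ (fun h => hii' (e.injective h))) (fun i => hf _)
    have h2 : (⨆ i, (V ∘ e) i) = ⨆ i, V i := e.iSup_comp (g := V)
    rwa [h2] at this
  | h_empty =>
    intro V hd hf
    have : (⨆ i, V i) = ⊥ := by simp
    rw [this]
    exact isFinite_bot_ι_comp f'
  | h_option ih =>
    intro V hd hf
    have h1 : (⨆ o, V o) = V none ⊔ ⨆ a, V (some a) := iSup_option V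
    rw [h1]
    have := ih (fun a => V (some a))
      (fun a a' haa' => hd _ _ (fun h => haa' (Option.some_injective _ h))) (fun a => hf _)
    have := hf none
    refine isFinite_sup_ι_comp f' _ _ ?_
    rw [disjoint_iSup_iff]
    intro a
    exact hd _ _ (by simp)


/-- A piece, as an open subset of the chosen pullback. -/
theorem Piece.exists_opens {X' X U S : Scheme.{u}} {p : X' ⟶ X} {f' : X' ⟶ U} {f : X ⟶ S}
    {g : U ⟶ S} (sq : IsPullback p f' f g) {u : U} (P : Piece f' u) :
    ∃ (V : (pullback f g).Opens) (v : ↑(pullback f g)),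
      IsClopen (V : Set ↑(pullback f g)) ∧ IsFinite (V.ι ≫ pullback.snd f g) ∧ v ∈ V ∧
      pullback.snd f g v = u ∧ pullback.fst f g v = p (P.j P.pt) ∧
      (∀ w ∈ V, pullback.snd f g w = u → w = v) ∧
      (V : Set ↑(pullback f g)) = sq.isoPullback.hom '' Set.range P.j := by
  have h1 : sq.isoPullback.hom ≫ pullback.fst f g = p := sq.isoPullback_hom_fst
  have h2 : sq.isoPullback.hom ≫ pullback.snd f g = f' := sq.isoPullback_hom_snd
  let j' : P.Y ⟶ pullback f g := P.j ≫ sq.isoPullback.hom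
  have hrange : (j'.opensRange : Set ↑(pullback f g)) = sq.isoPullback.hom '' Set.range P.j := by
    show Set.range j' = _
    rw [← Set.range_comp]
    rfl
  have hfin : IsFinite (j'.opensRange.ι ≫ pullback.snd f g) := by
    rw [← MorphismProperty.cancel_left_of_respectsIso @IsFinite j'.isoOpensRange.hom,
      Scheme.Hom.isoOpensRange_hom_ι_assoc]
    show IsFinite ((P.j ≫ sq.isoPullback.hom) ≫ pullback.snd f g)
    rw [Category.assoc, h2]
    infer_instance
  refine ⟨j'.opensRange, j' P.pt, ⟨j'.isClosedEmbedding.isClosed_range, j'.opensRange.2⟩, hfin,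
    ⟨P.pt, rfl⟩, ?_, ?_, ?_, hrange⟩
  · show pullback.snd f g ((P.j ≫ sq.isoPullback.hom) P.pt) = u
    rw [← Scheme.Hom.comp_apply, Category.assoc, h2, Scheme.Hom.comp_apply]
    exact P.hpt
  · show pullback.fst f g ((P.j ≫ sq.isoPullback.hom) P.pt) = _
    rw [← Scheme.Hom.comp_apply, Category.assoc, h1, Scheme.Hom.comp_apply]
  · rintro w ⟨y, rfl⟩ hw
    have : y = P.pt := by
      apply P.uniq
      have h3 : f' (P.j y) = (sq.isoPullback.hom ≫ pullback.snd f g) (P.j y) := by rw [h2]
      rw [h3, Scheme.Hom.comp_apply]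
      exact hw
    rw [this]

end Groth.Agent.Lib.Helper57.EtQF
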