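import Groth.Agent.S6634

set_option autoImplicit false
open CategoryTheory CategoryTheory.Limits AlgebraicGeometry Opposite
universe u

namespace Groth.Agent.Lib.Helper57.EtPushExact

/-- Right derived functors of an exact functor vanish in positive degrees. -/
theorem isZero_rightDerived_of_exact {C D : Type*} [Category C] [Category D] [Abelian C]
    [Abelian D] [HasInjectiveResolutions C] (F : C ⥤ D) [F.Additive] [PreservesFiniteLimits F]
    [PreservesFiniteColimits F] (n : ℕ) (X : C) : IsZero ((F.rightDerived (n + 1)).obj X) := by
  let I : InjectiveResolution X := (HasInjectiveResolution.out (Z := X)).some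
  refine IsZero.of_iso ?_ (I.isoRightDerivedObj F (n + 1))
  erw [← HomologicalComplex.exactAt_iff_isZero_homology]
  have h := I.cocomplex_exactAt_succ n
  rw [HomologicalComplex.exactAt_iff] at h ⊢
  exact h.map F

/-- The direct image along an integral morphism preserves finite limits. -/
theorem push_preservesFiniteLimits {X Y : Scheme.{u}} (f : X ⟶ Y) :
    PreservesFiniteLimits (EtCoh.push f) := by
  have : PreservesLimitsOfSize.{u + 1, u + 1} (EtCoh.push f) :=
    (EtCoh.pullPushAdj f).rightAdjoint_preservesLimits
  exact PreservesLimitsOfSize.preservesFiniteLimits _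

/-- The direct image along an integral morphism is exact. -/
theorem push_preservesFiniteColimits {X Y : Scheme.{u}} (f : X ⟶ Y) [IsIntegralHom f] :
    PreservesFiniteColimits (EtCoh.push f) := by
  have hepi : (EtCoh.push f).PreservesEpimorphisms := Groth.Agent.S6634.result f
  have hlim := push_preservesFiniteLimits f
  have h1 := ((Functor.preservesFiniteLimits_tfae (EtCoh.push f)).out 3 0).mp hlim
  refine ((Functor.preservesFiniteColimits_tfae (EtCoh.push f)).out 0 3).mp ?_
  intro S hS
  have := hS.epi_g
  exact ⟨(h1 S hS).1, inferInstance⟩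

/-- Higher direct images along an integral morphism vanish. -/
theorem isZero_Rpush {X Y : Scheme.{u}} (f : X ⟶ Y) [IsIntegralHom f] (F : EtCoh.Ab X)
    (q : ℕ) (hq : 0 < q) : IsZero ((EtCoh.Rpush f q).obj F) := by
  have := push_preservesFiniteLimits f
  have := push_preservesFiniteColimits f
  obtain ⟨n, rfl⟩ : ∃ n, q = n + 1 := ⟨q - 1, by omega⟩
  exact isZero_rightDerived_of_exact (EtCoh.push f) n F

end Groth.Agent.Lib.Helper57.EtPushExact
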