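import Groth.Agent.Lib.Helper57.IntStalk
import Groth.Agent.Lib.Helper4.ClosedRecoll
import Groth.Prelude.Def_PBC

set_option autoImplicit false
open CategoryTheory CategoryTheory.Limits AlgebraicGeometry Opposite
universe u

namespace Groth.Agent.Lib.Helper57.IntStalk

open Groth.Agent.Lib.Helper4

/-- Lifting a geometric point with algebraically closed field along a universally injective
morphism, when its image lies in the range. -/
theorem exists_lift_geomPt {X Y : Scheme.{u}} (f : X ⟶ Y) [UniversallyInjective f]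
    {Ω : Type u} [Field Ω] [IsAlgClosed Ω] (ξ : Spec (CommRingCat.of Ω) ⟶ Y)
    (x : X) (hx : f x = ξ default) :
    ∃ ζ : Spec (CommRingCat.of Ω) ⟶ X, ζ ≫ f = ξ := by
  obtain ⟨⟨s, a⟩, rfl⟩ := (Scheme.SpecToEquivOfField Ω Y).symm.surjective ξ
  obtain rfl : f x = s := by simp [hx, Scheme.SpecToEquivOfField]
  have h02 : UniversallyInjective f ↔
      (Function.Injective f ∧ ∀ x, (f.residueFieldMap x).hom.IsPurelyInseparable) :=
    (tfae_universallyInjective f).out 0 2
  have hpi : (f.residueFieldMap x).hom.IsPurelyInseparable := (h02.mp ‹_›).2 x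
  let m := (f.residueFieldMap x).hom
  dsimp at m
  algebraize [m, a.hom]
  have : IsPurelyInseparable (Y.residueField (f x)) (X.residueField x) := hpi
  have : Algebra.IsAlgebraic (Y.residueField (f x)) (X.residueField x) :=
    IsPurelyInseparable.isAlgebraic _ _
  let b : X.residueField x →ₐ[Y.residueField (f x)] Ω := IsAlgClosed.lift
  have hb : f.residueFieldMap x ≫ CommRingCat.ofHom b.toRingHom = a := by
    ext1; exact b.comp_algebraMap
  refine ⟨Spec.map (CommRingCat.ofHom b.toRingHom) ≫ X.fromSpecResidueField x, ?_⟩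
  simp [Scheme.SpecToEquivOfField, ← hb]
  rfl

/-- The direct image along a morphism with closed range has zero stalks at geometric points
outside the range. -/
theorem isZero_stalk_push {X Y : Scheme.{u}} (f : X ⟶ Y) (hcl : IsClosed (Set.range f.base))
    (G : EtCoh.Ab X) {Ω : Type u} [Field Ω] [IsSepClosed Ω] (ξ : Spec (CommRingCat.of Ω) ⟶ Y)
    (hξ : Disjoint (Set.range ξ.base) (Set.range f.base)) :
    IsZero ((EtCoh.stalk ξ).obj ((EtCoh.push f).obj G)) := by
  set Φ := Scheme.pointSmallEtale ξ with hΦ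
  set P : (Y.Etale)ᵒᵖ ⥤ AddCommGrpCat.{u+1} := ((EtCoh.push f).obj G).obj with hP
  change IsZero (Φ.presheafFiber.obj P)
  rw [IsZero.iff_id_eq_zero]
  apply Φ.presheafFiber_hom_ext
  intro U u
  rw [Category.comp_id, comp_zero]
  cases U with | _ T g
  obtain ⟨v, hv, rfl⟩ := Over.homMk_surjective u
  dsimp at v hv
  let W : Y.Opens := ⟨(Set.range f.base)ᶜ, hcl.isOpen_compl⟩
  let W' : T.Opens := g ⁻¹ᵁ W
  let U' : Y.Etale := Scheme.Etale.mk (W'.ι ≫ g)
  let j : U' ⟶ Scheme.Etale.mk g := MorphismProperty.Over.homMk W'.ι rfl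
  have hrange : Set.range v.base ⊆ Set.range W'.ι.base := by
    rintro _ ⟨a, rfl⟩
    rw [Scheme.Opens.range_ι]
    change g.base (v.base a) ∈ (Set.range f.base)ᶜ
    have : g.base (v.base a) = ξ.base a := by
      rw [← hv]; rfl
    rw [this]
    exact Set.disjoint_left.1 hξ ⟨a, rfl⟩
  let l : Spec (CommRingCat.of Ω) ⟶ W'.toScheme := IsOpenImmersion.lift W'.ι v hrange
  have hl : l ≫ W'.ι = v := IsOpenImmersion.lift_fac _ _ _
  let u' : Φ.fiber.obj U' := Over.homMk l (by
    change l ≫ W'.ι ≫ g = ξ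
    rw [← Category.assoc, hl, hv])
  have hu' : Φ.fiber.map j u' = Over.homMk v hv := by
    apply Over.OverMorphism.ext
    exact hl
  have hempty : IsEmpty ((EtCoh.bc f).obj U').left := by
    constructor
    intro z
    have h1 : (pullback.fst U'.hom f ≫ U'.hom).base z = (pullback.snd U'.hom f ≫ f).base z := by
      rw [pullback.condition]
    have h2 : (pullback.fst U'.hom f ≫ U'.hom).base z ∈ (Set.range f.base)ᶜ := by
      change g.base (W'.ι.base ((pullback.fst U'.hom f).base z)) ∈ (Set.range f.base)ᶜ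
      exact ((pullback.fst U'.hom f).base z).2
    rw [h1] at h2
    exact h2 ⟨_, rfl⟩
  have hz : IsZero (P.obj (op U')) := Groth.Agent.S0069.isZero_of_isEmpty G ((EtCoh.bc f).obj U')
  rw [← hu', ← Φ.toPresheafFiber_w j u' P]
  rw [hz.eq_of_tgt (P.map j.op) 0, zero_comp]

variable {X Y : Scheme.{u}} (f : X ⟶ Y) (hf : Good f)

include hf in
theorem isIso_pull_unit (F : EtCoh.Ab Y) :
    IsIso ((EtCoh.pull f).map ((EtCoh.pullPushAdj f).unit.app F)) := by
  have h := (EtCoh.pullPushAdj f).left_triangle_components F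
  have : IsIso ((EtCoh.pullPushAdj f).counit.app ((EtCoh.pull f).obj F)) :=
    isIso_counit_app f hf _
  have h2 : IsIso ((EtCoh.pull f).map ((EtCoh.pullPushAdj f).unit.app F) ≫
      (EtCoh.pullPushAdj f).counit.app ((EtCoh.pull f).obj F)) := by
    rw [h]
    exact IsIso.id _
  exact IsIso.of_isIso_comp_right _ ((EtCoh.pullPushAdj f).counit.app ((EtCoh.pull f).obj F))

include hf in
theorem isIso_stalk_unit (F : EtCoh.Ab Y) {Ω : Type u} [Field Ω] [IsSepClosed Ω]
    (ζ : Spec (CommRingCat.of Ω) ⟶ X) :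
    IsIso ((EtCoh.stalk (ζ ≫ f)).map ((EtCoh.pullPushAdj f).unit.app F)) := by
  have h2 := isIso_pull_unit f hf F
  have h3 : IsIso ((EtCoh.pull f ⋙ EtCoh.stalk ζ).map ((EtCoh.pullPushAdj f).unit.app F)) := by
    dsimp only [Functor.comp_map]
    infer_instance
  exact (PointULift.isIso_map_iff_of_natIso (EtStalkPull.stalkPullIso f ζ) _).1 h3

/-- Geometric points with algebraically closed fields at every point. -/
noncomputable abbrev geomPtAlg (Y : Scheme.{u}) (s : Y) :
    Spec (CommRingCat.of (AlgebraicClosure (Y.residueField s))) ⟶ Y :=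
  (Scheme.SpecToEquivOfField (AlgebraicClosure (Y.residueField s)) _).2
    ⟨s, CommRingCat.ofHom (algebraMap (Y.residueField s) _)⟩

abbrev famAlg (Y : Scheme.{u}) : ObjectProperty (Y.smallEtaleTopology.Point) :=
  ObjectProperty.ofObj (fun (s : Y) ↦ Scheme.pointSmallEtale (geomPtAlg Y s))

theorem geomPtAlg_default (Y : Scheme.{u}) (s : Y) : (geomPtAlg Y s) default = s := by
  simp [geomPtAlg, Scheme.SpecToEquivOfField]

theorem hfamAlg (Y : Scheme.{u}) : (famAlg Y).IsConservativeFamilyOfPoints := by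
  apply Scheme.isConservative_pointSmallEtale
  rw [Set.eq_univ_iff_forall]
  intro s
  exact Set.mem_iUnion.mpr ⟨s, default, geomPtAlg_default Y s⟩

theorem range_eq_singleton {Y : Scheme.{u}} {Ω : Type u} [Field Ω]
    (ξ : Spec (CommRingCat.of Ω) ⟶ Y) : Set.range ξ.base = {ξ.base default} := by
  ext y
  constructor
  · rintro ⟨a, rfl⟩
    rw [Subsingleton.elim (α := ↥(Spec (CommRingCat.of Ω))) a default]
    rfl
  · rintro rfl
    exact ⟨default, rfl⟩

theorem isIso_unit_of_supp {X Y : Scheme.{u}} (f : X ⟶ Y) [IsIntegralHom f]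
    [UniversallyInjective f] (G : EtCoh.Ab Y) (hG : EtPBC.supp G ⊆ Set.range f.base) :
    IsIso ((EtCoh.pullPushAdj f).unit.app G) := by
  rw [PointULift.isIso_iff_sheafFiber.{u, u + 1} (hfamAlg Y) AddCommGrpCat.{u + 1} _]
  rintro ⟨_, ⟨s⟩⟩
  show IsIso ((EtCoh.stalk (geomPtAlg Y s)).map _)
  by_cases hs : s ∈ Set.range f.base
  · obtain ⟨x, hx⟩ := hs
    obtain ⟨ζ, hζ⟩ := exists_lift_geomPt f (geomPtAlg Y s) x (hx.trans (geomPtAlg_default Y s).symm)
    rw [← hζ]
    exact isIso_stalk_unit f (good_of_integral f) G ζ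
  · have hr : Set.range (geomPtAlg Y s).base = {s} := by
      rw [range_eq_singleton, geomPtAlg_default]
    have hd : Disjoint (Set.range (geomPtAlg Y s).base) (Set.range f.base) := by
      rw [hr, Set.disjoint_singleton_left]
      exact hs
    have h1 : IsZero ((EtCoh.stalk (geomPtAlg Y s)).obj G) := by
      by_contra hnz
      exact hs (hG ⟨_, inferInstance, inferInstance, geomPtAlg Y s, hr, hnz⟩)
    have h2 := isZero_stalk_push f f.isClosedMap.isClosed_range ((EtCoh.pull f).obj G)
      (geomPtAlg Y s) hd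
    exact ⟨⟨0, h1.eq_of_src _ _, h2.eq_of_src _ _⟩⟩

end Groth.Agent.Lib.Helper57.IntStalk
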