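import Mathlib
import Groth.Agent.Lib.Helper21.ProperOver

set_option autoImplicit false
universe u

open CategoryTheory Limits AlgebraicGeometry Opposite

namespace Groth.Agent.Lib.Helper57.LS

open Groth.Agent.Lib.Helper21.ProperOver

/-- étale morphisms are locally quasi-finite -/
theorem locallyQuasiFinite_of_etale {X Y : Scheme.{u}} (f : X ⟶ Y) [Etale f] :
    LocallyQuasiFinite f := by
  constructor
  intro U hU V hV e
  have h : RingHom.Etale (f.appLE U V e).hom :=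
    HasRingHomProperty.appLE @Etale f inferInstance ⟨U, hU⟩ ⟨V, hV⟩ e
  letI := (f.appLE U V e).hom.toAlgebra
  haveI : Algebra.Etale Γ(Y, U) Γ(X, V) := h
  show Algebra.QuasiFinite Γ(Y, U) Γ(X, V)
  infer_instance

variable {Ω : Type u} [Field Ω]

/-- Lifting a geometric point through a point of an étale morphism. -/
theorem exists_lift_geomPoint [IsSepClosed Ω] {Y W : Scheme.{u}} (p : Y ⟶ W) [Etale p]
    (wbar : Spec (CommRingCat.of Ω) ⟶ W) (z : Y) (x₀ : Spec (CommRingCat.of Ω))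
    (hz : p z = wbar x₀) :
    ∃ ybar : Spec (CommRingCat.of Ω) ⟶ Y, ybar ≫ p = wbar ∧ ∀ x, ybar x = z := by
  obtain ⟨⟨x, a⟩, rfl⟩ := (Scheme.SpecToEquivOfField Ω W).symm.surjective wbar
  have hx : p z = x := by
    rw [hz]
    simp [Scheme.SpecToEquivOfField]
  subst hx
  let m : W.residueField (p z) ⟶ Y.residueField z := p.residueFieldMap z
  algebraize [(p.residueFieldMap z).hom, a.hom]
  let b : Y.residueField z →ₐ[W.residueField (p z)] Ω := IsSepClosed.lift
  have hfac : p.residueFieldMap z ≫ CommRingCat.ofHom b.toRingHom = a := by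
    ext1; exact b.comp_algebraMap
  refine ⟨Spec.map (CommRingCat.ofHom b.toRingHom) ≫ Y.fromSpecResidueField z, ?_, ?_⟩
  · show (Spec.map (CommRingCat.ofHom b.toRingHom) ≫ Y.fromSpecResidueField z) ≫ p =
      Spec.map a ≫ W.fromSpecResidueField (p z)
    rw [Category.assoc, ← Scheme.Hom.SpecMap_residueFieldMap_fromSpecResidueField,
      ← Spec.map_comp_assoc]
    exact congrArg (fun t => Spec.map t ≫ W.fromSpecResidueField (p z)) hfac
  · intro x
    rw [Scheme.Hom.comp_apply, Scheme.fromSpecResidueField_apply]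

/-- A section of `T → Spec Ω` is determined by its image point. -/
theorem section_ext {T : Scheme.{u}} (t : T ⟶ Spec (CommRingCat.of Ω))
    (σ₁ σ₂ : Spec (CommRingCat.of Ω) ⟶ T) (h₁ : σ₁ ≫ t = 𝟙 _) (h₂ : σ₂ ≫ t = 𝟙 _)
    (x₀ : Spec (CommRingCat.of Ω)) (hx : σ₁ x₀ = σ₂ x₀) : σ₁ = σ₂ := by
  obtain ⟨⟨q₁, b₁⟩, rfl⟩ := (Scheme.SpecToEquivOfField Ω T).symm.surjective σ₁
  obtain ⟨⟨q₂, b₂⟩, rfl⟩ := (Scheme.SpecToEquivOfField Ω T).symm.surjective σ₂
  have hq : q₁ = q₂ := by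
    simpa [Scheme.SpecToEquivOfField] using hx
  subst hq
  obtain ⟨ι, hι⟩ := Spec.map_surjective (T.fromSpecResidueField q₁ ≫ t)
  have e₁ : ι ≫ b₁ = 𝟙 _ := by
    apply Spec.map_injective
    rw [Spec.map_comp, hι, Spec.map_id]
    exact h₁
  have e₂ : ι ≫ b₂ = 𝟙 _ := by
    apply Spec.map_injective
    rw [Spec.map_comp, hι, Spec.map_id]
    exact h₂
  have hb : b₁ = b₂ := by
    ext y
    have inj : Function.Injective b₁.hom := b₁.hom.injective
    have k₁ : ∀ c : Ω, b₁.hom (ι.hom c) = c := fun c => by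
      have := congrArg (fun f => f.hom c) e₁
      simpa using this
    have k₂ : ∀ c : Ω, b₂.hom (ι.hom c) = c := fun c => by
      have := congrArg (fun f => f.hom c) e₂
      simpa using this
    have hy : ι.hom (b₁.hom y) = y := inj (k₁ _)
    calc b₁.hom y = b₂.hom (ι.hom (b₁.hom y)) := (k₂ _).symm
      _ = b₂.hom y := by rw [hy]
  rw [hb]

/-- The geometric points of a closed subset proper over the base, lying over a given geometric
point of the base, form a finite set (for an étale morphism). -/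
theorem finite_lifts [IsSepClosed Ω] {Y W : Scheme.{u}} (p : Y ⟶ W) [Etale p] (Z : Set Y)
    (hZ : ClSub.IsProperOver p Z) (wbar : Spec (CommRingCat.of Ω) ⟶ W) :
    {ybar : Spec (CommRingCat.of Ω) ⟶ Y | ybar ≫ p = wbar ∧ ∀ x, ybar x ∈ Z}.Finite := by
  let x₀ : Spec (CommRingCat.of Ω) := default
  let pr₁ : pullback p wbar ⟶ Y := pullback.fst p wbar
  let pr₂ : pullback p wbar ⟶ Spec (CommRingCat.of Ω) := pullback.snd p wbar
  have hZΩ : ClSub.IsProperOver pr₂ (pr₁ ⁻¹' Z) :=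
    isProperOver_preimage_of_isPullback p wbar pr₁ pr₂ (IsPullback.of_hasPullback p wbar) Z hZ
  obtain ⟨hcl, hprop⟩ := hZΩ
  let ι := (Scheme.IdealSheafData.vanishingIdeal ⟨pr₁ ⁻¹' Z, hcl⟩).subschemeι
  haveI : IsProper (ι ≫ pr₂) := hprop
  haveI : LocallyQuasiFinite pr₂ := locallyQuasiFinite_of_etale pr₂
  have hfin : ((ι ≫ pr₂) ⁻¹' {x₀}).Finite := (ι ≫ pr₂).finite_preimage_singleton x₀
  have huniv : ((ι ≫ pr₂) ⁻¹' {x₀}) = Set.univ := by
    ext y
    simp only [Set.mem_preimage, Set.mem_singleton_iff, Set.mem_univ, iff_true]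
    exact Subsingleton.elim _ _
  rw [huniv] at hfin
  have hZfin : (pr₁ ⁻¹' Z).Finite := by
    have hr : Set.range ι = pr₁ ⁻¹' Z := range_subschemeι_vanishingIdeal _ hcl
    rw [← hr, ← Set.image_univ]
    exact hfin.image _
  -- sections through points of `Z_Ω`
  let Sec : Set (Spec (CommRingCat.of Ω) ⟶ pullback p wbar) :=
    {σ | σ ≫ pr₂ = 𝟙 _ ∧ σ x₀ ∈ pr₁ ⁻¹' Z}
  have hSec : Sec.Finite := by
    apply Set.Finite.of_finite_image (f := fun σ => σ x₀)
    · apply hZfin.subset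
      rintro _ ⟨σ, hσ, rfl⟩
      exact hσ.2
    · intro σ₁ h₁ σ₂ h₂ h
      exact section_ext pr₂ σ₁ σ₂ h₁.1 h₂.1 x₀ h
  apply (hSec.image (fun σ => σ ≫ pr₁)).subset
  rintro ybar ⟨hy1, hy2⟩
  refine ⟨pullback.lift ybar (𝟙 _) (by rw [hy1, Category.id_comp]), ⟨?_, ?_⟩, ?_⟩
  · exact pullback.lift_snd _ _ _
  · show pr₁ (pullback.lift ybar (𝟙 _) _ x₀) ∈ Z
    rw [← Scheme.Hom.comp_apply, pullback.lift_fst]
    exact hy2 x₀
  · exact pullback.lift_fst _ _ _

end Groth.Agent.Lib.Helper57.LS
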