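import Groth.Agent.Lib.Helper57.StalkSets

set_option autoImplicit false
open CategoryTheory CategoryTheory.Limits AlgebraicGeometry Opposite
universe u

/-! Sheaves of sets: essential image of `i_*` for a closed immersion `i`. -/

namespace Groth.Agent.Lib.Helper57.StalkSets

open Groth.Agent.Lib.Helper4 Groth.Agent.Lib.Helper57.IntStalk

theorem isIso_of_unique {A B : Type (u + 1)} (hA : Nonempty (Unique A)) (hB : Nonempty (Unique B))
    (g : A ⟶ B) : IsIso g := by
  obtain ⟨hA⟩ := hA
  obtain ⟨hB⟩ := hB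
  rw [isIso_iff_bijective]
  exact ⟨fun a b _ => (hA.eq_default a).trans (hA.default_eq b),
    fun b => ⟨hA.default, (hB.eq_default _).trans (hB.default_eq b)⟩⟩

theorem unique_of_iso {A B : Type (u + 1)} (e : A ≅ B) (hA : Nonempty (Unique A)) :
    Nonempty (Unique B) := by
  obtain ⟨hA⟩ := hA
  exact ⟨e.toEquiv.symm.unique⟩

theorem unique_stalk_terminal {X : Scheme.{u}} {Ω : Type u} [Field Ω] [IsSepClosed Ω]
    (ξ : Spec (CommRingCat.of Ω) ⟶ X) :
    Nonempty (Unique ((stalkSh ξ).obj (⊤_ (EtDesc.Sh X)))) := by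
  have hT : IsTerminal ((stalkSh ξ).obj (⊤_ (EtDesc.Sh X))) :=
    IsTerminal.isTerminalObj (stalkSh ξ) _ terminalIsTerminal
  exact ⟨Types.isTerminalEquivUnique _ hT⟩

variable {X Y : Scheme.{u}} (f : X ⟶ Y) (hf : Good f)

include hf in
theorem isIso_pullSh_unit (F : EtDesc.Sh Y) :
    IsIso ((EtDesc.pullSh f).map ((EtDesc.adjSh f).unit.app F)) := by
  have h := (EtDesc.adjSh f).left_triangle_components F
  have : IsIso ((EtDesc.adjSh f).counit.app ((EtDesc.pullSh f).obj F)) :=
    isIso_counitSh_app f hf _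
  have h2 : IsIso ((EtDesc.pullSh f).map ((EtDesc.adjSh f).unit.app F) ≫
      (EtDesc.adjSh f).counit.app ((EtDesc.pullSh f).obj F)) := by
    rw [h]
    exact IsIso.id _
  exact IsIso.of_isIso_comp_right _ ((EtDesc.adjSh f).counit.app ((EtDesc.pullSh f).obj F))

include hf in
theorem isIso_stalkSh_unit (F : EtDesc.Sh Y) {Ω : Type u} [Field Ω] [IsSepClosed Ω]
    (ζ : Spec (CommRingCat.of Ω) ⟶ X) :
    IsIso ((stalkSh (ζ ≫ f)).map ((EtDesc.adjSh f).unit.app F)) := by
  have h2 := isIso_pullSh_unit f hf F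
  have h3 : IsIso ((EtDesc.pullSh f ⋙ stalkSh ζ).map ((EtDesc.adjSh f).unit.app F)) := by
    dsimp only [Functor.comp_map]
    infer_instance
  exact (PointULift.isIso_map_iff_of_natIso (stalkPullIsoSh f ζ) _).1 h3

/-- For a closed immersion `i` with open complement `j`: `F` is in the essential image of `i_*` iff
`j^* F` is terminal. -/
theorem essImage_pushSh_iff {Y X U : Scheme.{u}} (i : Y ⟶ X)
    [IsClosedImmersion i] (j : U ⟶ X) [IsOpenImmersion j]
    (hU : Set.range j.base = (Set.range i.base)ᶜ) (F : EtDesc.Sh X) :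
    (EtDesc.pushSh i).essImage F ↔ IsIso (terminal.from ((EtDesc.pullSh j).obj F)) := by
  have hcl : IsClosed (Set.range i.base) := i.isClosedEmbedding.isClosed_range
  have hdisj : ∀ {Ω : Type u} [Field Ω] [IsSepClosed Ω] (ζ : Spec (CommRingCat.of Ω) ⟶ U),
      Disjoint (Set.range (ζ ≫ j).base) (Set.range i.base) := by
    intro Ω _ _ ζ
    rw [Set.disjoint_left]
    rintro _ ⟨a, rfl⟩ hmem
    have : (ζ ≫ j).base a ∈ Set.range j.base := ⟨ζ.base a, rfl⟩
    rw [hU] at this
    exact this hmem
  constructor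
  · rintro ⟨G, ⟨e⟩⟩
    rw [isIso_iff_stalkSh]
    intro Ω _ _ ζ
    refine isIso_of_unique ?_ (unique_stalk_terminal ζ) _
    have h1 := unique_stalk_pushSh i hcl G (ζ ≫ j) (hdisj ζ)
    have h2 := unique_of_iso ((stalkSh (ζ ≫ j)).mapIso e) h1
    exact unique_of_iso ((stalkPullIsoSh j ζ).app F).symm h2
  · intro hF
    have hgood := good_of_integral i
    have hiso : IsIso ((EtDesc.adjSh i).unit.app F) := by
      rw [isIso_iff_stalkSh]
      intro Ω _ _ ξ
      by_cases h : ξ.base default ∈ Set.range i.base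
      · have hsub : Set.range ξ.base ⊆ Set.range i.base := by
          rw [range_eq_singleton]
          exact Set.singleton_subset_iff.2 h
        obtain ⟨ζ, rfl⟩ := ClosedRecoll.exists_lift_geomPt i ξ hsub
        exact isIso_stalkSh_unit i hgood F ζ
      · have hj : Set.range ξ.base ⊆ Set.range j.base := by
          rw [range_eq_singleton, hU]
          exact Set.singleton_subset_iff.2 h
        let ζ' := IsOpenImmersion.lift j ξ hj
        have hζ' : ζ' ≫ j = ξ := IsOpenImmersion.lift_fac _ _ _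
        have hd : Disjoint (Set.range ξ.base) (Set.range i.base) := by
          rw [← hζ']
          exact hdisj ζ'
        refine isIso_of_unique ?_ (unique_stalk_pushSh i hcl _ ξ hd) _
        have h1 : Nonempty (Unique ((stalkSh ζ').obj ((EtDesc.pullSh j).obj F))) :=
          unique_of_iso ((stalkSh ζ').mapIso (asIso (terminal.from ((EtDesc.pullSh j).obj F)))).symm
            (unique_stalk_terminal ζ')
        have h2 := unique_of_iso ((stalkPullIsoSh j ζ').app F) h1
        rw [hζ'] at h2
        exact h2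
    exact ⟨(EtDesc.pullSh i).obj F, ⟨(asIso ((EtDesc.adjSh i).unit.app F)).symm⟩⟩

end Groth.Agent.Lib.Helper57.StalkSets
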