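import Groth.Prelude.Def_EGA4b
import Mathlib.RingTheory.Localization.LocalizationLocalization
import Mathlib.RingTheory.Localization.BaseChange
import Mathlib.RingTheory.IntegralClosure.IntegrallyClosed
import Mathlib.RingTheory.Localization.Away.Basic
import Mathlib.RingTheory.Ideal.Maps

/-!
# Basic permanence properties of `EGA4.IsNormalRing`

Invariance under ring isomorphisms and passage to localizations.
-/

set_option autoImplicit false
universe u

namespace Groth.Agent.Lib.Helper57

open EGA4

variable {C C' : Type u} [CommRing C] [CommRing C']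

/-- If every localization of `C'` at a prime is isomorphic to a localization of `C` at a prime,
normality passes from `C` to `C'`. -/
theorem isNormalRing_of_forall_equiv (hC : IsNormalRing C)
    (h : ∀ (q' : Ideal C') [q'.IsPrime], ∃ (q : Ideal C) (_ : q.IsPrime),
      Nonempty (Localization.AtPrime q ≃+* Localization.AtPrime q')) : IsNormalRing C' := by
  intro q' _
  obtain ⟨q, hq, ⟨e⟩⟩ := h q'
  obtain ⟨hd, hic⟩ := hC q
  exact ⟨MulEquiv.isDomain (Localization.AtPrime q) e.symm.toMulEquiv, IsIntegrallyClosed.of_equiv e⟩

theorem nonempty_equiv_atPrime_of_isLocalization (T : Submonoid C) (C' : Type u) [CommRing C']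
    [Algebra C C'] [IsLocalization T C'] (q' : Ideal C') [q'.IsPrime] (L : Type u) [CommRing L]
    [Algebra C' L] [IsLocalization.AtPrime L q'] :
    Nonempty (Localization.AtPrime (q'.comap (algebraMap C C')) ≃+* L) := by
  let _ : Algebra C L := ((algebraMap C' L).comp (algebraMap C C')).toAlgebra
  have : IsScalarTower C C' L := IsScalarTower.of_algebraMap_eq' rfl
  have : IsLocalization.AtPrime L (q'.comap (algebraMap C C')) :=
    IsLocalization.isLocalization_isLocalization_atPrime_isLocalization T L q'
  exact ⟨(IsLocalization.algEquiv (q'.comap (algebraMap C C')).primeCompl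
    (Localization.AtPrime (q'.comap (algebraMap C C'))) L).toRingEquiv⟩

/-- A localization of a normal ring is normal. -/
theorem isNormalRing_of_isLocalization (T : Submonoid C) (C' : Type u) [CommRing C'] [Algebra C C']
    [IsLocalization T C'] (hC : IsNormalRing C) : IsNormalRing C' := by
  apply isNormalRing_of_forall_equiv hC
  intro q' _
  exact ⟨q'.comap (algebraMap C C'), inferInstance,
    nonempty_equiv_atPrime_of_isLocalization T C' q' (Localization.AtPrime q')⟩

/-- Normality can be checked on a cover by localizations: if every prime `q` of `C` survives in some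
normal localization of `C`, then `C` is normal. -/
theorem isNormalRing_of_forall_exists_isLocalization
    (h : ∀ (q : Ideal C) [q.IsPrime], ∃ (T : Submonoid C) (D : Type u) (_ : CommRing D)
      (_ : Algebra C D) (_ : IsLocalization T D), Disjoint (T : Set C) (q : Set C) ∧ IsNormalRing D) :
    IsNormalRing C := by
  intro q hq
  obtain ⟨T, D, _, _, _, hdisj, hD⟩ := h q
  have hprime : (q.map (algebraMap C D)).IsPrime :=
    IsLocalization.isPrime_of_isPrime_disjoint T D q hq hdisj
  have hcomap : (q.map (algebraMap C D)).comap (algebraMap C D) = q :=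
    IsLocalization.under_map_of_isPrime_disjoint T D hq hdisj
  obtain ⟨e⟩ := nonempty_equiv_atPrime_of_isLocalization T D (q.map (algebraMap C D))
    (Localization.AtPrime (q.map (algebraMap C D)))
  obtain ⟨hd, hic⟩ := hD (q.map (algebraMap C D))
  have key : ∀ (p : Ideal C) (hp : p.IsPrime), p = q →
      Nonempty (Localization.AtPrime p ≃+* Localization.AtPrime (q.map (algebraMap C D))) →
      IsDomain (Localization.AtPrime q) ∧ IsIntegrallyClosed (Localization.AtPrime q) := by
    rintro p hp rfl ⟨e'⟩
    exact ⟨MulEquiv.isDomain (Localization.AtPrime (p.map (algebraMap C D))) e'.toMulEquiv,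
      IsIntegrallyClosed.of_equiv e'.symm⟩
  exact key _ inferInstance hcomap ⟨e⟩

/-- Normality is invariant under ring isomorphisms. -/
theorem isNormalRing_of_ringEquiv (e : C ≃+* C') (hC : IsNormalRing C) : IsNormalRing C' := by
  let _ : Algebra C C' := e.toRingHom.toAlgebra
  have : IsLocalization (⊥ : Submonoid C) C' := by
    refine IsLocalization.of_le_isUnit_of_bijective ?_ e.bijective
    rintro _ ⟨x, hx, rfl⟩
    rw [Submonoid.mem_bot.1 hx, map_one]
    exact isUnit_one
  exact isNormalRing_of_isLocalization ⊥ C' hC

/-- An integrally closed domain is a normal ring. -/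
theorem isNormalRing_of_isIntegrallyClosed (R : Type u) [CommRing R] [IsDomain R]
    [IsIntegrallyClosed R] : IsNormalRing R := by
  intro p hp
  have hle : p.primeCompl ≤ nonZeroDivisors R := Ideal.primeCompl_le_nonZeroDivisors p
  exact ⟨IsLocalization.isDomain_localization hle,
    isIntegrallyClosed_of_isLocalization (Localization.AtPrime p) p.primeCompl hle⟩

/-- A finite product of normal rings is normal. -/
theorem isNormalRing_pi {ι : Type u} [Finite ι] (A : ι → Type u) [∀ i, CommRing (A i)]
    (hA : ∀ i, IsNormalRing (A i)) : IsNormalRing (∀ i, A i) := by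
  classical
  have := Fintype.ofFinite ι
  apply isNormalRing_of_forall_exists_isLocalization
  intro q hq
  have hex : ∃ i, (Pi.single i 1 : ∀ a, A a) ∉ q := by
    by_contra hcon
    simp only [not_exists, not_not] at hcon
    have h1 : (1 : ∀ a, A a) = ∑ i, Pi.single i 1 := by
      ext a
      simp [Finset.sum_apply]
    exact hq.ne_top ((Ideal.eq_top_iff_one q).2 (h1 ▸ Ideal.sum_mem q fun i _ => hcon i))
  obtain ⟨i, hi⟩ := hex
  let _ : Algebra (∀ a, A a) (A i) := (Pi.evalRingHom A i).toAlgebra
  have hloc : IsLocalization.Away (Pi.single i 1 : ∀ a, A a) (A i) := by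
    refine IsLocalization.away_of_isIdempotentElem ?_ (RingHom.ker_evalRingHom _ _)
      ((Pi.evalRingHom A i).surjective)
    simp [IsIdempotentElem, ← Pi.single_mul_left]
  refine ⟨Submonoid.powers (Pi.single i 1 : ∀ a, A a), A i, inferInstance, inferInstance, hloc,
    ?_, hA i⟩
  rw [Set.disjoint_left]
  rintro x ⟨n, rfl⟩ hx
  exact hi (hq.mem_of_pow_mem n hx)

/-- Each factor of a normal finite product is normal. -/
theorem isNormalRing_of_pi {ι : Type u} [Finite ι] (A : ι → Type u) [∀ i, CommRing (A i)]
    (hA : IsNormalRing (∀ i, A i)) (i : ι) : IsNormalRing (A i) := by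
  classical
  let _ : Algebra (∀ a, A a) (A i) := (Pi.evalRingHom A i).toAlgebra
  have hloc : IsLocalization.Away (Pi.single i 1 : ∀ a, A a) (A i) := by
    refine IsLocalization.away_of_isIdempotentElem ?_ (RingHom.ker_evalRingHom _ _)
      ((Pi.evalRingHom A i).surjective)
    simp [IsIdempotentElem, ← Pi.single_mul_left]
  exact isNormalRing_of_isLocalization (Submonoid.powers (Pi.single i 1 : ∀ a, A a)) (A i) hA

end Groth.Agent.Lib.Helper57
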