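import Groth.Agent.Lib.Helper69.EtSplit
import Groth.Agent.Lib.Helper4.ZarEt

/-!
# Zariski-local sections of étale morphisms over schemes with strictly henselian local rings
-/

set_option autoImplicit false
open CategoryTheory CategoryTheory.Limits AlgebraicGeometry Opposite TopologicalSpace
universe u

noncomputable section

namespace Groth.Agent.Lib.Helper57.ZarHens

open Groth.Agent.Lib.Helper4 Groth.Agent.Lib.Helper69

/-- If the local ring at `f v` is strictly henselian, the étale morphism `f` has a section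
over a Zariski open neighbourhood of `f v`. -/
theorem exists_zariski_section_aux {S Y : Scheme.{u}} (f : Y ⟶ S) [Etale f] (v : Y)
    (hS : EtCoh.IsStrictlyHenselianLocalRing (S.presheaf.stalk (f v))) :
    ∃ (U : S.Opens), f v ∈ U ∧ ∃ σ : U.toScheme ⟶ Y, σ ≫ f = U.ι := by
  -- an affine open neighbourhood
  obtain ⟨_, ⟨W₀, hW₀, rfl⟩, hxW₀, -⟩ := S.isBasis_affineOpens.exists_subset_of_mem_open
    (Set.mem_univ (f v)) isOpen_univ
  obtain ⟨W, hW, hxW⟩ : ∃ W : S.Opens, IsAffineOpen W ∧ f v ∈ W := ⟨W₀, hW₀, hxW₀⟩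
  haveI : IsAffine W.toScheme := hW
  let x'' : W.toScheme := ⟨f v, hxW⟩
  have hx'' : W.ι x'' = f v := rfl
  obtain ⟨hH, hK⟩ := hS
  haveI : HenselianLocalRing (S.presheaf.stalk (f v)) := hH
  haveI : IsSepClosed (IsLocalRing.ResidueField (S.presheaf.stalk (f v))) := hK
  -- the lift over the local scheme
  obtain ⟨h₀, hh₀, -⟩ := @EtSplit.exists_lift_of_strictlyHenselian (S.presheaf.stalk (f v)) _ hH hK
    _ _ f _ (S.fromSpecStalk (f v)) v (Scheme.fromSpecStalk_closedPoint).symm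
  obtain ⟨h, hh⟩ : ∃ h : Spec (S.presheaf.stalk (W.ι x'')) ⟶ Y,
      h ≫ f = S.fromSpecStalk (W.ι x'') := ⟨h₀, hh₀⟩
  -- transport to the affine open
  have hcomp : (Spec.map (W.ι.stalkMap x'') ≫ h) ≫ f = W.toScheme.fromSpecStalk x'' ≫ W.ι := by
    rw [Category.assoc, hh]
    exact Scheme.SpecMap_stalkMap_fromSpecStalk W.ι (x := x'')
  let h'' : Spec (W.toScheme.presheaf.stalk x'') ⟶ pullback f W.ι :=
    pullback.lift (Spec.map (W.ι.stalkMap x'') ≫ h) (W.toScheme.fromSpecStalk x'') hcomp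
  have hh'' : h'' ≫ pullback.snd f W.ι = W.toScheme.fromSpecStalk x'' := pullback.lift_snd _ _ _
  obtain ⟨U'', hxU'', hU, hUg⟩ := EtSplit.exists_lift_nhds (pullback.snd f W.ι) x'' h'' hh''
  refine ⟨W.ι ''ᵁ U'', ⟨x'', hxU'', hx''⟩,
    (W.ι.isoImage U'').inv ≫ hU ≫ pullback.fst f W.ι, ?_⟩
  rw [Category.assoc, Category.assoc, pullback.condition, ← Category.assoc hU, hUg]
  exact Scheme.Hom.isoImage_inv_ι W.ι U''

variable {S : Scheme.{u}}

theorem exists_zariski_section (V : S.Etale) (v : V.left)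
    (hS : ∀ s : S, EtCoh.IsStrictlyHenselianLocalRing (S.presheaf.stalk s)) :
    ∃ (U : S.Opens), (V.hom : V.left ⟶ S) v ∈ U ∧
      Nonempty ((EtZar.zarToEt S).obj U ⟶ V) := by
  have hf : Etale (V.hom : V.left ⟶ S) := V.prop
  obtain ⟨U, hU, σ, hσ⟩ := exists_zariski_section_aux (V.hom : V.left ⟶ S) v (hS _)
  exact ⟨U, hU, ⟨MorphismProperty.Over.homMk σ hσ trivial⟩⟩

end Groth.Agent.Lib.Helper57.ZarHens
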