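import Groth.Agent.Lib.Helper57.ZarHens2

/-!
# Étale cohomology agrees with Zariski cohomology when all local rings are strictly henselian:
the comparison of Ext groups
-/

set_option autoImplicit false
open CategoryTheory CategoryTheory.Limits AlgebraicGeometry Opposite TopologicalSpace
universe w v u₀ u

noncomputable section

namespace Groth.Agent.Lib.Helper57.ZarHens

open Groth.Agent.Lib.Helper4 Groth.Agent.Lib.Helper69 Abelian

/-- Precomposition with an isomorphism on Ext groups. -/
def extPrecompEquiv {C : Type u₀} [Category.{v} C] [Abelian C] [HasExt.{w} C] {A A' : C}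
    (α : A ≅ A') (F : C) (n : ℕ) : Ext.{w} A' F n ≃+ Ext.{w} A F n where
  toFun e := (Ext.mk₀ α.hom).comp e (zero_add n)
  invFun e := (Ext.mk₀ α.inv).comp e (zero_add n)
  left_inv e := by
    simp only [Ext.mk₀_comp_mk₀_assoc, Iso.inv_hom_id, Ext.mk₀_id_comp]
  right_inv e := by
    simp only [Ext.mk₀_comp_mk₀_assoc, Iso.hom_inv_id, Ext.mk₀_id_comp]
  map_add' e e' := Ext.comp_add _ _ _ _

theorem nonempty_H_equiv (S : Scheme.{u}) [EtZar.ZarCont S]
    (hS : ∀ s : S, EtCoh.IsStrictlyHenselianLocalRing (S.presheaf.stalk s))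
    (F : EtCoh.Ab S) (i : ℕ) :
    Nonempty (EtCoh.H S F i ≃+ EtZar.H ((EtZar.resZar S).obj F) i) := by
  haveI := resZar_preservesFiniteLimits S
  haveI := resZar_preservesFiniteColimits S hS
  have hinj : ∀ I : EtCoh.Ab S, Injective I → Injective ((EtZar.resZar S).obj I) :=
    fun I hI => ZarEt.injective_resZar S I
  let α := (pullZarConstIso S).app (AddCommGrpCat.of (ULift.{u + 1} ℤ))
  let e1 := extPrecompEquiv α F i
  let e2 := ExtAdj.ΘEquiv (ZarEt.adjZar S) hinj
    ((constantSheaf (Opens.grothendieckTopology S) AddCommGrpCat.{u + 1}).obj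
      (AddCommGrpCat.of (ULift.{u + 1} ℤ))) F i
  exact ⟨e1.trans e2⟩

end Groth.Agent.Lib.Helper57.ZarHens
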