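import Groth.Agent.Lib.Helper57.StalkSets

set_option autoImplicit false
open CategoryTheory CategoryTheory.Limits AlgebraicGeometry Opposite
universe u

/-! Inverse image of étale sheaves of sets: exactness, conservativity for surjective morphisms. -/

namespace Groth.Agent.Lib.Helper57.StalkSets

open Groth.Agent.Lib.Helper4 Groth.Agent.Lib.Helper57.IntStalk

theorem preservesFiniteLimits_of_stalkSh {X : Scheme.{u}} {D : Type*} [Category D]
    [HasFiniteLimits D] (G : D ⥤ EtDesc.Sh X)
    (h : ∀ (Ω : Type u) [Field Ω] [IsSepClosed Ω] (ξ : Spec (CommRingCat.of Ω) ⟶ X),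
      PreservesFiniteLimits (G ⋙ stalkSh ξ)) : PreservesFiniteLimits G := by
  constructor
  intro J _ _
  constructor
  intro K
  have : IsIso (limit.post K G) := by
    rw [isIso_iff_stalkSh]
    intro Ω _ _ ξ
    have := h Ω ξ
    have e : (stalkSh ξ).map (limit.post K G) ≫ limit.post (K ⋙ G) (stalkSh ξ) =
        limit.post K (G ⋙ stalkSh ξ) := limit.post_post K G (stalkSh ξ)
    exact IsIso.of_isIso_fac_right e
  exact preservesLimit_of_isIso_post G K

instance preservesFiniteLimits_pullSh {X Y : Scheme.{u}} (f : X ⟶ Y) :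
    PreservesFiniteLimits (EtDesc.pullSh f) :=
  preservesFiniteLimits_of_stalkSh _ fun _ _ _ ξ =>
    preservesFiniteLimits_of_natIso (stalkPullIsoSh f ξ).symm

/-- Inverse image along a surjective morphism reflects isomorphisms. -/
theorem isIso_of_isIso_pullSh {X' X : Scheme.{u}} (f : X' ⟶ X) [Surjective f]
    {F G : EtDesc.Sh X} (a : F ⟶ G) (h : IsIso ((EtDesc.pullSh f).map a)) : IsIso a := by
  choose x' hx' using f.surjective
  let s : ∀ x : X, Spec (CommRingCat.of (SeparableClosure (X'.residueField (x' x)))) ⟶ X :=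
    fun x => EtStalk.geomPtAt X' (x' x) ≫ f
  have hs : ⋃ x, Set.range (s x) = Set.univ := by
    rw [Set.eq_univ_iff_forall]
    intro x
    refine Set.mem_iUnion.mpr ⟨x, default, ?_⟩
    show f ((EtStalk.geomPtAt X' (x' x)) default) = x
    have : (EtStalk.geomPtAt X' (x' x)) default = x' x := by
      simp [EtStalk.geomPtAt, Scheme.SpecToEquivOfField]
    rw [this, hx']
  have hP := Scheme.isConservative_pointSmallEtale s hs
  rw [PointULift.isIso_iff_sheafFiber.{u, u + 1} hP (Type (u + 1)) a]
  rintro ⟨_, ⟨x⟩⟩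
  show IsIso ((stalkSh (EtStalk.geomPtAt X' (x' x) ≫ f)).map a)
  have h3 : IsIso ((EtDesc.pullSh f ⋙ stalkSh (EtStalk.geomPtAt X' (x' x))).map a) := by
    dsimp only [Functor.comp_map]
    infer_instance
  exact (PointULift.isIso_map_iff_of_natIso (stalkPullIsoSh f (EtStalk.geomPtAt X' (x' x))) _).1 h3

theorem pullSh_faithful {X' X : Scheme.{u}} (f : X' ⟶ X) [Surjective f] :
    (EtDesc.pullSh f).Faithful := by
  constructor
  intro F G a b hab
  have h1 : (EtDesc.pullSh f).map (equalizer.ι a b) =
      (PreservesEqualizer.iso (EtDesc.pullSh f) a b).hom ≫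
        equalizer.ι ((EtDesc.pullSh f).map a) ((EtDesc.pullSh f).map b) :=
    (PreservesEqualizer.iso_hom (EtDesc.pullSh f) a b ▸ (equalizerComparison_comp_π a b _)).symm
  have h2 : IsIso (equalizer.ι ((EtDesc.pullSh f).map a) ((EtDesc.pullSh f).map b)) :=
    equalizer.ι_of_eq hab
  have h3 : IsIso ((EtDesc.pullSh f).map (equalizer.ι a b)) := by
    rw [h1]
    infer_instance
  have h4 : IsIso (equalizer.ι a b) := isIso_of_isIso_pullSh f _ h3
  exact eq_of_epi_equalizer

end Groth.Agent.Lib.Helper57.StalkSets
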