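import Groth.Agent.S3164
import Groth.Agent.Lib.Helper13.ARSysAR

set_option autoImplicit false
open CategoryTheory CategoryTheory.Limits Opposite ARSys
universe w v u

noncomputable section

namespace Groth.Agent.Lib.Helper57.ARChain

open Groth.Agent.Lib.Helper13.ARSysARIso Groth.Agent.Lib.Helper13.ARSysBasic
  Groth.Agent.Lib.Helper13.ARSysAR Groth.Agent.Lib.Helper13.ARSysML

variable {C : Type u} [Category.{v} C] [Abelian C]

theorem isStrict_of_iso {X Y : PS C} (e : X ≅ Y) (hX : IsStrict X) : IsStrict Y := by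
  intro n m h
  haveI := hX n m h
  have h1 : tr Y h = e.inv.app (op m) ≫ tr X h ≫ e.hom.app (op n) := by
    rw [tr_naturality e.hom h, ← Category.assoc, ← NatTrans.comp_app, e.inv_hom_id,
      NatTrans.id_app, Category.id_comp]
  rw [h1]
  infer_instance

theorem chain_arIso {A : Type w} [CommRing A] [IsNoetherianRing A] [Linear A C]
    (J : Ideal A) (X : PS C) (hX : IsAdicNoeth J X) (Z : ℕ →o Subobject X)
    (hZ : ∀ k : ℕ, IsMLAR (Subobject.underlying.obj (Z k) : PS C)) :
    ∃ k₀ : ℕ, ∀ k : ℕ, k₀ ≤ k →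
      IsARIso (Subobject.ofLE (Z k) (Z (k + 1)) (Z.monotone (Nat.le_succ k))) := by
  choose W u hu hW hc r hr using fun k => exists_strict_of_isMLAR _ (hZ k)
  have him1 : ∀ k n s, r k ≤ s → ImLE ((u k).app (op n))
      (shiftMap (Subobject.underlying.obj (Z k) : PS C) s n) :=
    fun k n s hs => ((imageSubobject_eq_iff _ _).1 (hr k s hs n)).1
  have him2 : ∀ k n s, r k ≤ s → ImLE
      (shiftMap (Subobject.underlying.obj (Z k) : PS C) s n) ((u k).app (op n)) :=
    fun k n s hs => ((imageSubobject_eq_iff _ _).1 (hr k s hs n)).2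
  let ι : ∀ k, (Subobject.underlying.obj (Z k) : PS C) ⟶
      (Subobject.underlying.obj (Z (k + 1)) : PS C) :=
    fun k => Subobject.ofLE (Z k) (Z (k + 1)) (Z.monotone (Nat.le_succ k))
  have hι : ∀ k, ι k ≫ (Z (k + 1)).arrow = (Z k).arrow := fun k => Subobject.ofLE_arrow _
  have hlift : ∀ k, ∃ t : W k ⟶ W (k + 1), t ≫ u (k + 1) = u k ≫ ι k := by
    intro k
    haveI := hu (k + 1)
    refine ImLE.exists_lift (f := u k ≫ ι k) (f' := u (k + 1)) ?_ (𝟙 _) (u (k + 1))
      (Category.id_comp _)
    intro T h hh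
    apply NatTrans.ext
    funext x
    obtain ⟨n⟩ := x
    have hh' : (u (k + 1)).app (op n) ≫ h.app (op n) = 0 := by
      have := congrArg (fun t => t.app (op n)) hh
      simpa using this
    let s := max (r k) (r (k + 1))
    have a1 := him1 k n s (le_max_left _ _)
    have a2 := a1.comp_right ((ι k).app (op n))
    have a3 : shiftMap (Subobject.underlying.obj (Z k) : PS C) s n ≫ (ι k).app (op n) =
        (ι k).app (op (n + s)) ≫ shiftMap (Subobject.underlying.obj (Z (k + 1)) : PS C) s n :=
      tr_naturality (ι k) (Nat.le_add_right n s)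
    rw [a3] at a2
    have a4 := him2 (k + 1) n s (le_max_right _ _)
    have a5 := (a2.trans (ImLE.comp_left _ _)).trans a4
    have a6 := a5 (h.app (op n)) hh'
    simpa using a6
  choose t ht using hlift
  haveI : ∀ k, Mono (u k) := hu
  let U : ℕ →o Subobject X :=
    { toFun := fun k => Subobject.mk (u k ≫ (Z k).arrow)
      monotone' := by
        apply monotone_nat_of_le_succ
        intro k
        refine Subobject.mk_le_mk_of_comm (t k) ?_
        rw [← Category.assoc, ht, Category.assoc, hι] }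
  have hUs : ∀ k, IsStrict (Subobject.underlying.obj (U k) : PS C) := by
    intro k
    exact isStrict_of_iso (Subobject.underlyingIso (u k ≫ (Z k).arrow)).symm (hW k)
  obtain ⟨k₀, hk₀⟩ := Groth.Agent.S3164.result J X hX U hUs
  refine ⟨k₀, fun k hk => ?_⟩
  refine ⟨isARNull_kernel_of_mono _, ?_⟩
  have hle : U (k + 1) ≤ Z k := by
    rw [hk₀ (k + 1) (by omega), ← hk₀ k hk]
    exact Subobject.mk_le_of_comm (u k) rfl
  have hfac : (Z k).Factors (u (k + 1) ≫ (Z (k + 1)).arrow) :=
    Subobject.factors_of_le _ hle (Subobject.mk_factors_self _)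
  let t' := (Z k).factorThru _ hfac
  have ht' : t' ≫ ι k = u (k + 1) := by
    rw [← cancel_mono (Z (k + 1)).arrow, Category.assoc, hι, Subobject.factorThru_arrow]
  have h0 : u (k + 1) ≫ cokernel.π (ι k) = 0 := by
    rw [← ht', Category.assoc, cokernel.condition, comp_zero]
  let d := cokernel.desc (u (k + 1)) (cokernel.π (ι k)) h0
  have hd : cokernel.π (u (k + 1)) ≫ d = cokernel.π (ι k) := cokernel.π_desc _ _ _
  haveI : Epi d := epi_of_epi_fac hd
  exact isARNull_of_epi d (hc (k + 1))

end Groth.Agent.Lib.Helper57.ARChain
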