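import Groth.Agent.Lib.Helper57.ARLim

set_option autoImplicit false
open CategoryTheory CategoryTheory.Limits Opposite
universe u v₁ v₂ u₁ u₂ w

noncomputable section

namespace Groth.Agent.Lib.Helper57.ARCrit

open Groth.Agent.Lib.Helper57.ARPull Groth.Agent.Lib.Helper57.ARLim

section Quot

variable {R : Type w} [CommRing R] {C : Type u₁} [Category.{v₁} C] [Abelian C] [Linear R C]

theorem isQuot_bot (X : C) : ARSys.IsQuot (⊥ : Ideal R) (𝟙 X) := by
  refine ⟨fun a ha => ?_, fun Y φ _ => ⟨φ, Category.id_comp _, fun ψ hψ => ?_⟩⟩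
  · rw [(Submodule.mem_bot R).1 ha, zero_smul]
  · rw [← hψ, Category.id_comp]

/-- adjoining one generator: quotient further by the cokernel of multiplication by `a` -/
theorem isQuot_insert (S : Set R) (a : R) {X Q : C} (p : X ⟶ Q)
    (hp : ARSys.IsQuot (Ideal.span S) p) :
    ARSys.IsQuot (Ideal.span (insert a S)) (p ≫ cokernel.π (a • 𝟙 Q)) := by
  haveI : Epi p := epi_of_isQuot _ _ hp
  let p₂ := cokernel.π (a • 𝟙 Q)
  have hcomm : ∀ c : R, p₂ ≫ (c • 𝟙 (cokernel (a • 𝟙 Q))) = (c • 𝟙 Q) ≫ p₂ := by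
    intro c
    rw [Linear.comp_smul, Linear.smul_comp, Category.comp_id, Category.id_comp]
  refine ⟨fun c hc => ?_, fun Y φ hφ => ?_⟩
  · refine Submodule.span_induction (p := fun c _ => c • 𝟙 (cokernel (a • 𝟙 Q)) = 0)
      ?_ ?_ ?_ ?_ hc
    · intro x hx
      rw [← cancel_epi p₂, hcomm, comp_zero]
      rcases hx with rfl | hx
      · exact cokernel.condition _
      · rw [hp.1 x (Ideal.subset_span hx), zero_comp]
    · rw [zero_smul]
    · intro x y _ _ hx hy
      rw [add_smul, hx, hy, add_zero]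
    · intro t x _ hx
      rw [smul_eq_mul, mul_smul, hx, smul_zero]
  · have hφ' : ARSys.HomKilledBy (Ideal.span S) φ := fun c hc =>
      hφ c (Ideal.span_mono (Set.subset_insert a S) hc)
    obtain ⟨ψ₁, hψ₁, huniq₁⟩ := hp.2 Y φ hφ'
    have h0 : (a • 𝟙 Q) ≫ ψ₁ = 0 := by
      rw [← cancel_epi p, comp_zero, Linear.smul_comp, Category.id_comp, Linear.comp_smul, hψ₁]
      exact hφ a (Ideal.subset_span (Set.mem_insert a S))
    refine ⟨cokernel.desc _ ψ₁ h0, ?_, ?_⟩
    · change (p ≫ cokernel.π (a • 𝟙 Q)) ≫ cokernel.desc _ ψ₁ h0 = φ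
      rw [Category.assoc, cokernel.π_desc, hψ₁]
    · intro χ hχ
      rw [← cancel_epi (cokernel.π (a • 𝟙 Q)), ← cancel_epi p, cokernel.π_desc, hψ₁]
      rw [← hχ, Category.assoc]

/-- existence of quotients modulo finitely generated ideals, tracking a property closed under
cokernels of endomorphisms -/
theorem exists_isQuot_of_fg (P : C → Prop)
    (hP : ∀ (Q : C) (f : Q ⟶ Q), P Q → P (cokernel f)) (J : Ideal R) (hJ : J.FG) (X : C)
    (hX : P X) : ∃ (Q : C) (p : X ⟶ Q), P Q ∧ ARSys.IsQuot J p := by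
  classical
  obtain ⟨s, rfl⟩ := hJ
  induction s using Finset.induction_on with
  | empty =>
    refine ⟨X, 𝟙 X, hX, ?_⟩
    rw [Finset.coe_empty, Ideal.span_empty] -- span ∅ = ⊥
    exact isQuot_bot X
  | insert a s _ ih =>
    obtain ⟨Q, p, hQ, hp⟩ := ih
    refine ⟨_, p ≫ cokernel.π (a • 𝟙 Q), hP _ _ hQ, ?_⟩
    rw [Finset.coe_insert]
    exact isQuot_insert _ a p hp

end Quot

section Crit

variable {R : Type w} [CommRing R] {C : Type u₁} [Category.{v₁} C] [Abelian C] [Linear R C]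

theorem map_eq_of_le (X : ARSys.PS C) {a b : ℕᵒᵖ} (f g : a ⟶ b) : X.map f = X.map g := by
  rw [Subsingleton.elim f g]

/-- the canonical map `X[r] ⟶ X` -/
def sigma (r : ℕ) (X : ARSys.PS C) : (ARSys.shift C r).obj X ⟶ X where
  app n := X.map (homOfLE (Nat.le_add_right n.unop r)).op
  naturality a b f := by
    change X.map _ ≫ X.map _ = X.map _ ≫ X.map _
    rw [← X.map_comp, ← X.map_comp]
    exact map_eq_of_le X _ _

theorem sigma_app (r : ℕ) (X : ARSys.PS C) (n : ℕ) :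
    (sigma r X).app (op n) = ARSys.shiftMap X r n := rfl

structure PreCrit (J : Ideal R) (r r' : ℕ) (F : ARSys.PS C) where
  Z : ARSys.PS C
  ι : Z ⟶ F
  π : (ARSys.shift C r).obj F ⟶ Z
  fac : π ≫ ι = sigma r F
  mono : ∀ n : ℕᵒᵖ, Mono (ι.app n)
  epi : ∀ n : ℕᵒᵖ, Epi (π.app n)
  G : ARSys.PS C
  q : (ARSys.shift C r').obj Z ⟶ G
  isQuot : ∀ n : ℕᵒᵖ, ARSys.IsQuot (J ^ (n.unop + 1)) (q.app n)

variable {J : Ideal R} {r r' : ℕ} {F : ARSys.PS C}

theorem PreCrit.epi_q (D : PreCrit J r r' F) (n : ℕᵒᵖ) : Epi (D.q.app n) :=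
  epi_of_isQuot _ _ (D.isQuot n)

theorem PreCrit.termKilled_G (D : PreCrit J r r' F) : ARSys.TermKilled J D.G :=
  fun n => (D.isQuot (op n)).1

/-- the comparison map `G ⟶ F` of a pre-criterion datum (needs `F` termwise killed) -/
theorem PreCrit.exists_v (D : PreCrit J r r' F) (hF : ARSys.TermKilled J F) :
    ∃ v : D.G ⟶ F, D.q ≫ v = sigma r' D.Z ≫ D.ι := by
  have hk : ∀ n : ℕᵒᵖ, ARSys.HomKilledBy (J ^ (n.unop + 1)) ((sigma r' D.Z ≫ D.ι).app n) := by
    intro n a ha
    have : a • (sigma r' D.Z ≫ D.ι).app n = (sigma r' D.Z ≫ D.ι).app n ≫ (a • 𝟙 (F.obj n)) := by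
      rw [Linear.comp_smul, Category.comp_id]
    rw [this, hF n.unop a ha, comp_zero]
  choose v hv huniq using fun n : ℕᵒᵖ => (D.isQuot n).2 _ _ (hk n)
  refine ⟨{ app := v, naturality := ?_ }, ?_⟩
  · intro a b f
    haveI := D.epi_q a
    rw [← cancel_epi (D.q.app a)]
    have h1 := D.q.naturality f
    have h2 := (sigma r' D.Z ≫ D.ι).naturality f
    rw [← Category.assoc, ← h1, Category.assoc, hv b, ← Category.assoc, hv a]
    exact h2
  · ext n
    exact hv n

theorem tr_zero_congr (X : ARSys.PS C) {n m m' : ℕ} (e : m = m') (h : n ≤ m) (h' : n ≤ m')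
    (hz : ARSys.tr X h = 0) : ARSys.tr X h' = 0 := by
  subst e
  exact hz

/-- explicit components -/
def PreCrit.qn (D : PreCrit J r r' F) (n : ℕ) : D.Z.obj (op (n + r')) ⟶ D.G.obj (op n) :=
  D.q.app (op n)

def PreCrit.πn (D : PreCrit J r r' F) (n : ℕ) : F.obj (op (n + r)) ⟶ D.Z.obj (op n) :=
  D.π.app (op n)

theorem PreCrit.qn_nat (D : PreCrit J r r' F) {n m : ℕ} (h : n ≤ m) :
    D.Z.map (homOfLE (Nat.add_le_add_right h r')).op ≫ D.qn n =
      D.qn m ≫ D.G.map (homOfLE h).op :=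
  D.q.naturality (homOfLE h).op

theorem PreCrit.πn_nat (D : PreCrit J r r' F) {n m : ℕ} (h : n ≤ m) :
    F.map (homOfLE (Nat.add_le_add_right h r)).op ≫ D.πn n =
      D.πn m ≫ D.Z.map (homOfLE h).op :=
  D.π.naturality (homOfLE h).op

theorem PreCrit.fac_n (D : PreCrit J r r' F) (n : ℕ) :
    D.πn n ≫ D.ι.app (op n) = F.map (homOfLE (Nat.le_add_right n r)).op :=
  congrArg (fun t => t.app (op n)) D.fac

theorem PreCrit.epi_qn (D : PreCrit J r r' F) (n : ℕ) : Epi (D.qn n) := D.epi_q (op n)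

theorem PreCrit.epi_πn (D : PreCrit J r r' F) (n : ℕ) : Epi (D.πn n) := D.epi (op n)

theorem PreCrit.isQuot_qn (D : PreCrit J r r' F) (n : ℕ) :
    ARSys.IsQuot (J ^ (n + 1)) (D.qn n) := D.isQuot (op n)

theorem PreCrit.v_n (D : PreCrit J r r' F) (v : D.G ⟶ F)
    (hv : D.q ≫ v = sigma r' D.Z ≫ D.ι) (n : ℕ) :
    D.qn n ≫ v.app (op n) = D.Z.map (homOfLE (Nat.le_add_right n r')).op ≫ D.ι.app (op n) :=
  congrArg (fun t => t.app (op n)) hv

theorem PreCrit.kernel_null (D : PreCrit J r r' F) (v : D.G ⟶ F)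
    (hv : D.q ≫ v = sigma r' D.Z ≫ D.ι) : ARSys.IsARNull (kernel v) := by
  refine ⟨r', fun n => ?_⟩
  have hmono : Mono ((kernel.ι v).app (op n)) := inferInstance
  change (kernel v).map (homOfLE (Nat.le_add_right n r')).op = 0
  rw [← cancel_mono ((kernel.ι v).app (op n)), zero_comp, (kernel.ι v).naturality]
  set a := (kernel.ι v).app (op (n + r')) with ha
  have ha0 : a ≫ v.app (op (n + r')) = 0 := by
    rw [ha, ← NatTrans.comp_app, kernel.condition, zero_app]
  haveI := D.epi_qn (n + r')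
  haveI : Epi (pullback.fst a (D.qn (n + r'))) := Abelian.epi_pullback_of_epi_g _ _
  rw [← cancel_epi (pullback.fst a (D.qn (n + r'))), comp_zero, ← Category.assoc,
    pullback.condition, Category.assoc, ← D.qn_nat (Nat.le_add_right n r')]
  have h0 : pullback.snd a (D.qn (n + r')) ≫
      D.Z.map (homOfLE (Nat.add_le_add_right (Nat.le_add_right n r') r')).op = 0 := by
    haveI := D.mono (op (n + r'))
    rw [← cancel_mono (D.ι.app (op (n + r'))), zero_comp, Category.assoc]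
    have h1 : D.Z.map (homOfLE (Nat.add_le_add_right (Nat.le_add_right n r') r')).op ≫
        D.ι.app (op (n + r')) = D.qn (n + r') ≫ v.app (op (n + r')) := by
      rw [D.v_n v hv (n + r')]
    rw [h1, ← Category.assoc, ← pullback.condition, Category.assoc, ha0, comp_zero]
  rw [← Category.assoc, h0, zero_comp]

theorem PreCrit.cokernel_null (D : PreCrit J r r' F) (v : D.G ⟶ F)
    (hv : D.q ≫ v = sigma r' D.Z ≫ D.ι) : ARSys.IsARNull (cokernel v) := by
  refine ⟨r' + r, fun n => ?_⟩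
  refine tr_zero_congr (cokernel v) (Nat.add_assoc n r' r) (by omega) _ ?_
  change (cokernel v).map (homOfLE (show n ≤ n + r' + r by omega)).op = 0
  haveI : Epi ((cokernel.π v).app (op (n + r' + r))) := inferInstance
  rw [← cancel_epi ((cokernel.π v).app (op (n + r' + r))), comp_zero,
    ← (cokernel.π v).naturality]
  have hfac : F.map (homOfLE (show n ≤ n + r' + r by omega)).op =
      D.πn (n + r') ≫ D.qn n ≫ v.app (op n) := by
    rw [D.v_n v hv n, ← Category.assoc, ← D.πn_nat (Nat.le_add_right n r'), Category.assoc,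
      D.fac_n n, ← F.map_comp]
    exact map_eq_of_le F _ _
  have hvc : v.app (op n) ≫ (cokernel.π v).app (op n) = 0 := by
    rw [← NatTrans.comp_app, cokernel.condition, zero_app]
  rw [hfac, Category.assoc, Category.assoc, hvc, comp_zero, comp_zero]

theorem PreCrit.arAdic (D : PreCrit J r r' F) (hF : ARSys.TermKilled J F)
    (hG : ARSys.IsAdic J D.G) :
    ∃ (Y : ARSys.PS C) (v : Y ⟶ F), ARSys.IsAdic J Y ∧ ARSys.IsARIso v ∧ Y = D.G := by
  obtain ⟨v, hv⟩ := D.exists_v hF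
  exact ⟨D.G, v, hG, ⟨D.kernel_null v hv, D.cokernel_null v hv⟩, rfl⟩

end Crit

end Groth.Agent.Lib.Helper57.ARCrit
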