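import Groth.Agent.Lib.Helper57.ARCrit1

set_option autoImplicit false
open CategoryTheory CategoryTheory.Limits Opposite
universe u v₁ v₂ u₁ u₂ w

noncomputable section

namespace Groth.Agent.Lib.Helper57.ARCrit

open Groth.Agent.Lib.Helper57.ARPull Groth.Agent.Lib.Helper57.ARLim

section Exist

variable {R : Type w} [CommRing R] {C : Type u₁} [Category.{v₁} C] [Abelian C] [Linear R C]

theorem prop_of_epi_mono (P : C → Prop) (hPiso : ∀ {A B : C}, (A ≅ B) → P A → P B)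
    (hPk : ∀ {A B : C} (f : A ⟶ B), P A → P B → P (kernel f))
    (hPc : ∀ {A B : C} (f : A ⟶ B), P A → P B → P (cokernel f))
    {A B Z : C} (e : A ⟶ Z) [Epi e] (m : Z ⟶ B) [Mono m] (hA : P A) (hB : P B) : P Z := by
  have h1 : P (Abelian.image (e ≫ m)) := hPk _ hB (hPc _ hA hB)
  haveI : StrongEpi e := strongEpi_of_epi e
  have i1 : Z ≅ Limits.image (e ≫ m) := image.isoStrongEpiMono e m rfl
  exact hPiso (Abelian.imageIsoImage (e ≫ m) ≪≫ i1.symm) h1

theorem homKilledBy_of_le {I I' : Ideal R} (h : I' ≤ I) {X Y : C} (φ : X ⟶ Y)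
    (hφ : ARSys.HomKilledBy I φ) : ARSys.HomKilledBy I' φ := fun a ha => hφ a (h ha)

theorem homKilledBy_comp_of_killedBy {I : Ideal R} {X Y : C} (φ : X ⟶ Y)
    (hY : ARSys.KilledBy I Y) : ARSys.HomKilledBy I φ := by
  intro a ha
  have : a • φ = φ ≫ (a • 𝟙 Y) := by rw [Linear.comp_smul, Category.comp_id]
  rw [this, hY a ha, comp_zero]

theorem exists_preCrit (P : C → Prop) (hPiso : ∀ {A B : C}, (A ≅ B) → P A → P B)
    (hPk : ∀ {A B : C} (f : A ⟶ B), P A → P B → P (kernel f))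
    (hPc : ∀ {A B : C} (f : A ⟶ B), P A → P B → P (cokernel f))
    (J : Ideal R) (hJ : J.FG) (r r' : ℕ) (F : ARSys.PS C) (hF : ∀ n : ℕ, P (F.obj (op n))) :
    ∃ D : PreCrit J r r' F, (∀ n : ℕ, P (D.Z.obj (op n))) ∧ ∀ n : ℕ, P (D.G.obj (op n)) := by
  -- the image system
  let Z : ARSys.PS C := Abelian.image (sigma r F)
  let ι : Z ⟶ F := Abelian.image.ι (sigma r F)
  let π : (ARSys.shift C r).obj F ⟶ Z := Abelian.factorThruImage (sigma r F)
  have fac : π ≫ ι = sigma r F := Abelian.image.fac (sigma r F)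
  have hmono : ∀ n : ℕᵒᵖ, Mono (ι.app n) := fun n => inferInstance
  have hepi : ∀ n : ℕᵒᵖ, Epi (π.app n) := fun n => inferInstance
  have hZ : ∀ n : ℕ, P (Z.obj (op n)) := by
    intro n
    haveI := hmono (op n)
    haveI := hepi (op n)
    exact prop_of_epi_mono P hPiso hPk hPc (π.app (op n)) (ι.app (op n)) (hF (n + r)) (hF n)
  -- levelwise quotients
  have hq : ∀ n : ℕ, ∃ (Q : C) (p : Z.obj (op (n + r')) ⟶ Q), P Q ∧
      ARSys.IsQuot (J ^ (n + 1)) p := fun n =>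
    exists_isQuot_of_fg P (fun Q f hQ => hPc f hQ hQ) _ (hJ.pow (n := n + 1)) _ (hZ (n + r'))
  choose Gobj qmap hGP hGq using hq
  have hk : ∀ n : ℕ, ARSys.HomKilledBy (J ^ (n + 1 + 1))
      (Z.map (homOfLE (Nat.add_le_add_right (Nat.le_succ n) r')).op ≫ qmap n) := fun n =>
    homKilledBy_of_le (Ideal.pow_le_pow_right (Nat.le_succ (n + 1))) _
      (homKilledBy_comp_of_killedBy _ (hGq n).1)
  choose t ht _ using fun n : ℕ => (hGq (n + 1)).2 _ _ (hk n)
  let G : ARSys.PS C := Functor.ofOpSequence t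
  let q : (ARSys.shift C r').obj Z ⟶ G := NatTrans.ofOpSequence (fun n => qmap n) (by
    intro n
    rw [Functor.ofOpSequence_map_homOfLE_succ]
    exact (ht n).symm)
  exact ⟨⟨Z, ι, π, fac, hmono, hepi, G, q, fun n => hGq n.unop⟩, hZ, hGP⟩

end Exist

section Map

open Groth.Agent.Lib.Helper57.ARStalk

variable {R : Type w} [CommRing R] {C : Type u₁} [Category.{v₁} C] [Abelian C] [Linear R C]
  {D : Type u₂} [Category.{v₂} D] [Abelian D] [Linear R D]
  {Φ : C ⥤ D} {Ψ : D ⥤ C} (adj : Φ ⊣ Ψ) [Φ.Additive] [Φ.Linear R] [PreservesFiniteLimits Φ]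
  [PreservesFiniteColimits Φ]

/-- apply an exact linear left adjoint to a pre-criterion datum -/
def PreCrit.map {J : Ideal R} {r r' : ℕ} {F : ARSys.PS C} (E : PreCrit J r r' F) :
    PreCrit J r r' (F ⋙ Φ) where
  Z := E.Z ⋙ Φ
  ι := Functor.whiskerRight E.ι Φ
  π := (Functor.whiskerRight E.π Φ : ((ARSys.shift C r).obj F) ⋙ Φ ⟶ E.Z ⋙ Φ)
  fac := by
    ext n
    have := congrArg (fun t => Φ.map (t.app n)) E.fac
    simp only [NatTrans.comp_app, Functor.map_comp] at this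
    exact this
  mono n := by
    haveI := E.mono n
    exact inferInstanceAs (Mono (Φ.map (E.ι.app n)))
  epi n := by
    haveI := E.epi n
    exact inferInstanceAs (Epi (Φ.map (E.π.app n)))
  G := E.G ⋙ Φ
  q := (Functor.whiskerRight E.q Φ : ((ARSys.shift C r').obj E.Z) ⋙ Φ ⟶ E.G ⋙ Φ)
  isQuot n := isQuot_map' adj _ _ (E.isQuot n)

end Map

end Groth.Agent.Lib.Helper57.ARCrit
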