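import Groth.Agent.Lib.Helper57.ARCrit2

set_option autoImplicit false
open CategoryTheory CategoryTheory.Limits Opposite
universe u v₁ v₂ u₁ u₂ w

noncomputable section

namespace Groth.Agent.Lib.Helper57.ARCrit

open Groth.Agent.Lib.Helper57.ARPull Groth.Agent.Lib.Helper57.ARLim

section General

variable {R : Type w} [CommRing R] {C : Type u₁} [Category.{v₁} C] [Abelian C] [Linear R C]

/-- AR-adic with an explicit bound for the shifts killing kernel and cokernel -/
def ARAdicB (J : Ideal R) (r₁ : ℕ) (F : ARSys.PS C) : Prop :=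
  ∃ (Y : ARSys.PS C) (u : Y ⟶ F), ARSys.IsAdic J Y ∧
    (∀ n, ARSys.shiftMap (kernel u) r₁ n = 0) ∧ (∀ n, ARSys.shiftMap (cokernel u) r₁ n = 0)

theorem map_zero_of_shift (X : ARSys.PS C) {r₁ : ℕ} (h0 : ∀ n, ARSys.shiftMap X r₁ n = 0)
    {n m : ℕ} (h : n + r₁ ≤ m) :
    X.map (homOfLE (show n ≤ m by omega)).op = 0 := by
  have h1 : X.map (homOfLE (show n ≤ m by omega)).op =
      X.map (homOfLE h).op ≫ X.map (homOfLE (Nat.le_add_right n r₁)).op := by
    rw [← X.map_comp]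
    exact map_eq_of_le X _ _
  have h2 : X.map (homOfLE (Nat.le_add_right n r₁)).op = 0 := h0 n
  rw [h1, h2, comp_zero]

theorem isQuot_iso_comp' (I : Ideal R) {X' X Q : C} (e : X' ≅ X) {p : X ⟶ Q}
    (hp : ARSys.IsQuot I p) : ARSys.IsQuot I (e.hom ≫ p) := by
  refine ⟨hp.1, fun Y φ hφ => ?_⟩
  have hφ' : ARSys.HomKilledBy I (e.inv ≫ φ) := by
    intro a ha
    rw [← Linear.comp_smul, hφ a ha, comp_zero]
  obtain ⟨ψ, hψ, huniq⟩ := hp.2 Y _ hφ'
  refine ⟨ψ, ?_, fun χ hχ => huniq χ ?_⟩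
  · change (e.hom ≫ p) ≫ ψ = φ
    rw [Category.assoc, hψ, Iso.hom_inv_id_assoc]
  · change p ≫ χ = e.inv ≫ φ
    rw [← hχ, Category.assoc, Iso.inv_hom_id_assoc]

theorem isQuot_comp_iso' (I : Ideal R) {X Q Q' : C} (e : Q ≅ Q') {p : X ⟶ Q}
    (hp : ARSys.IsQuot I p) : ARSys.IsQuot I (p ≫ e.hom) := by
  refine ⟨fun a ha => ?_, fun Y φ hφ => ?_⟩
  · have : a • 𝟙 Q' = e.inv ≫ (a • 𝟙 Q) ≫ e.hom := by
      rw [Linear.smul_comp, Linear.comp_smul, Category.id_comp, Iso.inv_hom_id]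
    rw [this, hp.1 a ha, zero_comp, comp_zero]
  · obtain ⟨ψ, hψ, huniq⟩ := hp.2 Y φ hφ
    refine ⟨e.inv ≫ ψ, ?_, fun χ hχ => ?_⟩
    · change (p ≫ e.hom) ≫ e.inv ≫ ψ = φ
      rw [Category.assoc, Iso.hom_inv_id_assoc, hψ]
    · have := huniq (e.hom ≫ χ) (by rw [← hχ, Category.assoc])
      rw [← this, Iso.inv_hom_id_assoc]

end General

section Mod

variable {Λ : Type w} [CommRing Λ]

/-- in `ModuleCat`, the kernel of a quotient map modulo `I` is `I • ⊤` -/
theorem mem_smul_top_of_isQuot (I : Ideal Λ) {Z Q : ModuleCat.{v₁} Λ} (p : Z ⟶ Q)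
    (hp : ARSys.IsQuot I p) (z : Z) (hz : p z = 0) : z ∈ (I • ⊤ : Submodule Λ Z) := by
  let N : Submodule Λ Z := I • ⊤
  let φ : Z ⟶ ModuleCat.of Λ (Z ⧸ N) := ModuleCat.ofHom N.mkQ
  have hφ : ARSys.HomKilledBy I φ := by
    intro a ha
    ext x
    change a • N.mkQ x = 0
    rw [← map_smul, Submodule.mkQ_apply, Submodule.Quotient.mk_eq_zero]
    exact Submodule.smul_mem_smul ha Submodule.mem_top
  obtain ⟨ψ, hψ, -⟩ := hp.2 _ φ hφ
  have h1 : φ z = ψ (p z) := by
    rw [← hψ]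
    rfl
  rw [hz, map_zero] at h1
  exact (Submodule.Quotient.mk_eq_zero N).1 h1

theorem capp {A B C : ModuleCat.{v₁} Λ} (f : A ⟶ B) (g : B ⟶ C) (x : A) :
    (f ≫ g) x = g (f x) := rfl

theorem eq_app {A B : ModuleCat.{v₁} Λ} {f g : A ⟶ B} (h : f = g) (x : A) : f x = g x := by
  rw [h]

theorem zapp {A B : ModuleCat.{v₁} Λ} (x : A) : (0 : A ⟶ B) x = 0 := rfl

set_option maxHeartbeats 800000 in
theorem isAdic_G_of_arAdicB (J : Ideal Λ) {r r' r₁ : ℕ} (h1 : r₁ ≤ r) (h2 : r₁ ≤ r')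
    (F : ARSys.PS (ModuleCat.{v₁} Λ)) (D : PreCrit J r r' F) (hF : ARAdicB J r₁ F) :
    ARSys.IsAdic J D.G := by
  obtain ⟨G₀, u, hG₀, hK, hC⟩ := hF
  refine ⟨D.termKilled_G, ?_⟩
  have hsurj : ∀ {n m : ℕ} (h : n ≤ m), Function.Surjective (G₀.map (homOfLE h).op) := by
    intro n m h
    haveI : Epi (G₀.map (homOfLE h).op) := epi_of_isQuot _ _ (hG₀.2 n m h)
    exact (ModuleCat.epi_iff_surjective _).1 inferInstance
  -- exactness of kernel and cokernel sequences, levelwise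
  have hker : ∀ (m : ℕ) (x : G₀.obj (op m)), u.app (op m) x = 0 →
      ∃ k : (kernel u).obj (op m), (kernel.ι u).app (op m) k = x := by
    intro m x hx
    let S : ShortComplex (ARSys.PS (ModuleCat.{v₁} Λ)) :=
      ShortComplex.mk (kernel.ι u) u (kernel.condition u)
    have hS : S.Exact := S.exact_of_f_is_kernel (kernelIsKernel u)
    have hS' : (S.map ((evaluation ℕᵒᵖ (ModuleCat.{v₁} Λ)).obj (op m))).Exact := hS.map _
    exact (ShortComplex.moduleCat_exact_iff _).1 hS' _ hx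
  have hcok : ∀ (m : ℕ) (y : F.obj (op m)), (cokernel.π u).app (op m) y = 0 →
      ∃ x : G₀.obj (op m), u.app (op m) x = y := by
    intro m y hy
    let S : ShortComplex (ARSys.PS (ModuleCat.{v₁} Λ)) :=
      ShortComplex.mk u (cokernel.π u) (cokernel.condition u)
    have hS : S.Exact := S.exact_of_g_is_cokernel (cokernelIsCokernel u)
    have hS' : (S.map ((evaluation ℕᵒᵖ (ModuleCat.{v₁} Λ)).obj (op m))).Exact := hS.map _
    exact (ShortComplex.moduleCat_exact_iff _).1 hS' _ hy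
  -- the image of `ι` is the image of `u`
  have hb : ∀ (n : ℕ) (z : D.Z.obj (op n)), ∃ x : G₀.obj (op n),
      u.app (op n) x = D.ι.app (op n) z := by
    intro n z
    haveI := D.epi_πn n
    obtain ⟨y, rfl⟩ := (ModuleCat.epi_iff_surjective _).1 (D.epi_πn n) z
    have e1 : D.ι.app (op n) (D.πn n y) = F.map (homOfLE (Nat.le_add_right n r)).op y := by
      rw [← capp, D.fac_n n]
    rw [e1]
    apply hcok
    have e2 := (cokernel.π u).naturality (homOfLE (Nat.le_add_right n r)).op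
    rw [← capp, e2, capp]
    have e3 : (cokernel u).map (homOfLE (Nat.le_add_right n r)).op = 0 :=
      map_zero_of_shift (cokernel u) hC (show n + r₁ ≤ n + r by omega)
    rw [e3, zapp]
  have hb' : ∀ (n : ℕ) (x : G₀.obj (op n)), ∃ z : D.Z.obj (op n),
      D.ι.app (op n) z = u.app (op n) x := by
    intro n x
    obtain ⟨x', rfl⟩ := hsurj (Nat.le_add_right n r) x
    refine ⟨D.πn n (u.app (op (n + r)) x'), ?_⟩
    rw [← capp, D.fac_n n, ← capp, ← capp, u.naturality]
  -- the lift `α : G₀ → Z`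
  have hα0 : ∀ m : ℕ, u.app (op m) ≫ cokernel.π (D.ι.app (op m)) = 0 := by
    intro m
    ext x
    obtain ⟨z, hz⟩ := hb' m x
    rw [capp, ← hz, ← capp, cokernel.condition]
    rfl
  haveI hmono : ∀ m : ℕ, Mono (D.ι.app (op m)) := fun m => D.mono (op m)
  let α : ∀ m : ℕ, G₀.obj (op m) ⟶ D.Z.obj (op m) := fun m =>
    Abelian.monoLift (D.ι.app (op m)) (u.app (op m)) (hα0 m)
  have hα : ∀ m : ℕ, α m ≫ D.ι.app (op m) = u.app (op m) := fun m =>
    Abelian.monoLift_comp _ _ _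
  have hιinj : ∀ m : ℕ, Function.Injective (D.ι.app (op m)) := fun m =>
    (ModuleCat.mono_iff_injective _).1 (hmono m)
  have hαsurj : ∀ m : ℕ, Function.Surjective (α m) := by
    intro m z
    obtain ⟨x, hx⟩ := hb m z
    refine ⟨x, hιinj m ?_⟩
    rw [← capp, hα m, hx]
  have hαnat : ∀ {n m : ℕ} (h : n ≤ m),
      α m ≫ D.Z.map (homOfLE h).op = G₀.map (homOfLE h).op ≫ α n := by
    intro n m h
    rw [← cancel_mono (D.ι.app (op n)), Category.assoc, Category.assoc, hα n,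
      D.ι.naturality, ← Category.assoc, hα m, u.naturality]
  -- kernel of `α` dies under `r'` transition steps
  have hαker : ∀ (n : ℕ) (x' : G₀.obj (op (n + r'))), α (n + r') x' = 0 →
      G₀.map (homOfLE (Nat.le_add_right n r')).op x' = 0 := by
    intro n x' hx'
    have hu : u.app (op (n + r')) x' = 0 := by
      rw [← hα (n + r'), capp, hx', map_zero]
    obtain ⟨k, rfl⟩ := hker (n + r') x' hu
    rw [← capp, ← (kernel.ι u).naturality, capp]
    have e3 : (kernel u).map (homOfLE (Nat.le_add_right n r')).op = 0 :=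
      map_zero_of_shift (kernel u) hK (show n + r₁ ≤ n + r' by omega)
    rw [e3, zapp, map_zero]
  -- β and θ
  let β : ∀ n : ℕ, G₀.obj (op (n + r')) ⟶ D.G.obj (op n) := fun n => α (n + r') ≫ D.qn n
  have hβk : ∀ n : ℕ, ARSys.HomKilledBy (J ^ (n + 1)) (β n) := fun n =>
    homKilledBy_comp_of_killedBy _ (D.isQuot_qn n).1
  choose θ hθ _ using fun n : ℕ => (hG₀.2 n (n + r') (Nat.le_add_right n r')).2 _ (β n) (hβk n)
  replace hθ : ∀ n : ℕ, G₀.map (homOfLE (Nat.le_add_right n r')).op ≫ θ n = β n := hθ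
  have hqsurj : ∀ n : ℕ, Function.Surjective (D.qn n) := fun n =>
    (ModuleCat.epi_iff_surjective _).1 (D.epi_qn n)
  have hθsurj : ∀ n : ℕ, Function.Surjective (θ n) := by
    intro n g
    obtain ⟨z, rfl⟩ := hqsurj n g
    obtain ⟨x', rfl⟩ := hαsurj (n + r') z
    refine ⟨G₀.map (homOfLE (Nat.le_add_right n r')).op x', ?_⟩
    rw [← capp, hθ n]
    rfl
  have hθinj : ∀ n : ℕ, Function.Injective (θ n) := by
    intro n
    rw [injective_iff_map_eq_zero]
    intro x hx
    obtain ⟨x', rfl⟩ := hsurj (Nat.le_add_right n r') x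
    rw [← capp, hθ n] at hx
    have hz : α (n + r') x' ∈ ((J ^ (n + 1)) • ⊤ : Submodule Λ (D.Z.obj (op (n + r')))) :=
      mem_smul_top_of_isQuot _ (D.qn n) (D.isQuot_qn n) _ hx
    -- induction on membership
    have key : ∀ z ∈ ((J ^ (n + 1)) • ⊤ : Submodule Λ (D.Z.obj (op (n + r')))),
        ∀ y' : G₀.obj (op (n + r')), α (n + r') y' = z →
          G₀.map (homOfLE (Nat.le_add_right n r')).op y' = 0 := by
      intro z hz
      refine Submodule.smul_induction_on hz ?_ ?_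
      · intro a ha z₀ _ y' hy'
        obtain ⟨x₀, rfl⟩ := hαsurj (n + r') z₀
        have h0 : α (n + r') (y' - a • x₀) = 0 := by
          rw [map_sub, map_smul, hy', sub_self]
        have h3 := hαker n _ h0
        rw [map_sub, map_smul, sub_eq_zero] at h3
        rw [h3]
        have hkill := hG₀.1 n a ha
        have h4 := eq_app hkill (G₀.map (homOfLE (Nat.le_add_right n r')).op x₀)
        exact h4
      · intro z₁ z₂ hz₁ hz₂ y' hy'
        obtain ⟨x₁, hx₁⟩ := hαsurj (n + r') z₁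
        have h0 : α (n + r') (y' - x₁) = z₂ := by
          rw [map_sub, hy', hx₁, add_sub_cancel_left]
        have h3 := hz₂ _ h0
        have h4 := hz₁ _ hx₁
        rw [map_sub, h4, sub_zero] at h3
        exact h3
    exact key _ hz x' rfl
  haveI hθiso : ∀ n : ℕ, IsIso (θ n) := fun n =>
    (ConcreteCategory.isIso_iff_bijective (θ n)).2 ⟨hθinj n, hθsurj n⟩
  -- compatibility of θ with transition maps
  have hcomp : ∀ {n m : ℕ} (h : n ≤ m),
      θ m ≫ D.G.map (homOfLE h).op = G₀.map (homOfLE h).op ≫ θ n := by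
    intro n m h
    haveI : Epi (G₀.map (homOfLE (Nat.le_add_right m r')).op) :=
      epi_of_isQuot _ _ (hG₀.2 m (m + r') (Nat.le_add_right m r'))
    rw [← cancel_epi (G₀.map (homOfLE (Nat.le_add_right m r')).op), ← Category.assoc, hθ m]
    change (α (m + r') ≫ D.qn m) ≫ D.G.map (homOfLE h).op = _
    rw [Category.assoc, ← D.qn_nat h, ← Category.assoc, hαnat (Nat.add_le_add_right h r'),
      Category.assoc]
    change _ ≫ β n = _
    rw [← hθ n, ← Category.assoc, ← Category.assoc, ← G₀.map_comp, ← G₀.map_comp]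
    congr 1
  intro n m h
  have e : D.G.map (homOfLE h).op = inv (θ m) ≫ G₀.map (homOfLE h).op ≫ θ n := by
    rw [← hcomp h, IsIso.inv_hom_id_assoc]
  change ARSys.IsQuot (J ^ (n + 1)) (D.G.map (homOfLE h).op)
  rw [e]
  exact isQuot_iso_comp' _ (asIso (θ m)).symm (isQuot_comp_iso' _ (asIso (θ n)) (hG₀.2 n m h))

end Mod

end Groth.Agent.Lib.Helper57.ARCrit
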