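import Groth.Agent.Lib.Helper57.ARCrit3

set_option autoImplicit false
open CategoryTheory CategoryTheory.Limits Opposite
universe u v₁ v₂ u₁ u₂ w

noncomputable section

namespace Groth.Agent.Lib.Helper57.ARCrit

open Groth.Agent.Lib.Helper57.ARPull Groth.Agent.Lib.Helper57.ARLim
  Groth.Agent.Lib.Helper57.ARStalk

section General

variable {R : Type w} [CommRing R] {C : Type u₁} [Category.{v₁} C] [Abelian C] [Linear R C]

theorem isIso_of_isQuot_comp (I : Ideal R) {A Q₁ Q₂ : C} {p₁ : A ⟶ Q₁} {p₂ : A ⟶ Q₂}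
    (hp₁ : ARSys.IsQuot I p₁) (hp₂ : ARSys.IsQuot I p₂) (ψ : Q₁ ⟶ Q₂) (h : p₁ ≫ ψ = p₂) :
    IsIso ψ := by
  haveI := epi_of_isQuot _ _ hp₁
  haveI := epi_of_isQuot _ _ hp₂
  obtain ⟨χ, hχ, -⟩ := hp₂.2 _ p₁ (homKilledBy_comp_of_killedBy _ hp₁.1)
  refine ⟨χ, ?_, ?_⟩
  · rw [← cancel_epi p₁, ← Category.assoc, h, hχ, Category.comp_id]
  · rw [← cancel_epi p₂, ← Category.assoc, hχ, h, Category.comp_id]

theorem shift_null_of_iso {X Y : ARSys.PS C} (e : X ≅ Y) {r : ℕ}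
    (h : ∀ n, ARSys.shiftMap X r n = 0) : ∀ n, ARSys.shiftMap Y r n = 0 := by
  intro n
  have h1 : ARSys.tr Y (Nat.le_add_right n r) =
      e.inv.app (op (n + r)) ≫ ARSys.tr X (Nat.le_add_right n r) ≫ e.hom.app (op n) := by
    have := e.hom.naturality (homOfLE (Nat.le_add_right n r)).op
    change Y.map _ = e.inv.app (op (n + r)) ≫ X.map _ ≫ e.hom.app (op n)
    rw [this, ← Category.assoc, ← NatTrans.comp_app, e.inv_hom_id, NatTrans.id_app,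
      Category.id_comp]
  have h2 : ARSys.tr X (Nat.le_add_right n r) = 0 := h n
  change ARSys.tr Y (Nat.le_add_right n r) = 0
  rw [h1, h2, zero_comp, comp_zero]

theorem shift_null_mono (X : ARSys.PS C) {r₁ r₂ : ℕ} (h12 : r₁ ≤ r₂)
    (h : ∀ n, ARSys.shiftMap X r₁ n = 0) : ∀ n, ARSys.shiftMap X r₂ n = 0 := fun n =>
  map_zero_of_shift X h (show n + r₁ ≤ n + r₂ by omega)

theorem ARAdicB.mono {J : Ideal R} {r₁ r₂ : ℕ} (h12 : r₁ ≤ r₂) {F : ARSys.PS C}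
    (h : ARAdicB J r₁ F) : ARAdicB J r₂ F := by
  obtain ⟨Y, u, hY, hK, hC⟩ := h
  exact ⟨Y, u, hY, shift_null_mono _ h12 hK, shift_null_mono _ h12 hC⟩

theorem ARAdicB.of_arAdic {J : Ideal R} {F : ARSys.PS C}
    (h : ∃ (Y : ARSys.PS C) (v : Y ⟶ F), ARSys.IsAdic J Y ∧ ARSys.IsARIso v) :
    ∃ r₁, ARAdicB J r₁ F := by
  obtain ⟨Y, v, hY, ⟨a, ha⟩, ⟨b, hb⟩⟩ := h
  exact ⟨max a b, Y, v, hY, shift_null_mono _ (le_max_left a b) ha,
    shift_null_mono _ (le_max_right a b) hb⟩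

theorem ARAdicB.of_iso {J : Ideal R} {r₁ : ℕ} {F F' : ARSys.PS C} (e : F ≅ F')
    (h : ARAdicB J r₁ F) : ARAdicB J r₁ F' := by
  obtain ⟨Y, u, hY, hK, hC⟩ := h
  refine ⟨Y, u ≫ e.hom, hY, ?_, ?_⟩
  · exact shift_null_of_iso (kernelCompMono u e.hom).symm hK
  · exact shift_null_of_iso (cokernelCompIsIso u e.hom).symm hC

end General

section Map

variable {R : Type w} [CommRing R] {C : Type u₁} [Category.{v₁} C] [Abelian C] [Linear R C]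
  {D : Type u₂} [Category.{v₂} D] [Abelian D] [Linear R D]
  {Φ : C ⥤ D} {Ψ : D ⥤ C} (adj : Φ ⊣ Ψ) [Φ.Additive] [Φ.Linear R] [PreservesFiniteLimits Φ]
  [PreservesFiniteColimits Φ]

include adj in
theorem isAdic_comp {J : Ideal R} {Y : ARSys.PS C} (hY : ARSys.IsAdic J Y) :
    ARSys.IsAdic J (Y ⋙ Φ) :=
  ⟨fun n => killedBy_map Φ _ (hY.1 n), fun n m h => isQuot_map' adj _ _ (hY.2 n m h)⟩

theorem shift_null_comp (Φ : C ⥤ D) [Φ.PreservesZeroMorphisms] {X : ARSys.PS C} {r : ℕ}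
    (h : ∀ n, ARSys.shiftMap X r n = 0) : ∀ n, ARSys.shiftMap (X ⋙ Φ) r n = 0 := by
  intro n
  change Φ.map (ARSys.shiftMap X r n) = 0
  rw [h n, Φ.map_zero]

include adj in
theorem ARAdicB.map {J : Ideal R} {r₁ : ℕ} {F : ARSys.PS C} (h : ARAdicB J r₁ F) :
    ARAdicB J r₁ (F ⋙ Φ) := by
  obtain ⟨Y, u, hY, hK, hC⟩ := h
  let W := (Functor.whiskeringRight ℕᵒᵖ C D).obj Φ
  have e1 : W.obj (kernel u) ≅ kernel (W.map u) := PreservesKernel.iso W u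
  have e2 : W.obj (cokernel u) ≅ cokernel (W.map u) := PreservesCokernel.iso W u
  exact ⟨Y ⋙ Φ, Functor.whiskerRight u Φ, isAdic_comp adj hY,
    shift_null_of_iso e1 (shift_null_comp Φ hK), shift_null_of_iso e2 (shift_null_comp Φ hC)⟩

end Map

section Family

variable {Λ : Type w} [CommRing Λ] {C : Type u₁} [Category.{v₁} C] [Abelian C] [Linear Λ C]

theorem arAdic_of_family (J : Ideal Λ) (hJ : J.FG) (P : C → Prop)
    (hPiso : ∀ {A B : C}, (A ≅ B) → P A → P B)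
    (hPk : ∀ {A B : C} (f : A ⟶ B), P A → P B → P (kernel f))
    (hPc : ∀ {A B : C} (f : A ⟶ B), P A → P B → P (cokernel f))
    {ι : Type*} (Φ : ι → (C ⥤ ModuleCat.{v₂} Λ)) (Ψ : ι → (ModuleCat.{v₂} Λ ⥤ C))
    (adj : ∀ i, Φ i ⊣ Ψ i) [∀ i, (Φ i).Additive] [∀ i, (Φ i).Linear Λ]
    [∀ i, PreservesFiniteLimits (Φ i)] [∀ i, PreservesFiniteColimits (Φ i)]
    (hcons : ∀ {A B : C} (f : A ⟶ B), P A → P B → (∀ i, IsIso ((Φ i).map f)) → IsIso f)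
    (F : ARSys.PS C) (hF : ARSys.TermKilled J F) (hFP : ∀ n : ℕ, P (F.obj (op n)))
    (r₁ : ℕ) (hB : ∀ i, ARAdicB J r₁ (F ⋙ Φ i)) :
    ∃ (Y : ARSys.PS C) (v : Y ⟶ F), ARSys.IsAdic J Y ∧ (∀ n : ℕ, P (Y.obj (op n))) ∧
      ARSys.IsARIso v := by
  obtain ⟨E, -, hG⟩ := exists_preCrit P hPiso hPk hPc J hJ r₁ r₁ F hFP
  have hadic : ARSys.IsAdic J E.G := by
    refine ⟨E.termKilled_G, fun n m h => ?_⟩
    obtain ⟨Q, p, hQP, hp⟩ := exists_isQuot_of_fg P (fun Q f hQ => hPc f hQ hQ) _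
      (hJ.pow (n := n + 1)) _ (hG m)
    have hk : ARSys.HomKilledBy (J ^ (n + 1)) (ARSys.tr E.G h) :=
      homKilledBy_comp_of_killedBy _ (E.termKilled_G n)
    obtain ⟨ψ, hψ, -⟩ := hp.2 _ _ hk
    haveI : IsIso ψ := by
      refine hcons ψ hQP (hG n) (fun i => ?_)
      have h1 : ARSys.IsQuot (J ^ (n + 1)) ((Φ i).map p) := isQuot_map' (adj i) _ _ hp
      have h2 : ARSys.IsQuot (J ^ (n + 1)) ((Φ i).map (ARSys.tr E.G h)) :=
        (isAdic_G_of_arAdicB J le_rfl le_rfl _ (E.map (adj i)) (hB i)).2 n m h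
      exact isIso_of_isQuot_comp _ h1 h2 _ (by rw [← Functor.map_comp, hψ])
    have : ARSys.tr E.G h = p ≫ (asIso ψ).hom := hψ.symm
    rw [this]
    exact isQuot_comp_iso' _ _ hp
  obtain ⟨Y, v, hY, hv, rfl⟩ := E.arAdic hF hadic
  exact ⟨_, v, hY, hG, hv⟩

end Family

end Groth.Agent.Lib.Helper57.ARCrit
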