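import Groth.Agent.Lib.Helper57.ARCrit4

set_option autoImplicit false
open CategoryTheory CategoryTheory.Limits AlgebraicGeometry Opposite
universe u

noncomputable section

namespace Groth.Agent.Lib.Helper57.ARCrit

open Groth.Agent.Lib.Helper57.ARPull Groth.Agent.Lib.Helper57.ARLim
  Groth.Agent.Lib.Helper57.ARStalk Groth.Agent.Lib.Helper57.ModCons Groth.Agent.Lib.Helper4

variable (Λ : Type (u + 1)) [CommRing Λ]

structure GeomPt (X : Scheme.{u}) where
  Ω : Type u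
  [field : Field Ω]
  [sep : IsSepClosed Ω]
  pt : Spec (CommRingCat.of Ω) ⟶ X

attribute [instance] GeomPt.field GeomPt.sep

variable {X : Scheme.{u}}

theorem isIso_iff_stalkM {F G : EtModW.Mod Λ X} (f : F ⟶ G) :
    IsIso f ↔ ∀ x : GeomPt X, IsIso ((EtModW.stalk Λ x.pt).map f) := by
  constructor
  · intro h x
    infer_instance
  · intro h
    rw [PointULift.isIso_iff_sheafFiber.{u, u + 1} (EtStalk.hfam X) (ModuleCat.{u + 1} Λ) f]
    rintro ⟨_, ⟨s⟩⟩
    exact h ⟨_, EtStalk.geomPtAt X s⟩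

variable [IsNoetherianRing Λ]

theorem arAdic_of_stalks (I : Ideal Λ) (F : ARSys.PS (EtModW.Mod Λ X))
    (hc : ∀ n : ℕ, EtModW.IsConstructible Λ (F.obj (op n))) (hk : ARSys.TermKilled I F)
    (r₁ : ℕ) (hB : ∀ x : GeomPt X, ARAdicB I r₁ (F ⋙ EtModW.stalk Λ x.pt)) :
    ∃ (Y : ARSys.PS (EtModW.Mod Λ X)) (v : Y ⟶ F), ARSys.IsAdic I Y ∧
      (∀ n : ℕ, EtModW.IsConstructible Λ (Y.obj (op n))) ∧ ARSys.IsARIso v :=
  arAdic_of_family I (IsNoetherian.noetherian I) (EtModW.IsConstructible Λ)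
    (fun e h => isConstructible_of_iso Λ e h)
    (fun f hA hB => isConstructible_kernel Λ f hA hB)
    (fun f hA hB => isConstructible_cokernel Λ f hA hB)
    (fun x : GeomPt X => EtModW.stalk Λ x.pt)
    (fun x : GeomPt X => (Scheme.pointSmallEtale x.pt).skyscraperSheafFunctor)
    (fun x : GeomPt X => (Scheme.pointSmallEtale x.pt).skyscraperSheafAdjunction)
    (fun f _ _ h => (isIso_iff_stalkM Λ f).2 h) F hk hc r₁ hB

/-- the AR-adic hypothesis as used in the frozen statements -/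
abbrev ARAdicC {X : Scheme.{u}} (I : Ideal Λ) (F : ARSys.PS (EtModW.Mod Λ X)) : Prop :=
  ARSys.TermKilled I F ∧ ∃ (Y : ARSys.PS (EtModW.Mod Λ X)) (v : Y ⟶ F), ARSys.IsAdic I Y ∧
    (∀ n : ℕ, EtModW.IsConstructible Λ (Y.obj (op n))) ∧ ARSys.IsARIso v

omit [IsNoetherianRing Λ] in
theorem ARAdicC.bound {X : Scheme.{u}} {I : Ideal Λ} {F : ARSys.PS (EtModW.Mod Λ X)}
    (h : ARAdicC Λ I F) : ∃ r₁, ARAdicB I r₁ F := by
  obtain ⟨-, Y, v, hY, -, hv⟩ := h
  exact ARAdicB.of_arAdic ⟨Y, v, hY, hv⟩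

theorem arAdic_of_cover (I : Ideal Λ) (F : ARSys.PS (EtModW.Mod Λ X))
    (hc : ∀ n : ℕ, EtModW.IsConstructible Λ (F.obj (op n))) (hk : ARSys.TermKilled I F)
    {κ : Type} [Finite κ] (U : κ → Scheme.{u}) (g : ∀ k, U k ⟶ X)
    (hlift : ∀ x : GeomPt X, ∃ (k : κ) (ξ' : Spec (CommRingCat.of x.Ω) ⟶ U k), ξ' ≫ g k = x.pt)
    (h : ∀ k, ARAdicC Λ I (F ⋙ EtModW.pull Λ (g k))) : ARAdicC Λ I F := by
  choose rr hrr using fun k => (h k).bound
  haveI := Fintype.ofFinite κ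
  let r₁ := Finset.univ.sup rr
  refine ⟨hk, arAdic_of_stalks Λ I F hc hk r₁ (fun x => ?_)⟩
  obtain ⟨k, ξ', hξ'⟩ := hlift x
  have h1 : ARAdicB I r₁ (F ⋙ EtModW.pull Λ (g k)) :=
    (hrr k).mono (Finset.le_sup (Finset.mem_univ k))
  have h2 : ARAdicB I r₁ ((F ⋙ EtModW.pull Λ (g k)) ⋙ EtModW.stalk Λ ξ') :=
    h1.map (Scheme.pointSmallEtale ξ').skyscraperSheafAdjunction
  have e : (F ⋙ EtModW.pull Λ (g k)) ⋙ EtModW.stalk Λ ξ' ≅ F ⋙ EtModW.stalk Λ (ξ' ≫ g k) :=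
    Functor.associator _ _ _ ≪≫ Functor.isoWhiskerLeft F (stalkPullIso Λ (g k) ξ')
  have h3 := h2.of_iso e
  rw [hξ'] at h3
  exact h3

omit [IsNoetherianRing Λ] in
theorem exists_lift_of_immersion {T : Scheme.{u}} (g : T ⟶ X) [IsImmersion g] (x : GeomPt X)
    (h : x.pt.base default ∈ Set.range g.base) :
    ∃ ξ' : Spec (CommRingCat.of x.Ω) ⟶ T, ξ' ≫ g = x.pt := by
  obtain ⟨t, ht⟩ := h
  obtain ⟨w, -, -⟩ := Scheme.Pullback.exists_preimage_pullback (f := x.pt) (g := g) default t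
    ht.symm
  haveI : Nonempty ↥(pullback x.pt g) := ⟨w⟩
  haveI : IsIso (pullback.fst x.pt g) := isIso_of_immersion_to_field _
  refine ⟨inv (pullback.fst x.pt g) ≫ pullback.snd x.pt g, ?_⟩
  rw [Category.assoc, ← pullback.condition, IsIso.inv_hom_id_assoc]

theorem arAdic_iff_etale_cover (I : Ideal Λ) {m : ℕ} (U : Fin m → Scheme.{u})
    (g : ∀ i, U i ⟶ X) [∀ i, Etale (g i)]
    (hsurj : (⋃ i, Set.range (fun t => (g i).base t)) = Set.univ)
    (F : ARSys.PS (EtModW.Mod Λ X)) (hc : ∀ n : ℕ, EtModW.IsConstructible Λ (F.obj (op n)))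
    (hk : ARSys.TermKilled I F) :
    ARAdicC Λ I F ↔ ∀ i : Fin m, ARAdicC Λ I (F ⋙ EtModW.pull Λ (g i)) := by
  constructor
  · intro h i
    exact pull_arAdic Λ (g i) I F h
  · intro h
    refine arAdic_of_cover Λ I F hc hk U g (fun x => ?_) h
    have hx : x.pt.base default ∈ ⋃ i, Set.range (fun t => (g i).base t) := by
      rw [hsurj]
      trivial
    obtain ⟨i, t, ht⟩ := Set.mem_iUnion.1 hx
    obtain ⟨l, hl, -⟩ := Scheme.exists_fac_of_etale_of_isSepClosed (g i) x.pt t ht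
    exact ⟨i, l, hl⟩

theorem arAdic_iff_closed_open (I : Ideal Λ) {A U : Scheme.{u}} (i : A ⟶ X)
    [IsClosedImmersion i] (j : U ⟶ X) [IsOpenImmersion j]
    (hAU : Set.range (fun a => i.base a) = (Set.range (fun t => j.base t))ᶜ)
    (F : ARSys.PS (EtModW.Mod Λ X)) (hc : ∀ n : ℕ, EtModW.IsConstructible Λ (F.obj (op n)))
    (hk : ARSys.TermKilled I F) :
    ARAdicC Λ I F ↔
      (ARAdicC Λ I (F ⋙ EtModW.pull Λ j) ∧ ARAdicC Λ I (F ⋙ EtModW.pull Λ i)) := by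
  constructor
  · intro h
    exact ⟨pull_arAdic Λ j I F h, pull_arAdic Λ i I F h⟩
  · rintro ⟨h1, h2⟩
    let U' : Bool → Scheme.{u} := fun b => cond b U A
    let g' : ∀ b, U' b ⟶ X := fun b => match b with
      | true => j
      | false => i
    refine arAdic_of_cover Λ I F hc hk U' g' (fun x => ?_) (fun b => ?_)
    · by_cases hx : x.pt.base default ∈ Set.range (fun t => j.base t)
      · obtain ⟨ξ', hξ'⟩ := exists_lift_of_immersion (X := X) j x hx
        exact ⟨true, ξ', hξ'⟩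
      · have hx' : x.pt.base default ∈ Set.range (fun a => i.base a) := by
          rw [hAU]
          exact hx
        obtain ⟨ξ', hξ'⟩ := exists_lift_of_immersion (X := X) i x hx'
        exact ⟨false, ξ', hξ'⟩
    · cases b
      · exact h2
      · exact h1

end Groth.Agent.Lib.Helper57.ARCrit
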