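import Groth.Agent.Lib.Helper57.ARCrit5

set_option autoImplicit false
open CategoryTheory CategoryTheory.Limits AlgebraicGeometry Opposite
universe u

noncomputable section

namespace Groth.Agent.Lib.Helper57.ARCrit

open Groth.Agent.Lib.Helper57.ARPull Groth.Agent.Lib.Helper57.ARLim
  Groth.Agent.Lib.Helper57.ARStalk Groth.Agent.Lib.Helper57.ModCons Groth.Agent.Lib.Helper4
  Groth.Agent.Lib.Helper57.ModLC

variable (Λ : Type (u + 1)) [CommRing Λ] {X : Scheme.{u}}

theorem geomPtAt_base (x : X) : (EtStalk.geomPtAt X x).base default = x := by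
  change (Spec.map _ ≫ X.fromSpecResidueField x).base default = x
  rw [Scheme.Hom.comp_base, TopCat.comp_app]
  exact Scheme.fromSpecResidueField_apply _ _

/-- the stalk of a sheaf which is constant on the étale neighbourhood `V` -/
theorem nonempty_stalk_iso (A : EtModW.Mod Λ X) (V : X.Etale) (M : ModuleCat.{u + 1} Λ)
    (e : Nonempty (EtModW.restr Λ A V ≅
      (constantSheaf (X.smallEtaleTopology.over V) (ModuleCat.{u + 1} Λ)).obj M))
    (ξ : GeomPt X) (y : V.left) (hy : V.hom.base y = ξ.pt.base default) :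
    Nonempty ((EtModW.stalk Λ ξ.pt).obj A ≅ M) := by
  haveI : Etale V.hom := V.prop
  obtain ⟨l, hl, -⟩ := Scheme.exists_fac_of_etale_of_isSepClosed V.hom ξ.pt y hy
  obtain ⟨e'⟩ := (restr_iso_const_iff Λ V A M).1 e
  have h1 : Nonempty ((EtModW.stalk Λ (l ≫ V.hom)).obj A ≅ M) :=
    ⟨((stalkPullIso Λ V.hom l).app A).symm ≪≫ (EtModW.stalk Λ l).mapIso e' ≪≫
      stalkConstIso Λ l _⟩
  rw [hl] at h1
  exact h1

theorem isZero_of_isFTLocConst_of_stalk [ConnectedSpace X] (A : EtModW.Mod Λ X)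
    (hA : EtModW.IsFTLocConst Λ A) (s : GeomPt X)
    (hs : IsZero ((EtModW.stalk Λ s.pt).obj A)) : IsZero A := by
  obtain ⟨ι, V, hV, hM⟩ := hA
  let Q : Prop → Set X := fun c => {x | ∃ (i : ι) (y : (V i).left), (V i).hom.base y = x ∧
    ∃ N : ModuleCat.{u + 1} Λ, (Subsingleton N ↔ c) ∧ Nonempty (EtModW.restr Λ A (V i) ≅
      (constantSheaf (X.smallEtaleTopology.over (V i)) (ModuleCat.{u + 1} Λ)).obj N)}
  have hopen : ∀ c, IsOpen (Q c) := by
    intro c
    rw [isOpen_iff_forall_mem_open]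
    rintro x ⟨i, y, hy, N, hN, e⟩
    haveI : Etale (V i).hom := (V i).prop
    refine ⟨Set.range (V i).hom.base, ?_, (V i).hom.isOpenMap.isOpen_range, ⟨y, hy⟩⟩
    rintro _ ⟨y', rfl⟩
    exact ⟨i, y', rfl, N, hN, e⟩
  have hcover : ∀ x : X, x ∈ Q True ∨ x ∈ Q False := by
    intro x
    obtain ⟨i, y, hy⟩ := hV x
    obtain ⟨M, iA, iM, iF, e⟩ := hM i
    by_cases hsub : Subsingleton M
    · exact Or.inl ⟨i, y, hy, ModuleCat.of Λ M, ⟨fun _ => trivial, fun _ => hsub⟩, e⟩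
    · exact Or.inr ⟨i, y, hy, ModuleCat.of Λ M, ⟨fun h => hsub h, fun h => h.elim⟩, e⟩
  have hstalk : ∀ (c : Prop) (ξ : GeomPt X), ξ.pt.base default ∈ Q c →
      (Subsingleton ((EtModW.stalk Λ ξ.pt).obj A) ↔ c) := by
    rintro c ξ ⟨i, y, hy, N, hN, e⟩
    obtain ⟨e1⟩ := nonempty_stalk_iso Λ A (V i) N e ξ y hy
    rw [← hN]
    exact ⟨fun h => e1.symm.toLinearEquiv.toEquiv.subsingleton,
      fun h => e1.toLinearEquiv.toEquiv.subsingleton⟩
  have hdisj : ∀ x : X, x ∈ Q True → x ∈ Q False → False := by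
    intro x h1 h2
    let ξ : GeomPt X := ⟨_, EtStalk.geomPtAt X x⟩
    have hb : ξ.pt.base default = x := geomPtAt_base x
    rw [← hb] at h1 h2
    exact (hstalk False ξ h2).1 ((hstalk True ξ h1).2 trivial)
  have hclopen : IsClopen (Q True) := by
    refine ⟨?_, hopen True⟩
    have : (Q True)ᶜ = Q False := by
      ext x
      constructor
      · intro hx
        exact (hcover x).resolve_left hx
      · intro hx hx'
        exact hdisj x hx' hx
    rw [← isOpen_compl_iff, this]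
    exact hopen False
  have hsmem : s.pt.base default ∈ Q True := by
    rcases hcover (s.pt.base default) with h | h
    · exact h
    · exfalso
      exact (hstalk False s h).1 (ModuleCat.subsingleton_of_isZero hs)
  have huniv : Q True = Set.univ := hclopen.eq_univ ⟨_, hsmem⟩
  rw [isZero_iff_stalkM]
  intro Ω _ _ ξ
  have hξ : (⟨Ω, ξ⟩ : GeomPt X).pt.base default ∈ Q True := by
    rw [huniv]
    trivial
  haveI := (hstalk True ⟨Ω, ξ⟩ hξ).2 trivial
  exact ModuleCat.isZero_of_subsingleton _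

variable [IsNoetherianRing Λ]

theorem isIso_of_stalk_lcc [ConnectedSpace X] {A B : EtModW.Mod Λ X} (f : A ⟶ B)
    (hA : EtModW.IsFTLocConst Λ A) (hB : EtModW.IsFTLocConst Λ B) (s : GeomPt X)
    (h : IsIso ((EtModW.stalk Λ s.pt).map f)) : IsIso f := by
  obtain ⟨hk, hc⟩ := LocConstMod.ft_kernel_cokernel f hA hB
  have zk : IsZero (kernel f) := isZero_of_isFTLocConst_of_stalk Λ _ hk s
    (IsZero.of_iso (isZero_kernel_of_mono _) (PreservesKernel.iso (EtModW.stalk Λ s.pt) f))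
  have zc : IsZero (cokernel f) := isZero_of_isFTLocConst_of_stalk Λ _ hc s
    (IsZero.of_iso (isZero_cokernel_of_epi _) (PreservesCokernel.iso (EtModW.stalk Λ s.pt) f))
  haveI : Mono f := Preadditive.mono_of_kernel_zero (zk.eq_of_src _ _)
  haveI : Epi f := Preadditive.epi_of_cokernel_zero (zc.eq_of_tgt _ _)
  exact isIso_of_mono_of_epi f

theorem arAdic_iff_stalk_lcc [ConnectedSpace X] (I : Ideal Λ)
    (F : ARSys.PS (EtModW.Mod Λ X)) (hc : ∀ n : ℕ, EtModW.IsConstructible Λ (F.obj (op n)))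
    (hl : ∀ n : ℕ, EtModW.IsFTLocConst Λ (F.obj (op n))) (hk : ARSys.TermKilled I F) :
    ARAdicC Λ I F ↔
      ∃ (Ω : Type u) (_ : Field Ω) (_ : IsSepClosed Ω) (s : Spec (CommRingCat.of Ω) ⟶ X),
        (ARSys.TermKilled I (F ⋙ EtModW.stalk Λ s) ∧
          ∃ (Y : ARSys.PS (ModuleCat.{u + 1} Λ)) (v : Y ⟶ F ⋙ EtModW.stalk Λ s),
            ARSys.IsAdic I Y ∧ (∀ n : ℕ, Module.Finite Λ (Y.obj (op n))) ∧ ARSys.IsARIso v) := by
  constructor
  · intro h
    obtain ⟨x₀⟩ := (inferInstance : Nonempty X)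
    exact ⟨_, inferInstance, inferInstance, EtStalk.geomPtAt X x₀,
      stalk_arAdic Λ (EtStalk.geomPtAt X x₀) I F h⟩
  · rintro ⟨Ω, _, _, s, -, Y, v, hY, -, hv⟩
    obtain ⟨r₁, hB⟩ := ARAdicB.of_arAdic ⟨Y, v, hY, hv⟩
    refine ⟨hk, ?_⟩
    obtain ⟨Y', v', hY', hP, hv'⟩ := arAdic_of_family I (IsNoetherian.noetherian I)
      (fun A => EtModW.IsConstructible Λ A ∧ EtModW.IsFTLocConst Λ A)
      (fun e h => ⟨isConstructible_of_iso Λ e h.1, isFTLocConst_of_iso Λ e h.2⟩)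
      (fun f hA hB => ⟨isConstructible_kernel Λ f hA.1 hB.1,
        (LocConstMod.ft_kernel_cokernel f hA.2 hB.2).1⟩)
      (fun f hA hB => ⟨isConstructible_cokernel Λ f hA.1 hB.1,
        (LocConstMod.ft_kernel_cokernel f hA.2 hB.2).2⟩)
      (fun _ : Unit => EtModW.stalk Λ s)
      (fun _ : Unit => (Scheme.pointSmallEtale s).skyscraperSheafFunctor)
      (fun _ : Unit => (Scheme.pointSmallEtale s).skyscraperSheafAdjunction)
      (fun f hA hB h => isIso_of_stalk_lcc Λ f hA.2 hB.2 ⟨Ω, s⟩ (h ())) F hk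
      (fun n => ⟨hc n, hl n⟩) r₁ (fun _ => hB)
    exact ⟨Y', v', hY', fun n => (hP n).1, hv'⟩

end Groth.Agent.Lib.Helper57.ARCrit
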