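import Groth.Agent.Lib.Helper57.ARStalk
import Groth.Agent.Lib.Helper4.EtStalk

set_option autoImplicit false
open CategoryTheory CategoryTheory.Limits AlgebraicGeometry Opposite
universe u v₁ v₂ u₁ u₂ w

noncomputable section

namespace Groth.Agent.Lib.Helper57.ARLim

open Groth.Agent.Lib.Helper57.ARPull Groth.Agent.Lib.Helper57.ARStalk

section General

variable {R : Type w} [CommRing R] {C : Type u₁} [Category.{v₁} C] [Abelian C] [Linear R C]

/-- the limit of an AR-null system is zero -/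
theorem isZero_limit_of_isARNull (G : ARSys.PS C) [HasLimit G] (h : ARSys.IsARNull G) :
    IsZero (limit G) := by
  obtain ⟨r, hr⟩ := h
  rw [IsZero.iff_id_eq_zero]
  apply limit.hom_ext
  rintro ⟨n⟩
  have h1 : limit.π G (op n) = limit.π G (op (n + r)) ≫ ARSys.tr G (Nat.le_add_right n r) :=
    (limit.w G (homOfLE (Nat.le_add_right n r)).op).symm
  have h2 : ARSys.tr G (Nat.le_add_right n r) = 0 := hr n
  rw [Category.id_comp, zero_comp, h1, h2, comp_zero]

theorem epi_of_isQuot (I : Ideal R) {X Q : C} (p : X ⟶ Q) (h : ARSys.IsQuot I p) : Epi p := by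
  constructor
  intro Z a b hab
  have hk : ARSys.HomKilledBy I (p ≫ a) := by
    intro c hc
    have : c • (p ≫ a) = p ≫ ((c • 𝟙 Q) ≫ a) := by
      rw [Linear.smul_comp, Category.id_comp, Linear.comp_smul]
    rw [this, h.1 c hc, zero_comp, comp_zero]
  obtain ⟨ψ, -, huniq⟩ := h.2 Z (p ≫ a) hk
  rw [huniq a rfl, huniq b hab.symm]

/-- Nakayama for adic systems: if `Y₀ = 0` then `Y = 0`. -/
theorem isZero_of_isAdic_of_isZero_zero (I : Ideal R) (Y : ARSys.PS C) (hY : ARSys.IsAdic I Y)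
    (h0 : IsZero (Y.obj (op 0))) (m : ℕ) : IsZero (Y.obj (op m)) := by
  have hq := hY.2 0 m (Nat.zero_le m)
  have base : ∀ (Z : C) (φ : Y.obj (op m) ⟶ Z), ARSys.HomKilledBy (I ^ (0 + 1)) φ → φ = 0 := by
    intro Z φ hφ
    obtain ⟨ψ, hψ, -⟩ := hq.2 Z φ hφ
    rw [← hψ, h0.eq_of_src ψ 0, comp_zero]
  have step : ∀ k : ℕ, ∀ (Z : C) (φ : Y.obj (op m) ⟶ Z),
      ARSys.HomKilledBy (I ^ (k + 1)) φ → φ = 0 := by
    intro k
    induction k with
    | zero => exact base
    | succ k ih =>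
      intro Z φ hφ
      apply ih
      intro a ha
      apply base
      intro b hb
      rw [smul_smul]
      apply hφ
      rw [pow_succ' I (k + 1)]
      rw [zero_add, pow_one] at hb
      exact Ideal.mul_mem_mul hb ha
  rw [IsZero.iff_id_eq_zero]
  apply step m
  intro a ha
  exact hY.1 m a ha

end General

section Mod

variable (Λ : Type (u + 1)) [CommRing Λ]

theorem isZero_zero_of_limit (H G : ARSys.PS (ModuleCat.{u + 1} Λ)) (w : H ⟶ G)
    (hsurj : ∀ n, Function.Surjective (H.map (homOfLE (Nat.le_succ n)).op))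
    (hK : ARSys.IsARNull (kernel w)) (hG : IsZero (limit G)) : IsZero (H.obj (op 0)) := by
  have hπ : Function.Surjective (limit.π H (op 0)) :=
    Concrete.surjective_π_app_zero_of_surjective_map (limit.isLimit H) hsurj
  obtain ⟨r, hr⟩ := hK
  have key : ∀ y₀ : H.obj (op 0), y₀ = 0 := by
    intro y₀
    obtain ⟨ℓ, hℓ⟩ := hπ y₀
    have hlim : limMap w = 0 := hG.eq_of_tgt _ _
    have h1 : (w.app (op (0 + r))) (limit.π H (op (0 + r)) ℓ) = 0 := by
      have h2 : limit.π H (op (0 + r)) ≫ w.app (op (0 + r)) = 0 := by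
        rw [← limMap_π, hlim, zero_comp]
      have h3 := congrArg (fun φ => φ ℓ) (congrArg ModuleCat.Hom.hom h2)
      simpa using h3
    -- exactness at `0 + r`
    let S : ShortComplex (ARSys.PS (ModuleCat.{u + 1} Λ)) :=
      ShortComplex.mk (kernel.ι w) w (kernel.condition w)
    have hS : S.Exact := S.exact_of_f_is_kernel (kernelIsKernel w)
    have hS' : (S.map ((evaluation ℕᵒᵖ (ModuleCat.{u + 1} Λ)).obj (op (0 + r)))).Exact :=
      hS.map _
    obtain ⟨k, hk⟩ := (ShortComplex.moduleCat_exact_iff _).1 hS' _ h1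
    replace hk : ((kernel.ι w).app (op (0 + r))) k = limit.π H (op (0 + r)) ℓ := hk
    have h4 : limit.π H (op (0 + r)) ≫ H.map (homOfLE (Nat.le_add_right 0 r)).op =
        limit.π H (op 0) := limit.w H (homOfLE (Nat.le_add_right 0 r)).op
    have h5 : (kernel.ι w).app (op (0 + r)) ≫ H.map (homOfLE (Nat.le_add_right 0 r)).op =
        (kernel w).map (homOfLE (Nat.le_add_right 0 r)).op ≫ (kernel.ι w).app (op 0) :=
      ((kernel.ι w).naturality (homOfLE (Nat.le_add_right 0 r)).op).symm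
    have h6 : (kernel w).map (homOfLE (Nat.le_add_right 0 r)).op = 0 := hr 0
    rw [h6, zero_comp] at h5
    have h7 := congrArg (fun φ => φ k) (congrArg ModuleCat.Hom.hom h5)
    have h8 := congrArg (fun φ => φ ℓ) (congrArg ModuleCat.Hom.hom h4)
    simp only [ModuleCat.hom_comp, LinearMap.comp_apply, ModuleCat.hom_zero,
      LinearMap.zero_apply] at h7 h8
    rw [← hℓ]
    change (ModuleCat.Hom.hom (limit.π H (op 0))) ℓ = 0
    rw [← h8, ← hk]
    exact h7
  exact @ModuleCat.isZero_of_subsingleton _ _ _ ⟨fun a b => (key a).trans (key b).symm⟩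

end Mod

section Main

open Groth.Agent.Lib.Helper4

variable (Λ : Type (u + 1)) [CommRing Λ] {X : Scheme.{u}}

theorem isZero_iff_stalkM (F : EtModW.Mod Λ X) :
    IsZero F ↔ ∀ (Ω : Type u) [Field Ω] [IsSepClosed Ω] (ξ : Spec (CommRingCat.of Ω) ⟶ X),
      IsZero ((EtModW.stalk Λ ξ).obj F) := by
  constructor
  · intro h Ω _ _ ξ
    exact Functor.map_isZero _ h
  · intro h
    rw [PointULift.isZero_iff_sheafFiber.{u, u + 1} (EtStalk.hfam X) (ModuleCat.{u + 1} Λ) F]
    rintro ⟨_, ⟨s⟩⟩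
    exact h _ _

theorem arNull_iff (I : Ideal Λ) (F : ARSys.PS (EtModW.Mod Λ X))
    (hF : (ARSys.TermKilled I F ∧ ∃ (Y : ARSys.PS (EtModW.Mod Λ X)) (v : Y ⟶ F),
      ARSys.IsAdic I Y ∧ (∀ n : ℕ, EtModW.IsConstructible Λ (Y.obj (op n))) ∧ ARSys.IsARIso v)) :
    ARSys.IsARNull F ↔
      ∀ (Ω : Type u) [Field Ω] [IsSepClosed Ω] (x : Spec (CommRingCat.of Ω) ⟶ X),
        IsZero (limit (F ⋙ EtModW.stalk Λ x)) := by
  constructor
  · intro h Ω _ _ x
    exact isZero_limit_of_isARNull _ (isARNull_comp (EtModW.stalk Λ x) h)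
  · intro h
    obtain ⟨hk, Y, v, hY, hYc, hv⟩ := hF
    have hY0 : IsZero (Y.obj (op 0)) := by
      rw [isZero_iff_stalkM]
      intro Ω _ _ ξ
      refine isZero_zero_of_limit Λ (Y ⋙ EtModW.stalk Λ ξ) (F ⋙ EtModW.stalk Λ ξ)
        (Functor.whiskerRight v _) ?_ (isARIso_whiskerRight (EtModW.stalk Λ ξ) v hv).1 (h Ω ξ)
      intro n
      haveI : Epi (ARSys.tr Y (Nat.le_succ n)) := epi_of_isQuot _ _ (hY.2 n (n + 1) (Nat.le_succ n))
      haveI : Epi ((EtModW.stalk Λ ξ).map (ARSys.tr Y (Nat.le_succ n))) := inferInstance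
      exact (ModuleCat.epi_iff_surjective _).1 this
    have hYm := isZero_of_isAdic_of_isZero_zero I Y hY hY0
    have hYz : IsZero Y := by
      rw [Functor.isZero_iff]
      rintro ⟨m⟩
      exact hYm m
    have hv0 : v = 0 := hYz.eq_of_src _ _
    subst hv0
    exact isARNull_of_iso cokernelZeroIsoTarget hv.2

end Main

end Groth.Agent.Lib.Helper57.ARLim
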