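import Groth.Agent.Lib.Helper57.ModSerre
import Groth.Prelude.Def_ARSys

set_option autoImplicit false
open CategoryTheory CategoryTheory.Limits AlgebraicGeometry Opposite
universe u v₁ v₂ u₁ u₂ w

noncomputable section

namespace Groth.Agent.Lib.Helper57.ARPull

section Linear

variable {R : Type w} [CommRing R] {C : Type u₁} [Category.{v₁} C] {D : Type u₂} [Category.{v₂} D]
  [Preadditive C] [Preadditive D] [Linear R C] [Linear R D]
  {L : C ⥤ D} {G : D ⥤ C} (adj : L ⊣ G) [G.Additive] [G.Linear R] [L.Additive]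

include adj in
theorem homEquiv_smul {X : C} {Y : D} (a : R) (φ : L.obj X ⟶ Y) :
    adj.homEquiv X Y (a • φ) = a • adj.homEquiv X Y φ := by
  rw [Adjunction.homEquiv_unit, Adjunction.homEquiv_unit, Functor.map_smul, Linear.comp_smul]

include adj in
theorem leftAdjoint_linear : L.Linear R where
  map_smul {X Y} φ a := by
    apply (adj.homEquiv _ _).injective
    rw [homEquiv_smul adj, Adjunction.homEquiv_unit, Adjunction.homEquiv_unit]
    have h1 := adj.unit.naturality (a • φ)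
    have h2 := adj.unit.naturality φ
    dsimp at h1 h2
    rw [← h1, ← h2, Linear.smul_comp]

theorem killedBy_map (F : C ⥤ D) [F.Additive] [F.Linear R] (I : Ideal R) {X : C}
    (h : ARSys.KilledBy I X) : ARSys.KilledBy I (F.obj X) := by
  intro a ha
  rw [← F.map_id, ← Functor.map_smul, h a ha, F.map_zero]

include adj in
theorem isQuot_map [L.Linear R] (I : Ideal R) {X Q : C} (p : X ⟶ Q) (h : ARSys.IsQuot I p) :
    ARSys.IsQuot I (L.map p) := by
  refine ⟨killedBy_map L I h.1, fun Y φ hφ => ?_⟩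
  have hφ' : ARSys.HomKilledBy I (adj.homEquiv X Y φ) := by
    intro a ha
    rw [← homEquiv_smul adj, hφ a ha]
    simp
  obtain ⟨ψ', hψ', huniq⟩ := h.2 (G.obj Y) _ hφ'
  refine ⟨(adj.homEquiv Q Y).symm ψ', ?_, ?_⟩
  · change L.map p ≫ (adj.homEquiv Q Y).symm ψ' = φ
    rw [← Adjunction.homEquiv_naturality_left_symm, hψ', Equiv.symm_apply_apply]
  · intro χ hχ
    have : adj.homEquiv Q Y χ = ψ' := by
      apply huniq
      rw [← Adjunction.homEquiv_naturality_left, hχ]
    rw [← this, Equiv.symm_apply_apply]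

end Linear

section AR

variable {C : Type u₁} [Category.{v₁} C] {D : Type u₂} [Category.{v₂} D]

theorem isARNull_comp [HasZeroMorphisms C] [HasZeroMorphisms D] (F : C ⥤ D)
    [F.PreservesZeroMorphisms] {X : ARSys.PS C} (h : ARSys.IsARNull X) :
    ARSys.IsARNull (X ⋙ F) := by
  obtain ⟨r, hr⟩ := h
  refine ⟨r, fun n => ?_⟩
  change F.map (ARSys.shiftMap X r n) = 0
  rw [hr n, F.map_zero]

theorem isARNull_of_iso [HasZeroMorphisms C] {X Y : ARSys.PS C} (e : X ≅ Y)
    (h : ARSys.IsARNull X) : ARSys.IsARNull Y := by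
  obtain ⟨r, hr⟩ := h
  refine ⟨r, fun n => ?_⟩
  have h1 : ARSys.tr Y (Nat.le_add_right n r) =
      e.inv.app (op (n + r)) ≫ ARSys.tr X (Nat.le_add_right n r) ≫ e.hom.app (op n) := by
    have := e.hom.naturality (homOfLE (Nat.le_add_right n r)).op
    change Y.map _ = e.inv.app (op (n + r)) ≫ X.map _ ≫ e.hom.app (op n)
    rw [this, ← Category.assoc, ← NatTrans.comp_app, e.inv_hom_id, NatTrans.id_app,
      Category.id_comp]
  have h2 : ARSys.tr X (Nat.le_add_right n r) = 0 := hr n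
  change ARSys.tr Y (Nat.le_add_right n r) = 0
  rw [h1, h2, zero_comp, comp_zero]

theorem isARIso_whiskerRight [Abelian C] [Abelian D] (F : C ⥤ D) [F.Additive]
    [PreservesFiniteLimits F] [PreservesFiniteColimits F] {X Y : ARSys.PS C} (u : X ⟶ Y)
    (h : ARSys.IsARIso u) : ARSys.IsARIso (Functor.whiskerRight u F) := by
  let W := (Functor.whiskeringRight ℕᵒᵖ C D).obj F
  have e1 : W.obj (kernel u) ≅ kernel (W.map u) := PreservesKernel.iso W u
  have e2 : W.obj (cokernel u) ≅ cokernel (W.map u) := PreservesCokernel.iso W u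
  exact ⟨isARNull_of_iso e1 (isARNull_comp F h.1), isARNull_of_iso e2 (isARNull_comp F h.2)⟩

end AR

section Et

open Groth.Agent.Lib.Helper57.ModLC Groth.Agent.Lib.Helper57.ModCons
open Groth.Agent.Lib.Helper13.EtModPullExact

variable (Λ : Type (u + 1)) [CommRing Λ] {X X' : Scheme.{u}} (f : X' ⟶ X)

instance push_linear : (EtModW.push Λ f).Linear Λ where
  map_smul {F G} φ a := by
    ext : 1
    rfl

instance pull_linear : (EtModW.pull Λ f).Linear Λ := leftAdjoint_linear (pullPushAdj Λ f)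

theorem pull_arAdic (I : Ideal Λ)
    (F : ARSys.PS (EtModW.Mod Λ X))
    (hF : (ARSys.TermKilled I F ∧ ∃ (Y : ARSys.PS (EtModW.Mod Λ X)) (v : Y ⟶ F),
      ARSys.IsAdic I Y ∧ (∀ n : ℕ, EtModW.IsConstructible Λ (Y.obj (op n))) ∧ ARSys.IsARIso v)) :
    (ARSys.TermKilled I (F ⋙ EtModW.pull Λ f) ∧ ∃ (Y : ARSys.PS (EtModW.Mod Λ X'))
      (v : Y ⟶ (F ⋙ EtModW.pull Λ f)), ARSys.IsAdic I Y ∧
      (∀ n : ℕ, EtModW.IsConstructible Λ (Y.obj (op n))) ∧ ARSys.IsARIso v) := by
  obtain ⟨hk, Y, v, hY, hYc, hv⟩ := hF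
  refine ⟨fun n => killedBy_map (EtModW.pull Λ f) _ (hk n), Y ⋙ EtModW.pull Λ f,
    Functor.whiskerRight v _, ⟨fun n => killedBy_map (EtModW.pull Λ f) _ (hY.1 n),
      fun n m h => isQuot_map (pullPushAdj Λ f) _ _ (hY.2 n m h)⟩,
    fun n => isConstructible_pull Λ f _ (hYc n), isARIso_whiskerRight _ v hv⟩

end Et

end Groth.Agent.Lib.Helper57.ARPull
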