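import Groth.Agent.Lib.Helper57.ARPull
import Groth.Agent.Lib.Helper4.EtStalkPull
import Groth.Agent.Lib.Helper4.ConstStalk
import Groth.Agent.Lib.Helper4.PointULift

set_option autoImplicit false
open CategoryTheory CategoryTheory.Limits AlgebraicGeometry Opposite
universe u v₁ v₂ u₁ u₂ w

noncomputable section

namespace Groth.Agent.Lib.Helper57.ARStalk

open Groth.Agent.Lib.Helper57.ARPull

section Linear

variable {R : Type w} [CommRing R] {C : Type u₁} [Category.{v₁} C] {D : Type u₂} [Category.{v₂} D]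
  [Preadditive C] [Preadditive D] [Linear R C] [Linear R D]
  {L : C ⥤ D} {G : D ⥤ C} (adj : L ⊣ G) [L.Additive] [L.Linear R]

include adj in
theorem homEquiv_symm_smul {X : C} {Y : D} (a : R) (ψ : X ⟶ G.obj Y) :
    (adj.homEquiv X Y).symm (a • ψ) = a • (adj.homEquiv X Y).symm ψ := by
  rw [Adjunction.homEquiv_counit, Adjunction.homEquiv_counit, Functor.map_smul, Linear.smul_comp]

include adj in
theorem homEquiv_smul' {X : C} {Y : D} (a : R) (φ : L.obj X ⟶ Y) :
    adj.homEquiv X Y (a • φ) = a • adj.homEquiv X Y φ := by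
  apply (adj.homEquiv X Y).symm.injective
  rw [homEquiv_symm_smul adj, Equiv.symm_apply_apply, Equiv.symm_apply_apply]

include adj in
theorem isQuot_map' (I : Ideal R) {X Q : C} (p : X ⟶ Q) (h : ARSys.IsQuot I p) :
    ARSys.IsQuot I (L.map p) := by
  refine ⟨killedBy_map L I h.1, fun Y φ hφ => ?_⟩
  have hφ' : ARSys.HomKilledBy I (adj.homEquiv X Y φ) := by
    intro a ha
    rw [← homEquiv_smul' adj, hφ a ha]
    simp
  obtain ⟨ψ', hψ', huniq⟩ := h.2 (G.obj Y) _ hφ'
  refine ⟨(adj.homEquiv Q Y).symm ψ', ?_, ?_⟩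
  · change L.map p ≫ (adj.homEquiv Q Y).symm ψ' = φ
    rw [← Adjunction.homEquiv_naturality_left_symm, hψ', Equiv.symm_apply_apply]
  · intro χ hχ
    have : adj.homEquiv Q Y χ = ψ' := by
      apply huniq
      rw [← Adjunction.homEquiv_naturality_left, hχ]
    rw [← this, Equiv.symm_apply_apply]

end Linear

section Stalk

variable (Λ : Type (u + 1)) [CommRing Λ] {X : Scheme.{u}} {Ω : Type u} [Field Ω] [IsSepClosed Ω]
  (s : Spec (CommRingCat.of Ω) ⟶ X)

instance hasLimitsOfSize_u : HasLimitsOfSize.{u, u} (ModuleCat.{u + 1} Λ) :=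
  hasLimitsOfSizeShrink.{u, u, u + 1, u + 1} _

instance stalk_additive : (EtModW.stalk Λ s).Additive := by
  haveI := preservesBinaryBiproducts_of_preservesBinaryCoproducts (EtModW.stalk Λ s)
  exact Functor.additive_of_preservesBinaryBiproducts _

instance stalk_linear : (EtModW.stalk Λ s).Linear Λ where
  map_smul {F G} φ a := by
    apply (Scheme.pointSmallEtale s).presheafFiber_hom_ext
    intro U x
    change (Scheme.pointSmallEtale s).toPresheafFiber U x F.obj ≫
      (Scheme.pointSmallEtale s).presheafFiber.map (a • φ).hom =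
      (Scheme.pointSmallEtale s).toPresheafFiber U x F.obj ≫
        (a • (Scheme.pointSmallEtale s).presheafFiber.map φ.hom)
    rw [GrothendieckTopology.Point.toPresheafFiber_naturality, Linear.comp_smul,
      GrothendieckTopology.Point.toPresheafFiber_naturality, ← Linear.smul_comp]
    rfl

instance stalk_pfc : PreservesFiniteColimits (EtModW.stalk Λ s) := inferInstance

instance stalk_pfl : PreservesFiniteLimits (EtModW.stalk Λ s) :=
  Groth.Agent.Lib.Helper4.PointULift.preservesFiniteLimits_sheafFiber.{u, u + 1}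
    (Scheme.pointSmallEtale s) (ModuleCat.{u + 1} Λ)

end Stalk

section StalkPull

open Groth.Agent.Lib.Helper4.EtStalkPull

variable (Λ : Type (u + 1)) [CommRing Λ] {X Y : Scheme.{u}} (f : X ⟶ Y) {Ω : Type u} [Field Ω]
  [IsSepClosed Ω] (ξ : Spec (CommRingCat.of Ω) ⟶ X)

def sheafFiberIsoM :
    (Scheme.pointSmallEtale (ξ ≫ f)).sheafFiber (A := ModuleCat.{u + 1} Λ) ≅
      (comapPt f ξ).sheafFiber where
  hom := GrothendieckTopology.Point.Hom.sheafFiber (ptIso f ξ).hom
  inv := GrothendieckTopology.Point.Hom.sheafFiber (ptIso f ξ).inv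
  hom_inv_id := by
    rw [← GrothendieckTopology.Point.Hom.sheafFiber_comp, Iso.inv_hom_id,
      GrothendieckTopology.Point.Hom.sheafFiber_id]
  inv_hom_id := by
    rw [← GrothendieckTopology.Point.Hom.sheafFiber_comp, Iso.hom_inv_id,
      GrothendieckTopology.Point.Hom.sheafFiber_id]

def stalkPullIso : EtModW.pull Λ f ⋙ EtModW.stalk Λ ξ ≅ EtModW.stalk Λ (ξ ≫ f) :=
  (GrothendieckTopology.Point.sheafFiberComapIso (Scheme.pointSmallEtale ξ)
    (EtCoh.bc f) (EtCoh.coverPreserving_bc f) (ModuleCat.{u + 1} Λ)).symm ≪≫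
    (sheafFiberIsoM Λ f ξ).symm

/-- stalk of a constant sheaf -/
def stalkConstIso (M : ModuleCat.{u + 1} Λ) :
    (EtModW.stalk Λ ξ).obj ((constantSheaf X.smallEtaleTopology (ModuleCat.{u + 1} Λ)).obj M) ≅ M :=
  (Groth.Agent.Lib.Helper4.ConstStalk.constFiberIso (Scheme.pointSmallEtale ξ)
    (ModuleCat.{u + 1} Λ) (EtCore.topIsTerminal X)).app M

theorem finite_of_iso {M N : ModuleCat.{u + 1} Λ} (e : M ≅ N) [Module.Finite Λ M] :
    Module.Finite Λ N :=
  Module.Finite.equiv e.toLinearEquiv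

open Groth.Agent.Lib.Helper57.ModLC in
theorem finite_stalk_of_isFTLocConst (H : EtModW.Mod Λ X) (hH : EtModW.IsFTLocConst Λ H) :
    Module.Finite Λ ((EtModW.stalk Λ ξ).obj H) := by
  obtain ⟨ι, V, hV, hM⟩ := hH
  obtain ⟨i, y, hy⟩ := hV (ξ.base default)
  haveI : Etale (V i).hom := (V i).prop
  obtain ⟨l, hl, -⟩ := Scheme.exists_fac_of_etale_of_isSepClosed (V i).hom ξ y hy
  obtain ⟨M, iA, iM, iF, e⟩ := hM i
  obtain ⟨e'⟩ := (restr_iso_const_iff Λ (V i) H (ModuleCat.of Λ M)).1 e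
  subst hl
  have e1 : (EtModW.stalk Λ (l ≫ (V i).hom)).obj H ≅ ModuleCat.of Λ M :=
    ((stalkPullIso Λ (V i).hom l).app H).symm ≪≫ (EtModW.stalk Λ l).mapIso e' ≪≫
      stalkConstIso Λ l _
  haveI : Module.Finite Λ (ModuleCat.of Λ M) := iF
  exact finite_of_iso Λ e1.symm

theorem isIso_of_immersion_to_field {P : Scheme.{u}} (q : P ⟶ Spec (CommRingCat.of Ω))
    [IsImmersion q] [Nonempty P] : IsIso q := by
  haveI : Surjective q := ⟨fun z => by
    obtain ⟨p⟩ := (inferInstance : Nonempty P)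
    exact ⟨p, Subsingleton.elim _ _⟩⟩
  haveI : IsClosedImmersion q := by
    refine IsClosedImmersion.of_isPreimmersion q ?_
    have : Set.range q.base = Set.univ := Set.range_eq_univ.2 (Surjective.surj (f := q))
    rw [this]
    exact isClosed_univ
  exact isIso_of_isClosedImmersion_of_surjective q

theorem finite_stalk_comp (G : EtModW.Mod Λ Y)
    (h : EtModW.IsFTLocConst Λ ((EtModW.pull Λ f).obj G)) :
    Module.Finite Λ ((EtModW.stalk Λ (ξ ≫ f)).obj G) := by
  haveI : Module.Finite Λ ↑((EtModW.pull Λ f ⋙ EtModW.stalk Λ ξ).obj G) :=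
    finite_stalk_of_isFTLocConst Λ ξ _ h
  exact finite_of_iso Λ ((stalkPullIso Λ f ξ).app G)

theorem finite_stalk_of_isConstructible (G : EtModW.Mod Λ X) (hG : EtModW.IsConstructible Λ G) :
    Module.Finite Λ ((EtModW.stalk Λ ξ).obj G) := by
  obtain ⟨U, hU, hxU⟩ : ∃ U : X.Opens, IsAffineOpen U ∧ ξ.base default ∈ U := by
    obtain ⟨U, hU, hx, -⟩ := exists_isAffineOpen_mem_and_subset (x := ξ.base default)
      (U := ⊤) trivial
    exact ⟨U, hU, hx⟩
  obtain ⟨n, T, g, himm, -, -, hunion, hlc⟩ := hG U hU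
  have hx : ξ.base default ∈ ⋃ i, Set.range (g i) := by
    rw [hunion]
    exact hxU
  obtain ⟨i, t, ht⟩ := Set.mem_iUnion.1 hx
  haveI := himm i
  obtain ⟨w, -, -⟩ := Scheme.Pullback.exists_preimage_pullback (f := ξ) (g := g i) default t
    ht.symm
  haveI : Nonempty ↥(pullback ξ (g i)) := ⟨w⟩
  haveI : IsIso (pullback.fst ξ (g i)) := isIso_of_immersion_to_field _
  let s' : Spec (CommRingCat.of Ω) ⟶ T i := inv (pullback.fst ξ (g i)) ≫ pullback.snd ξ (g i)
  have hs' : s' ≫ g i = ξ := by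
    change (inv (pullback.fst ξ (g i)) ≫ pullback.snd ξ (g i)) ≫ g i = ξ
    rw [Category.assoc, ← pullback.condition, IsIso.inv_hom_id_assoc]
  have h1 := finite_stalk_comp Λ (g i) s' G (hlc i)
  rw [hs'] at h1
  exact h1

theorem stalk_arAdic (I : Ideal Λ) (F : ARSys.PS (EtModW.Mod Λ X))
    (hF : (ARSys.TermKilled I F ∧ ∃ (Y : ARSys.PS (EtModW.Mod Λ X)) (v : Y ⟶ F),
      ARSys.IsAdic I Y ∧ (∀ n : ℕ, EtModW.IsConstructible Λ (Y.obj (op n))) ∧ ARSys.IsARIso v)) :
    (ARSys.TermKilled I (F ⋙ EtModW.stalk Λ ξ) ∧ ∃ (Y : ARSys.PS (ModuleCat.{u + 1} Λ))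
      (v : Y ⟶ F ⋙ EtModW.stalk Λ ξ), ARSys.IsAdic I Y ∧
      (∀ n : ℕ, Module.Finite Λ (Y.obj (op n))) ∧ ARSys.IsARIso v) := by
  obtain ⟨hk, Y, v, hY, hYc, hv⟩ := hF
  refine ⟨fun n => killedBy_map (EtModW.stalk Λ ξ) _ (hk n), Y ⋙ EtModW.stalk Λ ξ,
    Functor.whiskerRight v _, ⟨fun n => killedBy_map (EtModW.stalk Λ ξ) _ (hY.1 n),
      fun n m h => isQuot_map' (Scheme.pointSmallEtale ξ).skyscraperSheafAdjunction _ _
        (hY.2 n m h)⟩,
    fun n => finite_stalk_of_isConstructible Λ ξ _ (hYc n), isARIso_whiskerRight _ v hv⟩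

end StalkPull

end Groth.Agent.Lib.Helper57.ARStalk
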