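import Groth.Agent.Lib.Helper13.ARSysAR
import Groth.Agent.Lib.Helper13.ARSysQuot

set_option autoImplicit false
open CategoryTheory CategoryTheory.Limits Opposite ARSys ZeroObject
universe w v u

noncomputable section

namespace Groth.Agent.Lib.Helper57.AdicUnif

open Groth.Agent.Lib.Helper13.ARSysBasic Groth.Agent.Lib.Helper13.ARSysLin
  Groth.Agent.Lib.Helper13.ARSysML

variable {C : Type u} [Category.{v} C] [Abelian C]

attribute [local instance] Classical.propDecidable

/-- closure properties of a weak Serre class -/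
structure WS (P : C → Prop) : Prop where
  iso : ∀ {X Y : C}, (X ≅ Y) → P X → P Y
  ker : ∀ (S : ShortComplex C), S.Exact → Mono S.f → P S.X₂ → P S.X₃ → P S.X₁
  coker : ∀ (S : ShortComplex C), S.Exact → Epi S.g → P S.X₁ → P S.X₂ → P S.X₃
  ext : ∀ (S : ShortComplex C), S.ShortExact → P S.X₁ → P S.X₃ → P S.X₂
  zero : ∀ X : C, IsZero X → P X

section GObj

variable {A : Type w}

/-- `X^{⊕ l.length}` -/
def gObj : List A → C → C
  | [], _ => 0
  | _ :: l, X => X ⊞ gObj l X

def gMap : (l : List A) → {X Y : C} → (X ⟶ Y) → (gObj l X ⟶ gObj l Y)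
  | [], _, _, _ => 0
  | _ :: l, _, _, f => biprod.map f (gMap l f)

theorem gMap_id (l : List A) (X : C) : gMap l (𝟙 X) = 𝟙 (gObj l X) := by
  induction l with
  | nil => exact (isZero_zero C).eq_of_src _ _
  | cons c l ih =>
    change biprod.map (𝟙 X) (gMap l (𝟙 X)) = 𝟙 (X ⊞ gObj l X)
    rw [ih]
    ext <;> simp

theorem gMap_comp (l : List A) {X Y Z : C} (f : X ⟶ Y) (g : Y ⟶ Z) :
    gMap l (f ≫ g) = gMap l f ≫ gMap l g := by
  induction l with
  | nil => exact (isZero_zero C).eq_of_src _ _
  | cons c l ih =>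
    change biprod.map (f ≫ g) (gMap l (f ≫ g)) = biprod.map f (gMap l f) ≫ biprod.map g (gMap l g)
    rw [ih]
    ext <;> simp

/-- the functor `X ↦ X^{⊕ l.length}` -/
def G (l : List A) : C ⥤ C where
  obj := gObj l
  map f := gMap l f
  map_id := gMap_id l
  map_comp := gMap_comp l

def sumMap {X Y : C} (μ : A → (X ⟶ Y)) : (l : List A) → (gObj l X ⟶ Y)
  | [] => 0
  | c :: l => biprod.desc (μ c) (sumMap μ l)

def inj : (l : List A) → (c : A) → (X : C) → (X ⟶ gObj l X)
  | [], _, _ => 0
  | b :: l, c, X => if c = b then biprod.inl else inj l c X ≫ biprod.inr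

theorem inj_sumMap {X Y : C} (μ : A → (X ⟶ Y)) (l : List A) (c : A) (hc : c ∈ l) :
    inj l c X ≫ sumMap μ l = μ c := by
  induction l with
  | nil => simp at hc
  | cons b l ih =>
    by_cases h : c = b
    · subst h
      change (if c = c then biprod.inl else inj l c X ≫ biprod.inr) ≫
        biprod.desc (μ c) (sumMap μ l) = μ c
      rw [if_pos rfl, biprod.inl_desc]
    · change (if c = b then biprod.inl else inj l c X ≫ biprod.inr) ≫
        biprod.desc (μ b) (sumMap μ l) = μ c
      rw [if_neg h, Category.assoc, biprod.inr_desc]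
      exact ih ((List.mem_cons.1 hc).resolve_left h)

theorem inj_gMap (l : List A) (c : A) {X Y : C} (f : X ⟶ Y) :
    inj l c X ≫ gMap l f = f ≫ inj l c Y := by
  induction l with
  | nil => exact (isZero_zero C).eq_of_tgt _ _
  | cons b l ih =>
    by_cases h : c = b
    · change (if c = b then biprod.inl else inj l c X ≫ biprod.inr) ≫
        biprod.map f (gMap l f) = f ≫ (if c = b then biprod.inl else inj l c Y ≫ biprod.inr)
      rw [if_pos h, if_pos h, biprod.inl_map]
    · change (if c = b then biprod.inl else inj l c X ≫ biprod.inr) ≫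
        biprod.map f (gMap l f) = f ≫ (if c = b then biprod.inl else inj l c Y ≫ biprod.inr)
      rw [if_neg h, if_neg h, Category.assoc, biprod.inr_map, ← Category.assoc, ih,
        Category.assoc]

theorem sumMap_comp {X Y Z : C} (μ : A → (X ⟶ Y)) (l : List A) (π : Y ⟶ Z) :
    sumMap μ l ≫ π = sumMap (fun c => μ c ≫ π) l := by
  induction l with
  | nil => exact (isZero_zero C).eq_of_src _ _
  | cons b l ih =>
    change biprod.desc (μ b) (sumMap μ l) ≫ π = biprod.desc (μ b ≫ π) (sumMap (fun c => μ c ≫ π) l)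
    rw [← ih]
    ext <;> simp

theorem sumMap_eq_zero {X Y : C} (μ : A → (X ⟶ Y)) (l : List A) (h : ∀ c ∈ l, μ c = 0) :
    sumMap μ l = 0 := by
  induction l with
  | nil => rfl
  | cons b l ih =>
    change biprod.desc (μ b) (sumMap μ l) = 0
    rw [h b (List.mem_cons_self ..), ih (fun c hc => h c (List.mem_cons_of_mem _ hc))]
    ext <;> simp

theorem gMap_sumMap {X X' Y Y' : C} (μ : A → (X ⟶ Y)) (μ' : A → (X' ⟶ Y')) (f : X ⟶ X')
    (g : Y ⟶ Y') (l : List A) (h : ∀ c ∈ l, f ≫ μ' c = μ c ≫ g) :
    gMap l f ≫ sumMap μ' l = sumMap μ l ≫ g := by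
  induction l with
  | nil => exact (isZero_zero C).eq_of_src _ _
  | cons b l ih =>
    change biprod.map f (gMap l f) ≫ biprod.desc (μ' b) (sumMap μ' l) =
      biprod.desc (μ b) (sumMap μ l) ≫ g
    ext
    · simp only [biprod.inl_map_assoc, biprod.inl_desc, biprod.inl_desc_assoc]
      exact h b (List.mem_cons_self ..)
    · simp only [biprod.inr_map_assoc, biprod.inr_desc, biprod.inr_desc_assoc]
      exact ih (fun c hc => h c (List.mem_cons_of_mem _ hc))

theorem epi_gMap (l : List A) {X Y : C} (f : X ⟶ Y) [Epi f] : Epi (gMap l f) := by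
  induction l with
  | nil => exact ⟨fun g h _ => (isZero_zero C).eq_of_src _ _⟩
  | cons b l ih =>
    change Epi (biprod.map f (gMap l f))
    constructor
    intro Z g h hgh
    apply biprod.hom_ext'
    · have := congrArg (fun t => biprod.inl ≫ t) hgh
      simp only [biprod.inl_map_assoc] at this
      exact (cancel_epi f).1 this
    · have := congrArg (fun t => biprod.inr ≫ t) hgh
      simp only [biprod.inr_map_assoc] at this
      exact (cancel_epi (gMap l f)).1 this

theorem ws_gObj {P : C → Prop} (hP : WS P) (l : List A) {X : C} (hX : P X) : P (gObj l X) := by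
  induction l with
  | nil => exact hP.zero _ (isZero_zero C)
  | cons b l ih =>
    exact hP.ext _ (ShortComplex.Splitting.ofHasBinaryBiproduct X (gObj l X)).shortExact hX ih

end GObj

end Groth.Agent.Lib.Helper57.AdicUnif
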