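import Groth.Agent.Lib.Helper57.AdicUnif1

set_option autoImplicit false
open CategoryTheory CategoryTheory.Limits Opposite ARSys ZeroObject
universe w v u

noncomputable section

namespace Groth.Agent.Lib.Helper57.AdicUnif

open Groth.Agent.Lib.Helper13.ARSysBasic Groth.Agent.Lib.Helper13.ARSysLin
  Groth.Agent.Lib.Helper13.ARSysML

variable {C : Type u} [Category.{v} C] [Abelian C] {A : Type w} [CommRing A] [Linear A C]

attribute [local instance] Classical.propDecidable

theorem killedBy_biprod {I : Ideal A} {X Y : C} (hX : KilledBy I X) (hY : KilledBy I Y) :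
    KilledBy I (X ⊞ Y) := by
  intro a ha
  apply biprod.hom_ext'
  · rw [comp_zero, comp_smul_id, ← smul_id_comp, hX a ha, zero_comp]
  · rw [comp_zero, comp_smul_id, ← smul_id_comp, hY a ha, zero_comp]

theorem isQuot_biprod_map {I : Ideal A} {X Q X' Q' : C} {p : X ⟶ Q} {p' : X' ⟶ Q'}
    (hp : IsQuot I p) (hp' : IsQuot I p') : IsQuot I (biprod.map p p') := by
  refine ⟨killedBy_biprod hp.1 hp'.1, fun Y φ hφ => ?_⟩
  have h1 : HomKilledBy I (biprod.inl ≫ φ) := homKilledBy_comp_left hφ _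
  have h2 : HomKilledBy I (biprod.inr ≫ φ) := homKilledBy_comp_left hφ _
  obtain ⟨ψ₁, hψ₁, u₁⟩ := hp.2 Y _ h1
  obtain ⟨ψ₂, hψ₂, u₂⟩ := hp'.2 Y _ h2
  refine ⟨biprod.desc ψ₁ ψ₂, ?_, ?_⟩
  · apply biprod.hom_ext'
    · rw [biprod.inl_map_assoc, biprod.inl_desc, hψ₁]
    · rw [biprod.inr_map_assoc, biprod.inr_desc, hψ₂]
  · intro ψ' hψ'
    apply biprod.hom_ext'
    · rw [biprod.inl_desc]
      apply u₁
      rw [← hψ', biprod.inl_map_assoc]
    · rw [biprod.inr_desc]
      apply u₂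
      rw [← hψ', biprod.inr_map_assoc]

theorem killedBy_zero (I : Ideal A) : KilledBy I (0 : C) :=
  fun _ _ => (isZero_zero C).eq_of_src _ _

theorem killedBy_gObj {I : Ideal A} (l : List A) {X : C} (hX : KilledBy I X) :
    KilledBy I (gObj l X) := by
  induction l with
  | nil => exact killedBy_zero I
  | cons b l ih => exact killedBy_biprod hX ih

theorem isQuot_gMap {I : Ideal A} (l : List A) {X Q : C} {p : X ⟶ Q} (hp : IsQuot I p) :
    IsQuot I (gMap l p) := by
  induction l with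
  | nil =>
    exact ⟨killedBy_zero I, fun Y φ _ => ⟨0, (isZero_zero C).eq_of_src _ _,
      fun _ _ => (isZero_zero C).eq_of_src _ _⟩⟩
  | cons b l ih => exact isQuot_biprod_map hp ih

theorem isAdic_comp_G {J : Ideal A} (l : List A) {F : PS C} (hF : IsAdic J F) :
    IsAdic J (F ⋙ G l) :=
  ⟨fun n => killedBy_gObj l (hF.1 n), fun n m h => isQuot_gMap l (hF.2 n m h)⟩

theorem homKilledBy_of_gens {J : Ideal A} (l : List A) (hl : Ideal.span {c | c ∈ l} = J)
    {X Y : C} (π : X ⟶ Y) (h : ∀ c ∈ l, c • π = 0) : HomKilledBy J π := by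
  intro b hb
  rw [← hl] at hb
  induction hb using Submodule.span_induction with
  | mem x hx => exact h x hx
  | zero => rw [zero_smul]
  | add x y _ _ hx hy => rw [add_smul, hx, hy, add_zero]
  | smul c x _ hx => rw [smul_eq_mul, mul_smul, hx, smul_zero]

section M

variable {J : Ideal A} {F : PS C} (hF : IsAdic J F)

include hF in
theorem exists_mC (c : A) (hc : c ∈ J) (q : ℕ) :
    ∃ m : F.obj (op q) ⟶ F.obj (op (q + 1)),
      tr F (Nat.le_succ q) ≫ m = c • 𝟙 (F.obj (op (q + 1))) := by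
  have hk : HomKilledBy (J ^ (q + 1)) (c • 𝟙 (F.obj (op (q + 1)))) := by
    intro b hb
    rw [← mul_smul]
    exact hF.1 (q + 1) (b * c) (by rw [pow_succ J (q + 1)]; exact Ideal.mul_mem_mul hb hc)
  exact isQuot_exists_desc (hF.2 q (q + 1) _) _ hk

/-- multiplication by `c ∈ J`, raising the level -/
def mC (c : A) (q : ℕ) : F.obj (op q) ⟶ F.obj (op (q + 1)) :=
  if hc : c ∈ J then (exists_mC hF c hc q).choose else 0

theorem tr_mC {c : A} (hc : c ∈ J) (q : ℕ) :
    tr F (Nat.le_succ q) ≫ mC hF c q = c • 𝟙 (F.obj (op (q + 1))) := by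
  unfold mC
  rw [dif_pos hc]
  exact (exists_mC hF c hc q).choose_spec

include hF in
theorem epi_tr {n m : ℕ} (h : n ≤ m) : Epi (tr F h) := isQuot_epi (hF.2 n m h)

theorem mC_nat {c : A} (hc : c ∈ J) {n m : ℕ} (h : n ≤ m) :
    tr F h ≫ mC hF c n = mC hF c m ≫ tr F (Nat.succ_le_succ h) := by
  haveI := epi_tr hF (Nat.le_succ m)
  rw [← cancel_epi (tr F (Nat.le_succ m)), ← Category.assoc, tr_comp,
    ← Category.assoc, tr_mC hF hc, smul_id_comp,
    ← tr_comp F (Nat.le_succ n) (Nat.succ_le_succ h), Category.assoc, tr_mC hF hc, comp_smul_id]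

theorem mC_tr0 {c : A} (hc : c ∈ J) (q : ℕ) :
    mC hF c q ≫ tr F (Nat.zero_le (q + 1)) = 0 := by
  haveI := epi_tr hF (Nat.le_succ q)
  rw [← cancel_epi (tr F (Nat.le_succ q)), ← Category.assoc, tr_mC hF hc, smul_id_comp,
    comp_zero, ← comp_smul_id]
  have h0 := hF.1 0 c (by rw [zero_add, pow_one]; exact hc)
  rw [h0, comp_zero]

variable (l : List A)

/-- the morphism of systems `F^{⊕ l} ⟶ F[1]`, `(x_c) ↦ ∑ c x̃_c` -/
def mNat : (F ⋙ G l) ⟶ (shift C 1).obj F where
  app n := sumMap (fun c => mC hF c n.unop) l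
  naturality := by
    rintro ⟨n⟩ ⟨m⟩ f
    have h : m ≤ n := leOfHom f.unop
    have hf : f = (homOfLE h).op := Subsingleton.elim _ _
    subst hf
    change gMap l (tr F h) ≫ sumMap (fun c => mC hF c m) l =
      sumMap (fun c => mC hF c n) l ≫ tr F (Nat.succ_le_succ h)
    apply gMap_sumMap
    intro c _
    by_cases hc : c ∈ J
    · exact mC_nat hF hc h
    · unfold mC
      rw [dif_neg hc, dif_neg hc, comp_zero, zero_comp]

theorem mNat_app (q : ℕ) : (mNat hF l).app (op q) = sumMap (fun c => mC hF c q) l := rfl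

variable (hl : Ideal.span {c | c ∈ l} = J)

include hl in
theorem mem_J_of_mem {c : A} (hc : c ∈ l) : c ∈ J := by
  rw [← hl]
  exact Ideal.subset_span hc

include hl in
theorem mNat_tr0 (q : ℕ) : (mNat hF l).app (op q) ≫ tr F (Nat.zero_le (q + 1)) = 0 := by
  have h1 : sumMap (fun c => mC hF c q) l ≫ tr F (Nat.zero_le (q + 1)) = 0 := by
    rw [sumMap_comp]
    apply sumMap_eq_zero
    intro c hc
    exact mC_tr0 hF (mem_J_of_mem l hl hc) q
  exact h1

include hl in
/-- `tr : F_{q+1} ⟶ F_0` is a cokernel of `mNat` -/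
theorem exists_desc_tr0 (q : ℕ) {Z : C} (π : F.obj (op (q + 1)) ⟶ Z)
    (h : (mNat hF l).app (op q) ≫ π = 0) :
    ∃ ψ : F.obj (op 0) ⟶ Z, tr F (Nat.zero_le (q + 1)) ≫ ψ = π := by
  have hk : HomKilledBy J π := by
    apply homKilledBy_of_gens l hl
    intro c hc
    have hcJ := mem_J_of_mem l hl hc
    rw [← smul_id_comp, ← tr_mC hF hcJ q, Category.assoc]
    have : mC hF c q ≫ π = 0 := by
      have h' : sumMap (fun c => mC hF c q) l ≫ π = 0 := h
      rw [← inj_sumMap (fun c => mC hF c q) l c hc, Category.assoc, h', comp_zero]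
    rw [this, comp_zero]
  have hq := hF.2 0 (q + 1) (Nat.zero_le _)
  rw [zero_add, pow_one] at hq
  exact isQuot_exists_desc hq π hk

end M

end Groth.Agent.Lib.Helper57.AdicUnif
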