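import Groth.Agent.Lib.Helper57.AdicUnif2
import Mathlib.CategoryTheory.Abelian.Refinements

set_option autoImplicit false
open CategoryTheory CategoryTheory.Limits Opposite ARSys ZeroObject
universe w v u

noncomputable section

namespace Groth.Agent.Lib.Helper57.AdicUnif

open Groth.Agent.Lib.Helper13.ARSysBasic Groth.Agent.Lib.Helper13.ARSysLin
  Groth.Agent.Lib.Helper13.ARSysML

variable {C : Type u} [Category.{v} C] [Abelian C] {A : Type w} [CommRing A] [Linear A C]

attribute [local instance] Classical.propDecidable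

theorem exact_of_lift (S : ShortComplex C)
    (h : ∀ ⦃T : C⦄ (x₂ : T ⟶ S.X₂), x₂ ≫ S.g = 0 →
      ∃ (T' : C) (π : T' ⟶ T) (_ : Epi π) (x₁ : T' ⟶ S.X₁), π ≫ x₂ = x₁ ≫ S.f) : S.Exact :=
  (ShortComplex.exact_iff_exact_up_to_refinements S).2 h

/-- a weak Serre class is closed under images -/
theorem ws_image {P : C → Prop} (hP : WS P) {X I Y : C} (e : X ⟶ I) (i : I ⟶ Y) [Epi e] [Mono i]
    (hX : P X) (hY : P Y) : P I := by
  have hK : P (kernel (e ≫ i)) :=
    hP.ker (ShortComplex.mk (kernel.ι (e ≫ i)) (e ≫ i) (kernel.condition _))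
      (ShortComplex.exact_kernel _) inferInstance hX hY
  have h0 : kernel.ι (e ≫ i) ≫ e = 0 := by
    rw [← cancel_mono i, Category.assoc, kernel.condition, zero_comp]
  refine hP.coker (ShortComplex.mk (kernel.ι (e ≫ i)) e h0) ?_ inferInstance hK hX
  apply exact_of_lift
  intro T x hx
  have hx' : x ≫ e = 0 := hx
  refine ⟨T, 𝟙 T, inferInstance, kernel.lift (e ≫ i) x (by rw [← Category.assoc, hx', zero_comp]), ?_⟩
  rw [Category.id_comp]
  exact (kernel.lift_ι _ _ _).symm

theorem isStrict_of_succ (X : PS C) (h : ∀ q, Epi (tr X (Nat.le_succ q))) : IsStrict X := by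
  intro n m hnm
  induction m, hnm using Nat.le_induction with
  | base =>
    rw [tr_refl]
    infer_instance
  | succ m hnm ih =>
    haveI := ih
    haveI := h m
    have : tr X (Nat.le_succ_of_le hnm) = tr X (Nat.le_succ m) ≫ tr X hnm := (tr_comp X _ _).symm
    rw [show tr X (hnm.trans (Nat.le_succ m)) = tr X (Nat.le_succ m) ≫ tr X hnm from
      (tr_comp X _ _).symm]
    infer_instance

section S

variable {J : Ideal A} {F : PS C} (hF : IsAdic J F) (l : List A)
  (hl : Ideal.span {c | c ∈ l} = J)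

/-- the syzygy system -/
abbrev Sys : PS C := kernel (mNat hF l)

abbrev jS : Sys hF l ⟶ F ⋙ G l := kernel.ι (mNat hF l)

include hl in
/-- `F_{q+1}` is built from `F_0`, `F_q^{⊕ l}` and `S_q` -/
theorem ws_step_F {P : C → Prop} (hP : WS P) (q : ℕ) (h0 : P (F.obj (op 0)))
    (hE : P (gObj l (F.obj (op q)))) (hS : P ((Sys hF l).obj (op q))) :
    P (F.obj (op (q + 1))) := by
  let f : gObj l (F.obj (op q)) ⟶ F.obj (op (q + 1)) := (mNat hF l).app (op q)
  let k : (Sys hF l).obj (op q) ⟶ gObj l (F.obj (op q)) := (jS hF l).app (op q)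
  let g : F.obj (op (q + 1)) ⟶ F.obj (op 0) := tr F (Nat.zero_le (q + 1))
  have hkf : k ≫ f = 0 := ker_condition_app (mNat hF l) q
  have hfg : f ≫ g = 0 := mNat_tr0 hF l hl q
  haveI : Epi g := epi_tr hF _
  obtain ⟨I, e, i, hei, he, hi⟩ : ∃ (I : C) (e : gObj l (F.obj (op q)) ⟶ I)
      (i : I ⟶ F.obj (op (q + 1))), e ≫ i = f ∧ Epi e ∧ Mono i :=
    ⟨_, Abelian.factorThruImage f, Abelian.image.ι f, Abelian.image.fac f, inferInstance,
      inferInstance⟩
  have hke : k ≫ e = 0 := by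
    rw [← cancel_mono i, Category.assoc, hei, hkf, zero_comp]
  have hI : P I := by
    refine hP.coker (ShortComplex.mk k e hke) ?_ (inferInstance : Epi e) hS hE
    apply exact_of_lift
    intro T x hx
    have hx' : x ≫ e = 0 := hx
    obtain ⟨y, hy⟩ := exists_ker_lift_app (mNat hF l) q x (by
      change x ≫ f = 0
      rw [← hei, ← Category.assoc, hx', zero_comp])
    exact ⟨T, 𝟙 T, inferInstance, y, by rw [Category.id_comp]; exact hy.symm⟩
  have hig : i ≫ g = 0 := by
    rw [← cancel_epi e, ← Category.assoc, hei, hfg, comp_zero]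
  refine hP.ext (ShortComplex.mk i g hig) ?_ hI h0
  refine { exact := ?_, mono_f := (inferInstance : Mono i), epi_g := (inferInstance : Epi g) }
  apply exact_of_lift
  intro T x hx
  have hx' : x ≫ g = 0 := hx
  have hc : x ≫ cokernel.π f = 0 := by
    obtain ⟨ψ, hψ⟩ := exists_desc_tr0 hF l hl q (cokernel.π f) (cokernel.condition f)
    rw [← hψ, ← Category.assoc, hx', zero_comp]
  obtain ⟨T', π, hπ, y, hy⟩ :=
    (ShortComplex.exact_cokernel f).exact_up_to_refinements x hc
  exact ⟨T', π, hπ, y ≫ e, by rw [Category.assoc]; change π ≫ x = y ≫ e ≫ i; rw [hei]; exact hy⟩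

include hl in
/-- elements of `gr_{q+2} F` come from `(gr_{q+1} F)^{⊕ l}` -/
theorem exists_lift_gr (q : ℕ) {T : C} (z : T ⟶ F.obj (op (q + 1 + 1)))
    (hz : z ≫ tr F (Nat.le_succ (q + 1)) = 0) :
    ∃ (T' : C) (π : T' ⟶ T) (_ : Epi π) (w : T' ⟶ gObj l (F.obj (op (q + 1)))),
      w ≫ gMap l (tr F (Nat.le_succ q)) = 0 ∧
        w ≫ sumMap (fun c => mC hF c (q + 1)) l = π ≫ z := by
  let κ := kernel.ι (gMap l (tr F (Nat.le_succ q)))
  let n' := κ ≫ sumMap (fun c => mC hF c (q + 1)) l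
  let cc := cokernel.π n'
  have G1 : ∀ c ∈ l, ∀ n ∈ J ^ (q + 1), c • n • cc = 0 := by
    intro c hc n hn
    have hcJ := mem_J_of_mem l hl hc
    let u : F.obj (op (q + 1 + 1)) ⟶ F.obj (op (q + 1)) :=
      (n • 𝟙 _) ≫ tr F (Nat.le_succ (q + 1))
    have hu : u ≫ tr F (Nat.le_succ q) = 0 := by
      change ((n • 𝟙 _) ≫ tr F (Nat.le_succ (q + 1))) ≫ tr F (Nat.le_succ q) = 0
      rw [Category.assoc, tr_comp, smul_id_comp, ← comp_smul_id, hF.1 q n hn, comp_zero]
    let v := u ≫ inj l c (F.obj (op (q + 1)))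
    have hv : v ≫ gMap l (tr F (Nat.le_succ q)) = 0 := by
      change (u ≫ inj l c _) ≫ gMap l (tr F (Nat.le_succ q)) = 0
      rw [Category.assoc, inj_gMap, ← Category.assoc, hu, zero_comp]
    have hv2 : v ≫ sumMap (fun c => mC hF c (q + 1)) l = u ≫ mC hF c (q + 1) := by
      change (u ≫ inj l c _) ≫ _ = _
      rw [Category.assoc, inj_sumMap _ l c hc]
    have h3 : u ≫ mC hF c (q + 1) ≫ cc = 0 := by
      have hn : n' ≫ cc = 0 := cokernel.condition n'
      have h5 : κ ≫ sumMap (fun c => mC hF c (q + 1)) l ≫ cc = 0 := by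
        rw [← Category.assoc]
        exact hn
      have h6 : v ≫ sumMap (fun c => mC hF c (q + 1)) l ≫ cc = 0 := by
        rw [← kernel.lift_ι (gMap l (tr F (Nat.le_succ q))) v hv, Category.assoc]
        change kernel.lift _ v hv ≫ κ ≫ _ = 0
        rw [h5, comp_zero]
      rw [← Category.assoc, ← hv2, Category.assoc]
      exact h6
    have h4 : (c * n) • 𝟙 (F.obj (op (q + 1 + 1))) = u ≫ mC hF c (q + 1) := by
      change _ = ((n • 𝟙 _) ≫ tr F (Nat.le_succ (q + 1))) ≫ mC hF c (q + 1)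
      rw [Category.assoc, tr_mC hF hcJ (q + 1), smul_id_comp, ← mul_smul, mul_comm]
    rw [← mul_smul, ← smul_id_comp, h4, Category.assoc, h3]
  have hcc : HomKilledBy (J ^ (q + 1 + 1)) cc := by
    intro b hb
    rw [pow_succ' J (q + 1)] at hb
    refine Submodule.mul_induction_on hb ?_ ?_
    · intro m hm n hn
      have := homKilledBy_of_gens l hl (n • cc) (fun c hc => G1 c hc n hn) m hm
      rw [mul_smul]
      exact this
    · intro x y hx hy
      rw [add_smul, hx, hy, add_zero]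
  have hzc : z ≫ cc = 0 :=
    ((isQuot_comp_eq_zero_iff (hF.2 (q + 1) (q + 1 + 1) _) z).1 hz) cc hcc
  obtain ⟨T', π, hπ, y, hy⟩ :=
    (ShortComplex.exact_cokernel n').exact_up_to_refinements z hzc
  refine ⟨T', π, hπ, y ≫ κ, ?_, ?_⟩
  · rw [Category.assoc, kernel.condition, comp_zero]
  · rw [Category.assoc]
    exact hy.symm

include hl in
theorem epi_tr_Sys (q : ℕ) : Epi (tr (Sys hF l) (Nat.le_succ q)) := by
  rw [epi_iff_surjective_up_to_refinements]
  intro T x
  let x₁ : T ⟶ gObj l (F.obj (op q)) := x ≫ (jS hF l).app (op q)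
  have hx₁ : x₁ ≫ sumMap (fun c => mC hF c q) l = 0 := by
    change (x ≫ (jS hF l).app (op q)) ≫ (mNat hF l).app (op q) = 0
    rw [Category.assoc, ker_condition_app, comp_zero]
  haveI := epi_tr hF (Nat.le_succ q)
  haveI := epi_gMap l (tr F (Nat.le_succ q))
  obtain ⟨T₁, π₁, hπ₁, y₀, hy₀⟩ :=
    surjective_up_to_refinements_of_epi (gMap l (tr F (Nat.le_succ q))) x₁
  have hnat : gMap l (tr F (Nat.le_succ q)) ≫ sumMap (fun c => mC hF c q) l =
      sumMap (fun c => mC hF c (q + 1)) l ≫ tr F (Nat.le_succ (q + 1)) :=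
    (mNat hF l).naturality (homOfLE (Nat.le_succ q)).op
  let z := y₀ ≫ sumMap (fun c => mC hF c (q + 1)) l
  have hz : z ≫ tr F (Nat.le_succ (q + 1)) = 0 := by
    change (y₀ ≫ _) ≫ _ = 0
    rw [Category.assoc, ← hnat, ← Category.assoc, ← hy₀, Category.assoc, hx₁, comp_zero]
  obtain ⟨T₂, π₂, hπ₂, w, hw1, hw2⟩ := exists_lift_gr hF l hl q z hz
  let y := π₂ ≫ y₀ - w
  have hy : y ≫ (mNat hF l).app (op (q + 1)) = 0 := by
    change (π₂ ≫ y₀ - w) ≫ sumMap (fun c => mC hF c (q + 1)) l = 0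
    rw [Preadditive.sub_comp, hw2, Category.assoc, sub_self]
  obtain ⟨y', hy'⟩ := exists_ker_lift_app (mNat hF l) (q + 1) y hy
  refine ⟨T₂, π₂ ≫ π₁, epi_comp _ _, y', ?_⟩
  haveI : Mono ((jS hF l).app (op q)) := inferInstance
  rw [← cancel_mono ((jS hF l).app (op q)), Category.assoc, Category.assoc, Category.assoc,
    tr_naturality (jS hF l) (Nat.le_succ q), ← Category.assoc y', hy']
  change π₂ ≫ π₁ ≫ x₁ = (π₂ ≫ y₀ - w) ≫ gMap l (tr F (Nat.le_succ q))
  rw [Preadditive.sub_comp, hw1, sub_zero, Category.assoc, hy₀]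

include hl in
theorem isStrict_Sys : IsStrict (Sys hF l) :=
  isStrict_of_succ _ (epi_tr_Sys hF l hl)

end S

end Groth.Agent.Lib.Helper57.AdicUnif
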