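import Groth.Agent.Lib.Helper57.AdicUnif3

set_option autoImplicit false
open CategoryTheory CategoryTheory.Limits Opposite ARSys ZeroObject
universe w v u

noncomputable section

namespace Groth.Agent.Lib.Helper57.AdicUnif

open Groth.Agent.Lib.Helper13.ARSysBasic Groth.Agent.Lib.Helper13.ARSysLin
  Groth.Agent.Lib.Helper13.ARSysML

variable {C : Type u} [Category.{v} C] [Abelian C] {A : Type w} [CommRing A] [Linear A C]

attribute [local instance] Classical.propDecidable

theorem wsNoeth : WS (fun X : C => IsNoetherianObject X) where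
  iso e h := by
    haveI := h
    exact Groth.Agent.Lib.Helper13.NoethSerre.isNoetherianObject_of_epi e.hom
  ker S _ hm h2 _ := by
    haveI := h2
    haveI := hm
    exact isNoetherianObject_of_mono S.f
  coker S _ he _ h2 := by
    haveI := h2
    haveI := he
    exact Groth.Agent.Lib.Helper13.NoethSerre.isNoetherianObject_of_epi S.g
  ext S hS h1 h3 := by
    haveI := h1
    haveI := h3
    exact Groth.Agent.Lib.Helper13.NoethSerre.isNoetherianObject_X₂ S hS
  zero X hX := isNoetherianObject_of_isZero hX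

theorem isQuot_comp {J : Ideal A} {a b : ℕ} (hab : b ≤ a) {X Q Q' : C} {p : X ⟶ Q}
    {p' : Q ⟶ Q'} (hp : IsQuot (J ^ a) p) (hp' : IsQuot (J ^ b) p') :
    IsQuot (J ^ b) (p ≫ p') := by
  haveI := isQuot_epi hp
  haveI := isQuot_epi hp'
  haveI : Epi (p ≫ p') := epi_comp _ _
  refine isQuot_of_epi_of_forall (p ≫ p') hp'.1 ?_
  intro Y φ hφ
  have h1 : HomKilledBy (J ^ a) φ := homKilledBy_mono (Ideal.pow_le_pow_right hab) hφ
  obtain ⟨φ', hφ'⟩ := isQuot_exists_desc hp φ h1
  have h2 : HomKilledBy (J ^ b) φ' := homKilledBy_of_epi_comp p (by rw [hφ']; exact hφ)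
  obtain ⟨ψ, hψ⟩ := isQuot_exists_desc hp' φ' h2
  exact ⟨ψ, by rw [Category.assoc, hψ, hφ']⟩

section Step

variable {J : Ideal A} {F : PS C} (hF : IsAdic J F) (l : List A)

theorem termKilled_Sys : TermKilled J (Sys hF l) := fun n =>
  killedBy_of_mono ((jS hF l).app (op n)) (killedBy_gObj l (hF.1 n))

theorem ws_ker_Sys {P : C → Prop} (hP : WS P) (i : ℕ) (h1 : P (F.obj (op i)))
    (h2 : P (F.obj (op (i + 1)))) : P ((Sys hF l).obj (op i)) := by
  refine hP.ker (ShortComplex.mk ((jS hF l).app (op i)) ((mNat hF l).app (op i))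
    (ker_condition_app _ i)) ?_ (inferInstance : Mono ((jS hF l).app (op i)))
    (ws_gObj hP l h1) h2
  apply exact_of_lift
  intro T x hx
  obtain ⟨y, hy⟩ := exists_ker_lift_app (mNat hF l) i x hx
  exact ⟨T, 𝟙 T, inferInstance, y, by rw [Category.id_comp]; exact hy.symm⟩

theorem ws_step_S {P : C → Prop} (hP : WS P) (r₀ : ℕ) (Y : PS C)
    (q : (shift C r₀).obj (Sys hF l) ⟶ Y)
    (hq : ∀ n : ℕ, IsQuot (J ^ (n + 1)) (q.app (op n))) (hY : IsAdic J Y)
    (hstrict : IsStrict (Sys hF l)) (hfg : ∀ k : ℕ, (J ^ k).FG)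
    (m' : ℕ) (hm : r₀ ≤ m')
    (h1 : P ((Sys hF l).obj (op (r₀ + r₀))))
    (h2 : P ((Sys hF l).obj (op (m' + r₀))))
    (h3 : P (gObj l (F.obj (op (m' + 1 + r₀))))) :
    P ((Sys hF l).obj (op (m' + 1 + r₀))) := by
  let S := Sys hF l
  have hle1 : m' + r₀ ≤ m' + 1 + r₀ := by omega
  have hle2 : r₀ + r₀ ≤ m' + 1 + r₀ := by omega
  let trS := tr S hle1
  -- the two quotient maps
  have hp1 : IsQuot (J ^ (m' + 1)) (trS ≫ q.app (op m')) := by
    have e : trS ≫ q.app (op m') = q.app (op (m' + 1)) ≫ tr Y (Nat.le_succ m') :=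
      tr_naturality q (Nat.le_succ m')
    rw [e]
    exact isQuot_comp (Nat.le_succ _) (hq (m' + 1)) (hY.2 m' (m' + 1) _)
  have hp2 : IsQuot (J ^ (r₀ + 1)) (tr S hle2 ≫ q.app (op r₀)) := by
    have hr : r₀ ≤ m' + 1 := by omega
    have e : tr S hle2 ≫ q.app (op r₀) = q.app (op (m' + 1)) ≫ tr Y hr :=
      tr_naturality q hr
    rw [e]
    exact isQuot_comp (by omega) (hq (m' + 1)) (hY.2 r₀ (m' + 1) _)
  obtain ⟨s, hs⟩ := hfg (m' + 1)
  let lm := s.toList
  have hlm : Ideal.span {c | c ∈ lm} = J ^ (m' + 1) := by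
    rw [← hs]
    congr 1
    ext c
    simp [lm]
  have hex : ∀ c : A, c ∈ J ^ (m' + 1) → ∃ μ : S.obj (op (r₀ + r₀)) ⟶ S.obj (op (m' + 1 + r₀)),
      tr S hle2 ≫ μ = c • 𝟙 _ := by
    intro c hc
    have hk : HomKilledBy (J ^ (r₀ + 1)) (c • 𝟙 (S.obj (op (m' + 1 + r₀)))) := by
      intro b hb
      rw [← mul_smul]
      apply termKilled_Sys hF l (m' + 1 + r₀)
      have : b * c ∈ J ^ (r₀ + 1) * J ^ (m' + 1) := Ideal.mul_mem_mul hb hc
      rw [← pow_add] at this
      exact Ideal.pow_le_pow_right (by omega) this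
    obtain ⟨ν, hν⟩ := isQuot_exists_desc hp2 _ hk
    exact ⟨q.app (op r₀) ≫ ν, by rw [← Category.assoc]; exact hν⟩
  choose! μ hμ using hex
  let sgm := sumMap μ lm
  let π := cokernel.π sgm
  have hπ : HomKilledBy (J ^ (m' + 1)) π := by
    apply homKilledBy_of_gens lm hlm
    intro c hc
    have hcJ : c ∈ J ^ (m' + 1) := by
      rw [← hlm]
      exact Ideal.subset_span hc
    have h5 : μ c ≫ π = 0 := by
      rw [← inj_sumMap μ lm c hc, Category.assoc]
      change inj lm c _ ≫ sgm ≫ cokernel.π sgm = 0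
      rw [cokernel.condition, comp_zero]
    rw [← smul_id_comp, ← hμ c hcJ, Category.assoc, h5, comp_zero]
  obtain ⟨ψ, hψ⟩ := isQuot_exists_desc hp1 π hπ
  let ιM := kernel.ι trS
  have hιπ : ιM ≫ π = 0 := by
    have h8 : ιM ≫ trS = 0 := kernel.condition trS
    rw [← hψ, ← Category.assoc, ← Category.assoc, h8, zero_comp, zero_comp]
  have hR : P (kernel (sgm ≫ trS)) :=
    hP.ker (ShortComplex.mk (kernel.ι (sgm ≫ trS)) (sgm ≫ trS) (kernel.condition _))
      (ShortComplex.exact_kernel _) inferInstance (ws_gObj hP lm h1) h2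
  let ρ : kernel (sgm ≫ trS) ⟶ kernel trS :=
    kernel.lift trS (kernel.ι (sgm ≫ trS) ≫ sgm) (by rw [Category.assoc, kernel.condition])
  have hρ : ρ ≫ ιM = kernel.ι (sgm ≫ trS) ≫ sgm := kernel.lift_ι _ _ _
  haveI : Epi ρ := by
    rw [epi_iff_surjective_up_to_refinements]
    intro T x
    have h6 : (x ≫ ιM) ≫ π = 0 := by rw [Category.assoc, hιπ, comp_zero]
    obtain ⟨T', π', hπ', y, hy⟩ :=
      (ShortComplex.exact_cokernel sgm).exact_up_to_refinements (x ≫ ιM) h6
    have hy' : π' ≫ x ≫ ιM = y ≫ sgm := hy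
    have h7 : y ≫ sgm ≫ trS = 0 := by
      rw [← Category.assoc, ← hy', Category.assoc, Category.assoc]
      change π' ≫ x ≫ kernel.ι trS ≫ trS = 0
      rw [kernel.condition, comp_zero, comp_zero]
    refine ⟨T', π', hπ', kernel.lift (sgm ≫ trS) y h7, ?_⟩
    rw [← cancel_mono ιM, Category.assoc, Category.assoc, hρ, kernel.lift_ι_assoc]
    exact hy'
  haveI : Mono ((jS hF l).app (op (m' + 1 + r₀))) := inferInstance
  haveI : Mono (ιM ≫ (jS hF l).app (op (m' + 1 + r₀))) := mono_comp _ _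
  have hM : P (kernel trS) := ws_image hP ρ (ιM ≫ (jS hF l).app (op (m' + 1 + r₀))) hR h3
  haveI : Epi trS := hstrict _ _ hle1
  exact hP.ext (ShortComplex.mk ιM trS (kernel.condition _))
    { exact := ShortComplex.exact_kernel _
      mono_f := (inferInstance : Mono (kernel.ι trS))
      epi_g := (inferInstance : Epi trS) } hM h2

end Step

/-- uniform propagation: a weak Serre class containing the first `d + 1` terms of an adic
system with Noetherian terms contains all of them -/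
theorem unif [IsNoetherianRing A] (J : Ideal A) (F : PS C) (hF : IsAdic J F)
    (hN : ∀ n : ℕ, IsNoetherianObject (F.obj (op n))) :
    ∃ d : ℕ, ∀ P : C → Prop, WS P → (∀ i : ℕ, i ≤ d → P (F.obj (op i))) →
      ∀ n : ℕ, P (F.obj (op n)) := by
  have hJ : J.FG := IsNoetherian.noetherian J
  obtain ⟨s, hs⟩ := hJ
  let l := s.toList
  have hl : Ideal.span {c | c ∈ l} = J := by
    rw [← hs]
    congr 1
    ext c
    simp [l]
  have hstrict := isStrict_Sys hF l hl
  haveI : IsNoetherianObject ((F ⋙ G l).obj (op 0)) := ws_gObj wsNoeth l (hN 0)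
  have hAR : IsARAdic J (Sys hF l) :=
    Groth.Agent.Lib.Helper13.ARSysAR.isARAdic_of_strict_sub (jS hF l)
      (IsNoetherian.noetherian J) hstrict (isAdic_comp_G l hF)
  obtain ⟨r₀, Y, q, hq, hY⟩ :=
    (Groth.Agent.Lib.Helper13.ARSysQuot.isARAdic_iff_exists_quot
      (Or.inl (IsNoetherian.noetherian J)) (Sys hF l) hstrict (termKilled_Sys hF l)).1 hAR
  refine ⟨r₀ + r₀ + 1, fun P hP hd => ?_⟩
  have key : ∀ n : ℕ, r₀ + r₀ + 1 ≤ n →
      (∀ i, i ≤ n → P (F.obj (op i))) ∧ (∀ i, i < n → P ((Sys hF l).obj (op i))) := by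
    intro n hn
    induction n, hn using Nat.le_induction with
    | base =>
      refine ⟨hd, fun i hi => ?_⟩
      exact ws_ker_Sys hF l hP i (hd i (by omega)) (hd (i + 1) (by omega))
    | succ n hn ih =>
      obtain ⟨ihF, ihS⟩ := ih
      have hSn : P ((Sys hF l).obj (op n)) := by
        obtain ⟨m', rfl⟩ : ∃ m', n = m' + 1 + r₀ := ⟨n - 1 - r₀, by omega⟩
        exact ws_step_S hF l hP r₀ Y q hq hY hstrict (fun k => IsNoetherian.noetherian _)
          m' (by omega) (ihS _ (by omega)) (ihS _ (by omega))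
          (ws_gObj hP l (ihF _ le_rfl))
      have hFn : P (F.obj (op (n + 1))) :=
        ws_step_F hF l hl hP n (ihF 0 (by omega)) (ws_gObj hP l (ihF n le_rfl)) hSn
      refine ⟨fun i hi => ?_, fun i hi => ?_⟩
      · rcases Nat.lt_or_ge i (n + 1) with h | h
        · exact ihF i (by omega)
        · obtain rfl : i = n + 1 := by omega
          exact hFn
      · rcases Nat.lt_or_ge i n with h | h
        · exact ihS i h
        · obtain rfl : i = n := by omega
          exact hSn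
  intro n
  rcases Nat.lt_or_ge n (r₀ + r₀ + 1) with h | h
  · exact hd n (by omega)
  · exact (key n h).1 n le_rfl

end Groth.Agent.Lib.Helper57.AdicUnif
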