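import Mathlib
import Groth.Prelude.Def_EtShriek2
import Groth.Agent.Lib.Helper79.EtSiteGlue

set_option autoImplicit false
universe u

open CategoryTheory Limits AlgebraicGeometry Opposite

namespace Groth.Agent.Lib.Helper57.EZ

open Groth.Agent.Lib.Helper79.EtSiteGlue

variable {U X : Scheme.{u}} (j : U ⟶ X) [Etale j]

/-- `V ×_X U` as an étale `U`-scheme. -/
noncomputable abbrev PV (V : U.Etale) : U.Etale := (EtCoh.bc j).obj ((EtShriek.compEtale j).obj V)

/-- The diagonal `V → V ×_X U`. -/
noncomputable def δ (V : U.Etale) : V ⟶ PV j V :=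
  MorphismProperty.Over.homMk (pullback.lift (𝟙 _) V.hom (by simp)) (by
    exact pullback.lift_snd _ _ _) trivial

@[reassoc (attr := simp)]
lemma δ_left_fst (V : U.Etale) :
    (δ j V).left ≫ (pullback.fst (V.hom ≫ j) j : (PV j V).left ⟶ V.left) = 𝟙 _ :=
  pullback.lift_fst _ _ _

@[reassoc (attr := simp)]
lemma δ_left_snd (V : U.Etale) :
    (δ j V).left ≫ (pullback.snd (V.hom ≫ j) j : (PV j V).left ⟶ U) = V.hom :=
  pullback.lift_snd _ _ _

instance (V : U.Etale) : Mono (δ j V).left := mono_of_mono_fac (δ_left_fst j V)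

instance (V : U.Etale) : IsOpenImmersion (δ j V).left := by
  have h1 : Etale ((δ j V).left ≫ (PV j V).hom) := by
    have : (δ j V).left ≫ (PV j V).hom = V.hom := MorphismProperty.Over.w (δ j V)
    rw [this]; exact V.prop
  have h2 : Etale (PV j V).hom := (PV j V).prop
  have : Etale (δ j V).left := Etale.of_comp (δ j V).left (PV j V).hom
  exact IsOpenImmersion.of_flat_of_mono _

/-- The first projection `V ×_X U → V`. -/
noncomputable abbrev pfst (V : U.Etale) : (PV j V).left ⟶ V.left := pullback.fst (V.hom ≫ j) j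

/-- The second projection `V ×_X U → U`. -/
noncomputable abbrev psnd (V : U.Etale) : (PV j V).left ⟶ U := pullback.snd (V.hom ≫ j) j

lemma isClosed_range_δ [IsSeparated j] (V : U.Etale) : IsClosed (Set.range (δ j V).left) := by
  have h1 : IsClosedImmersion ((δ j V).left ≫ pfst j V) := by
    rw [δ_left_fst]; infer_instance
  have h2 : IsSeparated (pfst j V) :=
    MorphismProperty.pullback_fst (P := @IsSeparated) _ _ inferInstance
  have : IsClosedImmersion (δ j V).left := IsClosedImmersion.of_comp (δ j V).left (pfst j V)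
  exact (δ j V).left.isClosedEmbedding.isClosed_range

variable [IsSeparated j]

/-- The complement of the diagonal in `V ×_X U`. -/
noncomputable def Cset (V : U.Etale) : (PV j V).left.Opens :=
  ⟨(Set.range (δ j V).left)ᶜ, (isClosed_range_δ j V).isOpen_compl⟩

noncomputable abbrev CV (V : U.Etale) : U.Etale := openObj (PV j V) (Cset j V)

noncomputable abbrev cι (V : U.Etale) : CV j V ⟶ PV j V := openι (PV j V) (Cset j V)

lemma isSheaf_forget (F : EtCoh.Ab U) :
    Presieve.IsSheaf U.smallEtaleTopology (F.obj ⋙ forget AddCommGrpCat.{u + 1}) :=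
  (isSheaf_iff_isSheaf_of_type _ _).1
    ((Presheaf.isSheaf_iff_isSheaf_forget _ F.obj (forget AddCommGrpCat.{u + 1})).1 F.property)

lemma glue_data (V : U.Etale) :
    Mono (δ j V).left ∧ Mono (cι j V).left ∧
    Disjoint (Set.range (δ j V).left) (Set.range (cι j V).left) ∧
    ∀ x : (PV j V).left, x ∈ Set.range (δ j V).left ∨ x ∈ Set.range (cι j V).left := by
  have hr : Set.range (cι j V).left = (Set.range (δ j V).left)ᶜ := by
    show Set.range (Cset j V).ι = _
    rw [Scheme.Opens.range_ι]; rfl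
  refine ⟨inferInstance, ?_, ?_, ?_⟩
  · show Mono (Cset j V).ι
    infer_instance
  · rw [hr]; exact disjoint_compl_right
  · intro x
    rw [hr]
    exact Classical.em _

theorem existsUnique_ez (F : EtCoh.Ab U) (V : U.Etale) (t : F.obj.obj (op V)) :
    ∃! s : F.obj.obj (op (PV j V)), F.obj.map (δ j V).op s = t ∧ F.obj.map (cι j V).op s = 0 := by
  obtain ⟨h1, h2, h3, h4⟩ := glue_data j V
  exact existsUnique_glue_two (isSheaf_forget F) (PV j V) (δ j V) (cι j V) h1 h2 h3 h4 t
    (0 : F.obj.obj (op (CV j V)))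

/-- Extension by zero of a section along the diagonal. -/
noncomputable def ez (F : EtCoh.Ab U) (V : U.Etale) (t : F.obj.obj (op V)) :
    F.obj.obj (op (PV j V)) := (existsUnique_ez j F V t).choose

lemma ez_δ (F : EtCoh.Ab U) (V : U.Etale) (t : F.obj.obj (op V)) :
    F.obj.map (δ j V).op (ez j F V t) = t := (existsUnique_ez j F V t).choose_spec.1.1

lemma ez_c (F : EtCoh.Ab U) (V : U.Etale) (t : F.obj.obj (op V)) :
    F.obj.map (cι j V).op (ez j F V t) = 0 := (existsUnique_ez j F V t).choose_spec.1.2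

lemma ez_unique (F : EtCoh.Ab U) (V : U.Etale) (t : F.obj.obj (op V))
    (s : F.obj.obj (op (PV j V))) (h1 : F.obj.map (δ j V).op s = t)
    (h2 : F.obj.map (cι j V).op s = 0) : s = ez j F V t :=
  (existsUnique_ez j F V t).choose_spec.2 s ⟨h1, h2⟩

lemma ez_add (F : EtCoh.Ab U) (V : U.Etale) (t t' : F.obj.obj (op V)) :
    ez j F V (t + t') = ez j F V t + ez j F V t' := by
  symm
  apply ez_unique
  · rw [map_add, ez_δ, ez_δ]
  · rw [map_add, ez_c, ez_c, add_zero]

/-- vanishing of `ez` on anything mapping into the complement of the diagonal -/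
lemma ez_vanish (F : EtCoh.Ab U) (V : U.Etale) (t : F.obj.obj (op V)) {Z : U.Etale}
    (g : Z ⟶ PV j V) (hg : ∀ z : Z.left, g.left z ∉ Set.range (δ j V).left) :
    F.obj.map g.op (ez j F V t) = 0 := by
  have hr : Set.range g.left ⊆ Set.range (Cset j V).ι := by
    rw [Scheme.Opens.range_ι]
    rintro _ ⟨z, rfl⟩
    exact hg z
  let l : Z.left ⟶ (Cset j V).toScheme := IsOpenImmersion.lift (Cset j V).ι g.left hr
  have hl : l ≫ (Cset j V).ι = g.left := IsOpenImmersion.lift_fac _ _ _
  let l' : Z ⟶ CV j V := MorphismProperty.Over.homMk l (by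
    show l ≫ (Cset j V).ι ≫ (PV j V).hom = Z.hom
    rw [← Category.assoc, hl]; exact MorphismProperty.Over.w g) trivial
  have : g = l' ≫ cι j V := MorphismProperty.Over.Hom.ext hl.symm
  rw [this, op_comp, Functor.map_comp]
  show F.obj.map l'.op (F.obj.map (cι j V).op (ez j F V t)) = 0
  rw [ez_c, map_zero]

/-- The map `V' ×_X U → V ×_X U` induced by `g : V' → V`. -/
noncomputable abbrev Pmap {V' V : U.Etale} (g : V' ⟶ V) : PV j V' ⟶ PV j V :=
  (EtCoh.bc j).map ((EtShriek.compEtale j).map g)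

omit [IsSeparated j] in
@[reassoc]
lemma Pmap_fst {V' V : U.Etale} (g : V' ⟶ V) :
    (Pmap j g).left ≫ pfst j V = pfst j V' ≫ g.left :=
  (EtCoh.isPullback_bc_map j ((EtShriek.compEtale j).map g)).w

omit [IsSeparated j] in
@[reassoc]
lemma Pmap_snd {V' V : U.Etale} (g : V' ⟶ V) :
    (Pmap j g).left ≫ psnd j V = psnd j V' :=
  MorphismProperty.Over.w (Pmap j g)

omit [IsSeparated j] in
lemma δ_Pmap {V' V : U.Etale} (g : V' ⟶ V) : δ j V' ≫ Pmap j g = g ≫ δ j V := by
  apply MorphismProperty.Over.Hom.ext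
  show (δ j V').left ≫ (Pmap j g).left = g.left ≫ (δ j V).left
  apply pullback.hom_ext
  · show ((δ j V').left ≫ (Pmap j g).left) ≫ pfst j V = (g.left ≫ (δ j V).left) ≫ pfst j V
    rw [Category.assoc, Pmap_fst, δ_left_fst_assoc, Category.assoc, δ_left_fst, Category.comp_id]
  · show ((δ j V').left ≫ (Pmap j g).left) ≫ psnd j V = (g.left ≫ (δ j V).left) ≫ psnd j V
    rw [Category.assoc, Pmap_snd, δ_left_snd, Category.assoc, δ_left_snd]
    exact (MorphismProperty.Over.w g).symm

omit [IsSeparated j] in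
/-- The preimage of the diagonal under `Pmap` is the diagonal. -/
lemma mem_range_δ_of_Pmap {V' V : U.Etale} (g : V' ⟶ V) (z : (PV j V').left)
    (hz : (Pmap j g).left z ∈ Set.range (δ j V).left) : z ∈ Set.range (δ j V').left := by
  let O : (PV j V').left.Opens := (Pmap j g).left ⁻¹ᵁ (δ j V).left.opensRange
  have hzO : z ∈ O := hz
  have hr : Set.range (O.ι ≫ (Pmap j g).left) ⊆ Set.range (δ j V).left := by
    rintro _ ⟨y, rfl⟩
    rw [Scheme.Hom.comp_apply]
    exact y.2
  let ρ : O.toScheme ⟶ V.left := IsOpenImmersion.lift (δ j V).left (O.ι ≫ (Pmap j g).left) hr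
  have hρ : ρ ≫ (δ j V).left = O.ι ≫ (Pmap j g).left := IsOpenImmersion.lift_fac _ _ _
  let a : O.toScheme ⟶ V'.left := O.ι ≫ pfst j V'
  have hgV : g.left ≫ V.hom = V'.hom := MorphismProperty.Over.w g
  have key : O.ι = a ≫ (δ j V').left := by
    apply pullback.hom_ext
    · show O.ι ≫ pfst j V' = (a ≫ (δ j V').left) ≫ pfst j V'
      rw [Category.assoc, δ_left_fst, Category.comp_id]
    · show O.ι ≫ psnd j V' = (a ≫ (δ j V').left) ≫ psnd j V'
      rw [Category.assoc, δ_left_snd, ← Pmap_snd j g, ← Category.assoc, ← hρ, Category.assoc,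
        δ_left_snd]
      show ρ ≫ V.hom = (O.ι ≫ pfst j V') ≫ V'.hom
      rw [← hgV, Category.assoc, ← Pmap_fst_assoc, ← Category.assoc, ← hρ, Category.assoc,
        δ_left_fst_assoc]
  refine ⟨a ⟨z, hzO⟩, ?_⟩
  rw [← Scheme.Hom.comp_apply, ← key]
  rfl

lemma ez_naturality (F : EtCoh.Ab U) {V' V : U.Etale} (g : V' ⟶ V) (t : F.obj.obj (op V)) :
    F.obj.map (Pmap j g).op (ez j F V t) = ez j F V' (F.obj.map g.op t) := by
  apply ez_unique
  · have : F.obj.map (δ j V').op (F.obj.map (Pmap j g).op (ez j F V t)) =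
        F.obj.map g.op (F.obj.map (δ j V).op (ez j F V t)) := by
      have h := congrArg (fun k => F.obj.map k.op (ez j F V t)) (δ_Pmap j g)
      simpa only [op_comp, Functor.map_comp, ConcreteCategory.comp_apply] using h
    rw [this, ez_δ]
  · have : F.obj.map (cι j V').op (F.obj.map (Pmap j g).op (ez j F V t)) =
        F.obj.map (cι j V' ≫ Pmap j g).op (ez j F V t) := by
      simp only [op_comp, Functor.map_comp, ConcreteCategory.comp_apply]
    rw [this]
    apply ez_vanish
    intro z hz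
    have h1 : (cι j V' ≫ Pmap j g).left z = (Pmap j g).left ((cι j V').left z) := by
      show ((cι j V').left ≫ (Pmap j g).left) z = _
      rw [Scheme.Hom.comp_apply]
    rw [h1] at hz
    have h2 := mem_range_δ_of_Pmap j g _ hz
    exact z.2 h2

lemma ez_map {F G : EtCoh.Ab U} (α : F ⟶ G) (V : U.Etale) (t : F.obj.obj (op V)) :
    α.hom.app (op (PV j V)) (ez j F V t) = ez j G V (α.hom.app (op V) t) := by
  have nat : ∀ {A B : U.Etale} (k : A ⟶ B) (s : F.obj.obj (op B)),
      G.obj.map k.op (α.hom.app (op B) s) = α.hom.app (op A) (F.obj.map k.op s) := by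
    intro A B k s
    have := congrArg (fun φ => φ s) (congrArg AddCommGrpCat.Hom.hom (α.hom.naturality k.op))
    simp only [AddCommGrpCat.hom_comp, AddMonoidHom.coe_comp, Function.comp_apply] at this
    exact this.symm
  apply ez_unique
  · rw [nat, ez_δ]
  · rw [nat, ez_c, map_zero]

end Groth.Agent.Lib.Helper57.EZ
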