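import Mathlib
import Groth.Agent.Lib.Helper57.EZ1

set_option autoImplicit false
universe u

open CategoryTheory Limits AlgebraicGeometry Opposite

namespace Groth.Agent.Lib.Helper57.EZ

variable {U X : Scheme.{u}} (j : U ⟶ X) [Etale j] [IsSeparated j] [EtShriek.JCont j]

/-- The presheaf map underlying `η`. -/
noncomputable def ηval (F : EtCoh.Ab U) :
    F.obj ⟶ ((EtShriek.restrAlong j).obj ((EtCoh.push j).obj F)).obj where
  app V := AddCommGrpCat.ofHom (AddMonoidHom.mk' (ez j F V.unop) (ez_add j F V.unop))
  naturality V V' g := by
    ext t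
    exact (ez_naturality j F g.unop t).symm

/-- The natural transformation `F → j⁻¹ j_* F` (extension by zero along the diagonal). -/
noncomputable def η : 𝟭 (EtCoh.Ab U) ⟶ EtCoh.push j ⋙ EtShriek.restrAlong j where
  app F := ⟨ηval j F⟩
  naturality F G α := by
    ext V t
    exact (ez_map j α V.unop t).symm

/-- The comparison `j_! → j_*`. -/
noncomputable def τ : EtShriek.extZero j ⟶ EtCoh.push j where
  app F := ((EtShriek.extZeroAdj j).homEquiv _ _).symm ((η j).app F)
  naturality F G α := by
    rw [← Adjunction.homEquiv_naturality_left_symm, ← Adjunction.homEquiv_naturality_right_symm]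
    congr 1
    exact (η j).naturality α

end Groth.Agent.Lib.Helper57.EZ
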