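import Mathlib
import Groth.Agent.Lib.Helper57.EZ2

set_option autoImplicit false
universe u

open CategoryTheory Limits AlgebraicGeometry Opposite

namespace Groth.Agent.Lib.Helper57.EZ

variable {U X : Scheme.{u}} (j : U ⟶ X) [Etale j] [IsSeparated j] [EtShriek.JCont j]

noncomputable abbrev G := EtShriek.compEtale j
abbrev A := AddCommGrpCat.{u + 1}

noncomputable abbrev adjC :=
  Functor.sheafPullbackConstruction.sheafAdjunctionContinuous (G j) A U.smallEtaleTopology
    X.smallEtaleTopology

noncomputable abbrev isoC :=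
  Functor.sheafPullbackConstruction.sheafPullbackIso (G j) A U.smallEtaleTopology
    X.smallEtaleTopology

/-- the left Kan extension presheaf -/
noncomputable abbrev Lan (F : EtCoh.Ab U) : X.Etaleᵒᵖ ⥤ A := (G j).op.lan.obj F.obj

lemma adjC_unit (F : EtCoh.Ab U) :
    ((adjC j).unit.app F).hom =
      (G j).op.lanUnit.app F.obj ≫
        Functor.whiskerLeft (G j).op (toSheafify X.smallEtaleTopology (Lan j F)) := by
  rfl

/-- comparison from the constructed pullback to `extZero` -/
noncomputable abbrev eC (F : EtCoh.Ab U) :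
    (presheafToSheaf X.smallEtaleTopology A).obj (Lan j F) ⟶ (EtShriek.extZero j).obj F :=
  ((isoC j).app F).inv

lemma adjC_unit_eC (F : EtCoh.Ab U) :
    (adjC j).unit.app F ≫ (EtShriek.restrAlong j).map (eC j F) =
      (EtShriek.extZeroAdj j).unit.app F := by
  have h := Adjunction.unit_leftAdjointUniq_hom_app (EtShriek.extZeroAdj j) (adjC j) F
  rw [← h, Category.assoc, ← CategoryTheory.Functor.map_comp]
  have : ((EtShriek.extZeroAdj j).leftAdjointUniq (adjC j)).hom.app F ≫ eC j F = 𝟙 _ :=
    ((isoC j).app F).hom_inv_id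
  rw [this, CategoryTheory.Functor.map_id]
  exact Category.comp_id _

/-- The presheaf-level comparison `Lan F → j_* F`. -/
noncomputable def τ' (F : EtCoh.Ab U) : Lan j F ⟶ ((EtCoh.push j).obj F).obj :=
  toSheafify X.smallEtaleTopology (Lan j F) ≫ (eC j F).hom ≫ ((τ j).app F).hom

lemma lanUnit_τ' (F : EtCoh.Ab U) :
    (G j).op.lanUnit.app F.obj ≫ Functor.whiskerLeft (G j).op (τ' j F) = ηval j F := by
  have h1 : (adjC j).unit.app F ≫ (EtShriek.restrAlong j).map (eC j F ≫ (τ j).app F) =
      (η j).app F := by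
    rw [CategoryTheory.Functor.map_comp, ← Category.assoc, adjC_unit_eC]
    have : (EtShriek.extZeroAdj j).unit.app F ≫ (EtShriek.restrAlong j).map ((τ j).app F) =
        ((EtShriek.extZeroAdj j).homEquiv _ _) ((τ j).app F) :=
      ((EtShriek.extZeroAdj j).homEquiv_unit _ _ _).symm
    rw [this]
    exact Equiv.apply_symm_apply _ _
  have h2 := congrArg (fun a => a.hom) h1
  exact h2

theorem mono_τ_of_isLocallyInjective (F : EtCoh.Ab U)
    [h : Presheaf.IsLocallyInjective X.smallEtaleTopology (τ' j F)] : Mono ((τ j).app F) := by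
  haveI : IsIso (eC j F).hom :=
    inferInstanceAs (IsIso ((sheafToPresheaf _ _).map (eC j F)))
  haveI : Presheaf.IsLocallySurjective X.smallEtaleTopology
      (toSheafify X.smallEtaleTopology (Lan j F) ≫ (eC j F).hom) := inferInstance
  haveI : Sheaf.IsLocallyInjective ((τ j).app F) :=
    Presheaf.isLocallyInjective_of_isLocallyInjective_of_isLocallySurjective_fac
      (f₁ := toSheafify X.smallEtaleTopology (Lan j F) ≫ (eC j F).hom)
      (f₂ := ((τ j).app F).hom)
      X.smallEtaleTopology (τ' j F) (by simp only [τ', Category.assoc])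
  exact Sheaf.mono_of_isLocallyInjective _

end Groth.Agent.Lib.Helper57.EZ
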