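import Mathlib
import Groth.Agent.Lib.Helper57.EZ3

set_option autoImplicit false
universe u w v₁ u₁

open CategoryTheory Limits AlgebraicGeometry Opposite

namespace Groth.Agent.Lib.Helper57.EZ

/-- Elements of a colimit of abelian groups are finite sums of images. -/
lemma exists_list_of_isColimit {J : Type u₁} [Category.{v₁} J] {K : J ⥤ AddCommGrpCat.{w}}
    (c : Cocone K) (hc : IsColimit c) (x : c.pt) :
    ∃ l : List (Σ i : J, K.obj i), x = (l.map (fun p => (c.ι.app p.1 p.2 : c.pt))).sum := by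
  let f : (Σ i : J, K.obj i) → c.pt := fun p => c.ι.app p.1 p.2
  show ∃ l : List (Σ i : J, K.obj i), x = (l.map f).sum
  let S : AddSubgroup c.pt := AddSubgroup.closure (Set.range f)
  have hS : ∀ y : c.pt, y ∈ S := by
    let q : c.pt ⟶ AddCommGrpCat.of (c.pt ⧸ S) := AddCommGrpCat.ofHom (QuotientAddGroup.mk' S)
    have hq : q = 0 := by
      apply hc.hom_ext
      intro i
      ext t
      show QuotientAddGroup.mk' S (c.ι.app i t) = 0
      rw [QuotientAddGroup.mk'_apply, QuotientAddGroup.eq_zero_iff]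
      exact AddSubgroup.subset_closure ⟨⟨i, t⟩, rfl⟩
    intro y
    have : q y = 0 := by rw [hq]; rfl
    exact (QuotientAddGroup.eq_zero_iff y).mp this
  have hneg : ∀ l : List (Σ i : J, K.obj i),
      -(l.map f).sum = ((l.map (fun p => (⟨p.1, -p.2⟩ : Σ i : J, K.obj i))).map f).sum := by
    intro l
    induction l with
    | nil => simp
    | cons p l ih =>
      simp only [List.map_cons, List.sum_cons, neg_add]
      rw [ih]
      congr 1
      simp only [f, map_neg]
  refine AddSubgroup.closure_induction (p := fun x _ => ∃ l : List (Σ i : J, K.obj i),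
    x = (l.map f).sum) ?_ ?_ ?_ ?_ (hS x)
  · rintro y ⟨p, rfl⟩
    exact ⟨[p], by simp⟩
  · exact ⟨[], by simp⟩
  · rintro a b _ _ ⟨la, rfl⟩ ⟨lb, rfl⟩
    exact ⟨la ++ lb, by simp⟩
  · rintro a _ ⟨la, rfl⟩
    exact ⟨la.map (fun p => ⟨p.1, -p.2⟩), hneg la⟩

variable {U X : Scheme.{u}} (j : U ⟶ X) [Etale j] [IsSeparated j] [EtShriek.JCont j]

/-- generators of the sections of `Lan` -/
noncomputable def gen (F : EtCoh.Ab U) {W : X.Etale} (V : U.Etale) (a : W ⟶ (G j).obj V)
    (t : F.obj.obj (op V)) : (Lan j F).obj (op W) :=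
  (Lan j F).map a.op (((G j).op.lanUnit.app F.obj).app (op V) t)

lemma exists_list_gen (F : EtCoh.Ab U) (W : X.Etale) (x : (Lan j F).obj (op W)) :
    ∃ l : List (Σ V : U.Etale, (W ⟶ (G j).obj V) × F.obj.obj (op V)),
      x = (l.map (fun p => gen j F p.1 p.2.1 p.2.2)).sum := by
  have hpw := (G j).op.isPointwiseLeftKanExtensionOfIsLeftKanExtension (Lan j F)
    ((G j).op.lanUnit.app F.obj)
  obtain ⟨l, hl⟩ := exists_list_of_isColimit _ (hpw (op W)) x
  refine ⟨l.map (fun p => ⟨p.1.left.unop, p.1.hom.unop, p.2⟩), ?_⟩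
  rw [hl, List.map_map]
  rfl

lemma τ'_gen (F : EtCoh.Ab U) {W : X.Etale} (V : U.Etale) (a : W ⟶ (G j).obj V)
    (t : F.obj.obj (op V)) :
    (τ' j F).app (op W) (gen j F V a t) = F.obj.map ((EtCoh.bc j).map a).op (ez j F V t) := by
  have h1 := congrArg (fun φ => φ (((G j).op.lanUnit.app F.obj).app (op V) t))
    (congrArg AddCommGrpCat.Hom.hom ((τ' j F).naturality a.op))
  simp only [AddCommGrpCat.hom_comp, AddMonoidHom.coe_comp, Function.comp_apply] at h1
  have h2 := congrArg (fun φ => φ t)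
    (congrArg AddCommGrpCat.Hom.hom (congrArg (fun α => α.app (op V)) (lanUnit_τ' j F)))
  simp only [NatTrans.comp_app, AddCommGrpCat.hom_comp, AddMonoidHom.coe_comp,
    Function.comp_apply] at h2
  show (τ' j F).app (op W) ((Lan j F).map a.op _) = _
  refine h1.trans ?_
  show ((EtCoh.push j).obj F).obj.map a.op _ = _
  have h3 : (τ' j F).app (op ((G j).obj V)) (((G j).op.lanUnit.app F.obj).app (op V) t) =
      ez j F V t := h2
  rw [h3]
  rfl

lemma gen_add (F : EtCoh.Ab U) {W : X.Etale} (V : U.Etale) (a : W ⟶ (G j).obj V)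
    (t t' : F.obj.obj (op V)) : gen j F V a (t + t') = gen j F V a t + gen j F V a t' := by
  simp only [gen, map_add]

lemma gen_zero (F : EtCoh.Ab U) {W : X.Etale} (V : U.Etale) (a : W ⟶ (G j).obj V) :
    gen j F V a 0 = 0 := by
  simp only [gen, map_zero]

/-- restriction of generators -/
lemma map_gen (F : EtCoh.Ab U) {W W' : X.Etale} (k : W' ⟶ W) (V : U.Etale) (a : W ⟶ (G j).obj V)
    (t : F.obj.obj (op V)) : (Lan j F).map k.op (gen j F V a t) = gen j F V (k ≫ a) t := by
  simp only [gen, op_comp, Functor.map_comp, ConcreteCategory.comp_apply]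

/-- moving a map of `U.Etale` across a generator -/
lemma gen_comp (F : EtCoh.Ab U) {W : X.Etale} {V V' : U.Etale} (a : W ⟶ (G j).obj V')
    (b : V' ⟶ V) (t : F.obj.obj (op V)) :
    gen j F V (a ≫ (G j).map b) t = gen j F V' a (F.obj.map b.op t) := by
  have h := congrArg (fun φ => φ t)
    (congrArg AddCommGrpCat.Hom.hom (((G j).op.lanUnit.app F.obj).naturality b.op))
  simp only [AddCommGrpCat.hom_comp, AddMonoidHom.coe_comp, Function.comp_apply] at h
  simp only [gen, op_comp, Functor.map_comp, ConcreteCategory.comp_apply]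
  congr 1
  exact h.symm

end Groth.Agent.Lib.Helper57.EZ
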