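import Mathlib
import Groth.Agent.Lib.Helper57.EZ4

set_option autoImplicit false
universe u

open CategoryTheory Limits AlgebraicGeometry Opposite

namespace Groth.Agent.Lib.Helper57.EZ

open Groth.Agent.Lib.Helper79.EtSiteGlue

variable {U X : Scheme.{u}} (j : U ⟶ X) [Etale j]

section Graph

/-- `W ×_X U` as an étale `U`-scheme. -/
noncomputable abbrev BW (W : X.Etale) : U.Etale := (EtCoh.bc j).obj W

noncomputable abbrev bfst (W : X.Etale) : (BW j W).left ⟶ W.left := pullback.fst W.hom j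

noncomputable abbrev bsnd (W : X.Etale) : (BW j W).left ⟶ U := pullback.snd W.hom j

variable {W : X.Etale} {V : U.Etale} (a : W ⟶ (G j).obj V)

/-- The underlying map `W → V`. -/
noncomputable def aL : W.left ⟶ V.left := a.left

lemma aL_hom : aL j a ≫ V.hom ≫ j = W.hom := MorphismProperty.Over.w a

/-- The map `W → U` determined by `a : W → (V → U → X)`. -/
noncomputable def φ : W.left ⟶ U := aL j a ≫ V.hom

lemma φ_j : φ j a ≫ j = W.hom := by
  rw [φ, Category.assoc]
  exact aL_hom j a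

/-- The graph of `φ a`. -/
noncomputable def Γ : W.left ⟶ (BW j W).left :=
  pullback.lift (𝟙 _) (φ j a) (by rw [Category.id_comp, φ_j])

@[reassoc (attr := simp)]
lemma Γ_fst : Γ j a ≫ bfst j W = 𝟙 _ := pullback.lift_fst _ _ _

@[reassoc (attr := simp)]
lemma Γ_snd : Γ j a ≫ bsnd j W = φ j a := pullback.lift_snd _ _ _

/-- The induced map `W ×_X U → V ×_X U`. -/
noncomputable def bmapL : (BW j W).left ⟶ (PV j V).left := ((EtCoh.bc j).map a).left

noncomputable abbrev bmap : BW j W ⟶ PV j V := (EtCoh.bc j).map a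

@[reassoc]
lemma bmap_fst : bmapL j a ≫ pfst j V = bfst j W ≫ aL j a :=
  (EtCoh.isPullback_bc_map j a).w

@[reassoc]
lemma bmap_snd : bmapL j a ≫ psnd j V = bsnd j W :=
  MorphismProperty.Over.w (bmap j a)

@[reassoc]
lemma Γ_bmap : Γ j a ≫ bmapL j a = aL j a ≫ (δ j V).left := by
  apply pullback.hom_ext
  · show (Γ j a ≫ bmapL j a) ≫ pfst j V = (aL j a ≫ (δ j V).left) ≫ pfst j V
    rw [Category.assoc, bmap_fst, Γ_fst_assoc, Category.assoc, δ_left_fst, Category.comp_id]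
  · show (Γ j a ≫ bmapL j a) ≫ psnd j V = (aL j a ≫ (δ j V).left) ≫ psnd j V
    rw [Category.assoc, bmap_snd, Γ_snd, Category.assoc, δ_left_snd]
    rfl

/-- The preimage of the diagonal: the image of the graph. -/
def R : Set (BW j W).left := bmapL j a ⁻¹' Set.range (δ j V).left

lemma Γ_mem_R (x : W.left) : Γ j a x ∈ R j a := by
  refine ⟨aL j a x, ?_⟩
  rw [← Scheme.Hom.comp_apply, ← Γ_bmap, Scheme.Hom.comp_apply]

lemma eq_of_forall_mem_R {T : Scheme.{u}} (m : T ⟶ (BW j W).left) (hm : ∀ z, m z ∈ R j a) :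
    m = (m ≫ bfst j W) ≫ Γ j a := by
  have hr : Set.range (m ≫ bmapL j a) ⊆ Set.range (δ j V).left := by
    rintro _ ⟨y, rfl⟩
    rw [Scheme.Hom.comp_apply]
    exact hm y
  let ρ : T ⟶ V.left := IsOpenImmersion.lift (δ j V).left (m ≫ bmapL j a) hr
  have hρ : ρ ≫ (δ j V).left = m ≫ bmapL j a := IsOpenImmersion.lift_fac _ _ _
  apply pullback.hom_ext
  · show m ≫ bfst j W = ((m ≫ bfst j W) ≫ Γ j a) ≫ bfst j W
    rw [Category.assoc, Γ_fst, Category.comp_id]
  · show m ≫ bsnd j W = ((m ≫ bfst j W) ≫ Γ j a) ≫ bsnd j W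
    rw [Category.assoc, Γ_snd, ← bmap_snd j a, ← Category.assoc, ← hρ, Category.assoc, δ_left_snd]
    show ρ ≫ V.hom = (m ≫ bfst j W) ≫ aL j a ≫ V.hom
    rw [Category.assoc, ← bmap_fst_assoc, ← Category.assoc, ← hρ, Category.assoc,
      δ_left_fst_assoc]

lemma eq_Γ_of_mem_R (z : (BW j W).left) (hz : z ∈ R j a) : z = Γ j a (bfst j W z) := by
  let O : (BW j W).left.Opens := bmapL j a ⁻¹ᵁ (δ j V).left.opensRange
  have hzO : z ∈ O := hz
  have h := eq_of_forall_mem_R j a O.ι (fun y => y.2)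
  have h2 : O.ι ⟨z, hzO⟩ = ((O.ι ≫ bfst j W) ≫ Γ j a) ⟨z, hzO⟩ := by rw [← h]
  simp only [Scheme.Hom.comp_apply] at h2
  exact h2

lemma isClopen_R [IsSeparated j] : IsClopen (R j a) :=
  ⟨(isClosed_range_δ j V).preimage (bmapL j a).continuous,
    (δ j V).left.isOpenEmbedding.isOpen_range.preimage (bmapL j a).continuous⟩

end Graph

lemma φ_eq_on {W : X.Etale} {V V' : U.Etale} (a : W ⟶ (G j).obj V) (a' : W ⟶ (G j).obj V')
    (N : W.left.Opens) (h : ∀ x ∈ N, Γ j a x ∈ R j a') : N.ι ≫ φ j a = N.ι ≫ φ j a' := by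
  have h1 := eq_of_forall_mem_R j a' (N.ι ≫ Γ j a) (fun z => by
    rw [Scheme.Hom.comp_apply]; exact h _ z.2)
  have h2 := congrArg (fun m => m ≫ bsnd j W) h1
  simp only [Category.assoc, Γ_snd, Γ_fst_assoc] at h2
  exact h2

lemma gen_sum [IsSeparated j] [EtShriek.JCont j] (F : EtCoh.Ab U) {W : X.Etale} (V : U.Etale)
    (a : W ⟶ (G j).obj V) {ι : Type*}
    (s : Finset ι) (t : ι → F.obj.obj (op V)) :
    gen j F V a (∑ i ∈ s, t i) = ∑ i ∈ s, gen j F V a (t i) := by
  classical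
  induction s using Finset.induction_on with
  | empty => simp [gen_zero]
  | insert i s hi ih => rw [Finset.sum_insert hi, Finset.sum_insert hi, gen_add, ih]

end Groth.Agent.Lib.Helper57.EZ

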