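import Mathlib
import Groth.Agent.Lib.Helper57.EZ5

set_option autoImplicit false
universe u

open CategoryTheory Limits AlgebraicGeometry Opposite

namespace Groth.Agent.Lib.Helper57.EZ

open Groth.Agent.Lib.Helper79.EtSiteGlue

variable {U X : Scheme.{u}} (j : U ⟶ X) [Etale j] [IsSeparated j] [EtShriek.JCont j]
variable (F : EtCoh.Ab U)

section ClassVanish

variable {W : X.Etale} {n : ℕ} (V : Fin n → U.Etale) (a : ∀ k, W ⟶ (G j).obj (V k))
  (t : ∀ k, F.obj.obj (op (V k)))

lemma class_vanish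
    (H : ∑ k, F.obj.map (bmap j (a k)).op (ez j F (V k) (t k)) = 0)
    (N : W.left.Opens) (k₀ : Fin n) (P : Fin n → Prop) [DecidablePred P]
    (hP : ∀ k, P k → ∀ x ∈ N, Γ j (a k₀) x ∈ R j (a k))
    (hnP : ∀ k, ¬ P k → ∀ x ∈ N, Γ j (a k₀) x ∉ R j (a k)) :
    ∑ k with P k, gen j F (V k) (openι W N ≫ a k) (t k) = 0 := by
  let ψ₀ : N.toScheme ⟶ U := N.ι ≫ φ j (a k₀)
  have hψj : ψ₀ ≫ j = N.ι ≫ W.hom := by
    show (N.ι ≫ φ j (a k₀)) ≫ j = _
    rw [Category.assoc, φ_j]
  haveI : Etale ψ₀ := by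
    haveI : Etale (ψ₀ ≫ j) := by rw [hψj]; infer_instance
    exact Etale.of_comp ψ₀ j
  let Vψ : U.Etale := Scheme.Etale.mk ψ₀
  have hφ : ∀ k, P k → N.ι ≫ φ j (a k) = ψ₀ :=
    fun k hk => (φ_eq_on j (a k₀) (a k) N (hP k hk)).symm
  let a' : ∀ k, P k → (Vψ ⟶ V k) := fun k hk =>
    MorphismProperty.Over.homMk (N.ι ≫ aL j (a k)) (by
      show (N.ι ≫ aL j (a k)) ≫ (V k).hom = ψ₀
      rw [Category.assoc]; exact hφ k hk) trivial
  let θ : openObj W N ⟶ (G j).obj Vψ :=
    MorphismProperty.Over.homMk (𝟙 N.toScheme) (by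
      show 𝟙 _ ≫ ψ₀ ≫ j = N.ι ≫ W.hom
      rw [Category.id_comp, hψj]) trivial
  have hθ : ∀ k (hk : P k), openι W N ≫ a k = θ ≫ (G j).map (a' k hk) := by
    intro k hk
    apply MorphismProperty.Over.Hom.ext
    show N.ι ≫ (a k).left = 𝟙 _ ≫ (N.ι ≫ aL j (a k))
    rw [Category.id_comp]; rfl
  let s : Fin n → F.obj.obj (op Vψ) := fun k =>
    if hk : P k then F.obj.map (a' k hk).op (t k) else 0
  have hgen : ∀ k, P k → gen j F (V k) (openι W N ≫ a k) (t k) = gen j F Vψ θ (s k) := by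
    intro k hk
    rw [hθ k hk, gen_comp]
    simp only [s, dif_pos hk]
  let g : Vψ ⟶ BW j W := MorphismProperty.Over.homMk (N.ι ≫ Γ j (a k₀)) (by
      show (N.ι ≫ Γ j (a k₀)) ≫ bsnd j W = ψ₀
      rw [Category.assoc, Γ_snd]) trivial
  have hs : ∀ k, F.obj.map (g ≫ bmap j (a k)).op (ez j F (V k) (t k)) = s k := by
    intro k
    by_cases hk : P k
    · have hΓ : N.ι ≫ Γ j (a k₀) = N.ι ≫ Γ j (a k) := by
        apply pullback.hom_ext
        · show (N.ι ≫ Γ j (a k₀)) ≫ bfst j W = (N.ι ≫ Γ j (a k)) ≫ bfst j W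
          rw [Category.assoc, Category.assoc, Γ_fst, Γ_fst]
        · show (N.ι ≫ Γ j (a k₀)) ≫ bsnd j W = (N.ι ≫ Γ j (a k)) ≫ bsnd j W
          rw [Category.assoc, Category.assoc, Γ_snd, Γ_snd, hφ k hk]
      have : g ≫ bmap j (a k) = a' k hk ≫ δ j (V k) := by
        apply MorphismProperty.Over.Hom.ext
        show (N.ι ≫ Γ j (a k₀)) ≫ bmapL j (a k) = (N.ι ≫ aL j (a k)) ≫ (δ j (V k)).left
        rw [hΓ, Category.assoc, Γ_bmap, Category.assoc]
      rw [this, op_comp, Functor.map_comp]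
      show F.obj.map (a' k hk).op (F.obj.map (δ j (V k)).op (ez j F (V k) (t k))) = s k
      rw [ez_δ]
      simp only [s, dif_pos hk]
    · have : s k = 0 := by simp only [s, dif_neg hk]
      rw [this]
      apply ez_vanish
      intro z hz
      have : (g ≫ bmap j (a k)).left z = bmapL j (a k) (Γ j (a k₀) (N.ι z)) := by
        show ((N.ι ≫ Γ j (a k₀)) ≫ bmapL j (a k)) z = _
        rw [Scheme.Hom.comp_apply, Scheme.Hom.comp_apply]
      rw [this] at hz
      exact hnP k hk _ z.2 hz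
  have hsum : ∑ k, s k = 0 := by
    have h1 := congrArg (fun x => F.obj.map g.op x) H
    simp only [map_sum, map_zero] at h1
    rw [← h1]
    apply Finset.sum_congr rfl
    intro k _
    rw [← hs k, op_comp, Functor.map_comp]
    rfl
  calc ∑ k with P k, gen j F (V k) (openι W N ≫ a k) (t k)
      = ∑ k with P k, gen j F Vψ θ (s k) :=
        Finset.sum_congr rfl (fun k hk => hgen k (Finset.mem_filter.1 hk).2)
    _ = gen j F Vψ θ (∑ k with P k, s k) := (gen_sum j F Vψ θ _ _).symm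
    _ = gen j F Vψ θ (∑ k, s k) := by
        congr 1
        rw [Finset.sum_filter]
        apply Finset.sum_congr rfl
        intro k _
        by_cases hk : P k
        · rw [if_pos hk]
        · rw [if_neg hk]; simp only [s, dif_neg hk]
    _ = 0 := by rw [hsum, gen_zero]

lemma local_vanish
    (H : ∑ k, F.obj.map (bmap j (a k)).op (ez j F (V k) (t k)) = 0) (w : W.left) :
    ∃ N : W.left.Opens, w ∈ N ∧ ∑ k, gen j F (V k) (openι W N ≫ a k) (t k) = 0 := by
  classical
  let E : Fin n → Fin n → Set W.left := fun k l => Γ j (a k) ⁻¹' R j (a l)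
  have hE : ∀ k l, IsClopen (E k l) :=
    fun k l => (isClopen_R j (a l)).preimage (Γ j (a k)).continuous
  let M : Fin n → Fin n → Set W.left := fun k l => if w ∈ E k l then E k l else (E k l)ᶜ
  have hMo : ∀ k l, IsOpen (M k l) := by
    intro k l; by_cases h : w ∈ E k l
    · simp only [M, if_pos h]; exact (hE k l).isOpen
    · simp only [M, if_neg h]; exact (hE k l).compl.isOpen
  have hMw : ∀ k l, w ∈ M k l := by
    intro k l; by_cases h : w ∈ E k l
    · simp only [M, if_pos h]; exact h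
    · simp only [M, if_neg h]; exact h
  let N : W.left.Opens := ⟨⋂ k, ⋂ l, M k l,
    isOpen_iInter_of_finite (fun k => isOpen_iInter_of_finite (hMo k))⟩
  have hwN : w ∈ N := Set.mem_iInter.2 (fun k => Set.mem_iInter.2 (hMw k))
  have hN : ∀ x ∈ N, ∀ k l, (x ∈ E k l ↔ w ∈ E k l) := by
    intro x hx k l
    have hx' : x ∈ M k l := Set.mem_iInter.1 (Set.mem_iInter.1 hx k) l
    by_cases h : w ∈ E k l
    · simp only [M, if_pos h] at hx'; exact ⟨fun _ => h, fun _ => hx'⟩
    · simp only [M, if_neg h] at hx'; exact ⟨fun h' => absurd h' hx', fun h' => absurd h' h⟩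
  refine ⟨N, hwN, ?_⟩
  let Rel : Setoid (Fin n) := Setoid.ker (fun k => Γ j (a k) w)
  apply Finset.sum_cancels_of_partition_cancels Rel
  intro k₀ _
  have hiff : ∀ k, Rel k k₀ ↔ w ∈ E k₀ k := by
    intro k
    constructor
    · intro h
      have h' : Γ j (a k) w = Γ j (a k₀) w := h
      show Γ j (a k₀) w ∈ R j (a k)
      rw [← h']; exact Γ_mem_R j (a k) w
    · intro h
      have h1 := eq_Γ_of_mem_R j (a k) _ h
      have h2 : bfst j W (Γ j (a k₀) w) = w := by
        rw [← Scheme.Hom.comp_apply, Γ_fst]; rfl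
      rw [h2] at h1
      exact h1.symm
  exact class_vanish j F V a t H N k₀ (fun k => Rel k k₀)
    (fun k hk x hx => (hN x hx k₀ k).2 ((hiff k).1 hk))
    (fun k hk x hx hx' => hk ((hiff k).2 ((hN x hx k₀ k).1 hx')))

end ClassVanish

instance isLocallyInjective_τ' :
    Presheaf.IsLocallyInjective X.smallEtaleTopology (τ' j F) where
  equalizerSieve_mem {Wop} x y h := by
    rcases Wop with ⟨W⟩
    have hz : (τ' j F).app (op W) (x - y) = 0 := by rw [map_sub, h, sub_self]
    obtain ⟨l, hl⟩ := exists_list_gen j F W (x - y)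
    let V : Fin l.length → U.Etale := fun k => l[k.1].1
    let a : ∀ k : Fin l.length, W ⟶ (G j).obj (V k) := fun k => l[k.1].2.1
    let t : ∀ k : Fin l.length, F.obj.obj (op (V k)) := fun k => l[k.1].2.2
    have hl' : x - y = ∑ k : Fin l.length, gen j F (V k) (a k) (t k) := by
      rw [hl]
      exact (Fin.sum_univ_fun_getElem l (fun p => gen j F p.1 p.2.1 p.2.2)).symm
    have H : ∑ k, F.obj.map (bmap j (a k)).op (ez j F (V k) (t k)) = 0 := by
      refine Eq.trans ?_ hz
      rw [hl', map_sum]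
      apply Finset.sum_congr rfl
      intro k _
      exact (τ'_gen j F (V k) (a k) (t k)).symm
    apply mem_of_forall_exists
    intro w
    obtain ⟨N, hwN, hN⟩ := local_vanish j F V a t H w
    refine ⟨openObj W N, openι W N, ?_, ⟨⟨w, hwN⟩, rfl⟩⟩
    show (Lan j F).map (openι W N).op x = (Lan j F).map (openι W N).op y
    have h0 : (Lan j F).map (openι W N).op (x - y) = 0 := by
      rw [hl', map_sum, ← hN]
      apply Finset.sum_congr rfl
      intro k _
      exact map_gen j F (openι W N) (V k) (a k) (t k)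
    rw [map_sub, sub_eq_zero] at h0
    exact h0

end Groth.Agent.Lib.Helper57.EZ
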