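import Mathlib
import Groth.Agent.Lib.Helper57.EZ6
import Groth.Agent.Lib.Helper57.LS1

set_option autoImplicit false
universe u

open CategoryTheory Limits AlgebraicGeometry Opposite

namespace Groth.Agent.Lib.Helper57.EZ

open Groth.Agent.Lib.Helper79.EtSiteGlue Groth.Agent.Lib.Helper21.ProperOver

section General

variable {U : Scheme.{u}}

/-- lifting a morphism of the small étale site through an open subscheme -/
theorem exists_liftOpen {Y' Y : U.Etale} (k : Y' ⟶ Y) (O : Y.left.Opens)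
    (h : ∀ y : Y'.left, k.left y ∈ O) : ∃ l : Y' ⟶ openObj Y O, l ≫ openι Y O = k := by
  have hr : Set.range k.left ⊆ Set.range O.ι := by
    rw [Scheme.Opens.range_ι]
    rintro _ ⟨z, rfl⟩
    exact h z
  let l : Y'.left ⟶ O.toScheme := IsOpenImmersion.lift O.ι k.left hr
  have hl : l ≫ O.ι = k.left := IsOpenImmersion.lift_fac _ _ _
  refine ⟨MorphismProperty.Over.homMk l (by
    show l ≫ O.ι ≫ Y.hom = Y'.hom
    rw [← Category.assoc, hl]; exact MorphismProperty.Over.w k) trivial, ?_⟩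
  exact MorphismProperty.Over.Hom.ext hl

/-- `s` restricts to zero on everything mapping into the complement of `Z`. -/
def VanishOff (F : EtCoh.Ab U) (Y : U.Etale) (s : F.obj.obj (op Y)) (Z : Set Y.left) : Prop :=
  ∀ (Y' : U.Etale) (k : Y' ⟶ Y), (∀ y : Y'.left, k.left y ∉ Z) → F.obj.map k.op s = 0

lemma map_map (F : EtCoh.Ab U) {A B C : U.Etale} (f : A ⟶ B) (g : B ⟶ C) (s : F.obj.obj (op C)) :
    F.obj.map f.op (F.obj.map g.op s) = F.obj.map (f ≫ g).op s := by
  rw [op_comp, Functor.map_comp]; rfl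

/-- vanishing on a two-element open cover -/
theorem eq_zero_of_cover2 (F : EtCoh.Ab U) (Y : U.Etale) (s : F.obj.obj (op Y))
    (O₁ O₂ : Y.left.Opens) (hcov : ∀ y : Y.left, y ∈ O₁ ∨ y ∈ O₂)
    (h₁ : F.obj.map (openι Y O₁).op s = 0) (h₂ : F.obj.map (openι Y O₂).op s = 0) : s = 0 := by
  let Wo : Bool → U.Etale := fun b => Bool.rec (openObj Y O₂) (openObj Y O₁) b
  let ι : ∀ b, Wo b ⟶ Y := fun b => Bool.rec (motive := fun b => Wo b ⟶ Y) (openι Y O₂) (openι Y O₁) b
  refine eq_of_forall_map_eq (P := F.obj ⋙ forget AddCommGrpCat.{u + 1}) (isSheaf_forget F) Y Wo ι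
    ?_ s 0 ?_
  · intro y
    rcases hcov y with h | h
    · exact ⟨true, ⟨⟨y, h⟩, rfl⟩⟩
    · exact ⟨false, ⟨⟨y, h⟩, rfl⟩⟩
  · intro b
    cases b
    · show F.obj.map (openι Y O₂).op s = F.obj.map (openι Y O₂).op 0
      rw [h₂, map_zero]
    · show F.obj.map (openι Y O₁).op s = F.obj.map (openι Y O₁).op 0
      rw [h₁, map_zero]

theorem vanishOff_of_sectSupp (F : EtCoh.Ab U) (Y : U.Etale) (s : F.obj.obj (op Y)) (Z : Set Y.left)
    (hZ : IsClosed Z) (h : EtShriek.sectSupp F Y s ⊆ Z) : VanishOff F Y s Z := by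
  let V : Y.left.Opens := ⟨Zᶜ, hZ.isOpen_compl⟩
  have hV : F.obj.map (openι Y V).op s = 0 := by
    have hx : ∀ x : V, ∃ (W : U.Etale) (g : W ⟶ Y), (∃ w : W.left, g.left.base w = x.1) ∧
        F.obj.map g.op s = 0 := by
      intro x
      have : x.1 ∉ EtShriek.sectSupp F Y s := fun hmem => x.2 (h hmem)
      simp only [EtShriek.sectSupp, Set.mem_setOf_eq, not_forall, not_not] at this
      obtain ⟨W, g, hw, hs⟩ := this
      exact ⟨W, g, hw, hs⟩
    choose Wx gx hwx hsx using hx
    have hr : ∀ x : V, ∀ z : (openObj (Wx x) ((gx x).left ⁻¹ᵁ V)).left,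
        (openι (Wx x) ((gx x).left ⁻¹ᵁ V) ≫ gx x).left z ∈ V := by
      intro x z
      exact z.2
    choose kx hkx using fun x => exists_liftOpen _ V (hr x)
    refine eq_of_forall_map_eq (P := F.obj ⋙ forget AddCommGrpCat.{u + 1}) (isSheaf_forget F)
      (openObj Y V) (fun x : V => openObj (Wx x) ((gx x).left ⁻¹ᵁ V)) kx ?_ _ 0 ?_
    · intro x'
      obtain ⟨w, hw⟩ := hwx x'
      have hwV : w ∈ (gx x').left ⁻¹ᵁ V := by
        change (gx x').left.base w ∈ V
        rw [hw]
        exact x'.2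
      refine ⟨x', ⟨⟨w, hwV⟩, ?_⟩⟩
      have hinj : Function.Injective (Scheme.Opens.ι V) :=
        (Scheme.Opens.ι V).isOpenEmbedding.injective
      apply hinj
      have h1 := congrArg (fun k => k.left ⟨w, hwV⟩) (hkx x')
      refine Eq.trans h1 ?_
      exact hw
    · intro x
      change F.obj.map (kx x).op (F.obj.map (openι Y V).op s) = F.obj.map (kx x).op 0
      rw [map_map, hkx x, ← map_map, hsx x, map_zero, map_zero]
  intro Y' k hk
  obtain ⟨l, hl⟩ := exists_liftOpen k V hk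
  rw [← hl, ← map_map, hV, map_zero]

end General

variable {U X : Scheme.{u}} (j : U ⟶ X) [Etale j] [IsSeparated j]

section

variable {W : X.Etale} {V : U.Etale} (a : W ⟶ (G j).obj V)

omit [IsSeparated j] in
lemma range_Γ : Set.range (Γ j a) = R j a := by
  ext z; constructor
  · rintro ⟨x, rfl⟩; exact Γ_mem_R j a x
  · intro hz; exact ⟨bfst j W z, (eq_Γ_of_mem_R j a z hz).symm⟩

instance : IsSeparated (bfst j W) :=
  MorphismProperty.pullback_fst (P := @IsSeparated) _ _ inferInstance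

omit [IsSeparated j] in
instance : Etale (bfst j W) :=
  MorphismProperty.pullback_fst (P := @Etale) _ _ inferInstance

instance : IsClosedImmersion (Γ j a) := by
  haveI : IsClosedImmersion (Γ j a ≫ bfst j W) := by rw [Γ_fst]; infer_instance
  exact IsClosedImmersion.of_comp (Γ j a) (bfst j W)

lemma isProperOver_R : ClSub.IsProperOver (bfst j W) (R j a) := by
  rw [← range_Γ]
  haveI : IsProper (Γ j a ≫ bfst j W) := by rw [Γ_fst]; infer_instance
  exact isProperOver_range_of_universallyClosed (Γ j a) (bfst j W)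

end

variable [EtShriek.JCont j] (F : EtCoh.Ab U)

/-- `ez V t` has proper support, hereditarily. -/
theorem shriekPred_ez (V : U.Etale) (t : F.obj.obj (op V)) :
    EtShriek.ShriekPred j F ((G j).obj V) (ez j F V t) := by
  intro V' φ
  refine ⟨R j φ, ?_, isProperOver_R j φ⟩
  intro x hx
  by_contra hxR
  let O : (BW j V').left.Opens := ⟨(R j φ)ᶜ, (isClopen_R j φ).compl.isOpen⟩
  apply hx (openObj (BW j V') O) (openι _ O) ⟨⟨x, hxR⟩, rfl⟩
  rw [map_map]
  apply ez_vanish
  intro z hz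
  exact z.2 hz

/-- `ez V t` vanishes off the image under the diagonal of a set off which `t` vanishes. -/
theorem ez_vanishOff (V : U.Etale) (t : F.obj.obj (op V)) (Z : Set V.left)
    (ht : VanishOff F V t Z) : VanishOff F (PV j V) (ez j F V t) ((δ j V).left '' Z) := by
  intro Y' k hk
  let OΔ : Y'.left.Opens := k.left ⁻¹ᵁ (δ j V).left.opensRange
  let Oc : Y'.left.Opens := k.left ⁻¹ᵁ (Cset j V)
  apply eq_zero_of_cover2 F Y' _ OΔ Oc
  · intro y
    by_cases hy : k.left y ∈ Set.range (δ j V).left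
    · exact Or.inl hy
    · exact Or.inr hy
  · -- on the diagonal part
    obtain ⟨ρ, hρ⟩ : ∃ ρ : openObj Y' OΔ ⟶ V, ρ ≫ δ j V = openι Y' OΔ ≫ k := by
      have hr : Set.range (OΔ.ι ≫ k.left) ⊆ Set.range (δ j V).left := by
        rintro _ ⟨y, rfl⟩
        rw [Scheme.Hom.comp_apply]
        exact y.2
      let ρ : OΔ.toScheme ⟶ V.left := IsOpenImmersion.lift (δ j V).left (OΔ.ι ≫ k.left) hr
      have hρ : ρ ≫ (δ j V).left = OΔ.ι ≫ k.left := IsOpenImmersion.lift_fac _ _ _
      refine ⟨MorphismProperty.Over.homMk ρ (by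
        show ρ ≫ V.hom = OΔ.ι ≫ Y'.hom
        have h1 : (δ j V).left ≫ (PV j V).hom = V.hom := MorphismProperty.Over.w (δ j V)
        have h2 : k.left ≫ (PV j V).hom = Y'.hom := MorphismProperty.Over.w k
        rw [← h1, ← Category.assoc, hρ, Category.assoc, h2]) trivial, ?_⟩
      exact MorphismProperty.Over.Hom.ext hρ
    rw [map_map, ← hρ, ← map_map, ez_δ]
    apply ht
    intro y hy
    apply hk y.1
    refine ⟨ρ.left y, hy, ?_⟩
    have := congrArg (fun m => m.left y) hρ
    exact this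
  · rw [map_map]
    apply ez_vanish
    intro z hz
    exact z.2 hz

end Groth.Agent.Lib.Helper57.EZ
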