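import Mathlib
import Groth.Agent.Lib.Helper57.LS2

set_option autoImplicit false
universe u

open CategoryTheory Limits AlgebraicGeometry Opposite

namespace Groth.Agent.Lib.Helper57.EZ

variable {U X : Scheme.{u}} (j : U ⟶ X) [Etale j] [IsSeparated j] [EtShriek.JCont j]

lemma ez_mem (F : EtCoh.Ab U) (V : U.Etale) (t : F.obj.obj (op V)) :
    ez j F V t ∈ EtShriek.shriekSubgroup j F ((G j).obj V) :=
  AddSubgroup.subset_closure (shriekPred_ez j F V t)

/-- `F → (G j)^* (sections with proper support)` -/
noncomputable def ηs (F : EtCoh.Ab U) :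
    F.obj ⟶ ((Functor.whiskeringLeft _ _ A).obj (G j).op).obj (EtShriek.lowerShriekPre j F) where
  app V := AddCommGrpCat.ofHom (AddMonoidHom.mk'
    (fun t => (⟨ez j F V.unop t, ez_mem j F V.unop t⟩ :
      EtShriek.shriekSubgroup j F ((G j).obj V.unop)))
    (fun t t' => Subtype.ext (ez_add j F V.unop t t')))
  naturality V V' g := by
    ext t
    apply Subtype.ext
    exact (ez_naturality j F g.unop t).symm

noncomputable abbrev lanAdj := (G j).op.lanAdjunction A

/-- the presheaf-level comparison `Lan F → lowerShriekPre j F` -/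
noncomputable def σ (F : EtCoh.Ab U) : Lan j F ⟶ EtShriek.lowerShriekPre j F :=
  ((lanAdj j).homEquiv F.obj (EtShriek.lowerShriekPre j F)).symm (ηs j F)

lemma ηs_ι (F : EtCoh.Ab U) :
    ηs j F ≫ ((Functor.whiskeringLeft _ _ A).obj (G j).op).map (EtShriek.lowerShriekPreι j F) =
      ηval j F := by
  ext V t
  rfl

lemma σ_ι (F : EtCoh.Ab U) : σ j F ≫ EtShriek.lowerShriekPreι j F = τ' j F := by
  apply ((lanAdj j).homEquiv F.obj _).injective
  rw [Adjunction.homEquiv_naturality_right]
  have h1 : (lanAdj j).homEquiv F.obj _ (σ j F) = ηs j F := Equiv.apply_symm_apply _ _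
  rw [h1, ηs_ι]
  rw [Adjunction.homEquiv_unit]
  exact (lanUnit_τ' j F).symm

/-- the natural transformation of presheaf-valued functors -/
noncomputable def σNat :
    (sheafToPresheaf U.smallEtaleTopology A ⋙ (G j).op.lan) ⟶ EtShriek.lowerShriekPreFunctor j where
  app F := σ j F
  naturality F F' α := by
    show (G j).op.lan.map α.hom ≫ σ j F' = σ j F ≫ (EtShriek.lowerShriekPreFunctor j).map α
    unfold σ
    rw [← Adjunction.homEquiv_naturality_left_symm, ← Adjunction.homEquiv_naturality_right_symm]
    congr 1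
    ext V t
    apply Subtype.ext
    exact (ez_map j α V.unop t).symm

end Groth.Agent.Lib.Helper57.EZ
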