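import Mathlib
import Groth.Agent.Lib.Helper57.LS3

set_option autoImplicit false
universe u

open CategoryTheory Limits AlgebraicGeometry Opposite

namespace Groth.Agent.Lib.Helper57.EZ

open Groth.Agent.Lib.Helper79.EtSiteGlue Groth.Agent.Lib.Helper21.ProperOver
  Groth.Agent.Lib.Helper57.LS

variable {U X : Scheme.{u}} (j : U ⟶ X) [Etale j] [IsSeparated j] [EtShriek.JCont j]
  (F : EtCoh.Ab U)

/-- sections in the image of `τ'` -/
def IsGen (W : X.Etale) (s : F.obj.obj (op (BW j W))) : Prop :=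
  ∃ x : (Lan j F).obj (op W), (τ' j F).app (op W) x = s

lemma isGen_zero (W : X.Etale) : IsGen j F W 0 := ⟨0, map_zero _⟩

lemma isGen_add {W : X.Etale} {s s' : F.obj.obj (op (BW j W))} (h : IsGen j F W s)
    (h' : IsGen j F W s') : IsGen j F W (s + s') := by
  obtain ⟨x, rfl⟩ := h
  obtain ⟨x', rfl⟩ := h'
  exact ⟨x + x', map_add _ _ _⟩

lemma isGen_neg {W : X.Etale} {s : F.obj.obj (op (BW j W))} (h : IsGen j F W s) :
    IsGen j F W (-s) := by
  obtain ⟨x, rfl⟩ := h
  exact ⟨-x, map_neg _ _⟩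

lemma isGen_map {W W' : X.Etale} (k : W' ⟶ W) {s : F.obj.obj (op (BW j W))}
    (h : IsGen j F W s) : IsGen j F W' (F.obj.map ((EtCoh.bc j).map k).op s) := by
  obtain ⟨x, rfl⟩ := h
  refine ⟨(Lan j F).map k.op x, ?_⟩
  have h1 := congrArg (fun φ => φ x) (congrArg AddCommGrpCat.Hom.hom ((τ' j F).naturality k.op))
  simp only [AddCommGrpCat.hom_comp, AddMonoidHom.coe_comp, Function.comp_apply] at h1
  exact h1

lemma isGen_ez {W : X.Etale} (V : U.Etale) (a : W ⟶ (G j).obj V) (t : F.obj.obj (op V)) :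
    IsGen j F W (F.obj.map (bmap j a).op (ez j F V t)) :=
  ⟨gen j F V a t, τ'_gen j F V a t⟩

variable {Ω : Type u} [Field Ω]

/-- geometric points of `W ×_X U` over `wbar` lying in `Z` -/
def liftSet (W : X.Etale) (Z : Set (BW j W).left) (wbar : Spec (CommRingCat.of Ω) ⟶ W.left) :
    Set (Spec (CommRingCat.of Ω) ⟶ (BW j W).left) :=
  {ybar | ybar ≫ bfst j W = wbar ∧ ∀ x, ybar x ∈ Z}

omit [IsSeparated j] [EtShriek.JCont j] in
lemma bc_map_fst {W W' : X.Etale} (g : W' ⟶ W) :
    ((EtCoh.bc j).map g).left ≫ bfst j W = bfst j W' ≫ g.left :=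
  (EtCoh.isPullback_bc_map j g).w

omit [IsSeparated j] [EtShriek.JCont j] in
lemma bc_map_snd {W W' : X.Etale} (g : W' ⟶ W) :
    ((EtCoh.bc j).map g).left ≫ bsnd j W = bsnd j W' :=
  MorphismProperty.Over.w ((EtCoh.bc j).map g)

theorem base_case [IsSepClosed Ω] (W : X.Etale) (s : F.obj.obj (op (BW j W)))
    (Z : Set (BW j W).left)
    (hZ : ClSub.IsProperOver (bfst j W) Z) (hs : VanishOff F (BW j W) s Z)
    (wbar : Spec (CommRingCat.of Ω) ⟶ W.left) (hempty : liftSet j W Z wbar = ∅) :
    ∃ (W' : X.Etale) (g : W' ⟶ W) (wbar' : Spec (CommRingCat.of Ω) ⟶ W'.left),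
      wbar' ≫ g.left = wbar ∧ IsGen j F W' (F.obj.map ((EtCoh.bc j).map g).op s) := by
  obtain ⟨hcl, hprop⟩ := hZ
  let ι := (Scheme.IdealSheafData.vanishingIdeal ⟨Z, hcl⟩).subschemeι
  have hr : Set.range ι = Z := range_subschemeι_vanishingIdeal Z hcl
  have himg : IsClosed (bfst j W '' Z) := by
    haveI : IsProper (ι ≫ bfst j W) := hprop
    have := (ι ≫ bfst j W).isClosedMap.isClosed_range
    rwa [Scheme.Hom.comp_base, TopCat.coe_comp, Set.range_comp, hr] at this
  let O : W.left.Opens := ⟨(bfst j W '' Z)ᶜ, himg.isOpen_compl⟩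
  have hwO : ∀ x, wbar x ∈ O := by
    rintro x ⟨z, hzZ, hz⟩
    obtain ⟨ybar, hy1, hy2⟩ := exists_lift_geomPoint (bfst j W) wbar z x hz
    have : ybar ∈ liftSet j W Z wbar := ⟨hy1, fun x' => by rw [hy2]; exact hzZ⟩
    rw [hempty] at this
    exact this
  have hrw : Set.range wbar ⊆ Set.range O.ι := by
    rw [Scheme.Opens.range_ι]
    rintro _ ⟨x, rfl⟩
    exact hwO x
  let wb' : Spec (CommRingCat.of Ω) ⟶ O.toScheme := IsOpenImmersion.lift O.ι wbar hrw
  have hwb' : wb' ≫ O.ι = wbar := IsOpenImmersion.lift_fac _ _ _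
  refine ⟨openObj W O, openι W O, wb', hwb', ?_⟩
  have h0 : F.obj.map ((EtCoh.bc j).map (openι W O)).op s = 0 := by
    apply hs
    intro y hy
    have h1 : bfst j W (((EtCoh.bc j).map (openι W O)).left y) =
        O.ι (bfst j (openObj W O) y) := by
      have := congrArg (fun m => m y) (bc_map_fst j (openι W O))
      simp only [Scheme.Hom.comp_apply] at this
      exact this
    have h2 : bfst j W (((EtCoh.bc j).map (openι W O)).left y) ∈ O := by
      rw [h1]; exact (bfst j (openObj W O) y).2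
    exact h2 ⟨_, hy, rfl⟩
  rw [h0]
  exact isGen_zero j F _

omit [IsSeparated j] [EtShriek.JCont j] in
/-- factor a map landing in the diagonal through the diagonal -/
theorem exists_factor_δ {V Y' : U.Etale} (k : Y' ⟶ PV j V)
    (hk : ∀ y : Y'.left, k.left y ∈ Set.range (δ j V).left) : ∃ ρ : Y' ⟶ V, ρ ≫ δ j V = k := by
  have hr : Set.range k.left ⊆ Set.range (δ j V).left := by
    rintro _ ⟨y, rfl⟩
    exact hk y
  let ρ : Y'.left ⟶ V.left := IsOpenImmersion.lift (δ j V).left k.left hr
  have hρ : ρ ≫ (δ j V).left = k.left := IsOpenImmersion.lift_fac _ _ _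
  refine ⟨MorphismProperty.Over.homMk ρ (by
    show ρ ≫ V.hom = Y'.hom
    have h1 : (δ j V).left ≫ (PV j V).hom = V.hom := MorphismProperty.Over.w (δ j V)
    have h2 : k.left ≫ (PV j V).hom = Y'.hom := MorphismProperty.Over.w k
    rw [← h1, ← Category.assoc, hρ, h2]) trivial, ?_⟩
  exact MorphismProperty.Over.Hom.ext hρ

theorem exists_isGen_of_encard [IsSepClosed Ω] (d : ℕ) :
    ∀ (W : X.Etale) (s : F.obj.obj (op (BW j W))) (Z : Set (BW j W).left)
      (_ : ClSub.IsProperOver (bfst j W) Z) (_ : VanishOff F (BW j W) s Z)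
      (wbar : Spec (CommRingCat.of Ω) ⟶ W.left) (_ : (liftSet j W Z wbar).encard ≤ d),
      ∃ (W' : X.Etale) (g : W' ⟶ W) (wbar' : Spec (CommRingCat.of Ω) ⟶ W'.left),
        wbar' ≫ g.left = wbar ∧ IsGen j F W' (F.obj.map ((EtCoh.bc j).map g).op s) := by
  induction d with
  | zero =>
    intro W s Z hZ hs wbar hd
    apply base_case j F W s Z hZ hs wbar
    have : (liftSet j W Z wbar).encard = 0 := le_antisymm (by simpa using hd) bot_le
    exact Set.encard_eq_zero.1 this
  | succ d ih =>
    intro W s Z hZ hs wbar hd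
    by_cases hne : liftSet j W Z wbar = ∅
    · exact base_case j F W s Z hZ hs wbar hne
    obtain ⟨zbar, hzbar⟩ := Set.nonempty_iff_ne_empty.2 hne
    let Y : U.Etale := BW j W
    let W₁ : X.Etale := (G j).obj Y
    let g₁ : W₁ ⟶ W := MorphismProperty.Over.homMk (bfst j W) (by
      show bfst j W ≫ W.hom = bsnd j W ≫ j
      exact pullback.condition) trivial
    let p₂ : PV j Y ⟶ Y := (EtCoh.bc j).map g₁
    have hp₂fst : p₂.left ≫ bfst j W = pfst j Y ≫ bfst j W := bc_map_fst j g₁
    have hp₂snd : p₂.left ≫ bsnd j W = psnd j Y := bc_map_snd j g₁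
    have hδp : δ j Y ≫ p₂ = 𝟙 Y := by
      apply MorphismProperty.Over.Hom.ext
      show (δ j Y).left ≫ p₂.left = 𝟙 _
      apply pullback.hom_ext
      · show ((δ j Y).left ≫ p₂.left) ≫ bfst j W = 𝟙 _ ≫ bfst j W
        rw [Category.assoc, hp₂fst, δ_left_fst_assoc, Category.id_comp]
      · show ((δ j Y).left ≫ p₂.left) ≫ bsnd j W = 𝟙 _ ≫ bsnd j W
        rw [Category.assoc, hp₂snd, δ_left_snd, Category.id_comp]
        rfl
    let s₁ : F.obj.obj (op (PV j Y)) := F.obj.map p₂.op s
    let e : F.obj.obj (op (PV j Y)) := ez j F Y s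
    have hδs : F.obj.map (δ j Y).op (s₁ - e) = 0 := by
      rw [map_sub, ez_δ]
      show F.obj.map (δ j Y).op (F.obj.map p₂.op s) - s = 0
      rw [map_map, hδp, op_id, F.obj.map_id]
      exact sub_self s
    let Z₁ : Set (PV j Y).left := p₂.left ⁻¹' Z ∩ (Set.range (δ j Y).left)ᶜ
    have hZcl : IsClosed Z := hZ.1
    have hZ₁cl : IsClosed Z₁ :=
      (hZcl.preimage p₂.left.continuous).inter
        (δ j Y).left.isOpenEmbedding.isOpen_range.isClosed_compl
    have hZ₁ : ClSub.IsProperOver (bfst j W₁) Z₁ := by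
      have hpre : ClSub.IsProperOver (bfst j W₁) (p₂.left ⁻¹' Z) :=
        isProperOver_preimage_of_isPullback (bfst j W) g₁.left p₂.left (bfst j W₁)
          (EtCoh.isPullback_bc_map j g₁) Z hZ
      exact isProperOver_of_subset _ hpre hZ₁cl Set.inter_subset_left
    have hs'' : VanishOff F (PV j Y) (s₁ - e) Z₁ := by
      intro Y' k hk
      let O₁ : Y'.left.Opens := k.left ⁻¹ᵁ (p₂.left ⁻¹ᵁ ⟨Zᶜ, hZcl.isOpen_compl⟩)
      let O₂ : Y'.left.Opens := k.left ⁻¹ᵁ (δ j Y).left.opensRange
      apply eq_zero_of_cover2 F Y' _ O₁ O₂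
      · intro y
        by_cases hy : k.left y ∈ Set.range (δ j Y).left
        · exact Or.inr hy
        · left
          intro hyZ
          exact hk y ⟨hyZ, hy⟩
      · rw [map_map, map_sub]
        have h1 : F.obj.map (openι Y' O₁ ≫ k).op s₁ = 0 := by
          show F.obj.map (openι Y' O₁ ≫ k).op (F.obj.map p₂.op s) = 0
          rw [map_map]
          apply hs
          intro y
          exact y.2
        have h2 : F.obj.map (openι Y' O₁ ≫ k).op e = 0 := by
          apply ez_vanishOff j F Y s Z hs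
          rintro y ⟨z, hzZ, hz⟩
          apply y.2
          show p₂.left ((openι Y' O₁ ≫ k).left y) ∈ Z
          rw [← hz]
          have : p₂.left ((δ j Y).left z) = z := by
            have := congrArg (fun m => m.left z) hδp
            exact this
          rw [this]
          exact hzZ
        rw [h1, h2, sub_zero]
      · obtain ⟨ρ, hρ⟩ := exists_factor_δ j (openι Y' O₂ ≫ k) (fun y => y.2)
        rw [map_map, ← hρ, ← map_map, hδs, map_zero]
    -- the new geometric point
    have hz1 : zbar ≫ bfst j W = wbar := hzbar.1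
    have hcard : (liftSet j W₁ Z₁ zbar).encard ≤ d := by
      have hinj : (liftSet j W₁ Z₁ zbar).encard ≤ (liftSet j W Z wbar \ {zbar}).encard := by
        apply Set.encard_le_encard_of_injOn (f := fun y' => y' ≫ p₂.left)
        · intro y' hy'
          obtain ⟨hy1, hy2⟩ := hy'
          have hy1' : y' ≫ pfst j Y = zbar := hy1
          refine ⟨⟨?_, ?_⟩, ?_⟩
          · show (y' ≫ p₂.left) ≫ bfst j W = wbar
            rw [Category.assoc, hp₂fst, ← Category.assoc, hy1', hz1]
          · intro x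
            have := (hy2 x).1
            rw [Scheme.Hom.comp_apply]
            exact this
          · intro heq
            have heq' : y' ≫ p₂.left = zbar := heq
            have hy' : y' = zbar ≫ (δ j Y).left := by
              apply pullback.hom_ext
              · show y' ≫ pfst j Y = (zbar ≫ (δ j Y).left) ≫ pfst j Y
                rw [Category.assoc, δ_left_fst, Category.comp_id, hy1']
              · show y' ≫ psnd j Y = (zbar ≫ (δ j Y).left) ≫ psnd j Y
                rw [Category.assoc, δ_left_snd, ← hp₂snd, ← Category.assoc, heq']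
                rfl
            have x₀ : Spec (CommRingCat.of Ω) := default
            apply (hy2 x₀).2
            rw [hy', Scheme.Hom.comp_apply]
            exact ⟨_, rfl⟩
        · intro y₁ h₁ y₂ h₂ heq
          have heq' : y₁ ≫ p₂.left = y₂ ≫ p₂.left := heq
          have e₁ : y₁ ≫ pfst j Y = zbar := h₁.1
          have e₂ : y₂ ≫ pfst j Y = zbar := h₂.1
          apply pullback.hom_ext
          · show y₁ ≫ pfst j Y = y₂ ≫ pfst j Y
            rw [e₁, e₂]
          · show y₁ ≫ psnd j Y = y₂ ≫ psnd j Y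
            rw [← hp₂snd, ← Category.assoc, heq', Category.assoc]
      have h1 : (liftSet j W Z wbar \ {zbar}).encard + 1 = (liftSet j W Z wbar).encard :=
        Set.encard_sdiff_singleton_add_one hzbar
      have h2 : (liftSet j W₁ Z₁ zbar).encard + 1 ≤ (d : ℕ∞) + 1 := by
        calc (liftSet j W₁ Z₁ zbar).encard + 1 ≤ (liftSet j W Z wbar \ {zbar}).encard + 1 :=
              add_le_add_left hinj 1
          _ = (liftSet j W Z wbar).encard := h1
          _ ≤ (d : ℕ∞) + 1 := by simpa using hd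
      exact (WithTop.add_le_add_iff_right ENat.one_ne_top).1 h2
    obtain ⟨W', g', wbar', hw', hgen⟩ := ih W₁ (s₁ - e) Z₁ hZ₁ hs'' zbar hcard
    refine ⟨W', g' ≫ g₁, wbar', ?_, ?_⟩
    · show wbar' ≫ g'.left ≫ bfst j W = wbar
      rw [← Category.assoc, hw']
      exact hz1
    · have hsplit : F.obj.map ((EtCoh.bc j).map (g' ≫ g₁)).op s =
          F.obj.map ((EtCoh.bc j).map g').op (s₁ - e) + F.obj.map ((EtCoh.bc j).map g').op e := by
        rw [← map_add, sub_add_cancel, Functor.map_comp]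
        exact (map_map F _ _ s).symm
      rw [hsplit]
      apply isGen_add j F hgen
      apply isGen_map j F g'
      have := isGen_ez j F (W := W₁) Y (𝟙 _) s
      rw [show bmap j (𝟙 ((G j).obj Y)) = 𝟙 _ from (EtCoh.bc j).map_id _, op_id, F.obj.map_id] at this
      exact this

end Groth.Agent.Lib.Helper57.EZ
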