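import Mathlib
import Groth.Agent.Lib.Helper57.LS4

set_option autoImplicit false
universe u

open CategoryTheory Limits AlgebraicGeometry Opposite

namespace Groth.Agent.Lib.Helper57.EZ

open Groth.Agent.Lib.Helper79.EtSiteGlue Groth.Agent.Lib.Helper21.ProperOver
  Groth.Agent.Lib.Helper57.LS

variable {U X : Scheme.{u}} (j : U ⟶ X) [Etale j] [IsSeparated j] [EtShriek.JCont j]
  (F : EtCoh.Ab U)

theorem exists_isGen_nbhd (W : X.Etale) (s : F.obj.obj (op (BW j W)))
    (hs : EtShriek.ShriekPred j F W s) (w : W.left) :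
    ∃ (W' : X.Etale) (g : W' ⟶ W), w ∈ Set.range g.left ∧
      IsGen j F W' (F.obj.map ((EtCoh.bc j).map g).op s) := by
  obtain ⟨Z, hsupp, hZ⟩ := hs W (𝟙 W)
  have hid : F.obj.map ((EtCoh.bc j).map (𝟙 W)).op s = s := by
    rw [(EtCoh.bc j).map_id, op_id, F.obj.map_id]
    rfl
  rw [hid] at hsupp
  have hZ' : ClSub.IsProperOver (bfst j W) Z := hZ
  have hvan : VanishOff F (BW j W) s Z := vanishOff_of_sectSupp F (BW j W) s Z hZ'.1 hsupp
  let κ := W.left.residueField w
  let Ω := AlgebraicClosure κ
  let wbar : Spec (CommRingCat.of Ω) ⟶ W.left :=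
    Spec.map (CommRingCat.ofHom (algebraMap κ Ω)) ≫ W.left.fromSpecResidueField w
  have hfin := finite_lifts (bfst j W) Z hZ' wbar
  have hd : (liftSet j W Z wbar).encard ≤ ((liftSet j W Z wbar).encard.toNat : ℕ∞) := by
    rw [ENat.natCast_toNat]
    exact (Set.Finite.encard_lt_top hfin).ne
  obtain ⟨W', g, wbar', hw', hgen⟩ :=
    exists_isGen_of_encard j F _ W s Z hZ' hvan wbar hd
  refine ⟨W', g, ?_, hgen⟩
  have x₀ : Spec (CommRingCat.of Ω) := default
  refine ⟨wbar' x₀, ?_⟩
  rw [← Scheme.Hom.comp_apply, hw', Scheme.Hom.comp_apply, Scheme.fromSpecResidueField_apply]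

lemma σ_val {W : X.Etale} (x : (Lan j F).obj (op W)) :
    (EtShriek.lowerShriekPreι j F).app (op W) ((σ j F).app (op W) x) =
      (τ' j F).app (op W) x := by
  have h := congrArg (fun φ => φ.app (op W)) (σ_ι j F)
  have h2 := congrArg (fun φ => φ x) (congrArg AddCommGrpCat.Hom.hom h)
  exact h2

instance isLocallySurjective_σ :
    Presheaf.IsLocallySurjective X.smallEtaleTopology (σ j F) where
  imageSieve_mem {W} s := by
    obtain ⟨s, hs⟩ := s
    refine AddSubgroup.closure_induction
      (p := fun s hs => Presheaf.imageSieve (σ j F)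
        (⟨s, hs⟩ : EtShriek.shriekSubgroup j F W) ∈ X.smallEtaleTopology W) ?_ ?_ ?_ ?_ hs
    · intro s hs
      apply mem_of_forall_exists
      intro w
      obtain ⟨W', g, hw, x, hx⟩ := exists_isGen_nbhd j F W s hs w
      refine ⟨W', g, ⟨x, ?_⟩, hw⟩
      apply Subtype.ext
      exact (σ_val j F x).trans hx
    · refine X.smallEtaleTopology.superset_covering ?_ (X.smallEtaleTopology.top_mem W)
      intro W' g _
      refine ⟨0, ?_⟩
      rw [map_zero]
      apply Subtype.ext
      show (0 : F.obj.obj (op (BW j W'))) = F.obj.map ((EtCoh.bc j).map g).op 0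
      rw [map_zero]
    · intro s s' hs hs' h h'
      refine X.smallEtaleTopology.superset_covering ?_
        (X.smallEtaleTopology.intersection_covering h h')
      rintro W' g ⟨⟨x, hx⟩, ⟨x', hx'⟩⟩
      refine ⟨x + x', ?_⟩
      rw [map_add, hx, hx']
      apply Subtype.ext
      show F.obj.map ((EtCoh.bc j).map g).op s + F.obj.map ((EtCoh.bc j).map g).op s' =
        F.obj.map ((EtCoh.bc j).map g).op (s + s')
      rw [map_add]
    · intro s hs h
      refine X.smallEtaleTopology.superset_covering ?_ h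
      rintro W' g ⟨x, hx⟩
      refine ⟨-x, ?_⟩
      rw [map_neg, hx]
      apply Subtype.ext
      show -F.obj.map ((EtCoh.bc j).map g).op s = F.obj.map ((EtCoh.bc j).map g).op (-s)
      rw [map_neg]

instance isLocallyInjective_σ :
    Presheaf.IsLocallyInjective X.smallEtaleTopology (σ j F) :=
  Presheaf.isLocallyInjective_of_isLocallyInjective_fac X.smallEtaleTopology (σ_ι j F)

instance isIso_sheafify_σ (F : EtCoh.Ab U) :
    IsIso ((presheafToSheaf X.smallEtaleTopology A).map (σ j F)) := by
  rw [← GrothendieckTopology.W_iff]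
  exact GrothendieckTopology.W_of_isLocallyBijective _ _

/-- `j_! ≅ lowerShriek j` for separated étale `j`. -/
noncomputable def extZeroIsoLowerShriek : EtShriek.extZero j ≅ EtShriek.lowerShriek j := by
  haveI : ∀ F, IsIso ((Functor.whiskerRight (σNat j)
      (presheafToSheaf X.smallEtaleTopology A)).app F) := fun F => isIso_sheafify_σ j F
  have h : IsIso (Functor.whiskerRight (σNat j) (presheafToSheaf X.smallEtaleTopology A)) :=
    NatIso.isIso_of_isIso_app _
  exact isoC j ≪≫ @asIso _ _ _ _ _ h

end Groth.Agent.Lib.Helper57.EZ
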