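import Mathlib
import Groth.Agent.Lib.Helper57.LS5

set_option autoImplicit false
universe u

open CategoryTheory Limits AlgebraicGeometry Opposite

namespace Groth.Agent.Lib.Helper57.EZ

open Groth.Agent.Lib.Helper79.EtSiteGlue Groth.Agent.Lib.Helper21.ProperOver

section General

variable {X Y : Scheme.{u}}

theorem sectSupp_subset_of_vanishOff (F : EtCoh.Ab X) (U : X.Etale) (s : F.obj.obj (op U))
    (Z : Set U.left) (hZ : IsClosed Z) (h : VanishOff F U s Z) : EtShriek.sectSupp F U s ⊆ Z := by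
  intro x hx
  by_contra hxZ
  let O : U.left.Opens := ⟨Zᶜ, hZ.isOpen_compl⟩
  exact hx (openObj U O) (openι U O) ⟨⟨x, hxZ⟩, rfl⟩ (h _ _ (fun y => y.2))

theorem vanishOff_map (F : EtCoh.Ab X) {U U' : X.Etale} (k : U' ⟶ U) (s : F.obj.obj (op U))
    (Z : Set U.left) (h : VanishOff F U s Z) :
    VanishOff F U' (F.obj.map k.op s) (k.left ⁻¹' Z) := by
  intro Y' l hl
  rw [map_map]
  apply h
  intro y
  exact hl y

theorem vanishOff_mono (F : EtCoh.Ab X) {U : X.Etale} (s : F.obj.obj (op U))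
    {Z Z' : Set U.left} (hZ : Z ⊆ Z') (h : VanishOff F U s Z) : VanishOff F U s Z' :=
  fun Y' k hk => h Y' k (fun y hy => hk y (hZ hy))

/-- proper support, in terms of `VanishOff` -/
def HasPS (f : X ⟶ Y) (F : EtCoh.Ab X) (V : Y.Etale)
    (s : F.obj.obj (op ((EtCoh.bc f).obj V))) : Prop :=
  ∃ Z : Set ((EtCoh.bc f).obj V).left, ClSub.IsProperOver (EtShriek.prV f V) Z ∧
    VanishOff F ((EtCoh.bc f).obj V) s Z

theorem hasProperSupport_iff (f : X ⟶ Y) (F : EtCoh.Ab X) (V : Y.Etale)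
    (s : F.obj.obj (op ((EtCoh.bc f).obj V))) :
    EtShriek.HasProperSupport F ((EtCoh.bc f).obj V) s (EtShriek.prV f V) ↔ HasPS f F V s := by
  constructor
  · rintro ⟨Z, hsupp, hZ⟩
    exact ⟨Z, hZ, vanishOff_of_sectSupp F _ s Z hZ.1 hsupp⟩
  · rintro ⟨Z, hZ, hv⟩
    exact ⟨Z, sectSupp_subset_of_vanishOff F _ s Z hZ.1 hv, hZ⟩

variable (f : X ⟶ Y) [LocallyOfFiniteType f] (F : EtCoh.Ab X)

instance (V : Y.Etale) : LocallyOfFiniteType (EtShriek.prV f V) :=
  MorphismProperty.pullback_fst (P := @LocallyOfFiniteType) _ _ inferInstance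

theorem hasPS_map {V V' : Y.Etale} (φ : V' ⟶ V) (s : F.obj.obj (op ((EtCoh.bc f).obj V)))
    (h : HasPS f F V s) : HasPS f F V' (F.obj.map ((EtCoh.bc f).map φ).op s) := by
  obtain ⟨Z, hZ, hv⟩ := h
  refine ⟨((EtCoh.bc f).map φ).left ⁻¹' Z, ?_, vanishOff_map F _ s Z hv⟩
  exact isProperOver_preimage_of_isPullback (EtShriek.prV f V) φ.left ((EtCoh.bc f).map φ).left
    (EtShriek.prV f V') (EtCoh.isPullback_bc_map f φ) Z hZ

theorem shriekPred_iff (V : Y.Etale) (s : F.obj.obj (op ((EtCoh.bc f).obj V))) :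
    EtShriek.ShriekPred f F V s ↔ HasPS f F V s := by
  constructor
  · intro h
    have h1 := h V (𝟙 V)
    rw [hasProperSupport_iff] at h1
    have hid : F.obj.map ((EtCoh.bc f).map (𝟙 V)).op s = s := by
      rw [(EtCoh.bc f).map_id, op_id, F.obj.map_id]
      rfl
    rwa [hid] at h1
  · intro h V' φ
    rw [hasProperSupport_iff]
    exact hasPS_map f F φ s h

theorem isProperOver_empty {S T : Scheme.{u}} (g : T ⟶ S) : ClSub.IsProperOver g (∅ : Set T) := by
  refine ⟨isClosed_empty, ?_⟩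
  haveI : IsEmpty ((Scheme.IdealSheafData.vanishingIdeal
      (⟨∅, isClosed_empty⟩ : TopologicalSpace.Closeds T)).subscheme) := by
    refine ⟨fun x => ?_⟩
    have : (Scheme.IdealSheafData.vanishingIdeal
      (⟨∅, isClosed_empty⟩ : TopologicalSpace.Closeds T)).subschemeι x ∈ (∅ : Set T) :=
      (range_subschemeι_vanishingIdeal ∅ isClosed_empty).le ⟨x, rfl⟩
    exact this
  haveI : IsClosedImmersion ((Scheme.IdealSheafData.vanishingIdeal
      (⟨∅, isClosed_empty⟩ : TopologicalSpace.Closeds T)).subschemeι ≫ g) := inferInstance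
  infer_instance

theorem hasPS_zero (V : Y.Etale) : HasPS f F V 0 :=
  ⟨∅, isProperOver_empty _, fun Y' k _ => map_zero _⟩

theorem hasPS_neg (V : Y.Etale) (s : F.obj.obj (op ((EtCoh.bc f).obj V))) (h : HasPS f F V s) :
    HasPS f F V (-s) := by
  obtain ⟨Z, hZ, hv⟩ := h
  refine ⟨Z, hZ, fun Y' k hk => ?_⟩
  rw [map_neg, hv Y' k hk, neg_zero]

theorem hasPS_add (V : Y.Etale) (s t : F.obj.obj (op ((EtCoh.bc f).obj V))) (hs : HasPS f F V s)
    (ht : HasPS f F V t) : HasPS f F V (s + t) := by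
  obtain ⟨Z, hZ, hv⟩ := hs
  obtain ⟨Z', hZ', hv'⟩ := ht
  refine ⟨⋃ b : Bool, cond b Z Z', ?_, fun Y' k hk => ?_⟩
  · apply isProperOver_iUnion
    intro b
    cases b
    · exact hZ'
    · exact hZ
  · rw [map_add, hv Y' k (fun y hy => hk y (Set.mem_iUnion.2 ⟨true, hy⟩)),
      hv' Y' k (fun y hy => hk y (Set.mem_iUnion.2 ⟨false, hy⟩)), add_zero]

theorem mem_shriekSubgroup_iff (V : Y.Etale) (s : F.obj.obj (op ((EtCoh.bc f).obj V))) :
    s ∈ EtShriek.shriekSubgroup f F V ↔ HasPS f F V s := by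
  constructor
  · intro h
    refine AddSubgroup.closure_induction (p := fun s _ => HasPS f F V s) ?_ ?_ ?_ ?_ h
    · intro s hs
      exact (shriekPred_iff f F V s).1 hs
    · exact hasPS_zero f F V
    · intro s t _ _ hs ht
      exact hasPS_add f F V s t hs ht
    · intro s _ hs
      exact hasPS_neg f F V s hs
  · intro h
    exact AddSubgroup.subset_closure ((shriekPred_iff f F V s).2 h)

end General

end Groth.Agent.Lib.Helper57.EZ
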