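import Mathlib
import Groth.Agent.Lib.Helper57.SP1

set_option autoImplicit false
universe u

open CategoryTheory Limits AlgebraicGeometry Opposite

namespace Groth.Agent.Lib.Helper57.EZ

open Groth.Agent.Lib.Helper79.EtSiteGlue Groth.Agent.Lib.Helper21.ProperOver

section Supp

variable {U : Scheme.{u}} (F : EtCoh.Ab U)

/-- the closed support of a section -/
def Zsupp (Y : U.Etale) (s : F.obj.obj (op Y)) : Set Y.left :=
  (⋃ O : {O : Y.left.Opens // F.obj.map (openι Y O).op s = 0}, (O.1 : Set Y.left))ᶜ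

lemma isClosed_Zsupp (Y : U.Etale) (s : F.obj.obj (op Y)) : IsClosed (Zsupp F Y s) :=
  (isOpen_iUnion fun O => O.1.2).isClosed_compl

lemma vanishOff_Zsupp (Y : U.Etale) (s : F.obj.obj (op Y)) : VanishOff F Y s (Zsupp F Y s) := by
  intro Y' k hk
  have hy : ∀ y : Y'.left, ∃ O : Y.left.Opens, F.obj.map (openι Y O).op s = 0 ∧ k.left y ∈ O := by
    intro y
    have := hk y
    simp only [Zsupp, Set.mem_compl_iff, Set.mem_iUnion, not_not] at this
    obtain ⟨O, hy⟩ := this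
    exact ⟨O.1, O.2, hy⟩
  choose O hO hyO using hy
  refine eq_of_forall_map_eq (P := F.obj ⋙ forget AddCommGrpCat.{u + 1}) (isSheaf_forget F) Y'
    (fun y => openObj Y' (k.left ⁻¹ᵁ O y)) (fun y => openι Y' _) ?_ _ 0 ?_
  · intro y
    exact ⟨y, ⟨⟨y, hyO y⟩, rfl⟩⟩
  · intro y
    show F.obj.map (openι Y' _).op (F.obj.map k.op s) = F.obj.map (openι Y' _).op 0
    rw [map_zero, map_map]
    obtain ⟨l, hl⟩ := exists_liftOpen (openι Y' (k.left ⁻¹ᵁ O y) ≫ k) (O y) (fun z => z.2)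
    rw [← hl, ← map_map, hO y, map_zero]

lemma Zsupp_subset (Y : U.Etale) (s : F.obj.obj (op Y)) (Z : Set Y.left) (hZ : IsClosed Z)
    (h : VanishOff F Y s Z) : Zsupp F Y s ⊆ Z := by
  intro x hx
  by_contra hxZ
  apply hx
  exact Set.mem_iUnion.2 ⟨⟨⟨Zᶜ, hZ.isOpen_compl⟩, h _ _ (fun y => y.2)⟩, hxZ⟩

lemma notMem_Zsupp_of_vanish (Y : U.Etale) (s : F.obj.obj (op Y)) (N : Y.left.Opens)
    (hN : F.obj.map (openι Y N).op s = 0) (x : Y.left) (hx : x ∈ N) : x ∉ Zsupp F Y s :=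
  fun hxs => hxs (Set.mem_iUnion.2 ⟨⟨N, hN⟩, hx⟩)

/-- the support of a restriction along an étale map contains the preimage of the support -/
lemma preimage_Zsupp_subset {Y' Y : U.Etale} (k : Y' ⟶ Y) (s : F.obj.obj (op Y))
    (Z' : Set Y'.left) (hZ' : IsClosed Z') (hv : VanishOff F Y' (F.obj.map k.op s) Z') :
    k.left ⁻¹' (Zsupp F Y s) ⊆ Z' := by
  intro y' hy'
  by_contra hyZ
  let N' : Y'.left.Opens := ⟨Z'ᶜ, hZ'.isOpen_compl⟩
  let N : Y.left.Opens := ⟨k.left '' N', k.left.isOpenMap _ N'.2⟩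
  have hN : F.obj.map (openι Y N).op s = 0 := by
    obtain ⟨l, hl⟩ := exists_liftOpen (openι Y' N' ≫ k) N (fun z => ⟨z.1, z.2, rfl⟩)
    refine eq_of_forall_map_eq (P := F.obj ⋙ forget AddCommGrpCat.{u + 1}) (isSheaf_forget F)
      (openObj Y N) (fun _ : Unit => openObj Y' N') (fun _ => l) ?_ _ 0 ?_
    · rintro ⟨x, ⟨z, hz, rfl⟩⟩
      refine ⟨(), ⟨⟨z, hz⟩, ?_⟩⟩
      have hinj : Function.Injective (Scheme.Opens.ι N) :=
        (Scheme.Opens.ι N).isOpenEmbedding.injective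
      apply hinj
      have h1 := congrArg (fun m => m.left ⟨z, hz⟩) hl
      exact h1
    · intro _
      show F.obj.map l.op (F.obj.map (openι Y N).op s) = F.obj.map l.op 0
      rw [map_map, hl, ← map_map, map_zero]
      exact hv _ _ (fun y => y.2)
  exact notMem_Zsupp_of_vanish F Y s N hN (k.left y') ⟨y', hyZ, rfl⟩ hy'

end Supp

/-- closedness descends along covering sieves of the small étale site -/
lemma isClosed_of_sieve {X : Scheme.{u}} {W : X.Etale} (T : Set W.left) (S : Sieve W)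
    (hS : S ∈ X.smallEtaleTopology W)
    (h : ∀ (W' : X.Etale) (g : W' ⟶ W), S g → IsClosed (g.left ⁻¹' T)) : IsClosed T := by
  rw [← isOpen_compl_iff, isOpen_iff_forall_mem_open]
  intro x hx
  obtain ⟨W', g, hg, ⟨y, rfl⟩⟩ := exists_arrow_of_mem hS x
  refine ⟨g.left '' (g.left ⁻¹' T)ᶜ, ?_, g.left.isOpenMap _ (h W' g hg).isOpen_compl,
    ⟨y, hx, rfl⟩⟩
  rintro _ ⟨z, hz, rfl⟩
  exact hz

section OpenImm

variable {U X : Scheme.{u}} (j : U ⟶ X) [IsOpenImmersion j]

instance (W : X.Etale) : IsOpenImmersion (bfst j W) :=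
  MorphismProperty.pullback_fst (P := @IsOpenImmersion) _ _ inferInstance

theorem isProperOver_iff_isClosed_image (W : X.Etale) (Z : Set (BW j W).left) (hZ : IsClosed Z) :
    ClSub.IsProperOver (bfst j W) Z ↔ IsClosed (bfst j W '' Z) := by
  let ι := (Scheme.IdealSheafData.vanishingIdeal ⟨Z, hZ⟩).subschemeι
  have hr : Set.range ι = Z := range_subschemeι_vanishingIdeal Z hZ
  have hrange : Set.range (ι ≫ bfst j W) = bfst j W '' Z := by
    rw [Scheme.Hom.comp_base, TopCat.coe_comp, Set.range_comp, hr]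
  constructor
  · rintro ⟨_, hprop⟩
    haveI : IsProper (ι ≫ bfst j W) := hprop
    rw [← hrange]
    exact (ι ≫ bfst j W).isClosedMap.isClosed_range
  · intro h
    refine ⟨hZ, ?_⟩
    haveI : IsClosedImmersion (ι ≫ bfst j W) :=
      IsClosedImmersion.of_isPreimmersion _ (by rw [hrange]; exact h)
    show IsProper (ι ≫ bfst j W)
    infer_instance

variable [EtShriek.JCont j] (F : EtCoh.Ab U)

theorem hasPS_of_sieve (W : X.Etale) (s : F.obj.obj (op (BW j W))) (S : Sieve W)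
    (hS : S ∈ X.smallEtaleTopology W)
    (h : ∀ (W' : X.Etale) (g : W' ⟶ W), S g →
      HasPS j F W' (F.obj.map ((EtCoh.bc j).map g).op s)) : HasPS j F W s := by
  refine ⟨Zsupp F (BW j W) s, ?_, vanishOff_Zsupp F _ s⟩
  show ClSub.IsProperOver (bfst j W) _
  rw [isProperOver_iff_isClosed_image j W _ (isClosed_Zsupp F _ s)]
  apply isClosed_of_sieve _ S hS
  intro W' g hg
  obtain ⟨Z'', hZ'', hv''⟩ := h W' g hg
  let Z' : Set (BW j W').left := ((EtCoh.bc j).map g).left ⁻¹' Zsupp F (BW j W) s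
  have hZ'sub : Z' ⊆ Z'' := preimage_Zsupp_subset F _ s Z'' hZ''.1 hv''
  have hZ'cl : IsClosed Z' :=
    (isClosed_Zsupp F _ s).preimage ((EtCoh.bc j).map g).left.continuous
  have hZ'prop : ClSub.IsProperOver (bfst j W') Z' := isProperOver_of_subset _ hZ'' hZ'cl hZ'sub
  have sq := EtCoh.isPullback_bc_map j g
  have himg : g.left ⁻¹' (bfst j W '' Zsupp F (BW j W) s) = bfst j W' '' Z' := by
    ext x'
    constructor
    · rintro ⟨z, hz, hzx⟩
      obtain ⟨p, hp1, hp2⟩ := Scheme.Pullback.exists_preimage_pullback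
        (f := bfst j W) (g := g.left) z x' hzx
      refine ⟨sq.isoPullback.inv p, ?_, ?_⟩
      · show ((EtCoh.bc j).map g).left (sq.isoPullback.inv p) ∈ Zsupp F (BW j W) s
        rw [← Scheme.Hom.comp_apply, IsPullback.isoPullback_inv_fst, hp1]
        exact hz
      · rw [← Scheme.Hom.comp_apply, IsPullback.isoPullback_inv_snd, hp2]
    · rintro ⟨y', hy', rfl⟩
      refine ⟨((EtCoh.bc j).map g).left y', hy', ?_⟩
      have := congrArg (fun m => m y') sq.w
      simp only [Scheme.Hom.comp_apply] at this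
      exact this
  rw [himg]
  exact (isProperOver_iff_isClosed_image j W' Z' hZ'cl).1 hZ'prop

end OpenImm

end Groth.Agent.Lib.Helper57.EZ
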