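import Mathlib
import Groth.Agent.Lib.Helper57.SP2

set_option autoImplicit false
universe u

open CategoryTheory Limits AlgebraicGeometry Opposite

namespace Groth.Agent.Lib.Helper57.EZ

open Groth.Agent.Lib.Helper79.EtSiteGlue Groth.Agent.Lib.Helper21.ProperOver

/-- a section which is locally in the image of an injective morphism of sheaves is in the image -/
theorem exists_of_locally {X : Scheme.{u}} {P Q : EtCoh.Ab X} (φ : P ⟶ Q)
    (hinj : ∀ W : X.Etaleᵒᵖ, Function.Injective (φ.hom.app W))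
    {W : X.Etale} (s : Q.obj.obj (op W)) (S : Sieve W) (hS : S ∈ X.smallEtaleTopology W)
    (h : ∀ (W' : X.Etale) (g : W' ⟶ W), S g →
      ∃ t' : P.obj.obj (op W'), φ.hom.app (op W') t' = Q.obj.map g.op s) :
    ∃ t : P.obj.obj (op W), φ.hom.app (op W) t = s := by
  have hP := isSheaf_forget P
  have hQ := isSheaf_forget Q
  have nat : ∀ {A B : X.Etale} (k : A ⟶ B) (t : P.obj.obj (op B)),
      φ.hom.app (op A) (P.obj.map k.op t) = Q.obj.map k.op (φ.hom.app (op B) t) := by
    intro A B k t
    have := congrArg (fun ψ => ψ t) (congrArg AddCommGrpCat.Hom.hom (φ.hom.naturality k.op))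
    simp only [AddCommGrpCat.hom_comp, AddMonoidHom.coe_comp, Function.comp_apply] at this
    exact this
  let x : Presieve.FamilyOfElements (P.obj ⋙ forget AddCommGrpCat.{u + 1}) S.arrows :=
    fun W' g hg => (h W' g hg).choose
  have hx : x.Compatible := by
    intro W₁ W₂ V g₁ g₂ f₁ f₂ h₁ h₂ comm
    apply hinj
    show φ.hom.app (op V) (P.obj.map g₁.op (x f₁ h₁)) = φ.hom.app (op V) (P.obj.map g₂.op (x f₂ h₂))
    rw [nat, nat]
    show Q.obj.map g₁.op (φ.hom.app (op W₁) (h W₁ f₁ h₁).choose) =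
      Q.obj.map g₂.op (φ.hom.app (op W₂) (h W₂ f₂ h₂).choose)
    rw [(h _ f₁ h₁).choose_spec, (h _ f₂ h₂).choose_spec, map_map, map_map, comm]
  obtain ⟨t, ht, -⟩ := hP S hS x hx
  refine ⟨t, ?_⟩
  refine (hQ.isSeparated _ hS).ext ?_
  intro W' g hg
  show Q.obj.map g.op (φ.hom.app (op W) t) = Q.obj.map g.op s
  rw [← nat]
  have h1 : P.obj.map g.op t = (h W' g hg).choose := ht g hg
  rw [h1, (h W' g hg).choose_spec]

variable {U X : Scheme.{u}} (j : U ⟶ X) [Etale j] [IsSeparated j] [EtShriek.JCont j]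
  (F : EtCoh.Ab U)

instance : IsIso (eC j F).hom := inferInstanceAs (IsIso ((sheafToPresheaf _ _).map (eC j F)))

instance isLocallySurjective_toSheafify_eC : Presheaf.IsLocallySurjective X.smallEtaleTopology
    (toSheafify X.smallEtaleTopology (Lan j F) ≫ (eC j F).hom) := inferInstance

theorem injective_τ (W : X.Etaleᵒᵖ) : Function.Injective (((τ j).app F).hom.app W) := by
  haveI : Sheaf.IsLocallyInjective ((τ j).app F) :=
    Presheaf.isLocallyInjective_of_isLocallyInjective_of_isLocallySurjective_fac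
      (f₁ := toSheafify X.smallEtaleTopology (Lan j F) ≫ (eC j F).hom)
      (f₂ := ((τ j).app F).hom)
      X.smallEtaleTopology (τ' j F) (by simp only [τ', Category.assoc])
  exact (Sheaf.isLocallyInjective_iff_injective ((τ j).app F)).1 inferInstance W

lemma τ'_eq {W : X.Etale} (x : (Lan j F).obj (op W)) :
    (τ' j F).app (op W) x = ((τ j).app F).hom.app (op W)
      ((toSheafify X.smallEtaleTopology (Lan j F) ≫ (eC j F).hom).app (op W) x) := by
  rfl

lemma τ_nat {W W' : X.Etale} (g : W' ⟶ W) (t : ((EtShriek.extZero j).obj F).obj.obj (op W)) :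
    ((τ j).app F).hom.app (op W') (((EtShriek.extZero j).obj F).obj.map g.op t) =
      F.obj.map ((EtCoh.bc j).map g).op (((τ j).app F).hom.app (op W) t) := by
  have := congrArg (fun ψ => ψ t)
    (congrArg AddCommGrpCat.Hom.hom (((τ j).app F).hom.naturality g.op))
  simp only [AddCommGrpCat.hom_comp, AddMonoidHom.coe_comp, Function.comp_apply] at this
  exact this

/-- sections with proper support come from `j_!` -/
theorem exists_τ_eq_of_mem (W : X.Etale) (s : F.obj.obj (op (BW j W)))
    (hs : s ∈ EtShriek.shriekSubgroup j F W) :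
    ∃ t : ((EtShriek.extZero j).obj F).obj.obj (op W), ((τ j).app F).hom.app (op W) t = s := by
  have hcov := Presheaf.imageSieve_mem X.smallEtaleTopology (σ j F)
    (⟨s, hs⟩ : EtShriek.shriekSubgroup j F W)
  refine exists_of_locally ((τ j).app F) (injective_τ j F) s _ hcov ?_
  rintro W' g ⟨x, hx⟩
  refine ⟨(toSheafify X.smallEtaleTopology (Lan j F) ≫ (eC j F).hom).app (op W') x, ?_⟩
  rw [← τ'_eq, ← σ_val, hx]
  rfl

section OpenImm

variable {U X : Scheme.{u}} (j : U ⟶ X) [IsOpenImmersion j] [EtShriek.JCont j] (F : EtCoh.Ab U)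

/-- sections of `j_!` have proper support (open immersion case) -/
theorem τ_mem (W : X.Etale) (t : ((EtShriek.extZero j).obj F).obj.obj (op W)) :
    ((τ j).app F).hom.app (op W) t ∈ EtShriek.shriekSubgroup j F W := by
  refine (mem_shriekSubgroup_iff j F W
    (((τ j).app F).hom.app (op W) t : F.obj.obj (op (BW j W)))).2 ?_
  have hcov := Presheaf.imageSieve_mem X.smallEtaleTopology
    (toSheafify X.smallEtaleTopology (Lan j F) ≫ (eC j F).hom) t
  apply hasPS_of_sieve j F W _ _ hcov
  rintro W' g ⟨x, hx⟩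
  refine (mem_shriekSubgroup_iff j F W' _).1 ?_
  rw [← τ_nat]
  have hx' : ((EtShriek.extZero j).obj F).obj.map g.op t =
      (toSheafify X.smallEtaleTopology (Lan j F) ≫ (eC j F).hom).app (op W') x := hx.symm
  rw [hx', ← τ'_eq, ← σ_val]
  exact ((σ j F).app (op W') x).2

theorem mem_shriekSubgroup_iff_exists_τ (W : X.Etale) (s : F.obj.obj (op (BW j W))) :
    s ∈ EtShriek.shriekSubgroup j F W ↔
      ∃ t : ((EtShriek.extZero j).obj F).obj.obj (op W), ((τ j).app F).hom.app (op W) t = s :=
  ⟨exists_τ_eq_of_mem j F W s, fun ⟨t, ht⟩ => ht ▸ τ_mem j F W t⟩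

end OpenImm

end Groth.Agent.Lib.Helper57.EZ
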