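import Mathlib
import Groth.Agent.Lib.Helper57.SP3

set_option autoImplicit false
universe u

open CategoryTheory Limits AlgebraicGeometry Opposite

namespace Groth.Agent.Lib.Helper57.EZ

open Groth.Agent.Lib.Helper79.EtSiteGlue Groth.Agent.Lib.Helper21.ProperOver

section Transport

variable {X Xb Y : Scheme.{u}} (j : X ⟶ Xb) [IsOpenImmersion j] (fb : Xb ⟶ Y) [IsProper fb]

/-- the comparison `X ×_Y V → X ×_{Xb} (Xb ×_Y V)` -/
noncomputable def κ (V : Y.Etale) :
    (EtCoh.bc (j ≫ fb)).obj V ⟶ (EtCoh.bc j).obj ((EtCoh.bc fb).obj V) :=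
  (MorphismProperty.Over.pullbackComp (P := EtCoh.etaleMP) (Q := ⊤) j fb).hom.app V

instance (V : Y.Etale) : IsIso (κ j fb V) := by
  show IsIso (((MorphismProperty.Over.pullbackComp (P := EtCoh.etaleMP) (Q := ⊤) j fb).app V).hom)
  infer_instance

instance (V : Y.Etale) : IsIso (κ j fb V).left :=
  ⟨⟨(inv (κ j fb V)).left, by
    have := congrArg (fun m => m.left) (IsIso.hom_inv_id (κ j fb V))
    exact this, by
    have := congrArg (fun m => m.left) (IsIso.inv_hom_id (κ j fb V))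
    exact this⟩⟩

lemma inv_κ_left (V : Y.Etale) : (inv (κ j fb V)).left ≫ (κ j fb V).left = 𝟙 _ := by
  have := congrArg (fun m => m.left) (IsIso.inv_hom_id (κ j fb V))
  exact this

instance (V : Y.Etale) : IsIso (inv (κ j fb V)).left :=
  ⟨⟨(κ j fb V).left, inv_κ_left j fb V, by
    have := congrArg (fun m => m.left) (IsIso.hom_inv_id (κ j fb V))
    exact this⟩⟩

lemma κ_fst (V : Y.Etale) :
    (κ j fb V).left ≫ EtShriek.prV j ((EtCoh.bc fb).obj V) ≫ EtShriek.prV fb V =
      EtShriek.prV (j ≫ fb) V :=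
  MorphismProperty.Over.pullbackComp_left_fst_fst j fb V

lemma inv_κ_fst (V : Y.Etale) :
    (inv (κ j fb V)).left ≫ EtShriek.prV (j ≫ fb) V =
      EtShriek.prV j ((EtCoh.bc fb).obj V) ≫ EtShriek.prV fb V := by
  rw [← κ_fst j fb V, ← Category.assoc, inv_κ_left, Category.id_comp]

instance (V : Y.Etale) : IsProper (EtShriek.prV fb V) :=
  MorphismProperty.pullback_fst (P := @IsProper) _ _ inferInstance

variable (F : EtCoh.Ab X)

theorem hasPS_κ_iff (V : Y.Etale) (s : F.obj.obj (op ((EtCoh.bc j).obj ((EtCoh.bc fb).obj V)))) :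
    HasPS j F ((EtCoh.bc fb).obj V) s ↔ HasPS (j ≫ fb) F V (F.obj.map (κ j fb V).op s) := by
  constructor
  · rintro ⟨Z, hZ, hv⟩
    refine ⟨(κ j fb V).left ⁻¹' Z, ?_, vanishOff_map F (κ j fb V) s Z hv⟩
    have h1 : ClSub.IsProperOver (EtShriek.prV j ((EtCoh.bc fb).obj V) ≫ EtShriek.prV fb V) Z := by
      obtain ⟨hcl, hp⟩ := hZ
      refine ⟨hcl, ?_⟩
      haveI := hp
      rw [← Category.assoc]
      infer_instance
    exact isProperOver_preimage_of_isProper (EtShriek.prV (j ≫ fb) V)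
      (EtShriek.prV j ((EtCoh.bc fb).obj V) ≫ EtShriek.prV fb V) (κ j fb V).left
      (κ_fst j fb V) Z h1
  · rintro ⟨Z', hZ', hv'⟩
    refine ⟨(inv (κ j fb V)).left ⁻¹' Z', ?_, ?_⟩
    · have h1 : ClSub.IsProperOver
          (EtShriek.prV j ((EtCoh.bc fb).obj V) ≫ EtShriek.prV fb V)
          ((inv (κ j fb V)).left ⁻¹' Z') :=
        isProperOver_preimage_of_isProper
          (EtShriek.prV j ((EtCoh.bc fb).obj V) ≫ EtShriek.prV fb V)
          (EtShriek.prV (j ≫ fb) V) (inv (κ j fb V)).left (inv_κ_fst j fb V) Z' hZ'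
      obtain ⟨hcl, hp⟩ := h1
      refine ⟨hcl, ?_⟩
      haveI : IsProper (((Scheme.IdealSheafData.vanishingIdeal
          ⟨(inv (κ j fb V)).left ⁻¹' Z', hcl⟩).subschemeι ≫
          EtShriek.prV j ((EtCoh.bc fb).obj V)) ≫ EtShriek.prV fb V) := by
        rw [Category.assoc]; exact hp
      exact IsProper.of_comp _ (EtShriek.prV fb V)
    · have hs : s = F.obj.map (inv (κ j fb V)).op (F.obj.map (κ j fb V).op s) := by
        rw [map_map, IsIso.inv_hom_id, op_id, F.obj.map_id]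
        rfl
      rw [hs]
      exact vanishOff_map F (inv (κ j fb V)) _ Z' hv'

end Transport

end Groth.Agent.Lib.Helper57.EZ
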