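import Mathlib
import Groth.Agent.Lib.Helper57.SP4

set_option autoImplicit false
universe u

open CategoryTheory Limits AlgebraicGeometry Opposite

namespace Groth.Agent.Lib.Helper57.EZ

open Groth.Agent.Lib.Helper79.EtSiteGlue Groth.Agent.Lib.Helper21.ProperOver

variable {X Xb Y : Scheme.{u}} (j : X ⟶ Xb) [IsOpenImmersion j] (fb : Xb ⟶ Y) [IsProper fb]
  [EtShriek.JCont j]

/-- the natural comparison `fb_* j_! → (j ≫ fb)_*` -/
noncomputable def mNat : EtShriek.extZero j ⋙ EtCoh.push fb ⟶ EtCoh.push (j ≫ fb) :=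
  Functor.whiskerRight (τ j) (EtCoh.push fb) ≫ (EtCoh.pushComp fb j).hom

lemma mNat_app (F : EtCoh.Ab X) (V : Y.Etale)
    (t : ((EtShriek.extZero j).obj F).obj.obj (op ((EtCoh.bc fb).obj V))) :
    ((mNat j fb).app F).hom.app (op V) t =
      F.obj.map (κ j fb V).op (((τ j).app F).hom.app (op ((EtCoh.bc fb).obj V)) t) := rfl

variable (F : EtCoh.Ab X)

theorem mNat_mem (V : Y.Etale)
    (t : ((EtShriek.extZero j).obj F).obj.obj (op ((EtCoh.bc fb).obj V))) :
    ((mNat j fb).app F).hom.app (op V) t ∈ EtShriek.shriekSubgroup (j ≫ fb) F V := by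
  rw [mNat_app]
  refine (mem_shriekSubgroup_iff (j ≫ fb) F V _).2 ?_
  exact (hasPS_κ_iff j fb F V _).1 ((mem_shriekSubgroup_iff j F _ _).1 (τ_mem j F _ t))

theorem exists_mNat_eq (V : Y.Etale) (s' : F.obj.obj (op ((EtCoh.bc (j ≫ fb)).obj V)))
    (hmem : s' ∈ EtShriek.shriekSubgroup (j ≫ fb) F V) :
    ∃ t : ((EtShriek.extZero j).obj F).obj.obj (op ((EtCoh.bc fb).obj V)),
      ((mNat j fb).app F).hom.app (op V) t = s' := by
  let s := F.obj.map (inv (κ j fb V)).op s'
  have hs' : F.obj.map (κ j fb V).op s = s' := by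
    show F.obj.map (κ j fb V).op (F.obj.map (inv (κ j fb V)).op s') = s'
    rw [map_map, IsIso.hom_inv_id, op_id, F.obj.map_id]
    rfl
  have hs : HasPS j F ((EtCoh.bc fb).obj V) s :=
    (hasPS_κ_iff j fb F V s).2 (by rw [hs']; exact (mem_shriekSubgroup_iff _ F V s').1 hmem)
  obtain ⟨t, ht⟩ := exists_τ_eq_of_mem j F _ s ((mem_shriekSubgroup_iff j F _ s).2 hs)
  exact ⟨t, by rw [mNat_app, ht, hs']⟩

theorem mNat_injective (V : Y.Etale) :
    Function.Injective (((mNat j fb).app F).hom.app (op V)) := by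
  intro t t' h
  rw [mNat_app, mNat_app] at h
  apply injective_τ j F
  have h2 := congrArg (fun a => F.obj.map (inv (κ j fb V)).op a) h
  simp only [map_map, IsIso.inv_hom_id, op_id, F.obj.map_id] at h2
  exact h2

/-- `fb_* j_! F → (sections with proper support)` -/
noncomputable def ρ :
    ((EtShriek.extZero j ⋙ EtCoh.push fb).obj F).obj ⟶ EtShriek.lowerShriekPre (j ≫ fb) F where
  app V := AddCommGrpCat.ofHom (AddMonoidHom.codRestrict (((mNat j fb).app F).hom.app V).hom
    (EtShriek.shriekSubgroup (j ≫ fb) F V.unop) (fun t => mNat_mem j fb F V.unop t))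
  naturality V V' g := by
    ext t
    apply Subtype.ext
    have := congrArg (fun ψ => ψ t)
      (congrArg AddCommGrpCat.Hom.hom (((mNat j fb).app F).hom.naturality g))
    simp only [AddCommGrpCat.hom_comp, AddMonoidHom.coe_comp, Function.comp_apply] at this
    exact this

instance : IsIso (ρ j fb F) := by
  haveI : ∀ V, IsIso ((ρ j fb F).app V) := by
    intro V
    rw [ConcreteCategory.isIso_iff_bijective]
    constructor
    · intro t t' h
      apply mNat_injective j fb F V.unop
      exact congrArg Subtype.val h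
    · rintro ⟨s', hs'⟩
      obtain ⟨t, ht⟩ := exists_mNat_eq j fb F V.unop s' hs'
      exact ⟨t, Subtype.ext ht⟩
  exact NatIso.isIso_of_isIso_app _

/-- naturality in `F` -/
noncomputable def ρNat :
    (EtShriek.extZero j ⋙ EtCoh.push fb) ⋙ sheafToPresheaf Y.smallEtaleTopology A ⟶
      EtShriek.lowerShriekPreFunctor (j ≫ fb) where
  app F := ρ j fb F
  naturality F G α := by
    ext V t
    apply Subtype.ext
    have h1 := congrArg (fun β => β.hom.app V) ((mNat j fb).naturality α)
    have h2 := congrArg (fun ψ => ψ t) (congrArg AddCommGrpCat.Hom.hom h1)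
    exact h2

/-- `(j ≫ fb)_! ≅ fb_* j_!` for an open immersion `j` and proper `fb`. -/
noncomputable def lowerShriekIso :
    EtShriek.lowerShriek (j ≫ fb) ≅ EtShriek.extZero j ⋙ EtCoh.push fb := by
  have h : IsIso (Functor.whiskerRight (ρNat j fb)
      (presheafToSheaf Y.smallEtaleTopology A)) := by
    haveI : ∀ F, IsIso ((Functor.whiskerRight (ρNat j fb)
        (presheafToSheaf Y.smallEtaleTopology A)).app F) := fun F => by
      show IsIso ((presheafToSheaf Y.smallEtaleTopology A).map (ρ j fb F))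
      infer_instance
    exact NatIso.isIso_of_isIso_app _
  exact ((Functor.rightUnitor _).symm ≪≫
    Functor.isoWhiskerLeft (EtShriek.extZero j ⋙ EtCoh.push fb)
      (sheafificationNatIso Y.smallEtaleTopology A) ≪≫
    (Functor.associator _ _ _).symm ≪≫ @asIso _ _ _ _ _ h).symm

end Groth.Agent.Lib.Helper57.EZ
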