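import Mathlib
import Groth.Agent.Lib.Helper57.SP5

set_option autoImplicit false
universe u

open CategoryTheory Limits AlgebraicGeometry Opposite

namespace Groth.Agent.Lib.Helper57.EZ

open Groth.Agent.Lib.Helper79.EtSiteGlue Groth.Agent.Lib.Helper21.ProperOver

section H0c

variable {X : Scheme.{u}}

theorem hasProperSupport_iff' (F : EtCoh.Ab X) (U : X.Etale) (s : F.obj.obj (op U))
    {S : Scheme.{u}} (g : U.left ⟶ S) :
    EtShriek.HasProperSupport F U s g ↔
      ∃ Z : Set U.left, ClSub.IsProperOver g Z ∧ VanishOff F U s Z := by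
  constructor
  · rintro ⟨Z, hsupp, hZ⟩
    exact ⟨Z, hZ, vanishOff_of_sectSupp F _ s Z hZ.1 hsupp⟩
  · rintro ⟨Z, hZ, hv⟩
    exact ⟨Z, sectSupp_subset_of_vanishOff F _ s Z hZ.1 hv, hZ⟩

theorem mem_H0c_iff {k : Type u} [Field k] (p : X ⟶ Spec (CommRingCat.of k))
    [LocallyOfFiniteType p] (F : EtCoh.Ab X) (s : F.obj.obj (op (EtCoh.top X))) :
    s ∈ EtShriek.H0c p F ↔
      ∃ Z : Set (EtCoh.top X).left, ClSub.IsProperOver (S := Spec (CommRingCat.of k)) p Z ∧
        VanishOff F (EtCoh.top X) s Z := by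
  constructor
  · intro h
    refine AddSubgroup.closure_induction (p := fun s _ => ∃ Z : Set (EtCoh.top X).left,
      ClSub.IsProperOver (S := Spec (CommRingCat.of k)) p Z ∧ VanishOff F (EtCoh.top X) s Z)
      ?_ ?_ ?_ ?_ h
    · intro s hs
      exact (hasProperSupport_iff' F _ s p).1 hs
    · exact ⟨∅, isProperOver_empty _, fun Y' k _ => map_zero _⟩
    · rintro s t _ _ ⟨Z, hZ, hv⟩ ⟨Z', hZ', hv'⟩
      refine ⟨⋃ b : Bool, cond b Z Z', ?_, fun Y' k hk => ?_⟩
      · apply isProperOver_iUnion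
        intro b
        cases b
        · exact hZ'
        · exact hZ
      · rw [map_add, hv Y' k (fun y hy => hk y (Set.mem_iUnion.2 ⟨true, hy⟩)),
          hv' Y' k (fun y hy => hk y (Set.mem_iUnion.2 ⟨false, hy⟩)), add_zero]
    · rintro s _ ⟨Z, hZ, hv⟩
      refine ⟨Z, hZ, fun Y' k hk => ?_⟩
      rw [map_neg, hv Y' k hk, neg_zero]
  · intro h
    exact AddSubgroup.subset_closure ((hasProperSupport_iff' F _ s p).2 h)

end H0c

section Cancel

variable {X Xb S : Scheme.{u}}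

theorem isProperOver_cancel (j : X ⟶ Xb) (pb : Xb ⟶ S) [IsSeparated pb] (Z : Set X)
    (h : ClSub.IsProperOver (j ≫ pb) Z) : ClSub.IsProperOver j Z := by
  obtain ⟨hcl, hp⟩ := h
  refine ⟨hcl, ?_⟩
  haveI : IsProper (((Scheme.IdealSheafData.vanishingIdeal ⟨Z, hcl⟩).subschemeι ≫ j) ≫ pb) := by
    rw [Category.assoc]; exact hp
  exact IsProper.of_comp _ pb

theorem isProperOver_comp (j : X ⟶ Xb) (pb : Xb ⟶ S) [IsProper pb] (Z : Set X)
    (h : ClSub.IsProperOver j Z) : ClSub.IsProperOver (j ≫ pb) Z := by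
  obtain ⟨hcl, hp⟩ := h
  refine ⟨hcl, ?_⟩
  haveI := hp
  rw [← Category.assoc]
  infer_instance

end Cancel

section Top

variable {X Xb : Scheme.{u}} (j : X ⟶ Xb) [IsOpenImmersion j]

/-- `Xb ×_{Xb} X → X` in the small étale site of `X` -/
noncomputable def ε : (EtCoh.bc j).obj (EtCoh.top Xb) ⟶ EtCoh.top X :=
  MorphismProperty.Over.homMk (pullback.snd (𝟙 Xb) j) (by
    show pullback.snd (𝟙 Xb) j ≫ 𝟙 X = pullback.snd (𝟙 Xb) j
    exact Category.comp_id _) trivial

noncomputable def εinv : EtCoh.top X ⟶ (EtCoh.bc j).obj (EtCoh.top Xb) :=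
  MorphismProperty.Over.homMk (pullback.lift j (𝟙 X) (by
    show j ≫ 𝟙 Xb = 𝟙 X ≫ j
    rw [Category.comp_id, Category.id_comp]))
    (by
      show pullback.lift j (𝟙 X) _ ≫ pullback.snd (𝟙 Xb) j = 𝟙 X
      exact pullback.lift_snd _ _ _) trivial

lemma ε_εinv : ε j ≫ εinv j = 𝟙 _ := by
  apply MorphismProperty.Over.Hom.ext
  show pullback.snd (𝟙 Xb) j ≫ pullback.lift j (𝟙 X) _ = 𝟙 _
  apply pullback.hom_ext
  · rw [Category.assoc, pullback.lift_fst, Category.id_comp, ← pullback.condition,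
      Category.comp_id]
  · rw [Category.assoc, pullback.lift_snd, Category.id_comp, Category.comp_id]

lemma εinv_ε : εinv j ≫ ε j = 𝟙 _ := by
  apply MorphismProperty.Over.Hom.ext
  show pullback.lift j (𝟙 X) _ ≫ pullback.snd (𝟙 Xb) j = 𝟙 _
  exact pullback.lift_snd _ _ _

lemma ε_left_j : (ε j).left ≫ j = EtShriek.prV j (EtCoh.top Xb) := by
  show pullback.snd (𝟙 Xb) j ≫ j = pullback.fst (𝟙 Xb) j
  rw [← pullback.condition, Category.comp_id]

lemma εinv_left_prV : (εinv j).left ≫ EtShriek.prV j (EtCoh.top Xb) = j := by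
  show pullback.lift j (𝟙 X) _ ≫ pullback.fst (𝟙 Xb) j = j
  exact pullback.lift_fst _ _ _

/-- plain scheme versions -/
noncomputable def εL : ((EtCoh.bc j).obj (EtCoh.top Xb)).left ⟶ X := (ε j).left

noncomputable def εLinv : X ⟶ ((EtCoh.bc j).obj (EtCoh.top Xb)).left := (εinv j).left

instance : IsIso (εL j) :=
  ⟨⟨εLinv j, congrArg (fun m => m.left) (ε_εinv j), congrArg (fun m => m.left) (εinv_ε j)⟩⟩

instance : IsIso (εLinv j) :=
  ⟨⟨εL j, congrArg (fun m => m.left) (εinv_ε j), congrArg (fun m => m.left) (ε_εinv j)⟩⟩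

variable {k : Type u} [Field k] (pb : Xb ⟶ Spec (CommRingCat.of k)) [IsProper pb]
  [EtShriek.JCont j] (F : EtCoh.Ab X)

theorem mem_H0c_iff_mem_shriekSubgroup (s : F.obj.obj (op (EtCoh.top X))) :
    s ∈ EtShriek.H0c (j ≫ pb) F ↔
      F.obj.map (ε j).op s ∈ EtShriek.shriekSubgroup j F (EtCoh.top Xb) := by
  rw [mem_H0c_iff, mem_shriekSubgroup_iff]
  constructor
  · rintro ⟨Z, hZ, hv⟩
    refine ⟨(ε j).left ⁻¹' Z, ?_, vanishOff_map F (ε j) s Z hv⟩
    have h1 : ClSub.IsProperOver j Z := isProperOver_cancel j pb Z hZ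
    exact isProperOver_preimage_of_isProper (EtShriek.prV j (EtCoh.top Xb)) j (εL j)
      (ε_left_j j) Z h1
  · rintro ⟨Z', hZ', hv'⟩
    refine ⟨(εinv j).left ⁻¹' Z', ?_, ?_⟩
    · have h1 : ClSub.IsProperOver j ((εinv j).left ⁻¹' Z') :=
        isProperOver_preimage_of_isProper j (EtShriek.prV j (EtCoh.top Xb)) (εLinv j)
          (εinv_left_prV j) Z' hZ'
      exact isProperOver_comp j pb _ h1
    · have hs : s = F.obj.map (εinv j).op (F.obj.map (ε j).op s) := by
        rw [map_map, εinv_ε, op_id, F.obj.map_id]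
        rfl
      rw [hs]
      exact vanishOff_map F (εinv j) _ Z' hv'

/-- `H^0_c(X, F) ≃ Γ(Xb, j_! F)` -/
theorem nonempty_H0c_equiv :
    Nonempty ((EtShriek.H0c (j ≫ pb) F) ≃+
      EtCoh.sect ((EtShriek.extZero j).obj F) (EtCoh.top Xb)) := by
  -- first: Γ(Xb, j_!F) ≃ shriekSubgroup
  let φ : EtCoh.sect ((EtShriek.extZero j).obj F) (EtCoh.top Xb) →+
      EtShriek.shriekSubgroup j F (EtCoh.top Xb) :=
    AddMonoidHom.codRestrict (((τ j).app F).hom.app (op (EtCoh.top Xb))).hom _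
      (fun t => τ_mem j F _ t)
  have hφ : Function.Bijective φ := by
    constructor
    · intro t t' h
      exact injective_τ j F _ (congrArg Subtype.val h)
    · rintro ⟨s, hs⟩
      obtain ⟨t, ht⟩ := exists_τ_eq_of_mem j F _ s hs
      exact ⟨t, Subtype.ext ht⟩
  let ψ : EtShriek.H0c (j ≫ pb) F →+ EtShriek.shriekSubgroup j F (EtCoh.top Xb) :=
    AddMonoidHom.codRestrict ((F.obj.map (ε j).op).hom.comp (EtShriek.H0c (j ≫ pb) F).subtype) _
      (fun s => (mem_H0c_iff_mem_shriekSubgroup j pb F s.1).1 s.2)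
  have hψ : Function.Bijective ψ := by
    constructor
    · intro s s' h
      apply Subtype.ext
      have h1 : F.obj.map (ε j).op s.1 = F.obj.map (ε j).op s'.1 := congrArg Subtype.val h
      have h2 := congrArg (fun a => F.obj.map (εinv j).op a) h1
      simp only [map_map, εinv_ε, op_id, F.obj.map_id] at h2
      exact h2
    · rintro ⟨s', hs'⟩
      have hs : F.obj.map (ε j).op (F.obj.map (εinv j).op s') = s' := by
        rw [map_map, ε_εinv, op_id, F.obj.map_id]
        rfl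
      refine ⟨⟨F.obj.map (εinv j).op s', ?_⟩, Subtype.ext hs⟩
      rw [mem_H0c_iff_mem_shriekSubgroup, hs]
      exact hs'
  exact ⟨(AddEquiv.ofBijective ψ hψ).trans (AddEquiv.ofBijective φ hφ).symm⟩

end Top

end Groth.Agent.Lib.Helper57.EZ
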