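import Mathlib.CategoryTheory.EffectiveEpi.Comp
import Mathlib.CategoryTheory.MorphismProperty.Limits
import Mathlib.CategoryTheory.Limits.Shapes.Pullback.HasPullback
import Mathlib.CategoryTheory.Comma.Over.Pullback
import Mathlib.CategoryTheory.Limits.Shapes.StrongEpi

set_option autoImplicit false
set_option backward.isDefEq.respectTransparency false
open CategoryTheory CategoryTheory.Limits
universe v₁ u₁

namespace Groth.Agent.Lib.Helper57

variable {C : Type u₁} [Category.{v₁} C]

attribute [local simp] pullback.lift_fst pullback.lift_snd pullback.lift_fst_assoc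
  pullback.lift_snd_assoc

abbrev UE : MorphismProperty C :=
  MorphismProperty.universally (fun (A B : C) (p : A ⟶ B) => EffectiveEpi p)

theorem UE.effectiveEpi_of_isPullback {X Y X' Y' : C} {f : X ⟶ Y} (hf : UE f)
    {i₁ : X' ⟶ X} {i₂ : Y' ⟶ Y} {f' : X' ⟶ Y'} (h : IsPullback f' i₁ i₂ f) :
    EffectiveEpi f' := hf _ _ _ h

theorem UE.effectiveEpi {X Y : C} {f : X ⟶ Y} (hf : UE f) : EffectiveEpi f :=
  hf (𝟙 _) (𝟙 _) f (IsPullback.of_horiz_isIso ⟨by simp⟩).flip

theorem UE.effectiveEpi_fst [HasPullbacks C] {X Y Y' : C} {f : X ⟶ Y} (hf : UE f)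
    (g : Y' ⟶ Y) : EffectiveEpi (pullback.fst g f) :=
  hf _ _ _ (IsPullback.of_hasPullback g f)

theorem UE.effectiveEpi_snd [HasPullbacks C] {X Y Y' : C} {f : X ⟶ Y} (hf : UE f)
    (g : Y' ⟶ Y) : EffectiveEpi (pullback.snd f g) :=
  hf _ _ _ (IsPullback.of_hasPullback f g).flip

theorem UE.of_isPullback {X Y X' Y' : C} {f : X ⟶ Y} (hf : UE f)
    {i₁ : X' ⟶ X} {i₂ : Y' ⟶ Y} {f' : X' ⟶ Y'} (h : IsPullback f' i₁ i₂ f) :
    UE f' :=
  MorphismProperty.of_isPullback (P := UE) h.flip hf

theorem UE.fst [HasPullbacks C] {X Y Y' : C} {f : X ⟶ Y} (hf : UE f)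
    (g : Y' ⟶ Y) : UE (pullback.fst g f) :=
  hf.of_isPullback (IsPullback.of_hasPullback g f)

theorem UE.snd [HasPullbacks C] {X Y Y' : C} {f : X ⟶ Y} (hf : UE f)
    (g : Y' ⟶ Y) : UE (pullback.snd f g) :=
  hf.of_isPullback (IsPullback.of_hasPullback f g).flip

/-- An effective epi factoring through a mono forces the mono to be an iso. -/
theorem isIso_of_mono_of_effectiveEpi_fac {X Y Y' : C} (q : Y' ⟶ Y) [EffectiveEpi q]
    (m : X ⟶ Y) [Mono m] (h : Y' ⟶ X) (fac : h ≫ m = q) : IsIso m := by
  have : StrongEpi (h ≫ m) := by rw [fac]; infer_instance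
  have : StrongEpi m := strongEpi_of_strongEpi h m
  exact isIso_of_mono_of_strongEpi m

/-- Descent of monomorphisms along a universally effective epimorphism. -/
theorem mono_of_mono_pullback_lift [HasPullbacks C] {S' S X Y : C} {f : S' ⟶ S} (hf : UE f)
    (x : X ⟶ S) (y : Y ⟶ S) (g : X ⟶ Y) (w : g ≫ y = x)
    [hm : Mono (pullback.lift (pullback.fst x f ≫ g) (pullback.snd x f)
      (by rw [Category.assoc, w, pullback.condition]) : pullback x f ⟶ pullback y f)] : Mono g := by
  constructor
  intro T a b hab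
  have hb : b ≫ x = a ≫ x := by
    rw [← w, ← Category.assoc, ← hab, Category.assoc]
  have : EffectiveEpi (pullback.fst (a ≫ x) f) := hf.effectiveEpi_fst _
  rw [← cancel_epi (pullback.fst (a ≫ x) f)]
  let a' : pullback (a ≫ x) f ⟶ pullback x f :=
    pullback.lift (pullback.fst _ _ ≫ a) (pullback.snd _ _) (by simp [pullback.condition])
  let b' : pullback (a ≫ x) f ⟶ pullback x f :=
    pullback.lift (pullback.fst _ _ ≫ b) (pullback.snd _ _) (by simp [pullback.condition, hb])
  have : a' = b' := by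
    rw [← cancel_mono (pullback.lift (pullback.fst x f ≫ g) (pullback.snd x f)
      _ : pullback x f ⟶ pullback y f)]
    apply pullback.hom_ext <;> simp [a', b', hab]
  have h2 := congrArg (fun t => t ≫ pullback.fst x f) this
  simpa [a', b'] using h2

/-- If `f` is a universally effective epi and every pair of maps into the source of `f`
coequalized by `f ≫ g` is already coequalized by `f`, then `g` is a monomorphism. -/
theorem mono_of_forall_coequalized [HasPullbacks C] {S' S T : C} {f : S' ⟶ S} (hf : UE f)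
    (g : S ⟶ T)
    (H : ∀ {W : C} (s₁ s₂ : W ⟶ S'), s₁ ≫ f ≫ g = s₂ ≫ f ≫ g → s₁ ≫ f = s₂ ≫ f) :
    Mono g := by
  constructor
  intro W a b hab
  have e1 : EffectiveEpi (pullback.fst a f) := hf.effectiveEpi_fst _
  have e2 : EffectiveEpi (pullback.fst (pullback.fst a f) (pullback.fst b f)) :=
    (hf.fst b).effectiveEpi_fst _
  rw [← cancel_epi (pullback.fst a f),
    ← cancel_epi (pullback.fst (pullback.fst a f) (pullback.fst b f))]
  have h := H (pullback.fst (pullback.fst a f) (pullback.fst b f) ≫ pullback.snd a f)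
    (pullback.snd (pullback.fst a f) (pullback.fst b f) ≫ pullback.snd b f) (by
      simp only [Category.assoc]
      rw [← pullback.condition_assoc, ← pullback.condition_assoc, hab,
        pullback.condition_assoc])
  simp only [Category.assoc] at h
  rw [← pullback.condition, ← pullback.condition, ← pullback.condition_assoc] at h
  exact h

/-- If `f` is a universally effective epi and `g` is an effective epi, then `f ≫ g` is an
effective epi. -/
theorem effectiveEpi_comp_of_UE [HasPullbacks C] {X Y Z : C} {f : X ⟶ Y} (hf : UE f)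
    (g : Y ⟶ Z) [EffectiveEpi g] : EffectiveEpi (f ≫ g) := by
  have ef : EffectiveEpi f := hf.effectiveEpi
  have key : ∀ {W : C} (e : X ⟶ W)
      (_ : ∀ {T : C} (g₁ g₂ : T ⟶ X), g₁ ≫ f ≫ g = g₂ ≫ f ≫ g → g₁ ≫ e = g₂ ≫ e),
      ∃ e'' : Z ⟶ W, (f ≫ g) ≫ e'' = e := by
    intro W e he
    have h1 : ∀ {T : C} (g₁ g₂ : T ⟶ X), g₁ ≫ f = g₂ ≫ f → g₁ ≫ e = g₂ ≫ e := by
      intro T g₁ g₂ h
      apply he
      rw [← Category.assoc, h, Category.assoc]
    have fac1 : f ≫ EffectiveEpi.desc f e h1 = e := EffectiveEpi.fac f e h1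
    have h2 : ∀ {T : C} (a b : T ⟶ Y), a ≫ g = b ≫ g →
        a ≫ EffectiveEpi.desc f e h1 = b ≫ EffectiveEpi.desc f e h1 := by
      intro T a b hab
      have e1 : EffectiveEpi (pullback.fst a f) := hf.effectiveEpi_fst _
      have e2 : EffectiveEpi (pullback.fst (pullback.fst a f ≫ b) f) := hf.effectiveEpi_fst _
      rw [← cancel_epi (pullback.fst a f),
        ← cancel_epi (pullback.fst (pullback.fst a f ≫ b) f)]
      have := he (pullback.fst (pullback.fst a f ≫ b) f ≫ pullback.snd a f)
        (pullback.snd (pullback.fst a f ≫ b) f) (by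
          simp only [Category.assoc]
          rw [← pullback.condition_assoc, ← pullback.condition_assoc, hab]
          simp only [Category.assoc])
      rw [← fac1] at this
      simp only [Category.assoc] at this
      rw [← pullback.condition_assoc, ← pullback.condition_assoc] at this
      simpa only [Category.assoc] using this
    refine ⟨EffectiveEpi.desc g (EffectiveEpi.desc f e h1) h2, ?_⟩
    rw [Category.assoc, EffectiveEpi.fac, fac1]
  have hepi : Epi (f ≫ g) := epi_comp f g
  refine ⟨⟨{ desc := fun e he => (key e (by simpa only [Category.assoc] using @he)).choose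
             fac := fun e he => (key e (by simpa only [Category.assoc] using @he)).choose_spec
             uniq := fun e he m hm => ?_ }⟩⟩
  rw [← cancel_epi (f ≫ g), hm,
    (key e (by simpa only [Category.assoc] using @he)).choose_spec]

/-- Universally effective epimorphisms are stable under composition. -/
theorem UE.comp [HasPullbacks C] {X Y Z : C} {f : X ⟶ Y} (hf : UE f)
    {g : Y ⟶ Z} (hg : UE g) : UE (f ≫ g) := by
  intro X' Z' i₁ i₂ h' H
  have eg : EffectiveEpi (pullback.fst i₂ g) := hg.effectiveEpi_fst _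
  let f' : X' ⟶ pullback i₂ g := pullback.lift h' (i₁ ≫ f) (by simpa using H.w)
  have hpb : IsPullback f' i₁ (pullback.snd i₂ g) f := by
    refine IsPullback.of_right ?_ (by simp [f']) (IsPullback.of_hasPullback i₂ g)
    simpa [f'] using H
  have hf' : UE f' := hf.of_isPullback hpb
  have : h' = f' ≫ pullback.fst i₂ g := by simp [f']
  rw [this]
  exact effectiveEpi_comp_of_UE hf' _

theorem isPullback_prod_snd_with_id [HasBinaryProducts C] {A B : C} (f : A ⟶ B) (X : C) :
    IsPullback prod.snd (prod.map (𝟙 X) f) f prod.snd := by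
  refine IsPullback.mk' (by simp) ?_ ?_
  · intro T φ φ' h₁ h₂
    ext
    · simpa using congrArg (fun t => t ≫ prod.fst) h₂
    · exact h₁
  · intro T a b hab
    refine ⟨prod.lift (b ≫ prod.fst) a, by simp, ?_⟩
    ext
    · simp
    · simp [hab]

theorem UE.prod_map [HasPullbacks C] [HasBinaryProducts C] {X Y X' Y' : C}
    {u : X ⟶ Y} {u' : X' ⟶ Y'} (hu : UE u) (hu' : UE u') : UE (prod.map u u') := by
  have h1 : UE (prod.map u (𝟙 X')) :=
    hu.of_isPullback (IsPullback.of_prod_fst_with_id u X').flip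
  have h2 : UE (prod.map (𝟙 Y) u') :=
    hu'.of_isPullback (isPullback_prod_snd_with_id u' Y).flip
  have : prod.map u u' = prod.map u (𝟙 X') ≫ prod.map (𝟙 Y) u' := by simp
  rw [this]
  exact h1.comp h2

theorem isPullback_prod_map [HasBinaryProducts C] {P X Y Z P' X' Y' Z' : C}
    {fst : P ⟶ X} {snd : P ⟶ Y} {f : X ⟶ Z} {g : Y ⟶ Z}
    {fst' : P' ⟶ X'} {snd' : P' ⟶ Y'} {f' : X' ⟶ Z'} {g' : Y' ⟶ Z'}
    (h : IsPullback fst snd f g) (h' : IsPullback fst' snd' f' g') :
    IsPullback (prod.map fst fst') (prod.map snd snd') (prod.map f f') (prod.map g g') := by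
  refine IsPullback.mk' (by simp [h.w, h'.w]) ?_ ?_
  · intro T φ φ' h₁ h₂
    ext
    · apply h.hom_ext
      · simpa using congrArg (fun t => t ≫ prod.fst) h₁
      · simpa using congrArg (fun t => t ≫ prod.fst) h₂
    · apply h'.hom_ext
      · simpa using congrArg (fun t => t ≫ prod.snd) h₁
      · simpa using congrArg (fun t => t ≫ prod.snd) h₂
  · intro T a b hab
    have w1 : (a ≫ prod.fst) ≫ f = (b ≫ prod.fst) ≫ g := by
      simpa using congrArg (fun t => t ≫ prod.fst) hab
    have w2 : (a ≫ prod.snd) ≫ f' = (b ≫ prod.snd) ≫ g' := by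
      simpa using congrArg (fun t => t ≫ prod.snd) hab
    refine ⟨prod.lift (h.lift _ _ w1) (h'.lift _ _ w2), ?_, ?_⟩
    · ext <;> simp
    · ext <;> simp

end Groth.Agent.Lib.Helper57
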