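import Mathlib.CategoryTheory.Subobject.Basic
import Mathlib.CategoryTheory.Balanced
import Mathlib.CategoryTheory.Limits.Shapes.KernelPair
import Groth.Agent.Lib.Helper57.UnivEffEpi

set_option autoImplicit false
set_option backward.isDefEq.respectTransparency false
open CategoryTheory CategoryTheory.Limits
universe v₁ u₁

namespace Groth.Agent.Lib.Helper57

variable {C : Type u₁} [Category.{v₁} C] [HasPullbacks C]

/-- Pulling back subobjects along a universally effective epimorphism reflects the order. -/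
theorem subobject_le_of_pullback_le {X B : C} {f : X ⟶ B} (hf : UE f) {A A' : Subobject B}
    (h : (Subobject.pullback f).obj A ≤ (Subobject.pullback f).obj A') : A ≤ A' := by
  have hA := Subobject.isPullback f A
  have hA' := Subobject.isPullback f A'
  have : EffectiveEpi (Subobject.pullbackπ f A) := hf.effectiveEpi_of_isPullback hA
  have sq : CommSq (Subobject.ofLE _ _ h ≫ Subobject.pullbackπ f A') (Subobject.pullbackπ f A)
      A'.arrow A.arrow := ⟨by
    rw [Category.assoc, hA'.w, Subobject.ofLE_arrow_assoc, hA.w]⟩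
  exact Subobject.le_of_comm sq.lift sq.fac_right

theorem subobject_pullback_injective {X B : C} {f : X ⟶ B} (hf : UE f) :
    Function.Injective (Subobject.pullback f).obj := by
  intro A A' h
  exact le_antisymm (subobject_le_of_pullback_le hf (le_of_eq h))
    (subobject_le_of_pullback_le hf (le_of_eq h.symm))

/-- A subobject of `X` stable under a kernel pair `(p₁, p₂)` of `π` is the pullback of the
image of `Y ⟶ X ⟶ B`, provided epimorphisms are stable under base change and the category is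
balanced. -/
theorem subobject_pullback_image_eq [Balanced C]
    (hE : ∀ ⦃P Q P' Q' : C⦄ ⦃g : P ⟶ Q⦄ ⦃g' : P' ⟶ Q'⦄ ⦃i₁ : P' ⟶ P⦄ ⦃i₂ : Q' ⟶ Q⦄,
      IsPullback g' i₁ i₂ g → Epi g → Epi g')
    {R X B : C} {p₁ p₂ : R ⟶ X} {π : X ⟶ B} (hK : IsKernelPair π p₁ p₂)
    (Y : Subobject X)
    (hY : (Subobject.pullback p₁).obj Y = (Subobject.pullback p₂).obj Y)
    {I : C} (q : (Y : C) ⟶ I) [Epi q] (m : I ⟶ B) [Mono m] (fac : q ≫ m = Y.arrow ≫ π) :
    (Subobject.pullback π).obj (Subobject.mk m) = Y := by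
  set A := Subobject.mk m with hAdef
  set Y' := (Subobject.pullback π).obj A with hY'
  have hP : IsPullback (Subobject.pullbackπ π A) Y'.arrow A.arrow π := Subobject.isPullback π A
  let a : (Y : C) ⟶ (A : C) := q ≫ (Subobject.underlyingIso m).inv
  have ha : a ≫ A.arrow = Y.arrow ≫ π := by simp [a, A, fac]
  have : Epi a := epi_comp _ _
  let k : (Y : C) ⟶ (Y' : C) := hP.lift a Y.arrow ha
  have hk : k ≫ Y'.arrow = Y.arrow := hP.lift_snd _ _ _
  have hk1 : k ≫ Subobject.pullbackπ π A = a := hP.lift_fst _ _ _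
  have : Mono k := mono_of_mono_fac hk
  -- the auxiliary pullback
  let T := pullback a (Subobject.pullbackπ π A)
  have e2 : Epi (pullback.snd a (Subobject.pullbackπ π A)) :=
    hE (IsPullback.of_hasPullback a (Subobject.pullbackπ π A)).flip inferInstance
  have w : (pullback.fst a (Subobject.pullbackπ π A) ≫ Y.arrow) ≫ π =
      (pullback.snd a (Subobject.pullbackπ π A) ≫ Y'.arrow) ≫ π := by
    rw [Category.assoc, ← ha, pullback.condition_assoc, hP.w, Category.assoc]
  let l : T ⟶ R := hK.lift _ _ w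
  have hl1 : l ≫ p₁ = pullback.fst a (Subobject.pullbackπ π A) ≫ Y.arrow := hK.lift_fst _ _ _
  have hl2 : l ≫ p₂ = pullback.snd a (Subobject.pullbackπ π A) ≫ Y'.arrow := hK.lift_snd _ _ _
  have h1 := Subobject.isPullback p₁ Y
  have h2 := Subobject.isPullback p₂ Y
  let t₁ : T ⟶ ((Subobject.pullback p₁).obj Y : C) :=
    h1.lift (pullback.fst a (Subobject.pullbackπ π A)) l hl1.symm
  have ht₁ : t₁ ≫ ((Subobject.pullback p₁).obj Y).arrow = l := h1.lift_snd _ _ _
  let m' : T ⟶ (Y : C) := t₁ ≫ Subobject.ofLE _ _ (le_of_eq hY) ≫ Subobject.pullbackπ p₂ Y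
  have hm' : m' ≫ Y.arrow = pullback.snd a (Subobject.pullbackπ π A) ≫ Y'.arrow := by
    simp only [m', Category.assoc]
    rw [h2.w, Subobject.ofLE_arrow_assoc, reassoc_of% ht₁, hl2]
  have hmk : m' ≫ k = pullback.snd a (Subobject.pullbackπ π A) := by
    rw [← cancel_mono Y'.arrow, Category.assoc, hk, hm']
  have : Epi (m' ≫ k) := by rw [hmk]; exact e2
  have : Epi k := epi_of_epi m' k
  have : IsIso k := isIso_of_mono_of_epi k
  refine le_antisymm (Subobject.le_of_comm (inv k) ?_) (Subobject.le_of_comm k hk)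
  rw [IsIso.inv_comp_eq, hk]

/-- Variant of `subobject_pullback_image_eq` where the "mono + dominant implies iso" step is
supplied as a hypothesis (useful outside balanced categories, e.g. for schemes). -/
theorem subobject_pullback_image_eq_of
    {R X B : C} {p₁ p₂ : R ⟶ X} {π : X ⟶ B} (hK : IsKernelPair π p₁ p₂)
    (Y : Subobject X)
    (hY : (Subobject.pullback p₁).obj Y = (Subobject.pullback p₂).obj Y)
    {I : C} (q : (Y : C) ⟶ I) (m : I ⟶ B) [Mono m] (fac : q ≫ m = Y.arrow ≫ π)
    (H : ∀ {Y₁ : C} (b : Y₁ ⟶ (Subobject.mk m : C)) (j : Y₁ ⟶ X)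
      (_ : IsPullback b j (Subobject.mk m).arrow π) (k : (Y : C) ⟶ Y₁) (_ : k ≫ j = Y.arrow)
      (m' : pullback (q ≫ (Subobject.underlyingIso m).inv) b ⟶ (Y : C))
      (_ : m' ≫ k = pullback.snd (q ≫ (Subobject.underlyingIso m).inv) b), IsIso k) :
    (Subobject.pullback π).obj (Subobject.mk m) = Y := by
  set A := Subobject.mk m with hAdef
  set Y' := (Subobject.pullback π).obj A with hY'
  have hP : IsPullback (Subobject.pullbackπ π A) Y'.arrow A.arrow π := Subobject.isPullback π A
  let a : (Y : C) ⟶ (A : C) := q ≫ (Subobject.underlyingIso m).inv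
  have ha : a ≫ A.arrow = Y.arrow ≫ π := by simp [a, A, fac]
  let k : (Y : C) ⟶ (Y' : C) := hP.lift a Y.arrow ha
  have hk : k ≫ Y'.arrow = Y.arrow := hP.lift_snd _ _ _
  have hk1 : k ≫ Subobject.pullbackπ π A = a := hP.lift_fst _ _ _
  let T := pullback a (Subobject.pullbackπ π A)
  have w : (pullback.fst a (Subobject.pullbackπ π A) ≫ Y.arrow) ≫ π =
      (pullback.snd a (Subobject.pullbackπ π A) ≫ Y'.arrow) ≫ π := by
    rw [Category.assoc, ← ha, pullback.condition_assoc, hP.w, Category.assoc]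
  let l : T ⟶ R := hK.lift _ _ w
  have hl1 : l ≫ p₁ = pullback.fst a (Subobject.pullbackπ π A) ≫ Y.arrow := hK.lift_fst _ _ _
  have hl2 : l ≫ p₂ = pullback.snd a (Subobject.pullbackπ π A) ≫ Y'.arrow := hK.lift_snd _ _ _
  have h1 := Subobject.isPullback p₁ Y
  have h2 := Subobject.isPullback p₂ Y
  let t₁ : T ⟶ ((Subobject.pullback p₁).obj Y : C) :=
    h1.lift (pullback.fst a (Subobject.pullbackπ π A)) l hl1.symm
  have ht₁ : t₁ ≫ ((Subobject.pullback p₁).obj Y).arrow = l := h1.lift_snd _ _ _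
  let m' : T ⟶ (Y : C) := t₁ ≫ Subobject.ofLE _ _ (le_of_eq hY) ≫ Subobject.pullbackπ p₂ Y
  have hm' : m' ≫ Y.arrow = pullback.snd a (Subobject.pullbackπ π A) ≫ Y'.arrow := by
    simp only [m', Category.assoc]
    rw [h2.w, Subobject.ofLE_arrow_assoc, reassoc_of% ht₁, hl2]
  have hmk : m' ≫ k = pullback.snd a (Subobject.pullbackπ π A) := by
    rw [← cancel_mono Y'.arrow, Category.assoc, hk, hm']
  have : IsIso k := H (Subobject.pullbackπ π A) Y'.arrow hP k hk m' hmk
  refine le_antisymm (Subobject.le_of_comm (inv k) ?_) (Subobject.le_of_comm k hk)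
  rw [IsIso.inv_comp_eq, hk]

end Groth.Agent.Lib.Helper57
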