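import Mathlib.AlgebraicGeometry.Sites.Fpqc
import Mathlib.AlgebraicGeometry.Morphisms.SchemeTheoreticallyDominant
import Mathlib.AlgebraicGeometry.Morphisms.ClosedImmersion
import Mathlib.AlgebraicGeometry.Morphisms.Flat
import Groth.Agent.Lib.Helper57.SubobjectDescent

set_option autoImplicit false
set_option backward.isDefEq.respectTransparency false
open CategoryTheory CategoryTheory.Limits AlgebraicGeometry
universe u

namespace Groth.Agent.Lib.Helper57

/-- The map to the scheme-theoretic image of a quasi-compact morphism is scheme-theoretically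
dominant. -/
theorem isSchemeTheoreticallyDominant_toImage {X Y : Scheme.{u}} (f : X ⟶ Y) [QuasiCompact f] :
    IsSchemeTheoreticallyDominant f.toImage := by
  rw [isSchemeTheoreticallyDominant_iff]
  refine Scheme.IdealSheafData.ext_of_iSup_eq_top (ι := Y.affineOpens)
    (fun U => ⟨f.imageι ⁻¹ᵁ U.1, U.2.preimage f.imageι⟩) ?_ ?_
  · have h1 : ⨆ U : Y.affineOpens, (f.imageι ⁻¹ᵁ U.1) = f.imageι ⁻¹ᵁ (⨆ U : Y.affineOpens, U.1) := by
      ext x
      simp
    rw [h1, iSup_affineOpens_eq_top]
    rfl
  · intro U
    rw [Scheme.Hom.ker_apply]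
    simp only [Scheme.IdealSheafData.ideal_bot, Pi.bot_apply]
    exact (RingHom.injective_iff_ker_eq_bot _).1 (f.toImage_app_injective U)

/-- Faithfully flat quasi-compact morphisms are universally effective epimorphisms. -/
theorem ue_of_fpqc {X X' : Scheme.{u}} (π : X ⟶ X') [Flat π] [Surjective π] [QuasiCompact π] :
    UE π := by
  intro Z Z' i₁ i₂ π' H
  have : Flat π' := MorphismProperty.of_isPullback (P := @Flat) H.flip inferInstance
  have : Surjective π' := MorphismProperty.of_isPullback (P := @Surjective) H.flip inferInstance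
  have : QuasiCompact π' :=
    MorphismProperty.of_isPullback (P := @QuasiCompact) H.flip inferInstance
  infer_instance

theorem closed_descent_bijOn {X X' : Scheme.{u}} (π : X ⟶ X')
    [Flat π] [Surjective π] [QuasiCompact π] :
    Set.BijOn (Subobject.pullback π).obj
      {Y' : Subobject X' | IsClosedImmersion Y'.arrow}
      {Y : Subobject X | IsClosedImmersion Y.arrow ∧
        (Subobject.pullback (pullback.fst π π)).obj Y =
          (Subobject.pullback (pullback.snd π π)).obj Y} := by
  refine ⟨?_, (subobject_pullback_injective (ue_of_fpqc π)).injOn, ?_⟩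
  · intro Y' hY'
    refine ⟨?_, ?_⟩
    · exact MorphismProperty.of_isPullback (P := @IsClosedImmersion)
        (Subobject.isPullback π Y') hY'
    · rw [← Subobject.pullback_comp, ← Subobject.pullback_comp, pullback.condition]
  · rintro Y ⟨hYc, hY⟩
    have : IsClosedImmersion Y.arrow := hYc
    have hqc : QuasiCompact (Y.arrow ≫ π) := inferInstance
    have hAc : IsClosedImmersion (Subobject.mk (Y.arrow ≫ π).imageι).arrow := by
      rw [← Subobject.underlyingIso_hom_comp_eq_mk]
      infer_instance
    refine ⟨Subobject.mk (Y.arrow ≫ π).imageι, hAc, ?_⟩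
    refine subobject_pullback_image_eq_of (IsPullback.of_hasPullback π π) Y hY
      (Y.arrow ≫ π).toImage (Y.arrow ≫ π).imageι (Y.arrow ≫ π).toImage_imageι ?_
    intro Y₁ b j hP k hk m' hm'
    have hb : Flat b := MorphismProperty.of_isPullback (P := @Flat) hP.flip inferInstance
    have hj : IsClosedImmersion j :=
      MorphismProperty.of_isPullback (P := @IsClosedImmersion) hP hAc
    have hkj : IsClosedImmersion (k ≫ j) := by rw [hk]; infer_instance
    have hkc : IsClosedImmersion k := IsClosedImmersion.of_comp_isClosedImmersion k j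
    have hd := isSchemeTheoreticallyDominant_toImage (Y.arrow ≫ π)
    have hpr : IsSchemeTheoreticallyDominant
        (pullback.snd ((Y.arrow ≫ π).toImage ≫
          (Subobject.underlyingIso (Y.arrow ≫ π).imageι).inv) b) := inferInstance
    rw [IsClosedImmersion.isIso_iff_ker_eq_bot]
    have hle := Scheme.Hom.le_ker_comp m' k
    rw [hm', hpr.1] at hle
    exact le_bot_iff.1 hle

end Groth.Agent.Lib.Helper57
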