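import Groth.Agent.Lib.Helper4.StrataSerre
import Groth.Agent.Lib.Helper4.AStrata
import Mathlib.Topology.NoetherianSpace
import Mathlib.Topology.Sober

set_option autoImplicit false
open CategoryTheory CategoryTheory.Limits AlgebraicGeometry Opposite Topology
universe u

noncomputable section

namespace Groth.Agent.Lib.Helper57.ConsClosure

open Groth.Agent.Lib.Helper4 Groth.Agent.Lib.Helper4.Strata Groth.Agent.Lib.Helper4.CIn

section Top

variable {α : Type*} [TopologicalSpace α]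

theorem exists_open_inter_closure_subset {C : Set α} (hC : IsConstructible C) :
    ∀ x ∈ C, ∃ O : Set α, IsOpen O ∧ x ∈ O ∧ O ∩ closure {x} ⊆ C := by
  induction C, hC using BooleanSubalgebra.closure_sdiff_sup_induction with
  | isSublattice =>
    exact ⟨fun s hs t ht ↦ ⟨hs.1.union ht.1, hs.2.union ht.2⟩,
      fun s hs t ht ↦ ⟨hs.1.inter ht.1, hs.2.inter_isOpen ht.2 ht.1⟩⟩
  | bot_mem => exact ⟨isOpen_empty, .empty⟩
  | top_mem => exact ⟨isOpen_univ, .univ⟩
  | sdiff U hU V hV =>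
    intro x hx
    refine ⟨U, hU.1, hx.1, ?_⟩
    rintro y ⟨hyU, hyc⟩
    refine ⟨hyU, fun hyV => hx.2 ?_⟩
    obtain ⟨z, hzV, hz⟩ := mem_closure_iff.1 hyc V hV.1 hyV
    rw [Set.mem_singleton_iff] at hz
    rwa [hz] at hzV
  | sup s _ t _ hs' ht' =>
    intro x hx
    rcases hx with hx | hx
    · obtain ⟨O, h1, h2, h3⟩ := hs' x hx
      exact ⟨O, h1, h2, h3.trans Set.subset_union_left⟩
    · obtain ⟨O, h1, h2, h3⟩ := ht' x hx
      exact ⟨O, h1, h2, h3.trans Set.subset_union_right⟩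

theorem isConstructible_of_isLocallyClosed [TopologicalSpace.NoetherianSpace α] {s : Set α}
    (hs : IsLocallyClosed s) : IsConstructible s := by
  obtain ⟨U, Z, hU, hZ, rfl⟩ := hs
  have h1 : IsConstructible U :=
    IsRetrocompact.isConstructible hU (fun V _ _ => TopologicalSpace.NoetherianSpace.isCompact _)
  have h2 : IsConstructible Zᶜ :=
    IsRetrocompact.isConstructible hZ.isOpen_compl
      (fun V _ _ => TopologicalSpace.NoetherianSpace.isCompact _)
  exact h1.inter h2.of_compl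

end Top

variable {X : Scheme.{u}}

/-- strata without constructibility condition -/
def WStrata (F : EtCoh.Ab X) (S : Set X) : Prop :=
  ∃ (κ : Type) (_ : Finite κ) (T : κ → Scheme.{u}) (g : ∀ i, T i ⟶ X),
    (∀ i, IsImmersion (g i)) ∧
    Pairwise (fun i j => Disjoint (Set.range (g i)) (Set.range (g j))) ∧
    (⋃ i, Set.range (g i)) = S ∧
    ∀ i, EtCoh.IsFiniteLocallyConstant ((EtCoh.pull (g i)).obj F)

theorem wstrata_empty (F : EtCoh.Ab X) : WStrata F ∅ :=
  ⟨Empty, inferInstance, fun i => i.elim, fun i => i.elim, fun i => i.elim,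
    fun i => i.elim, by simp, fun i => i.elim⟩

theorem wstrata_single (F : EtCoh.Ab X) {T : Scheme.{u}} (g : T ⟶ X) [IsImmersion g]
    (h : EtCoh.IsFiniteLocallyConstant ((EtCoh.pull g).obj F)) : WStrata F (Set.range g) :=
  ⟨Unit, inferInstance, fun _ => T, fun _ => g, fun _ => inferInstance,
    fun i j hij => (hij (Subsingleton.elim i j)).elim, by simp [Set.iUnion_const], fun _ => h⟩

theorem wstrata_disjoint_union (F : EtCoh.Ab X) {A B : Set X} (hA : WStrata F A)
    (hB : WStrata F B) (hAB : Disjoint A B) : WStrata F (A ∪ B) := by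
  obtain ⟨κ₁, hκ₁, T₁, g₁, a1, a3, a4, a5⟩ := hA
  obtain ⟨κ₂, hκ₂, T₂, g₂, b1, b3, b4, b5⟩ := hB
  have hr₁ : ∀ i, Set.range (g₁ i) ⊆ A := fun i => by
    rw [← a4]; exact Set.subset_iUnion (fun i => Set.range (g₁ i)) i
  have hr₂ : ∀ i, Set.range (g₂ i) ⊆ B := fun i => by
    rw [← b4]; exact Set.subset_iUnion (fun i => Set.range (g₂ i)) i
  let T : κ₁ ⊕ κ₂ → Scheme.{u} := Sum.elim T₁ T₂
  let g : ∀ k, T k ⟶ X := fun k => match k with
    | Sum.inl i => g₁ i
    | Sum.inr j => g₂ j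
  refine ⟨κ₁ ⊕ κ₂, inferInstance, T, g, ?_, ?_, ?_, ?_⟩
  · rintro (i | j)
    · exact a1 i
    · exact b1 j
  · rintro (i | j) (i' | j') hne
    · exact a3 (fun h => hne (congrArg Sum.inl h))
    · exact Set.disjoint_of_subset (hr₁ i) (hr₂ j') hAB
    · exact Set.disjoint_of_subset (hr₂ j) (hr₁ i') hAB.symm
    · exact b3 (fun h => hne (congrArg Sum.inr h))
  · rw [← a4, ← b4]
    ext x
    simp only [Set.mem_iUnion, Sum.exists, Set.mem_union]
    rfl
  · rintro (i | j)
    · exact a5 i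
    · exact b5 j

theorem wstrata_inter_open (F : EtCoh.Ab X) {S : Set X} (U : Set X) (hUo : IsOpen U)
    (h : WStrata F S) : WStrata F (S ∩ U) := by
  obtain ⟨κ, hκ, T, g, a1, a3, a4, a5⟩ := h
  let V : ∀ i, (T i).Opens := fun i => (g i) ⁻¹ᵁ ⟨U, hUo⟩
  have hrange : ∀ i, Set.range ((V i).ι ≫ g i) = Set.range (g i) ∩ U := by
    intro i
    rw [Scheme.Hom.comp_base, TopCat.coe_comp, Set.range_comp, Scheme.Opens.range_ι]
    change (g i) '' ((g i) ⁻¹' U) = _
    rw [Set.image_preimage_eq_inter_range, Set.inter_comm]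
  refine ⟨κ, hκ, fun i => (V i).toScheme, fun i => (V i).ι ≫ g i, ?_, ?_, ?_, ?_⟩
  · intro i
    have := a1 i
    infer_instance
  · intro i j hij
    change Disjoint (Set.range ((V i).ι ≫ g i)) (Set.range ((V j).ι ≫ g j))
    rw [hrange, hrange]
    exact Set.disjoint_of_subset Set.inter_subset_left Set.inter_subset_left (a3 hij)
  · rw [← a4, Set.iUnion_inter]
    exact Set.iUnion_congr hrange
  · intro i
    exact flc_comp F _ _ (a5 i)

theorem wstrata_inter_closed (F : EtCoh.Ab X) {S : Set X} (C : Set X) (hC : IsClosed C)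
    (h : WStrata F S) : WStrata F (S ∩ C) := by
  obtain ⟨κ, hκ, T, g, a1, a3, a4, a5⟩ := h
  refine ⟨κ, hκ, fun i => restrObj (g i) C hC, fun i => restrι (g i) C hC ≫ g i, ?_, ?_, ?_, ?_⟩
  · intro i
    have := a1 i
    infer_instance
  · intro i j hij
    change Disjoint (Set.range (restrι (g i) C hC ≫ g i)) (Set.range (restrι (g j) C hC ≫ g j))
    rw [range_restrι_comp, range_restrι_comp]
    exact Set.disjoint_of_subset Set.inter_subset_left Set.inter_subset_left (a3 hij)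
  · rw [← a4, Set.iUnion_inter]
    exact Set.iUnion_congr (fun i => range_restrι_comp (g i) C hC)
  · intro i
    exact flc_comp F _ _ (a5 i)

open TopologicalSpace in
theorem wstrata_of_local (F : EtCoh.Ab X) (U : Set X) (hUo : IsOpen U) [NoetherianSpace U] [QuasiSober U]
    (h : ∀ x : X, ∃ (V : X.Opens) (T : Scheme.{u}) (g : T ⟶ X), IsImmersion g ∧ x ∈ V ∧
        Set.range g.base = (V : Set X) ∩ closure {x} ∧
        EtCoh.IsFiniteLocallyConstant ((EtCoh.pull g).obj F)) :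
    ∀ Z : Closeds U, WStrata F ((Subtype.val : U → X) '' (Z : Set U)) := by
  intro Z
  apply wellFounded_lt.induction Z
  clear Z
  intro Z H
  rcases eq_or_ne Z ⊥ with rfl | h₀
  · have : (Subtype.val : U → X) '' ((⊥ : Closeds U) : Set U) = ∅ := by simp
    rw [this]
    exact wstrata_empty F
  · by_cases h₁ : IsPreirreducible (Z : Set U)
    · have hirr : IsIrreducible (Z : Set U) := ⟨Closeds.coe_nonempty.2 h₀, h₁⟩
      obtain ⟨x, hx⟩ := QuasiSober.sober hirr Z.isClosed
      have hx' : closure {x} = (Z : Set U) := hx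
      obtain ⟨V, T, g, hg, hxV, hrange, hflc⟩ := h x.1
      have hZ : (Z : Set U) = (Subtype.val : U → X) ⁻¹' closure {x.1} := by
        rw [← hx', Topology.IsEmbedding.subtypeVal.closure_eq_preimage_closure_image,
          Set.image_singleton]
      let B : Closeds U := ⟨(Subtype.val : U → X) ⁻¹' (V : Set X)ᶜ,
        V.isOpen.isClosed_compl.preimage continuous_subtype_val⟩
      have hxZ : x ∈ (Z : Set U) := by
        rw [← hx']
        exact subset_closure rfl
      have hlt : Z ⊓ B < Z := by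
        apply inf_lt_left.2
        intro hle
        exact (hle hxZ) hxV
      have h1 := H (Z ⊓ B) hlt
      have h2 : WStrata F (Set.range g ∩ U) :=
        wstrata_inter_open F U hUo (wstrata_single F g hflc)
      have hrange' : Set.range g = (V : Set X) ∩ closure {x.1} := hrange
      have heq : (Subtype.val : U → X) '' (Z : Set U) =
          (Subtype.val : U → X) '' ((Z ⊓ B : Closeds U) : Set U) ∪
            (Set.range g ∩ U) := by
        rw [hrange']
        ext y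
        constructor
        · rintro ⟨⟨y, hyU⟩, hyZ, rfl⟩
          by_cases hyV : y ∈ V
          · right
            rw [hZ] at hyZ
            exact ⟨⟨hyV, hyZ⟩, hyU⟩
          · left
            exact ⟨⟨y, hyU⟩, ⟨hyZ, hyV⟩, rfl⟩
        · rintro (⟨⟨y, hyU⟩, ⟨hyZ, -⟩, rfl⟩ | ⟨⟨-, hyc⟩, hyU⟩)
          · exact ⟨⟨y, hyU⟩, hyZ, rfl⟩
          · refine ⟨⟨y, hyU⟩, ?_, rfl⟩
            rw [hZ]
            exact hyc
      rw [heq]
      refine wstrata_disjoint_union F h1 h2 ?_
      rw [Set.disjoint_left]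
      rintro _ ⟨⟨y, hyU⟩, ⟨-, hyV⟩, rfl⟩ ⟨hyg, -⟩
      rw [hrange'] at hyg
      exact hyV hyg.1
    · simp only [isPreirreducible_iff_isClosed_union_isClosed, not_forall, not_or] at h₁
      obtain ⟨z₁, z₂, hz₁, hz₂, hsub, hz₁', hz₂'⟩ := h₁
      lift z₁ to Closeds U using hz₁
      lift z₂ to Closeds U using hz₂
      have h1 := H (Z ⊓ z₁) (inf_lt_left.2 hz₁')
      have h2 := H (Z ⊓ z₂) (inf_lt_left.2 hz₂')
      obtain ⟨C, hC, hCeq⟩ := isClosed_induced_iff.1 (Z ⊓ z₁).isClosed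
      have h3 := wstrata_inter_open F Cᶜ hC.isOpen_compl h2
      have heq : (Subtype.val : U → X) '' (Z : Set U) =
          (Subtype.val : U → X) '' ((Z ⊓ z₁ : Closeds U) : Set U) ∪
            ((Subtype.val : U → X) '' ((Z ⊓ z₂ : Closeds U) : Set U) ∩ Cᶜ) := by
        ext y
        constructor
        · rintro ⟨⟨y, hyU⟩, hyZ, rfl⟩
          by_cases hy1 : (⟨y, hyU⟩ : U) ∈ (z₁ : Set U)
          · left
            exact ⟨⟨y, hyU⟩, ⟨hyZ, hy1⟩, rfl⟩
          · right
            have hy2 : (⟨y, hyU⟩ : U) ∈ (z₂ : Set U) := (hsub hyZ).resolve_left hy1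
            refine ⟨⟨⟨y, hyU⟩, ⟨hyZ, hy2⟩, rfl⟩, ?_⟩
            intro hyC
            have : (⟨y, hyU⟩ : U) ∈ (Subtype.val : U → X) ⁻¹' C := hyC
            rw [hCeq] at this
            exact hy1 this.2
        · rintro (⟨⟨y, hyU⟩, ⟨hyZ, -⟩, rfl⟩ | ⟨⟨⟨y, hyU⟩, ⟨hyZ, -⟩, rfl⟩, -⟩)
          · exact ⟨⟨y, hyU⟩, hyZ, rfl⟩
          · exact ⟨⟨y, hyU⟩, hyZ, rfl⟩
      rw [heq]
      refine wstrata_disjoint_union F h1 h3 ?_
      rw [Set.disjoint_left]
      rintro _ ⟨⟨y, hyU⟩, hy1, rfl⟩ ⟨-, hyC⟩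
      apply hyC
      have : (⟨y, hyU⟩ : U) ∈ (Subtype.val : U → X) ⁻¹' C := by
        rw [hCeq]
        exact hy1
      exact this

theorem isConstructible_of_local [IsLocallyNoetherian X] (F : EtCoh.Ab X)
    (h : ∀ x : X, ∃ (V : X.Opens) (T : Scheme.{u}) (g : T ⟶ X), IsImmersion g ∧ x ∈ V ∧
        Set.range g.base = (V : Set X) ∩ closure {x} ∧
        EtCoh.IsFiniteLocallyConstant ((EtCoh.pull g).obj F)) :
    EtPBC.IsConstructible F := by
  intro U hU
  rw [← strata_iff]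
  haveI : IsNoetherianRing Γ(X, U) := IsLocallyNoetherian.component_noetherian ⟨U, hU⟩
  haveI h1 : TopologicalSpace.NoetherianSpace U := noetherianSpace_of_isAffineOpen U hU
  haveI h1' : TopologicalSpace.NoetherianSpace (U : Set X) := h1
  haveI h2 : QuasiSober (U : Set X) := U.isOpen.isOpenEmbedding_subtypeVal.quasiSober
  have h3 := wstrata_of_local F (U : Set X) U.isOpen h ⊤
  have h4 : (Subtype.val : ↥(U : Set X) → X) ''
      ((⊤ : TopologicalSpace.Closeds ↥(U : Set X)) : Set ↥(U : Set X)) = (U : Set X) := by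
    simp
  rw [h4] at h3
  obtain ⟨κ, hκ, T, g, a1, a3, a4, a5⟩ := h3
  refine ⟨κ, hκ, T, g, a1, ?_, a3, a4, a5⟩
  intro i
  haveI := a1 i
  exact isConstructible_of_isLocallyClosed
    ((g i).isLocallyClosed_range.preimage continuous_subtype_val)

theorem local_of_isConstructible (F : EtCoh.Ab X) (hF : EtPBC.IsConstructible F) (x : X) :
    ∃ (V : X.Opens) (T : Scheme.{u}) (g : T ⟶ X), IsImmersion g ∧ x ∈ V ∧
        Set.range g.base = (V : Set X) ∩ closure {x} ∧
        EtCoh.IsFiniteLocallyConstant ((EtCoh.pull g).obj F) := by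
  obtain ⟨U, hU, hxU⟩ : ∃ U : X.Opens, IsAffineOpen U ∧ x ∈ U := by
    obtain ⟨U, hU, hxU, -⟩ := TopologicalSpace.Opens.isBasis_iff_nbhd.1 X.isBasis_affineOpens
      (show x ∈ (⊤ : X.Opens) from trivial)
    exact ⟨U, hU, hxU⟩
  obtain ⟨κ, hκ, T, g, a1, a2, a3, a4, a5⟩ := (strata_iff _ _).2 (hF U hU)
  have hx : x ∈ ⋃ i, Set.range (g i) := by
    rw [a4]
    exact hxU
  obtain ⟨i, hi⟩ := Set.mem_iUnion.1 hx
  have hc : IsConstructible ((Subtype.val : ↥(U : Set X) → X) ⁻¹' Set.range (g i)) := a2 i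
  obtain ⟨O, hO, hxO, hsub⟩ := exists_open_inter_closure_subset hc ⟨x, hxU⟩ hi
  let V : X.Opens := ⟨Subtype.val '' O, U.isOpen.isOpenMap_subtype_val O hO⟩
  have hV : ∀ y, y ∈ (V : Set X) → y ∈ closure {x} → y ∈ Set.range (g i) := by
    rintro _ ⟨y', hy', rfl⟩ hyc
    have : y' ∈ closure {(⟨x, hxU⟩ : ↥(U : Set X))} := by
      rw [Topology.IsEmbedding.subtypeVal.closure_eq_preimage_closure_image,
        Set.image_singleton]
      exact hyc
    exact hsub ⟨hy', this⟩
  haveI := a1 i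
  let W : (T i).Opens := (g i) ⁻¹ᵁ V
  have hrange : Set.range (W.ι ≫ g i) = Set.range (g i) ∩ (V : Set X) := by
    rw [Scheme.Hom.comp_base, TopCat.coe_comp, Set.range_comp, Scheme.Opens.range_ι]
    change (g i) '' ((g i) ⁻¹' (V : Set X)) = _
    rw [Set.image_preimage_eq_inter_range, Set.inter_comm]
  have hcl : IsClosed (closure {x} : Set X) := isClosed_closure
  refine ⟨V, restrObj (W.ι ≫ g i) (closure {x}) hcl,
    restrι (W.ι ≫ g i) (closure {x}) hcl ≫ (W.ι ≫ g i), inferInstance,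
    ⟨⟨x, hxU⟩, hxO, rfl⟩, ?_, flc_comp F _ _ (flc_comp F _ _ (a5 i))⟩
  rw [range_restrι_comp, hrange]
  ext y
  constructor
  · rintro ⟨⟨-, h1⟩, h2⟩
    exact ⟨h1, h2⟩
  · rintro ⟨h1, h2⟩
    exact ⟨⟨hV y h1 h2, h1⟩, h2⟩

end Groth.Agent.Lib.Helper57.ConsClosure
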