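import Groth.Agent.Lib.Helper57.FinBC3

set_option autoImplicit false
open CategoryTheory CategoryTheory.Limits AlgebraicGeometry Opposite
universe u

/-! Base change for finite morphisms: the base change map is an isomorphism on stalks. -/

namespace Groth.Agent.Lib.Helper57.FinBC

open Groth.Agent.Lib.Helper4 Groth.Agent.Lib.Helper57.FinStalk

variable {X Y X' Y' : Scheme.{u}} (f : X ⟶ Y) (g : Y' ⟶ Y) (f' : X' ⟶ Y') (g' : X' ⟶ X)
  {Ω : Type u} [Field Ω] [IsAlgClosed Ω] (y' : Spec (CommRingCat.of Ω) ⟶ Y')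

theorem pf_forget : PreservesFilteredColimitsOfSize.{u, u} (forget AddCommGrpCat.{u + 1}) :=
  preservesFilteredColimitsOfSize_shrink.{u, u + 1, u, u + 1} _

theorem isSheaf_forget {Z : Scheme.{u}} (F : EtCoh.Ab Z) :
    Presieve.IsSheaf Z.smallEtaleTopology (F.obj ⋙ forget AddCommGrpCat.{u + 1}) :=
  (isSheaf_iff_isSheaf_of_type _ _).1
    (Presheaf.isSheaf_comp_of_isSheaf Z.smallEtaleTopology F.obj (forget AddCommGrpCat.{u + 1})
      F.property)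

/-- Joint surjectivity, indexed by the geometric points of `X'` over `y'`. -/
theorem T_jointly_surjective' [IsFinite f] (h : IsPullback g' f' f g) (F : EtCoh.Ab X)
    (d : ∀ ξ' : {ξ' : Spec (CommRingCat.of Ω) ⟶ X' // ξ' ≫ f' = y'},
      ToType ((Scheme.pointSmallEtale (ξ'.1 ≫ g')).presheafFiber.obj F.obj)) :
    ∃ a : ToType ((Scheme.pointSmallEtale (y' ≫ g)).presheafFiber.obj ((EtCoh.bc f).op ⋙ F.obj)),
      ∀ (ξ' : {ξ' : Spec (CommRingCat.of Ω) ⟶ X' // ξ' ≫ f' = y'})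
        (hh : (ξ'.1 ≫ g') ≫ f = y' ≫ g), T f (ξ'.1 ≫ g') hh F.obj a = d ξ' := by
  have := pf_forget.{u}
  -- the lift of a geometric point of `X` over `y' ≫ g`
  have hlift : ∀ ξ : {ξ : Spec (CommRingCat.of Ω) ⟶ X // ξ ≫ f = y' ≫ g},
      ∃ ξ' : {ξ' : Spec (CommRingCat.of Ω) ⟶ X' // ξ' ≫ f' = y'}, ξ'.1 ≫ g' = ξ.1 := by
    intro ξ
    exact ⟨⟨h.lift ξ.1 y' ξ.2, h.lift_snd _ _ _⟩, h.lift_fst _ _ _⟩
  choose L hL using hlift
  have huniq : ∀ ξ₁' ξ₂' : {ξ' : Spec (CommRingCat.of Ω) ⟶ X' // ξ' ≫ f' = y'},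
      ξ₁'.1 ≫ g' = ξ₂'.1 ≫ g' → ξ₁' = ξ₂' := by
    intro ξ₁' ξ₂' he
    apply Subtype.ext
    exact h.hom_ext he (ξ₁'.2.trans ξ₂'.2.symm)
  let c : ∀ ξ : {ξ : Spec (CommRingCat.of Ω) ⟶ X // ξ ≫ f = y' ≫ g},
      ToType ((Scheme.pointSmallEtale ξ.1).presheafFiber.obj F.obj) := fun ξ =>
    cast (congrArg (fun z => ToType ((Scheme.pointSmallEtale z).presheafFiber.obj F.obj)) (hL ξ))
      (d (L ξ))
  obtain ⟨a, ha⟩ := T_jointly_surjective f (y' ≫ g) F.obj (isSheaf_forget F) c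
  refine ⟨a, ?_⟩
  intro ξ' hh
  have h1 := ha ⟨ξ'.1 ≫ g', hh⟩
  have h2 : L ⟨ξ'.1 ≫ g', hh⟩ = ξ' := huniq _ _ (hL ⟨ξ'.1 ≫ g', hh⟩)
  refine h1.trans ?_
  have key : ∀ (η' : {ξ' : Spec (CommRingCat.of Ω) ⟶ X' // ξ' ≫ f' = y'}) (_ : η' = ξ')
      (hp : η'.1 ≫ g' = ξ'.1 ≫ g'),
      cast (congrArg (fun z => ToType ((Scheme.pointSmallEtale z).presheafFiber.obj F.obj)) hp)
        (d η') = d ξ' := by
    intro η' hη hp
    subst hη
    rfl
  exact key _ h2 (hL ⟨ξ'.1 ≫ g', hh⟩)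

/-- The base change map of a finite morphism is an isomorphism on stalks at geometric points with
algebraically closed field. -/
theorem isIso_stalk_baseChange0 [IsFinite f] (h : IsPullback g' f' f g) (F : EtCoh.Ab X) :
    IsIso ((Scheme.pointSmallEtale y').sheafFiber.map (EtCoh.baseChange0 f g f' g' h.w F)) := by
  have := pf_forget.{u}
  have hf' : IsFinite f' := MorphismProperty.of_isPullback (P := @IsFinite) h inferInstance
  set M := (EtCoh.pull g').obj F with hM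
  set S := (Scheme.pointSmallEtale y').sheafFiber.map (EtCoh.baseChange0 f g f' g' h.w F) with hS
  let ι₁ := ρ g y' ((EtCoh.push f).obj F).obj ≫ (comapIso g y').hom.app ((EtCoh.push f).obj F)
  have hι₁ : IsIso ι₁ :=
    IsIso.comp_isIso' (isIso_ρ g y' ((EtCoh.push f).obj F).obj)
      (inferInstance : IsIso ((comapIso g y').hom.app ((EtCoh.push f).obj F)))
  let σ : ∀ ξ' : Spec (CommRingCat.of Ω) ⟶ X',
      (Scheme.pointSmallEtale (ξ' ≫ g')).presheafFiber.obj F.obj ⟶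
        (Scheme.pointSmallEtale ξ').presheafFiber.obj M.obj := fun ξ' =>
    ρ g' ξ' F.obj ≫ (comapIso g' ξ').hom.app F
  have hσ : ∀ ξ', IsIso (σ ξ') := fun ξ' =>
    IsIso.comp_isIso' (isIso_ρ g' ξ' F.obj)
      (inferInstance : IsIso ((comapIso g' ξ').hom.app F))
  have hσinj : ∀ ξ', Function.Injective (σ ξ') := fun ξ' =>
    (ConcreteCategory.bijective_of_isIso (σ ξ')).injective
  have hι₁surj : Function.Surjective ι₁ := (ConcreteCategory.bijective_of_isIso ι₁).surjective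
  have ident : ∀ (ξ' : Spec (CommRingCat.of Ω) ⟶ X') (hξ' : ξ' ≫ f' = y')
      (hh : (ξ' ≫ g') ≫ f = y' ≫ g) a₀,
      T f' ξ' hξ' M.obj (S (ι₁ a₀)) = σ ξ' (T f (ξ' ≫ g') hh F.obj a₀) := by
    intro ξ' hξ' hh a₀
    have h1 := main_identity f g f' g' h.w y' F ξ' hξ' hh
    have h2 : ι₁ ≫ S ≫ T f' ξ' hξ' M.obj = T f (ξ' ≫ g') hh F.obj ≫ σ ξ' :=
      (Category.assoc _ _ _).trans h1
    have h3 := ConcreteCategory.congr_hom h2 a₀
    rw [ConcreteCategory.comp_apply, ConcreteCategory.comp_apply, ConcreteCategory.comp_apply] at h3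
    exact h3
  have hhh : ∀ (ξ' : Spec (CommRingCat.of Ω) ⟶ X') (_ : ξ' ≫ f' = y'),
      (ξ' ≫ g') ≫ f = y' ≫ g := by
    intro ξ' hξ'
    rw [Category.assoc, h.w, ← Category.assoc, hξ']
  rw [ConcreteCategory.isIso_iff_bijective]
  constructor
  · intro a b hab
    obtain ⟨a₀, rfl⟩ := hι₁surj a
    obtain ⟨b₀, rfl⟩ := hι₁surj b
    congr 1
    apply T_jointly_injective f (y' ≫ g) F.obj (isSheaf_forget F) a₀ b₀
    intro ξ hξ
    obtain ⟨ξ', rfl, hξ'⟩ : ∃ ξ' : Spec (CommRingCat.of Ω) ⟶ X', ξ' ≫ g' = ξ ∧ ξ' ≫ f' = y' :=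
      ⟨h.lift ξ y' hξ, h.lift_fst _ _ _, h.lift_snd _ _ _⟩
    apply hσinj ξ'
    rw [← ident ξ' hξ' hξ a₀, ← ident ξ' hξ' hξ b₀, hab]
  · intro c
    obtain ⟨a₀, ha₀⟩ := T_jointly_surjective' f g f' g' y' h F
      (fun ξ' => (inv (σ ξ'.1)) (T f' ξ'.1 ξ'.2 M.obj c))
    refine ⟨ι₁ a₀, ?_⟩
    apply T_jointly_injective f' y' M.obj (isSheaf_forget M)
    intro ξ' hξ'
    rw [ident ξ' hξ' (hhh ξ' hξ') a₀, ha₀ ⟨ξ', hξ'⟩ (hhh ξ' hξ')]
    have h4 : inv (σ ξ') ≫ σ ξ' = 𝟙 _ := IsIso.inv_hom_id _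
    have h5 := ConcreteCategory.congr_hom h4 (T f' ξ' hξ' M.obj c)
    rw [ConcreteCategory.comp_apply, ConcreteCategory.id_apply] at h5
    exact h5

end Groth.Agent.Lib.Helper57.FinBC
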