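import Groth.Agent.Lib.Helper57.ConstVal
import Groth.Agent.Lib.Helper57.FinBC4

/-!
# Subsheaves of constant sheaves on irreducible schemes (helper57)
-/

set_option autoImplicit false
open CategoryTheory CategoryTheory.Limits AlgebraicGeometry Opposite
universe u

noncomputable section

namespace Groth.Agent.Lib.Helper57.ConstUnit

open Groth.Agent.Lib.Helper4 Groth.Agent.Lib.Helper57.FinStalk

variable {X : Scheme.{u}}

/-- Naturality of constant sections in the value group. -/
theorem cs_constMap {M N : AddCommGrpCat.{u + 1}} (φ : M ⟶ N) (W : X.Etale) (m : M) :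
    ((constantSheaf X.smallEtaleTopology AddCommGrpCat.{u + 1}).map φ).hom.app (op W)
      (cs X M W m) = cs X N W (φ m) := by
  have h := toSheafify_naturality X.smallEtaleTopology
    ((Functor.const (X.Etaleᵒᵖ)).map φ)
  have h2 := congrArg (fun k => (k.app (op W)) m) h
  simp only [NatTrans.comp_app, ConcreteCategory.comp_apply] at h2
  exact h2.symm

/-- Monomorphisms of abelian étale sheaves are injective on sections. -/
theorem injective_app_of_mono {F G : EtCoh.Ab X} (b : F ⟶ G) [Mono b] (W : X.Etale) :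
    Function.Injective (b.hom.app (op W)) := by
  have h1 : Mono ((sheafToPresheaf _ _).map b) := inferInstance
  have h2 : Mono (((sheafToPresheaf _ _).map b).app (op W)) :=
    (NatTrans.mono_iff_mono_app _).mp h1 (op W)
  exact (AddCommGrpCat.mono_iff_injective _).mp h2

/-- A geometric point over the generic point lifts to every nonempty étale scheme. -/
theorem nonempty_fiber_of_generic [IrreducibleSpace ↥X] {Ω : Type u} [Field Ω] [IsSepClosed Ω]
    (ξ : Spec (CommRingCat.of Ω) ⟶ X) (hξ : ξ.base default = genericPoint ↥X)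
    (V : X.Etale) [hV : Nonempty V.left] : Nonempty ((Scheme.pointSmallEtale ξ).fiber.obj V) := by
  let f : V.left ⟶ X := V.hom
  have : Etale f := V.prop
  have hopen : IsOpen (Set.range f) := f.isOpenMap.isOpen_range
  have hmem : genericPoint X ∈ Set.range f := by
    rw [(genericPoint_spec X).mem_open_set_iff hopen]
    exact ⟨_, Set.mem_univ _, ⟨hV.some, rfl⟩⟩
  obtain ⟨z, hz⟩ := hmem
  obtain ⟨l, hl, -⟩ := Scheme.exists_fac_of_etale_of_isSepClosed f ξ z (hz.trans hξ.symm)
  exact ⟨mkPt ξ V l hl⟩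

/-- If the stalk of `a` at `ξ` is surjective, every section of the target is, near any lift of
`ξ`, in the image of `a`. -/
theorem exists_section_of_stalk_surjective {F G : EtCoh.Ab X} (a : F ⟶ G) {Ω : Type u} [Field Ω]
    [IsSepClosed Ω] (ξ : Spec (CommRingCat.of Ω) ⟶ X)
    (hsurj : Function.Surjective ((EtCoh.stalk ξ).map a)) (V : X.Etale)
    (u : (Scheme.pointSmallEtale ξ).fiber.obj V) (t : G.obj.obj (op V)) :
    ∃ (V' : X.Etale) (k : V' ⟶ V) (_ : (Scheme.pointSmallEtale ξ).fiber.obj V')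
      (c : F.obj.obj (op V')), a.hom.app (op V') c = G.obj.map k.op t := by
  have := FinBC.pf_forget.{u}
  let Φ := Scheme.pointSmallEtale ξ
  obtain ⟨p, hp⟩ := hsurj (Φ.toPresheafFiber V u G.obj t)
  obtain ⟨V₂, u₂, c, rfl⟩ := Φ.toPresheafFiber_jointly_surjective p
  replace hp : Φ.presheafFiber.map a.hom (Φ.toPresheafFiber V₂ u₂ F.obj c) =
      Φ.toPresheafFiber V u G.obj t := hp
  rw [Φ.toPresheafFiber_naturality_apply] at hp
  -- common refinement
  haveI : IsCofiltered Φ.fiber.Elements := Φ.isCofiltered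
  let e₁ : Φ.fiber.Elements := ⟨V, u⟩
  let e₂ : Φ.fiber.Elements := ⟨V₂, u₂⟩
  let e₃ := IsCofiltered.min e₁ e₂
  let g₁ : e₃ ⟶ e₁ := IsCofiltered.minToLeft e₁ e₂
  let g₂ : e₃ ⟶ e₂ := IsCofiltered.minToRight e₁ e₂
  have hg₁ : Φ.fiber.map g₁.1 e₃.2 = u := g₁.2
  have hg₂ : Φ.fiber.map g₂.1 e₃.2 = u₂ := g₂.2
  have h1 : Φ.toPresheafFiber V u G.obj t =
      Φ.toPresheafFiber e₃.1 e₃.2 G.obj (G.obj.map g₁.1.op t) := by
    rw [← hg₁]
    exact (Φ.toPresheafFiber_w_apply g₁.1 e₃.2 G.obj t).symm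
  have h2 : Φ.toPresheafFiber V₂ u₂ G.obj (a.hom.app (op V₂) c) =
      Φ.toPresheafFiber e₃.1 e₃.2 G.obj (G.obj.map g₂.1.op (a.hom.app (op V₂) c)) := by
    rw [← hg₂]
    exact (Φ.toPresheafFiber_w_apply g₂.1 e₃.2 G.obj _).symm
  rw [h1, h2, Φ.toPresheafFiber_eq_iff'] at hp
  obtain ⟨V₄, k, u₄, -, hk⟩ := hp
  refine ⟨V₄, k ≫ g₁.1, u₄, F.obj.map (k ≫ g₂.1).op c, ?_⟩
  have h3 := a.hom.naturality (k ≫ g₂.1).op
  have h4 := congrArg (fun φ => φ c) h3
  simp only [ConcreteCategory.comp_apply] at h4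
  rw [h4, op_comp, Functor.map_comp, ConcreteCategory.comp_apply, hk, op_comp, Functor.map_comp,
    ConcreteCategory.comp_apply]

end Groth.Agent.Lib.Helper57.ConstUnit
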