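import Groth.Agent.Lib.Helper57.ConstMono
import Groth.Prelude.Def_EtMod2

/-!
# Subsheaves of constant sheaves of modules on irreducible schemes (helper57)

The module analogue of `ConstUnit1`/`ConstVal`/`ConstMono`.
-/

set_option autoImplicit false
open CategoryTheory CategoryTheory.Limits AlgebraicGeometry Opposite
universe u

noncomputable section

namespace Groth.Agent.Lib.Helper57.ConstMod

open Groth.Agent.Lib.Helper4 Groth.Agent.Lib.Helper4.LocConst
open Groth.Agent.Lib.Helper57.FinStalk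

variable (Λ : Type (u + 1)) [CommRing Λ] (X : Scheme.{u}) (M : ModuleCat.{u + 1} Λ)

/-- The constant presheaf. -/
abbrev cP : X.Etaleᵒᵖ ⥤ ModuleCat.{u + 1} Λ := (Functor.const _).obj M

/-- The constant sheaf. -/
abbrev cSh : EtModW.Mod Λ X := (constantSheaf X.smallEtaleTopology (ModuleCat.{u + 1} Λ)).obj M

/-- Constant sections of the constant sheaf. -/
def cs (W : X.Etale) : M ⟶ (cSh Λ X M).obj.obj (op W) :=
  (toSheafify X.smallEtaleTopology (cP Λ X M)).app (op W)

variable {Λ X M}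

theorem cs_map {W W' : X.Etale} (g : W' ⟶ W) :
    cs Λ X M W ≫ (cSh Λ X M).obj.map g.op = cs Λ X M W' := by
  have h := (toSheafify X.smallEtaleTopology (cP Λ X M)).naturality g.op
  exact h.symm.trans (Category.id_comp _)

theorem cs_map_apply {W W' : X.Etale} (g : W' ⟶ W) (m : M) :
    (cSh Λ X M).obj.map g.op (cs Λ X M W m) = cs Λ X M W' m := by
  rw [← cs_map g]
  rfl

/-- Distinct constants give distinct sections over a nonempty scheme. -/
theorem cs_injective (W : X.Etale) [hW : Nonempty W.left] :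
    Function.Injective (cs Λ X M W) := by
  intro m m' h
  by_contra hne
  have hmem := Presheaf.equalizerSieve_mem X.smallEtaleTopology
    (toSheafify X.smallEtaleTopology (cP Λ X M)) (X := op W) m m' h
  have hbot : (⊥ : Sieve W) ∈ X.smallEtaleTopology W := by
    refine X.smallEtaleTopology.superset_covering ?_ hmem
    intro Z g hg
    exact (hne hg).elim
  have := (bot_mem_iff W).1 hbot
  exact this.false hW.some

/-- Every section of a constant sheaf is locally constant. -/
theorem imageSieve_cs_mem (W : X.Etale) (s : (cSh Λ X M).obj.obj (op W)) :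
    Presheaf.imageSieve (toSheafify X.smallEtaleTopology (cP Λ X M)) s ∈
      X.smallEtaleTopology W :=
  Presheaf.imageSieve_mem X.smallEtaleTopology
    (toSheafify X.smallEtaleTopology (cP Λ X M)) (U := op W) s

theorem exists_hasVal (W : X.Etale) (s : (cSh Λ X M).obj.obj (op W)) (w : W.left) :
    ∃ (m : M) (W₀ : X.Etale) (g : W₀ ⟶ W) (t : W₀.left), g.left t = w ∧
      (cSh Λ X M).obj.map g.op s = cs Λ X M W₀ m := by
  have hS := imageSieve_cs_mem W s
  obtain ⟨W₀, g₀, t₀, hg₀, ht₀⟩ := (OverEt.mem_iff_forall_exists W _).1 hS w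
  obtain ⟨m₀, hm₀⟩ := hg₀
  exact ⟨m₀, W₀, g₀, t₀, ht₀, hm₀.symm⟩

/-- Naturality of constant sections in the value module. -/
theorem cs_constMap {M N : ModuleCat.{u + 1} Λ} (φ : M ⟶ N) (W : X.Etale) (m : M) :
    ((constantSheaf X.smallEtaleTopology (ModuleCat.{u + 1} Λ)).map φ).hom.app (op W)
      (cs Λ X M W m) = cs Λ X N W (φ m) := by
  have h := toSheafify_naturality X.smallEtaleTopology
    ((Functor.const (X.Etaleᵒᵖ)).map φ)
  have h2 := congrArg (fun k => (k.app (op W)) m) h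
  simp only [NatTrans.comp_app, ConcreteCategory.comp_apply] at h2
  exact h2.symm

/-- Monomorphisms of étale sheaves of modules are injective on sections. -/
theorem injective_app_of_mono {F G : EtModW.Mod Λ X} (b : F ⟶ G) [Mono b] (W : X.Etale) :
    Function.Injective (b.hom.app (op W)) := by
  have h1 : Mono ((sheafToPresheaf _ _).map b) := inferInstance
  have h2 : Mono (((sheafToPresheaf _ _).map b).app (op W)) :=
    (NatTrans.mono_iff_mono_app _).mp h1 (op W)
  exact (ModuleCat.mono_iff_injective _).mp h2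

theorem pf_forget : PreservesFilteredColimitsOfSize.{u, u} (forget (ModuleCat.{u + 1} Λ)) :=
  preservesFilteredColimitsOfSize_shrink.{u, u + 1, u, u + 1} _

theorem app_map {F G : EtModW.Mod Λ X} (a : F ⟶ G) {W W' : X.Etale} (g : W' ⟶ W)
    (x : F.obj.obj (op W)) :
    a.hom.app (op W') (F.obj.map g.op x) = G.obj.map g.op (a.hom.app (op W) x) := by
  have h3 := a.hom.naturality g.op
  have h4 := congrArg (fun φ => φ x) h3
  simpa only [ConcreteCategory.comp_apply] using h4

/-- If the stalk of `a` at `ξ` is surjective, every section of the target is, near any lift of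
`ξ`, in the image of `a`. -/
theorem exists_section_of_stalk_surjective {F G : EtModW.Mod Λ X} (a : F ⟶ G) {Ω : Type u}
    [Field Ω] [IsSepClosed Ω] (ξ : Spec (CommRingCat.of Ω) ⟶ X)
    (hsurj : Function.Surjective ((EtModW.stalk Λ ξ).map a)) (V : X.Etale)
    (u : (Scheme.pointSmallEtale ξ).fiber.obj V) (t : G.obj.obj (op V)) :
    ∃ (V' : X.Etale) (k : V' ⟶ V) (_ : (Scheme.pointSmallEtale ξ).fiber.obj V')
      (c : F.obj.obj (op V')), a.hom.app (op V') c = G.obj.map k.op t := by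
  have := pf_forget.{u} (Λ := Λ)
  let Φ := Scheme.pointSmallEtale ξ
  obtain ⟨p, hp⟩ := hsurj (Φ.toPresheafFiber V u G.obj t)
  obtain ⟨V₂, u₂, c, rfl⟩ := Φ.toPresheafFiber_jointly_surjective p
  replace hp : Φ.presheafFiber.map a.hom (Φ.toPresheafFiber V₂ u₂ F.obj c) =
      Φ.toPresheafFiber V u G.obj t := hp
  rw [Φ.toPresheafFiber_naturality_apply] at hp
  haveI : IsCofiltered Φ.fiber.Elements := Φ.isCofiltered
  let e₁ : Φ.fiber.Elements := ⟨V, u⟩
  let e₂ : Φ.fiber.Elements := ⟨V₂, u₂⟩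
  let e₃ := IsCofiltered.min e₁ e₂
  let g₁ : e₃ ⟶ e₁ := IsCofiltered.minToLeft e₁ e₂
  let g₂ : e₃ ⟶ e₂ := IsCofiltered.minToRight e₁ e₂
  have hg₁ : Φ.fiber.map g₁.1 e₃.2 = u := g₁.2
  have hg₂ : Φ.fiber.map g₂.1 e₃.2 = u₂ := g₂.2
  have h1 : Φ.toPresheafFiber V u G.obj t =
      Φ.toPresheafFiber e₃.1 e₃.2 G.obj (G.obj.map g₁.1.op t) := by
    rw [← hg₁]
    exact (Φ.toPresheafFiber_w_apply g₁.1 e₃.2 G.obj t).symm
  have h2 : Φ.toPresheafFiber V₂ u₂ G.obj (a.hom.app (op V₂) c) =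
      Φ.toPresheafFiber e₃.1 e₃.2 G.obj (G.obj.map g₂.1.op (a.hom.app (op V₂) c)) := by
    rw [← hg₂]
    exact (Φ.toPresheafFiber_w_apply g₂.1 e₃.2 G.obj _).symm
  rw [h1, h2, Φ.toPresheafFiber_eq_iff'] at hp
  obtain ⟨V₄, k, u₄, -, hk⟩ := hp
  refine ⟨V₄, k ≫ g₁.1, u₄, F.obj.map (k ≫ g₂.1).op c, ?_⟩
  rw [app_map a, op_comp, Functor.map_comp, ConcreteCategory.comp_apply, hk, op_comp,
    Functor.map_comp, ConcreteCategory.comp_apply]

/-- The main theorem for sheaves of modules. -/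
theorem isIso_of_stalk_generic [IrreducibleSpace ↥X] {Ω : Type u} [Field Ω] [IsSepClosed Ω]
    (ξ : Spec (CommRingCat.of Ω) ⟶ X) (hξ : ξ.base default = genericPoint ↥X)
    {MA' MA : ModuleCat.{u + 1} Λ} (φ : MA' ⟶ MA) (G : EtModW.Mod Λ X)
    (a : cSh Λ X MA' ⟶ G) (b : G ⟶ cSh Λ X MA) [Mono a] [Mono b]
    (hab : a ≫ b = (constantSheaf X.smallEtaleTopology (ModuleCat.{u + 1} Λ)).map φ)
    (hst : IsIso ((EtModW.stalk Λ ξ).map a)) : IsIso a := by
  have hsurj : Function.Surjective ((EtModW.stalk Λ ξ).map a) :=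
    (ConcreteCategory.bijective_of_isIso _).2
  haveI : Sheaf.IsLocallySurjective a := by
    constructor
    intro V t
    rw [OverEt.mem_iff_forall_exists]
    intro v
    obtain ⟨m, V₁, g₁, t₁, ht₁, hbt⟩ := exists_hasVal V (b.hom.app (op V) t) v
    haveI : Nonempty V₁.left := ⟨t₁⟩
    obtain ⟨u₁⟩ := Groth.Agent.Lib.Helper57.ConstUnit.nonempty_fiber_of_generic ξ hξ V₁
    obtain ⟨V₄, k, u₄, c, hc⟩ :=
      exists_section_of_stalk_surjective a ξ hsurj V₁ u₁ (G.obj.map g₁.op t)
    obtain ⟨m', V₅, g₅, t₅, -, hc5⟩ := exists_hasVal V₄ c (ptHom u₄ default)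
    haveI : Nonempty V₅.left := ⟨t₅⟩
    have e1 : b.hom.app (op V₅) (a.hom.app (op V₅) (cs Λ X MA' V₅ m')) =
        cs Λ X MA V₅ (φ m') := by
      have h1 := cs_constMap φ V₅ m'
      rw [← hab] at h1
      exact h1
    have e2 : b.hom.app (op V₅) (a.hom.app (op V₅) (cs Λ X MA' V₅ m')) = cs Λ X MA V₅ m := by
      rw [← hc5, app_map a g₅ c, hc, app_map b g₅, app_map b k, app_map b g₁, hbt, cs_map_apply,
        cs_map_apply]
    have key : φ m' = m := cs_injective V₅ (e1.symm.trans e2)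
    refine ⟨V₁, g₁, t₁, ⟨cs Λ X MA' V₁ m', ?_⟩, ht₁⟩
    apply injective_app_of_mono b V₁
    have e3 : b.hom.app (op V₁) (a.hom.app (op V₁) (cs Λ X MA' V₁ m')) =
        cs Λ X MA V₁ (φ m') := by
      have h1 := cs_constMap φ V₁ m'
      rw [← hab] at h1
      exact h1
    rw [e3, key, app_map b g₁, hbt]
  haveI : Epi a := Sheaf.epi_of_isLocallySurjective a
  exact isIso_of_mono_of_epi a

end Groth.Agent.Lib.Helper57.ConstMod
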