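import Groth.Agent.Lib.Helper57.FinStalk2
import Groth.Agent.Lib.Helper79.EtSiteGlue

set_option autoImplicit false
open CategoryTheory CategoryTheory.Limits AlgebraicGeometry Opposite
universe u v' u' w'

/-! Joint injectivity of the comparison maps for finite morphisms. -/

namespace Groth.Agent.Lib.Helper57.FinStalk

open Groth.Agent.Lib.Helper4 Groth.Agent.Lib.Helper79

/-- Fibre products in the small étale site, with a point over a given pair of points. -/
theorem exists_pullback_pt {X : Scheme.{u}} {W B B' : X.Etale} (g : W ⟶ B) (k : B' ⟶ B)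
    (w : W.left) (b' : B'.left) (h : g.left w = k.left b') :
    ∃ (Z : X.Etale) (p₁ : Z ⟶ W) (p₂ : Z ⟶ B') (z : Z.left),
      p₁ ≫ g = p₂ ≫ k ∧ p₂.left z = b' := by
  have : Etale W.hom := W.prop
  have : Etale B.hom := B.prop
  have : Etale B'.hom := B'.prop
  have hk : Etale (k.left ≫ B.hom) := by
    rw [MorphismProperty.Over.w k]; infer_instance
  have : Etale k.left := Etale.of_comp k.left B.hom
  let Z : X.Etale := Scheme.Etale.mk (pullback.fst g.left k.left ≫ W.hom)
  let p₁ : Z ⟶ W := MorphismProperty.Over.homMk (pullback.fst g.left k.left) rfl trivial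
  have h2 : pullback.snd g.left k.left ≫ B'.hom = pullback.fst g.left k.left ≫ W.hom := by
    rw [← MorphismProperty.Over.w k, ← Category.assoc, ← pullback.condition, Category.assoc,
      MorphismProperty.Over.w g]
  let p₂ : Z ⟶ B' := MorphismProperty.Over.homMk (pullback.snd g.left k.left) h2 trivial
  obtain ⟨z, -, hz⟩ := Scheme.Pullback.exists_preimage_pullback (f := g.left) (g := k.left) w b' h
  refine ⟨Z, p₁, p₂, z, ?_, hz⟩
  apply MorphismProperty.Over.Hom.ext
  exact pullback.condition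

variable {X Y : Scheme.{u}} (f : X ⟶ Y) [IsFinite f] {Ω : Type u} [Field Ω] [IsAlgClosed Ω]
  (η : Spec (CommRingCat.of Ω) ⟶ Y)

/-- Every point of the fibre of `U ×_Y X` over the image of a lift `u` of `η` is the image of the
geometric point attached to some geometric point `ξ` of `X` over `η`. -/
theorem exists_liftPt_eq {U : Y.Etale} (u : (Scheme.pointSmallEtale η).fiber.obj U)
    (z : ((EtCoh.bc f).obj U).left) (hz : pullback.fst U.hom f z = ptHom u default) :
    ∃ (ξ : Spec (CommRingCat.of Ω) ⟶ X) (hξ : ξ ≫ f = η), ptHom (liftPt f ξ hξ u) default = z := by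
  let q := pullback.fst U.hom f
  have hfin : (q.residueFieldMap z).hom.Finite :=
    EtRes.finite_residueFieldMap_of_quasiFiniteAt q z (q.quasiFiniteAt z)
  obtain ⟨ζ, hζ, hζz⟩ := exists_geomPt_over q z hfin (ptHom u) hz
  have hξ : (ζ ≫ pullback.snd U.hom f) ≫ f = η := by
    rw [Category.assoc, ← pullback.condition, ← Category.assoc, hζ, ptHom_comp]
  refine ⟨ζ ≫ pullback.snd U.hom f, hξ, ?_⟩
  have : ptHom (liftPt f (ζ ≫ pullback.snd U.hom f) hξ u) = ζ := by
    apply pullback.hom_ext
    · exact (ptHom_liftPt_fst f _ hξ u).trans hζ.symm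
    · exact ptHom_liftPt_snd f _ hξ u
  exact (congrArg (fun φ : Spec (CommRingCat.of Ω) ⟶ pullback U.hom f => φ default) this).trans hζz

variable {A : Type u'} [Category.{v'} A] [HasColimitsOfSize.{u, u} A]
  {FC : A → A → Type*} {CC : A → Type w'} [∀ (X Y : A), FunLike (FC X Y) (CC X) (CC Y)]
  [ConcreteCategory.{w'} A FC] [PreservesFilteredColimitsOfSize.{u, u} (forget A)]

theorem T_germ {ξ : Spec (CommRingCat.of Ω) ⟶ X} (hξ : ξ ≫ f = η) (P : X.Etaleᵒᵖ ⥤ A)
    (U : Y.Etale) (u : (Scheme.pointSmallEtale η).fiber.obj U)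
    (s : ToType (P.obj (op ((EtCoh.bc f).obj U)))) :
    T f ξ hξ P ((Scheme.pointSmallEtale η).toPresheafFiber U u ((EtCoh.bc f).op ⋙ P) s) =
      (Scheme.pointSmallEtale ξ).toPresheafFiber ((EtCoh.bc f).obj U) (liftPt f ξ hξ u) P s := by
  rw [← toPresheafFiber_T f ξ hξ P U u, ConcreteCategory.comp_apply]

/-- Shrinking an étale neighbourhood to an open subset containing the point. -/
theorem exists_shrink {U : Y.Etale} (u : (Scheme.pointSmallEtale η).fiber.obj U)
    (O : U.left.Opens) (hO : ptHom u default ∈ O) :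
    ∃ u' : (Scheme.pointSmallEtale η).fiber.obj (EtSiteGlue.openObj U O),
      (Scheme.pointSmallEtale η).fiber.map (EtSiteGlue.openι U O) u' = u := by
  have hr : Set.range (ptHom u).base ⊆ Set.range O.ι.base := by
    rintro _ ⟨a, rfl⟩
    rw [Scheme.Opens.range_ι, Subsingleton.elim a default]
    exact hO
  let l : Spec (CommRingCat.of Ω) ⟶ O.toScheme := IsOpenImmersion.lift O.ι (ptHom u) hr
  have hl : l ≫ O.ι = ptHom u := IsOpenImmersion.lift_fac _ _ _
  refine ⟨mkPt η (EtSiteGlue.openObj U O) l ?_, ?_⟩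
  · change l ≫ O.ι ≫ U.hom = η
    rw [← Category.assoc, hl, ptHom_comp]
  · apply pt_ext
    exact hl

/-- The comparison maps to the stalks at the geometric points over `η` are jointly injective. -/
theorem T_jointly_injective (P : X.Etaleᵒᵖ ⥤ A)
    (hP : Presieve.IsSheaf X.smallEtaleTopology (P ⋙ forget A))
    (a b : ToType ((Scheme.pointSmallEtale η).presheafFiber.obj ((EtCoh.bc f).op ⋙ P)))
    (h : ∀ (ξ : Spec (CommRingCat.of Ω) ⟶ X) (hξ : ξ ≫ f = η),
      T f ξ hξ P a = T f ξ hξ P b) : a = b := by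
  obtain ⟨U, u, s, t, rfl, rfl⟩ :=
    (Scheme.pointSmallEtale η).toPresheafFiber_jointly_surjective₂ (P := (EtCoh.bc f).op ⋙ P) a b
  -- local equality near each geometric point of the fibre
  have h1 : ∀ (ξ : Spec (CommRingCat.of Ω) ⟶ X) (hξ : ξ ≫ f = η),
      ∃ (W : X.Etale) (g : W ⟶ (EtCoh.bc f).obj U) (w : (Scheme.pointSmallEtale ξ).fiber.obj W),
        (Scheme.pointSmallEtale ξ).fiber.map g w = liftPt f ξ hξ u ∧
          P.map g.op s = P.map g.op t := by
    intro ξ hξ
    have := h ξ hξ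
    rw [T_germ, T_germ] at this
    exact ((Scheme.pointSmallEtale ξ).toPresheafFiber_eq_iff' _ _ _ _).1 this
  choose W g w hw hst using h1
  let q := pullback.fst U.hom f
  -- the open subset where `s` and `t` agree locally
  let O : Set ((EtCoh.bc f).obj U).left :=
    ⋃ (ξ : Spec (CommRingCat.of Ω) ⟶ X) (hξ : ξ ≫ f = η), Set.range (g ξ hξ).left
  have hOopen : IsOpen O := by
    refine isOpen_iUnion fun ξ => isOpen_iUnion fun hξ => ?_
    have : Etale (W ξ hξ).hom := (W ξ hξ).prop
    have : Etale ((EtCoh.bc f).obj U).hom := ((EtCoh.bc f).obj U).prop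
    have hk : Etale ((g ξ hξ).left ≫ ((EtCoh.bc f).obj U).hom) := by
      rw [MorphismProperty.Over.w (g ξ hξ)]; infer_instance
    have : Etale (g ξ hξ).left := Etale.of_comp (g ξ hξ).left ((EtCoh.bc f).obj U).hom
    exact (g ξ hξ).left.isOpenMap.isOpen_range
  have hfib : ∀ z : ((EtCoh.bc f).obj U).left, q z = ptHom u default → z ∈ O := by
    intro z hz
    obtain ⟨ξ, hξ, rfl⟩ := exists_liftPt_eq f η u z hz
    refine Set.mem_iUnion.2 ⟨ξ, Set.mem_iUnion.2 ⟨hξ, ?_⟩⟩
    rw [← hw ξ hξ, ptHom_map]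
    exact ⟨_, rfl⟩
  have hq : IsClosedMap q := q.isClosedMap
  let O' : U.left.Opens := ⟨(q '' Oᶜ)ᶜ, (hq _ hOopen.isClosed_compl).isOpen_compl⟩
  have hO' : ptHom u default ∈ O' := by
    rintro ⟨z, hz, hzu⟩
    exact hz (hfib z hzu)
  obtain ⟨u', hu'⟩ := exists_shrink η u O' hO'
  let j := EtSiteGlue.openι U O'
  have key : P.map ((EtCoh.bc f).map j).op s = P.map ((EtCoh.bc f).map j).op t := by
    let R : Sieve ((EtCoh.bc f).obj (EtSiteGlue.openObj U O')) :=
      { arrows := fun Z k => P.map (k ≫ (EtCoh.bc f).map j).op s = P.map (k ≫ (EtCoh.bc f).map j).op t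
        downward_closed := by
          intro Z Z' k hk k'
          change P.map ((k' ≫ k) ≫ (EtCoh.bc f).map j).op s = P.map ((k' ≫ k) ≫ (EtCoh.bc f).map j).op t
          rw [Category.assoc, op_comp, P.map_comp, ConcreteCategory.comp_apply,
            ConcreteCategory.comp_apply]
          exact congrArg _ hk }
    have hR : R ∈ X.smallEtaleTopology _ := by
      apply EtSiteGlue.mem_of_forall_exists
      intro x
      let x' := ((EtCoh.bc f).map j).left x
      have hx' : x' ∈ O := by
        by_contra hcon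
        have h2 : q x' ∈ q '' Oᶜ := ⟨x', hcon, rfl⟩
        have h3 : q x' = j.left (pullback.fst (EtSiteGlue.openObj U O').hom f x) := by
          have := (EtCoh.isPullback_bc_map f j).w
          exact congrArg (fun φ : ((EtCoh.bc f).obj (EtSiteGlue.openObj U O')).left ⟶ U.left => φ x) this
        rw [h3] at h2
        exact (pullback.fst (EtSiteGlue.openObj U O').hom f x).2 h2
      obtain ⟨ξ, hx'⟩ := Set.mem_iUnion.1 hx'
      obtain ⟨hξ, y, hy⟩ := Set.mem_iUnion.1 hx'
      obtain ⟨Z, p₁, p₂, z, hp, hz⟩ := exists_pullback_pt (g ξ hξ) ((EtCoh.bc f).map j) y x hy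
      refine ⟨Z, p₂, ?_, ⟨z, hz⟩⟩
      change P.map (p₂ ≫ (EtCoh.bc f).map j).op s = P.map (p₂ ≫ (EtCoh.bc f).map j).op t
      rw [← hp, op_comp, P.map_comp, ConcreteCategory.comp_apply, ConcreteCategory.comp_apply,
        hst ξ hξ]
    refine (hP.isSeparated _ hR).ext ?_
    intro Z k hk
    have hk' : P.map (k ≫ (EtCoh.bc f).map j).op s = P.map (k ≫ (EtCoh.bc f).map j).op t := hk
    rw [op_comp, P.map_comp, ConcreteCategory.comp_apply, ConcreteCategory.comp_apply] at hk'
    exact hk'
  rw [← hu', ← (Scheme.pointSmallEtale η).toPresheafFiber_w_apply j u' ((EtCoh.bc f).op ⋙ P),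
    ← (Scheme.pointSmallEtale η).toPresheafFiber_w_apply j u' ((EtCoh.bc f).op ⋙ P)]
  exact congrArg _ key

end Groth.Agent.Lib.Helper57.FinStalk
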