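import Groth.Agent.Lib.Helper4.LocConstEt
import Groth.Agent.Lib.Helper4.PullConstComp
import Groth.Agent.Lib.Helper69.EtSplit
import Groth.Agent.Lib.Helper57.FinStalk3

/-!
# Constant sections of constant étale sheaves

Site-level tools for showing that a map out of a constant sheaf is an isomorphism.
-/

set_option autoImplicit false
open CategoryTheory CategoryTheory.Limits AlgebraicGeometry Opposite
universe u

noncomputable section

namespace Groth.Agent.Lib.Helper57.ConstUnit

open Groth.Agent.Lib.Helper4 Groth.Agent.Lib.Helper4.LocConst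

variable (X : Scheme.{u}) (M : AddCommGrpCat.{u + 1})

/-- The constant presheaf. -/
abbrev cP : X.Etaleᵒᵖ ⥤ AddCommGrpCat.{u + 1} := (Functor.const _).obj M

/-- The constant sheaf. -/
abbrev cSh : EtCoh.Ab X := (constantSheaf X.smallEtaleTopology AddCommGrpCat.{u + 1}).obj M

/-- Constant sections of the constant sheaf. -/
def cs (W : X.Etale) : M ⟶ (cSh X M).obj.obj (op W) :=
  (toSheafify X.smallEtaleTopology (cP X M)).app (op W)

variable {X M}

theorem cs_map {W W' : X.Etale} (g : W' ⟶ W) :
    cs X M W ≫ (cSh X M).obj.map g.op = cs X M W' := by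
  have h := (toSheafify X.smallEtaleTopology (cP X M)).naturality g.op
  exact h.symm.trans (Category.id_comp _)

theorem cs_map_apply {W W' : X.Etale} (g : W' ⟶ W) (m : M) :
    (cSh X M).obj.map g.op (cs X M W m) = cs X M W' m := by
  rw [← cs_map g]
  rfl

theorem cs_eq_unit (W : X.Etale) :
    cs X M W = (EtCore.constAdj X).unit.app M ≫
      (cSh X M).obj.map ((EtCore.topIsTerminal X).from W).op := by
  have h1 := toSheafify_adjMap X.smallEtaleTopology (EtCore.topIsTerminal X) (cSh X M)
    ((EtCore.constAdj X).unit.app M)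
  have h2 : adjMap X.smallEtaleTopology (EtCore.topIsTerminal X) (cSh X M)
      ((EtCore.constAdj X).unit.app M) = 𝟙 _ := by
    unfold adjMap
    rw [Equiv.symm_apply_eq]
    exact (Adjunction.homEquiv_id _ _).symm
  rw [h2] at h1
  have h3 : toSheafify X.smallEtaleTopology (cP X M) =
      constMap X.smallEtaleTopology (EtCore.topIsTerminal X) (cSh X M)
        ((EtCore.constAdj X).unit.app M) := by
    rw [← h1]
    exact (Category.comp_id _).symm
  unfold cs
  rw [h3, constMap_app]

/-- Distinct constants give distinct sections over a nonempty scheme. -/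
theorem cs_injective (W : X.Etale) [hW : Nonempty W.left] :
    Function.Injective (cs X M W) := by
  intro m m' h
  by_contra hne
  have hmem := Presheaf.equalizerSieve_mem X.smallEtaleTopology
    (toSheafify X.smallEtaleTopology (cP X M)) (X := op W) m m' h
  have hbot : (⊥ : Sieve W) ∈ X.smallEtaleTopology W := by
    refine X.smallEtaleTopology.superset_covering ?_ hmem
    intro Z g hg
    exact (hne hg).elim
  have := (bot_mem_iff W).1 hbot
  exact this.false hW.some

/-- Every section of a constant sheaf is locally constant. -/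
theorem imageSieve_cs_mem (W : X.Etale) (s : (cSh X M).obj.obj (op W)) :
    Presheaf.imageSieve (toSheafify X.smallEtaleTopology (cP X M)) s ∈
      X.smallEtaleTopology W :=
  Presheaf.imageSieve_mem X.smallEtaleTopology
    (toSheafify X.smallEtaleTopology (cP X M)) (U := op W) s

theorem isOpen_range_left {W W' : X.Etale} (g : W' ⟶ W) : IsOpen (Set.range g.left) := by
  have : Etale W.hom := W.prop
  have : Etale W'.hom := W'.prop
  have hk : Etale (g.left ≫ W.hom) := by
    rw [MorphismProperty.Over.w g]; infer_instance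
  have : Etale g.left := Etale.of_comp g.left W.hom
  exact g.left.isOpenMap.isOpen_range

/-- Over an étale scheme with irreducible underlying space, every section of a constant sheaf is
constant. -/
theorem exists_eq_cs_of_preirreducible (W : X.Etale) [PreirreducibleSpace W.left]
    [hW : Nonempty W.left] (s : (cSh X M).obj.obj (op W)) : ∃ m : M, s = cs X M W m := by
  have hS := imageSieve_cs_mem W s
  obtain ⟨W₀, g₀, t₀, hg₀, ht₀⟩ := (OverEt.mem_iff_forall_exists W _).1 hS hW.some
  obtain ⟨m₀, hm₀⟩ := hg₀
  replace hm₀ : cs X M W₀ m₀ = (cSh X M).obj.map g₀.op s := hm₀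
  refine ⟨m₀, ?_⟩
  apply (Groth.Agent.Lib.Helper69.EtSplit.isSheafFor_forget (cSh X M) _ hS).isSeparatedFor.ext
  intro W'' g hg
  obtain ⟨m, hm⟩ := hg
  replace hm : cs X M W'' m = (cSh X M).obj.map g.op s := hm
  change (cSh X M).obj.map g.op s = (cSh X M).obj.map g.op (cs X M W m₀)
  rw [cs_map_apply]
  by_cases hne : Nonempty W''.left
  · obtain ⟨w''⟩ := hne
    have hne1 : (Set.range g.left).Nonempty := ⟨_, ⟨w'', rfl⟩⟩
    have hne2 : (Set.range g₀.left).Nonempty := ⟨_, ⟨t₀, rfl⟩⟩
    obtain ⟨_, ⟨w, rfl⟩, ⟨w', hw'⟩⟩ := nonempty_preirreducible_inter (isOpen_range_left g)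
      (isOpen_range_left g₀) hne1 hne2
    obtain ⟨Z, p₁, p₂, z, hcomm, -⟩ := FinStalk.exists_pullback_pt g g₀ w w' hw'.symm
    haveI : Nonempty Z.left := ⟨z⟩
    have hZ : cs X M Z m = cs X M Z m₀ := by
      have e1 : cs X M Z m = (cSh X M).obj.map p₁.op ((cSh X M).obj.map g.op s) := by
        rw [← hm]; exact (cs_map_apply p₁ m).symm
      have e2 : cs X M Z m₀ = (cSh X M).obj.map p₂.op ((cSh X M).obj.map g₀.op s) := by
        rw [← hm₀]; exact (cs_map_apply p₂ m₀).symm
      rw [e1, e2, ← ConcreteCategory.comp_apply, ← ConcreteCategory.comp_apply,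
        ← Functor.map_comp, ← Functor.map_comp, ← op_comp, ← op_comp, hcomm]
    have hmm : m = m₀ := cs_injective Z hZ
    rw [← hm, hmm]
  · haveI : IsEmpty W''.left := not_nonempty_iff.mp hne
    have := Groth.Agent.Lib.Helper69.EtSplit.subsingleton_of_isEmpty (cSh X M) W''
    exact Subsingleton.elim (α := (cSh X M).obj.obj (op W'')) _ _

/-- Criterion for a morphism out of a constant sheaf to be an isomorphism. -/
theorem isIso_of_cs {F : EtCoh.Ab X} (φ : cSh X M ⟶ F)
    (hinj : ∀ (V : X.Etale) [Nonempty V.left] (m : M), φ.hom.app (op V) (cs X M V m) = 0 → m = 0)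
    (hsurj : ∀ (V : X.Etale) (s : F.obj.obj (op V)) (v : V.left),
      ∃ (V' : X.Etale) (i : V' ⟶ V) (v' : V'.left), i.left v' = v ∧
        ∃ m : M, F.obj.map i.op s = φ.hom.app (op V') (cs X M V' m)) :
    IsIso φ := by
  set a : M ⟶ F.obj.obj (op (EtCoh.top X)) :=
    ((EtCore.constAdj X).homEquiv M F) φ with ha
  have hφ : φ = adjMap X.smallEtaleTopology (EtCore.topIsTerminal X) F a := by
    unfold adjMap
    rw [ha, Equiv.symm_apply_apply]
  have hcm : ∀ (V : X.Etale) (m : M),
      (constMap X.smallEtaleTopology (EtCore.topIsTerminal X) F a).app (op V) m =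
        φ.hom.app (op V) (cs X M V m) := by
    intro V m
    rw [constMap_app, cs_eq_unit]
    have h1 : a = (EtCore.constAdj X).unit.app M ≫ φ.hom.app (op (EtCoh.top X)) := by
      rw [ha, Adjunction.homEquiv_unit]
      rfl
    rw [h1]
    have h2 := φ.hom.naturality ((EtCore.topIsTerminal X).from V).op
    simp only [ConcreteCategory.comp_apply]
    exact (congrArg (fun k => k ((EtCore.constAdj X).unit.app M m)) h2).symm
  rw [hφ, isIso_adjMap_iff]
  constructor
  · constructor
    intro V x y hxy
    by_cases hxy' : x = y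
    · rw [hxy']
      simp
    · have hem : IsEmpty (unop V).left := by
        by_contra hne
        rw [not_isEmpty_iff] at hne
        apply hxy'
        have h3 := hinj (unop V) (x - y) (by
          have e1 := hcm (unop V) x
          have e2 := hcm (unop V) y
          rw [map_sub, map_sub, ← e1, ← e2]
          exact sub_eq_zero.mpr hxy)
        exact sub_eq_zero.mp h3
      have hbot : (⊥ : Sieve (unop V)) ∈ X.smallEtaleTopology (unop V) :=
        (bot_mem_iff (unop V)).2 hem
      exact X.smallEtaleTopology.superset_covering bot_le hbot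
  · constructor
    intro V s
    rw [OverEt.mem_iff_forall_exists]
    intro v
    obtain ⟨V', i, v', hv', m, hm⟩ := hsurj V s v
    refine ⟨V', i, v', ⟨m, ?_⟩, hv'⟩
    rw [hcm V' m]
    exact hm.symm

end Groth.Agent.Lib.Helper57.ConstUnit
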