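import Groth.Agent.Lib.Helper57.ConstUnit1

/-!
# The unit `M_X ⟶ j_* j^* M_X` for constant sheaves: the formal core
-/

set_option autoImplicit false
open CategoryTheory CategoryTheory.Limits AlgebraicGeometry Opposite
universe u

noncomputable section

namespace Groth.Agent.Lib.Helper57.ConstUnit

open Groth.Agent.Lib.Helper4 Groth.Agent.Lib.Helper4.LocConst Groth.Agent.Lib.Helper4.PullConstComp

variable {U X : Scheme.{u}} (j : U ⟶ X) (M : AddCommGrpCat.{u + 1})

/-- The comparison map `M_X ⟶ j_* M_U`. -/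
def φ : cSh X M ⟶ (EtCoh.push j).obj (cSh U M) :=
  (EtCoh.pullPushAdj j).unit.app (cSh X M) ≫ (EtCoh.push j).map ((EtCore.pullConstIso j).hom.app M)

theorem isIso_unit_iff : IsIso ((EtCoh.pullPushAdj j).unit.app (cSh X M)) ↔ IsIso (φ j M) := by
  unfold φ
  constructor
  · intro h
    infer_instance
  · intro h
    exact IsIso.of_isIso_comp_right _ ((EtCoh.push j).map ((EtCore.pullConstIso j).hom.app M))

theorem φ_top (m : M) :
    (φ j M).hom.app (op (EtCoh.top X)) ((EtCore.constAdj X).unit.app M m) =
      (cSh U M).obj.map (EtCore.bcTopIso j).hom.op ((EtCore.constAdj U).unit.app M m) := by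
  have h1 := pullConstIso_char j M
  have h2 := congrArg (fun k => k m) h1
  simp only [ConcreteCategory.comp_apply] at h2
  -- unfold σ
  have h3 : ∀ x, σ j (cSh X M) x = ((EtCoh.pull j).obj (cSh X M)).obj.map (EtCore.bcTopIso j).inv.op
      (((EtCoh.pullPushAdj j).unit.app (cSh X M)).hom.app (op (EtCoh.top X)) x) := fun x => rfl
  rw [h3] at h2
  have h4 := ((EtCore.pullConstIso j).hom.app M).hom.naturality (EtCore.bcTopIso j).inv.op
  have h5 := congrArg (fun k => k (((EtCoh.pullPushAdj j).unit.app (cSh X M)).hom.app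
    (op (EtCoh.top X)) ((EtCore.constAdj X).unit.app M m))) h4
  simp only [ConcreteCategory.comp_apply] at h5
  have h6 : (cSh U M).obj.map (EtCore.bcTopIso j).inv.op
      ((φ j M).hom.app (op (EtCoh.top X)) ((EtCore.constAdj X).unit.app M m)) =
      (EtCore.constAdj U).unit.app M m := by
    rw [← h2]
    exact h5.symm
  have h7 : ∀ y : (cSh U M).obj.obj (op ((EtCoh.bc j).obj (EtCoh.top X))),
      (cSh U M).obj.map (EtCore.bcTopIso j).hom.op
        ((cSh U M).obj.map (EtCore.bcTopIso j).inv.op y) = y := by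
    intro y
    rw [← ConcreteCategory.comp_apply, ← Functor.map_comp, ← op_comp, Iso.hom_inv_id, op_id,
      CategoryTheory.Functor.map_id]
    rfl
  rw [← h6]
  exact (h7 _).symm

theorem φ_cs (V : X.Etale) (m : M) :
    (φ j M).hom.app (op V) (cs X M V m) = cs U M ((EtCoh.bc j).obj V) m := by
  rw [cs_eq_unit, cs_eq_unit]
  simp only [ConcreteCategory.comp_apply]
  have h1 := (φ j M).hom.naturality ((EtCore.topIsTerminal X).from V).op
  have h2 := congrArg (fun k => k ((EtCore.constAdj X).unit.app M m)) h1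
  simp only [ConcreteCategory.comp_apply] at h2
  rw [h2, φ_top]
  change (cSh U M).obj.map ((EtCoh.bc j).map ((EtCore.topIsTerminal X).from V)).op _ = _
  rw [← ConcreteCategory.comp_apply, ← Functor.map_comp, ← op_comp]
  have h3 : (EtCoh.bc j).map ((EtCore.topIsTerminal X).from V) ≫ (EtCore.bcTopIso j).hom =
      (EtCore.topIsTerminal U).from ((EtCoh.bc j).obj V) := (EtCore.topIsTerminal U).hom_ext _ _
  rw [h3]

/-- The formal core: if base change along `j` preserves nonemptiness and every point of an étale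
`X`-scheme has an étale neighbourhood whose base change is irreducible, then the unit
`M_X ⟶ j_* j^* M_X` is an isomorphism. -/
theorem isIso_unit_cSh
    (ha : ∀ V : X.Etale, Nonempty V.left → Nonempty ((EtCoh.bc j).obj V).left)
    (hb : ∀ (V : X.Etale) (v : V.left), ∃ (V' : X.Etale) (i : V' ⟶ V) (v' : V'.left),
      i.left v' = v ∧ PreirreducibleSpace ((EtCoh.bc j).obj V').left) :
    IsIso ((EtCoh.pullPushAdj j).unit.app (cSh X M)) := by
  rw [isIso_unit_iff]
  apply isIso_of_cs
  · intro V hV m hm
    haveI := ha V hV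
    rw [φ_cs] at hm
    have : cs U M ((EtCoh.bc j).obj V) m = cs U M ((EtCoh.bc j).obj V) 0 := by
      rw [hm]
      exact (map_zero _).symm
    exact cs_injective _ this
  · intro V s v
    obtain ⟨V', i, v', hv', hirr⟩ := hb V v
    haveI := hirr
    haveI := ha V' ⟨v'⟩
    obtain ⟨m, hm⟩ := exists_eq_cs_of_preirreducible ((EtCoh.bc j).obj V')
      (((EtCoh.push j).obj (cSh U M)).obj.map i.op s)
    exact ⟨V', i, v', hv', m, by rw [φ_cs]; exact hm⟩

end Groth.Agent.Lib.Helper57.ConstUnit
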