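import Groth.Agent.Lib.Helper57.ConstUnit2
import Groth.Agent.Lib.Helper87.LocIrredScheme
import Groth.Agent.S0288
import Groth.Agent.S4997

/-!
# The unit `M_X ⟶ j_* j^* M_X` over an integral normal scheme
-/

set_option autoImplicit false
open CategoryTheory CategoryTheory.Limits AlgebraicGeometry Opposite TopologicalSpace
universe u

noncomputable section

namespace Groth.Agent.Lib.Helper57.ConstUnit

open Groth.Agent.Lib.Helper4 Groth.Agent.Lib.Helper79

theorem preirreducibleSpace_of_isOpenEmbedding {A B : Type*} [TopologicalSpace A]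
    [TopologicalSpace B] [PreirreducibleSpace B] (f : A → B) (hf : Topology.IsOpenEmbedding f) :
    PreirreducibleSpace A := by
  constructor
  have h := (PreirreducibleSpace.isPreirreducible_univ (X := B)).preimage hf
  rwa [Set.preimage_univ] at h

variable {X : Scheme.{u}} [IsIntegral X]

/-- Étale schemes over an integral normal scheme are locally irreducible. -/
theorem exists_irreducible_nhd (hN : ∀ x : X, IsIntegrallyClosed (X.presheaf.stalk x))
    (V : X.Etale) (v : V.left) :
    ∃ W : V.left.Opens, v ∈ W ∧ IrreducibleSpace W := by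
  let f : V.left ⟶ X := V.hom
  have : Etale f := V.prop
  obtain ⟨W, hWo, hWi, hvW⟩ :=
    Groth.Agent.Lib.Helper87.LocIrred.exists_irreducible_nhd_of_etale f
      (fun y => by
        haveI := hN y
        exact Groth.Agent.S0288.isGeomUnibranch_of_normal _) v
  exact ⟨⟨W, hWo⟩, hvW, Subtype.irreducibleSpace hWi⟩

/-- The open-immersion case. -/
theorem isIso_unit_of_open (hN : ∀ x : X, IsIntegrallyClosed (X.presheaf.stalk x))
    (U : X.Opens) (hU : (U : Set X).Nonempty) (M : AddCommGrpCat.{u + 1}) :
    IsIso ((EtCoh.pullPushAdj U.ι).unit.app (cSh X M)) := by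
  apply isIso_unit_cSh
  · rintro V ⟨v⟩
    let f : V.left ⟶ X := V.hom
    have : Etale f := V.prop
    have hopen : IsOpen (Set.range f) := f.isOpenMap.isOpen_range
    obtain ⟨_, ⟨v', rfl⟩, hv'⟩ := nonempty_preirreducible_inter hopen U.isOpen
      ⟨_, ⟨v, rfl⟩⟩ hU
    obtain ⟨z, -, -⟩ := Scheme.Pullback.exists_preimage_pullback (f := f) (g := U.ι) v'
      ⟨_, hv'⟩ rfl
    exact ⟨z⟩
  · intro V v
    obtain ⟨W, hvW, hW⟩ := exists_irreducible_nhd hN V v
    refine ⟨EtSiteGlue.openObj V W, EtSiteGlue.openι V W, ⟨v, hvW⟩, rfl, ?_⟩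
    haveI : PreirreducibleSpace W := hW.toPreirreducibleSpace
    exact preirreducibleSpace_of_isOpenEmbedding
      (pullback.fst (W.ι ≫ V.hom) U.ι) (pullback.fst (W.ι ≫ V.hom) U.ι).isOpenEmbedding

/-- The generic-point case. -/
theorem isIso_unit_of_pointlike (hN : ∀ x : X, IsIntegrallyClosed (X.presheaf.stalk x))
    {S : Scheme.{u}} (g : S ⟶ X) [UniversallyInjective g] [hS : Nonempty S]
    (hg : ∀ s : S, g s = genericPoint X) (M : AddCommGrpCat.{u + 1}) :
    IsIso ((EtCoh.pullPushAdj g).unit.app (cSh X M)) := by
  apply isIso_unit_cSh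
  · rintro V ⟨v⟩
    let f : V.left ⟶ X := V.hom
    have : Etale f := V.prop
    have hopen : IsOpen (Set.range f) := f.isOpenMap.isOpen_range
    have hmem : genericPoint X ∈ Set.range f := by
      rw [(genericPoint_spec X).mem_open_set_iff hopen]
      exact ⟨_, Set.mem_univ _, ⟨v, rfl⟩⟩
    obtain ⟨v', hv'⟩ := hmem
    obtain ⟨z, -, -⟩ := Scheme.Pullback.exists_preimage_pullback (f := f) (g := g) v'
      hS.some (hv'.trans (hg _).symm)
    exact ⟨z⟩
  · intro V v
    obtain ⟨W, hvW, hW⟩ := exists_irreducible_nhd hN V v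
    refine ⟨EtSiteGlue.openObj V W, EtSiteGlue.openι V W, ⟨v, hvW⟩, rfl, ?_⟩
    -- the base change has at most one point
    let f₀ : V.left ⟶ X := V.hom
    have : Etale f₀ := V.prop
    let f : W.toScheme ⟶ X := W.ι ≫ f₀
    haveI : LocallyQuasiFinite f := Groth.Agent.S4997.locallyQuasiFinite_of_etale f
    have hfib : ∀ p : W.toScheme, f p = genericPoint X → p = genericPoint W := by
      intro p hp
      have h1 : genericPoint W ⤳ p := genericPoint_specializes p
      have h2 : f (genericPoint W) = genericPoint X := by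
        have h3 : f (genericPoint W) ⤳ f p := h1.map f.continuous
        rw [hp] at h3
        exact (h3.antisymm (genericPoint_specializes _)).eq
      have hd := f.isDiscrete_preimage_singleton (genericPoint X)
      let a : f ⁻¹' {genericPoint X} := ⟨genericPoint W, h2⟩
      let b : f ⁻¹' {genericPoint X} := ⟨p, hp⟩
      haveI : DiscreteTopology (f ⁻¹' {genericPoint X}) := hd.to_subtype
      have hab : a ⤳ b := (subtype_specializes_iff a b).2 h1
      exact (congrArg Subtype.val hab.eq).symm
    have hsub : Subsingleton ((EtCoh.bc g).obj (EtSiteGlue.openObj V W)).left := by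
      constructor
      intro z z'
      haveI : UniversallyInjective (pullback.fst f g) :=
        MorphismProperty.pullback_fst (P := @UniversallyInjective) f g inferInstance
      have hinj : Function.Injective (pullback.fst f g) := (pullback.fst f g).injective
      apply hinj
      have e1 : ∀ y : ↥(pullback f g), f (pullback.fst f g y) = genericPoint X := by
        intro y
        rw [← Scheme.Hom.comp_apply, pullback.condition, Scheme.Hom.comp_apply]
        exact hg _
      exact (hfib _ (e1 z)).trans (hfib _ (e1 z')).symm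
    exact ⟨fun s t hs ht hsn htn => by
      obtain ⟨x, -, hx⟩ := hsn
      obtain ⟨y, -, hy⟩ := htn
      exact ⟨x, Set.mem_univ _, hx, (Subsingleton.elim y x) ▸ hy⟩⟩

end Groth.Agent.Lib.Helper57.ConstUnit
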