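import Mathlib

/-!
# Closures of disjoint quasi-compact opens in unibranch affine schemes (helper57)

If every local ring of `R` has a prime nilradical (a unique minimal prime), then disjoint
quasi-compact open subsets of `Spec R` have disjoint closures.
-/

set_option autoImplicit false
universe u

open AlgebraicGeometry CategoryTheory TopologicalSpace

namespace Groth.Agent.Lib.Helper57.UnibranchClosure

section Ring

variable {R : Type u} [CommRing R]

theorem not_isNilpotent_of_mem_closure (p : PrimeSpectrum R) (f : R)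
    (hf : p ∈ closure (PrimeSpectrum.basicOpen f : Set (PrimeSpectrum R))) :
    ¬ IsNilpotent (algebraMap R (Localization.AtPrime p.asIdeal) f) := by
  rintro ⟨n, hn⟩
  rw [← map_pow, IsLocalization.map_eq_zero_iff p.asIdeal.primeCompl] at hn
  obtain ⟨t, ht⟩ := hn
  have hpt : p ∈ (PrimeSpectrum.basicOpen (t : R) : Set (PrimeSpectrum R)) := t.2
  obtain ⟨q, hqt, hqf⟩ := mem_closure_iff.mp hf _ (PrimeSpectrum.basicOpen (t : R)).2 hpt
  have h0 : (t : R) * f ^ n ∈ q.asIdeal := by rw [ht]; exact q.asIdeal.zero_mem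
  rcases q.2.mem_or_mem h0 with h | h
  · exact hqt h
  · exact hqf (q.2.mem_of_pow_mem n h)

theorem not_mem_closure_inter (p : PrimeSpectrum R)
    (hp : (nilradical (Localization.AtPrime p.asIdeal)).IsPrime) (f g : R)
    (hfg : IsNilpotent (f * g))
    (hf : p ∈ closure (PrimeSpectrum.basicOpen f : Set (PrimeSpectrum R)))
    (hg : p ∈ closure (PrimeSpectrum.basicOpen g : Set (PrimeSpectrum R))) : False := by
  have h1 := not_isNilpotent_of_mem_closure p f hf
  have h2 := not_isNilpotent_of_mem_closure p g hg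
  have h3 : IsNilpotent (algebraMap R (Localization.AtPrime p.asIdeal) (f * g)) := hfg.map _
  rw [map_mul] at h3
  rw [← mem_nilradical] at h1 h2 h3
  rcases hp.mem_or_mem h3 with h | h
  · exact h1 h
  · exact h2 h

theorem disjoint_closure_of_disjoint
    (hR : ∀ p : PrimeSpectrum R, (nilradical (Localization.AtPrime p.asIdeal)).IsPrime)
    (s₁ s₂ : Set (PrimeSpectrum R)) (h₁ : IsCompact s₁ ∧ IsOpen s₁) (h₂ : IsCompact s₂ ∧ IsOpen s₂)
    (hd : Disjoint s₁ s₂) : Disjoint (closure s₁) (closure s₂) := by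
  rw [isCompact_open_iff_eq_finite_iUnion_of_isTopologicalBasis _
    PrimeSpectrum.isTopologicalBasis_basic_opens PrimeSpectrum.isCompact_basicOpen] at h₁ h₂
  obtain ⟨t₁, ht₁, rfl⟩ := h₁
  obtain ⟨t₂, ht₂, rfl⟩ := h₂
  rw [ht₁.closure_biUnion, ht₂.closure_biUnion]
  simp only [Set.disjoint_iUnion_left, Set.disjoint_iUnion_right]
  intro g hg f hf
  rw [Set.disjoint_left]
  intro p hpf hpg
  refine not_mem_closure_inter p (hR p) f g ?_ hpf hpg
  have hd' : Disjoint (PrimeSpectrum.basicOpen f : Set (PrimeSpectrum R))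
      (PrimeSpectrum.basicOpen g : Set (PrimeSpectrum R)) := by
    refine hd.mono ?_ ?_
    · intro x hx
      exact Set.mem_biUnion hf hx
    · intro x hx
      exact Set.mem_biUnion hg hx
  rw [← PrimeSpectrum.basicOpen_eq_bot_iff, PrimeSpectrum.basicOpen_mul]
  rw [TopologicalSpace.Opens.coe_disjoint] at hd'
  exact disjoint_iff.mp hd'

end Ring

end Groth.Agent.Lib.Helper57.UnibranchClosure
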