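import Groth.Agent.Lib.Helper57.ConstVal
import Groth.Agent.Lib.Helper57.ConstUnit3
import Groth.Agent.Lib.Helper57.UnibranchClosure
import Groth.Agent.Lib.Helper4.ExtZeroBC

/-!
# The unit `M_X ⟶ j_* j^* M_X` for a quasi-compact dense open of a normal scheme (helper57)
-/

set_option autoImplicit false
open CategoryTheory CategoryTheory.Limits AlgebraicGeometry Opposite TopologicalSpace
universe u

noncomputable section

namespace Groth.Agent.Lib.Helper57.ConstUnit

open Groth.Agent.Lib.Helper4 Groth.Agent.Lib.Helper79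

/-- Topological core: a locally constant function with finite range on a dense open subspace whose
fibres have pairwise disjoint closures is, locally on the ambient space, constant. -/
theorem exists_clopen_nhd {A B N : Type*} [TopologicalSpace A] [TopologicalSpace B]
    (p : B → A) (hd : Dense (Set.range p)) (φ : B → N)
    (hfin : (Set.range φ).Finite)
    (hdisj : ∀ m m' : N, m ≠ m' → Disjoint (closure (p '' (φ ⁻¹' {m}))) (closure (p '' (φ ⁻¹' {m'}))))
    (a : A) :
    ∃ C : Set A, IsClopen C ∧ a ∈ C ∧ ∃ m : N, ∀ b : B, p b ∈ C → φ b = m := by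
  classical
  have hcover : (⋃ m ∈ Set.range φ, closure (p '' (φ ⁻¹' {m}))) = Set.univ := by
    rw [← hfin.closure_biUnion, ← Set.image_iUnion₂]
    have h1 : (⋃ m ∈ Set.range φ, φ ⁻¹' {m}) = Set.univ := by
      ext b
      simp
    rw [h1, Set.image_univ]
    exact hd.closure_eq
  have ha : a ∈ ⋃ m ∈ Set.range φ, closure (p '' (φ ⁻¹' {m})) := by rw [hcover]; trivial
  simp only [Set.mem_iUnion] at ha
  obtain ⟨m₀, hm₀, ham₀⟩ := ha
  refine ⟨closure (p '' (φ ⁻¹' {m₀})), ⟨isClosed_closure, ?_⟩, ham₀, m₀, ?_⟩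
  · have hcompl : (closure (p '' (φ ⁻¹' {m₀})))ᶜ =
        ⋃ m ∈ (Set.range φ \ {m₀}), closure (p '' (φ ⁻¹' {m})) := by
      ext x
      simp only [Set.mem_compl_iff, Set.mem_iUnion, Set.mem_sdiff, Set.mem_singleton_iff]
      constructor
      · intro hx
        have hx' : x ∈ ⋃ m ∈ Set.range φ, closure (p '' (φ ⁻¹' {m})) := by rw [hcover]; trivial
        simp only [Set.mem_iUnion] at hx'
        obtain ⟨m, hm, hxm⟩ := hx'
        refine ⟨m, ⟨hm, ?_⟩, hxm⟩
        rintro rfl
        exact hx hxm
      · rintro ⟨m, ⟨-, hne⟩, hxm⟩ hx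
        exact Set.disjoint_left.mp (hdisj m m₀ hne) hxm hx
    rw [← isClosed_compl_iff, hcompl]
    exact (hfin.subset Set.sdiff_subset).isClosed_biUnion fun _ _ => isClosed_closure
  · intro b hb
    by_contra hne
    have h1 : p b ∈ closure (p '' (φ ⁻¹' {φ b})) := subset_closure ⟨b, rfl, rfl⟩
    exact Set.disjoint_left.mp (hdisj (φ b) m₀ hne) h1 hb

theorem nilradical_isPrime_of_hasUniqueMinimalPrime (A : Type u) [CommRing A]
    (h : CAlgX.HasUniqueMinimalPrime A) : (nilradical A).IsPrime := by
  obtain ⟨P, hP, hu⟩ := h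
  have h1 : nilradical A = P := by
    have h2 : (⊥ : Ideal A).radical = sInf (⊥ : Ideal A).minimalPrimes :=
      (Ideal.sInf_minimalPrimes (I := (⊥ : Ideal A))).symm
    have h3 : (⊥ : Ideal A).minimalPrimes = {P} := by
      ext Q
      constructor
      · intro hQ
        exact hu Q hQ
      · rintro rfl
        exact hP
    show (⊥ : Ideal A).radical = P
    rw [h2, h3, sInf_singleton]
  rw [h1]
  exact hP.1.1

variable {U X : Scheme.{u}} (j : U ⟶ X) (M : AddCommGrpCat.{u + 1})

/-- The formal core, second form: it suffices that sections of `M_U` over base changes are locally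
(on `X`) constant. -/
theorem isIso_unit_cSh'
    (ha : ∀ V : X.Etale, Nonempty V.left → Nonempty ((EtCoh.bc j).obj V).left)
    (hb : ∀ (V : X.Etale) (s : ((EtCoh.push j).obj (cSh U M)).obj.obj (op V)) (v : V.left),
      ∃ (V' : X.Etale) (i : V' ⟶ V) (v' : V'.left), i.left v' = v ∧ ∃ m : M,
        ((EtCoh.push j).obj (cSh U M)).obj.map i.op s = cs U M ((EtCoh.bc j).obj V') m) :
    IsIso ((EtCoh.pullPushAdj j).unit.app (cSh X M)) := by
  rw [isIso_unit_iff]
  apply isIso_of_cs
  · intro V hV m hm
    haveI := ha V hV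
    rw [φ_cs] at hm
    have : cs U M ((EtCoh.bc j).obj V) m = cs U M ((EtCoh.bc j).obj V) 0 := by
      rw [hm]
      exact (map_zero _).symm
    exact cs_injective _ this
  · intro V s v
    obtain ⟨V', i, v', hv', m, hm⟩ := hb V s v
    exact ⟨V', i, v', hv', m, by rw [φ_cs]; exact hm⟩

end Groth.Agent.Lib.Helper57.ConstUnit
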