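import Groth.Agent.Lib.Helper57.ConstUnit4

/-!
# The unit `M_X ⟶ j_* j^* M_X` for a quasi-compact dense open of a normal scheme: main theorem
-/

set_option autoImplicit false
open CategoryTheory CategoryTheory.Limits AlgebraicGeometry Opposite TopologicalSpace
universe u

noncomputable section

namespace Groth.Agent.Lib.Helper57.ConstUnit

open Groth.Agent.Lib.Helper4 Groth.Agent.Lib.Helper79
open Groth.Agent.Lib.Helper87.LocIrred Groth.Agent.Lib.Helper87.GeomUnibranchSmooth

/-- Local rings of affine schemes étale over a normal scheme have prime nilradical. -/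
theorem nilradical_isPrime_of_etale {X : Scheme.{u}}
    (hN : ∀ x : X, IsDomain (X.presheaf.stalk x) ∧ IsIntegrallyClosed (X.presheaf.stalk x))
    (R : CommRingCat.{u}) (g : Spec R ⟶ X) [Etale g] (q : PrimeSpectrum R) :
    (nilradical (Localization.AtPrime q.asIdeal)).IsPrime := by
  apply nilradical_isPrime_of_hasUniqueMinimalPrime
  apply hasUniqueMinimalPrime_of_pgu
  have hq : (q : ↥(Spec R)) ∈ g.smoothLocus := by
    rw [Scheme.Hom.smoothLocus_eq_top]
    trivial
  have h1 : PGU ((Spec R).presheaf.stalk q) := by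
    refine (stalk_pgu_iff_of_smoothAt g q hq).mpr ⟨inferInstance, ?_⟩
    haveI := (hN (g.base q)).1
    haveI := (hN (g.base q)).2
    exact Groth.Agent.S0288.isGeomUnibranch_of_normal _
  exact PGU.of_ringEquiv _ _ (StructureSheaf.stalkIso R q).toRingEquiv.symm h1

/-- **Main theorem**: for a quasi-compact open immersion `j : U ⟶ X` with dense image into a normal
scheme, the unit `M_X ⟶ j_* j^* M_X` is an isomorphism. -/
theorem isIso_unit_of_dense_qc_open {U X : Scheme.{u}} (j : U ⟶ X) [IsOpenImmersion j]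
    [QuasiCompact j] (hj : Dense (Set.range j))
    (hN : ∀ x : X, IsDomain (X.presheaf.stalk x) ∧ IsIntegrallyClosed (X.presheaf.stalk x))
    (M : AddCommGrpCat.{u + 1}) :
    IsIso ((EtCoh.pullPushAdj j).unit.app (cSh X M)) := by
  apply isIso_unit_cSh'
  · rintro V ⟨v⟩
    let f : V.left ⟶ X := V.hom
    have : Etale f := V.prop
    have hopen : IsOpen (Set.range f) := f.isOpenMap.isOpen_range
    obtain ⟨_, ⟨v', rfl⟩, ⟨u, hu⟩⟩ := hj.inter_open_nonempty _ hopen ⟨_, ⟨v, rfl⟩⟩
    obtain ⟨z, -, -⟩ := Scheme.Pullback.exists_preimage_pullback (f := f) (g := j) v' u hu.symm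
    exact ⟨z⟩
  · intro V s v
    let f : V.left ⟶ X := V.hom
    have hf : Etale f := V.prop
    obtain ⟨_, ⟨W, hW : IsAffineOpen W, rfl⟩, hvW, -⟩ :=
      V.left.isBasis_affineOpens.exists_subset_of_mem_open (Set.mem_univ v) isOpen_univ
    let R : CommRingCat.{u} := Γ(V.left, W)
    let g : Spec R ⟶ X := hW.fromSpec ≫ f
    have hg : Etale g := inferInstance
    let V₀ : X.Etale := Scheme.Etale.mk g
    let i₀ : V₀ ⟶ V := MorphismProperty.Over.homMk hW.fromSpec rfl trivial
    let B : U.Etale := (EtCoh.bc j).obj V₀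
    let p : B.left ⟶ Spec R := pullback.fst g j
    have hpo : IsOpenImmersion p := inferInstanceAs (IsOpenImmersion (pullback.fst g j))
    have hpq : QuasiCompact p := inferInstanceAs (QuasiCompact (pullback.fst g j))
    have hBc : CompactSpace B.left := QuasiCompact.compactSpace_of_compactSpace p
    let s₀ : (cSh U M).obj.obj (op B) := ((EtCoh.push j).obj (cSh U M)).obj.map i₀.op s
    have hφ : IsLocallyConstant (val B s₀) := isLocallyConstant_val B s₀
    have hdense : Dense (Set.range p) := by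
      have h1 : Set.range p = g ⁻¹' Set.range j := Scheme.Pullback.range_fst g j
      rw [h1]
      exact hj.preimage g.isOpenMap
    have hR : ∀ q : PrimeSpectrum R, (nilradical (Localization.AtPrime q.asIdeal)).IsPrime :=
      fun q => nilradical_isPrime_of_etale hN R g q
    let v₀ : ↥(Spec R) := hW.primeIdealOf ⟨v, hvW⟩
    have hv₀ : hW.fromSpec v₀ = v := hW.fromSpec_primeIdealOf ⟨v, hvW⟩
    have hdisj : ∀ m m' : M, m ≠ m' →
        Disjoint (closure (p '' (val B s₀ ⁻¹' {m}))) (closure (p '' (val B s₀ ⁻¹' {m'}))) := by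
      intro m m' hne
      refine UnibranchClosure.disjoint_closure_of_disjoint hR _ _ ⟨?_, ?_⟩ ⟨?_, ?_⟩ ?_
      · exact ((hφ.isClosed_fiber m).isCompact).image p.continuous
      · exact p.isOpenEmbedding.isOpenMap _ (hφ.isOpen_fiber m)
      · exact ((hφ.isClosed_fiber m').isCompact).image p.continuous
      · exact p.isOpenEmbedding.isOpenMap _ (hφ.isOpen_fiber m')
      · refine Set.disjoint_left.mpr ?_
        rintro _ ⟨b, hb, rfl⟩ ⟨b', hb', hbb'⟩
        have := p.isOpenEmbedding.injective hbb'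
        subst this
        exact hne (hb.symm.trans hb')
    obtain ⟨C, hC, hvC, m, hm⟩ := exists_clopen_nhd p hdense (val B s₀) hφ.range_finite hdisj v₀
    let C' : (Spec R).Opens := ⟨C, hC.2⟩
    let V' : X.Etale := EtSiteGlue.openObj V₀ C'
    let i₁ : V' ⟶ V₀ := EtSiteGlue.openι V₀ C'
    refine ⟨V', i₁ ≫ i₀, ⟨v₀, hvC⟩, hv₀, m, ?_⟩
    have e1 : ((EtCoh.push j).obj (cSh U M)).obj.map (i₁ ≫ i₀).op s =
        (cSh U M).obj.map ((EtCoh.bc j).map i₁).op s₀ := by
      rw [op_comp, Functor.map_comp]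
      rfl
    rw [e1]
    apply eq_cs_of_val_eq
    intro z
    rw [val_map]
    apply hm
    have h2 := ExtZeroBC.bc_map_fst j i₁
    have h3 : p (((EtCoh.bc j).map i₁).left z) = (pullback.fst V'.hom j ≫ i₁.left) z := by
      rw [← h2]
      rfl
    rw [h3, Scheme.Hom.comp_apply]
    exact (pullback.fst V'.hom j z).2

end Groth.Agent.Lib.Helper57.ConstUnit
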