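import Groth.Agent.Lib.Helper57.ConstUnit1

/-!
# The value function of a section of a constant étale sheaf (helper57)

A section `s` of the constant sheaf `M_X` over an étale `X`-scheme `W` has a well defined value
`val W s w : M` at every point `w` of `W`; this function is locally constant, compatible with
restriction, and `s` is the constant section `m` as soon as `val` is constantly `m`.
-/

set_option autoImplicit false
open CategoryTheory CategoryTheory.Limits AlgebraicGeometry Opposite
universe u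

noncomputable section

namespace Groth.Agent.Lib.Helper57.ConstUnit

open Groth.Agent.Lib.Helper4 Groth.Agent.Lib.Helper4.LocConst

variable {X : Scheme.{u}} {M : AddCommGrpCat.{u + 1}}

/-- `s` has value `m` at `w`: on some étale neighbourhood of `w` it is the constant section `m`. -/
def HasVal (W : X.Etale) (s : (cSh X M).obj.obj (op W)) (w : W.left) (m : M) : Prop :=
  ∃ (W₀ : X.Etale) (g : W₀ ⟶ W) (t : W₀.left), g.left t = w ∧
    (cSh X M).obj.map g.op s = cs X M W₀ m

theorem exists_hasVal (W : X.Etale) (s : (cSh X M).obj.obj (op W)) (w : W.left) :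
    ∃ m, HasVal W s w m := by
  have hS := imageSieve_cs_mem W s
  obtain ⟨W₀, g₀, t₀, hg₀, ht₀⟩ := (OverEt.mem_iff_forall_exists W _).1 hS w
  obtain ⟨m₀, hm₀⟩ := hg₀
  exact ⟨m₀, W₀, g₀, t₀, ht₀, hm₀.symm⟩

theorem HasVal.unique {W : X.Etale} {s : (cSh X M).obj.obj (op W)} {w : W.left} {m m' : M}
    (h : HasVal W s w m) (h' : HasVal W s w m') : m = m' := by
  obtain ⟨W₀, g₀, t₀, ht₀, hm₀⟩ := h
  obtain ⟨W₁, g₁, t₁, ht₁, hm₁⟩ := h'
  obtain ⟨Z, p₁, p₂, z, hcomm, -⟩ := FinStalk.exists_pullback_pt g₀ g₁ t₀ t₁ (ht₀.trans ht₁.symm)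
  haveI : Nonempty Z.left := ⟨z⟩
  apply cs_injective Z
  have e1 : cs X M Z m = (cSh X M).obj.map p₁.op ((cSh X M).obj.map g₀.op s) := by
    rw [hm₀]; exact (cs_map_apply p₁ m).symm
  have e2 : cs X M Z m' = (cSh X M).obj.map p₂.op ((cSh X M).obj.map g₁.op s) := by
    rw [hm₁]; exact (cs_map_apply p₂ m').symm
  rw [e1, e2, ← ConcreteCategory.comp_apply, ← ConcreteCategory.comp_apply,
    ← Functor.map_comp, ← Functor.map_comp, ← op_comp, ← op_comp, hcomm]

/-- The value of a section of a constant sheaf at a point. -/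
def val (W : X.Etale) (s : (cSh X M).obj.obj (op W)) (w : W.left) : M :=
  (exists_hasVal W s w).choose

theorem hasVal_val (W : X.Etale) (s : (cSh X M).obj.obj (op W)) (w : W.left) :
    HasVal W s w (val W s w) := (exists_hasVal W s w).choose_spec

theorem val_eq_iff {W : X.Etale} {s : (cSh X M).obj.obj (op W)} {w : W.left} {m : M} :
    val W s w = m ↔ HasVal W s w m :=
  ⟨fun h => h ▸ hasVal_val W s w, fun h => (hasVal_val W s w).unique h⟩

theorem val_eq_of {W W₀ : X.Etale} (s : (cSh X M).obj.obj (op W)) (g : W₀ ⟶ W) (m : M)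
    (hm : (cSh X M).obj.map g.op s = cs X M W₀ m) (t : W₀.left) :
    val W s (g.left t) = m :=
  val_eq_iff.mpr ⟨W₀, g, t, rfl, hm⟩

theorem val_cs (W : X.Etale) (m : M) (w : W.left) : val W (cs X M W m) w = m := by
  have h := val_eq_of (cs X M W m) (𝟙 W) m (by
    rw [cs_map_apply]) w
  exact h

/-- Compatibility of the value function with restriction. -/
theorem val_map {W W' : X.Etale} (g : W' ⟶ W) (s : (cSh X M).obj.obj (op W)) (w' : W'.left) :
    val W' ((cSh X M).obj.map g.op s) w' = val W s (g.left w') := by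
  obtain ⟨W₀, g₀, t₀, ht₀, hm₀⟩ := hasVal_val W s (g.left w')
  obtain ⟨Z, p₁, p₂, z, hcomm, hz⟩ := FinStalk.exists_pullback_pt g₀ g t₀ w' ht₀
  rw [val_eq_iff]
  refine ⟨Z, p₂, z, hz, ?_⟩
  rw [← ConcreteCategory.comp_apply, ← Functor.map_comp, ← op_comp, ← hcomm, op_comp,
    Functor.map_comp, ConcreteCategory.comp_apply, hm₀, cs_map_apply]

/-- The value function is locally constant. -/
theorem isLocallyConstant_val (W : X.Etale) (s : (cSh X M).obj.obj (op W)) :
    IsLocallyConstant (val W s) := by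
  rw [IsLocallyConstant.iff_exists_open]
  intro w
  obtain ⟨W₀, g₀, t₀, ht₀, hm₀⟩ := hasVal_val W s w
  refine ⟨Set.range g₀.left, isOpen_range_left g₀, ⟨t₀, ht₀⟩, ?_⟩
  rintro _ ⟨t, rfl⟩
  exact val_eq_of s g₀ _ hm₀ t

/-- A section whose value function is constantly `m` is the constant section `m`. -/
theorem eq_cs_of_val_eq (W : X.Etale) (s : (cSh X M).obj.obj (op W)) (m : M)
    (h : ∀ w, val W s w = m) : s = cs X M W m := by
  have hS := imageSieve_cs_mem W s
  apply (Groth.Agent.Lib.Helper69.EtSplit.isSheafFor_forget (cSh X M) _ hS).isSeparatedFor.ext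
  intro W'' g hg
  obtain ⟨m', hm'⟩ := hg
  replace hm' : cs X M W'' m' = (cSh X M).obj.map g.op s := hm'
  change (cSh X M).obj.map g.op s = (cSh X M).obj.map g.op (cs X M W m)
  rw [cs_map_apply]
  by_cases hne : Nonempty W''.left
  · obtain ⟨w''⟩ := hne
    have h1 := val_eq_of s g m' hm'.symm w''
    rw [h] at h1
    rw [← hm', h1]
  · haveI : IsEmpty W''.left := not_nonempty_iff.mp hne
    have := Groth.Agent.Lib.Helper69.EtSplit.subsingleton_of_isEmpty (cSh X M) W''
    exact Subsingleton.elim (α := (cSh X M).obj.obj (op W'')) _ _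

end Groth.Agent.Lib.Helper57.ConstUnit
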