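import Mathlib
import Groth.Agent.Lib.Helper58.EtaleLiftQuot

/-!
# Lifting étale algebras along a surjection (ring-hom form)
-/

set_option autoImplicit false
universe u

namespace Groth.Agent.Lib.Helper57.EtLiftClosed

theorem exists_etale_lift_closed {A B C : Type u} [CommRing A] [CommRing B] [CommRing C]
    (f : A →+* B) (hf : Function.Surjective f) (g : B →+* C) (hg : g.Etale) :
    ∃ (E : Type u) (_ : CommRing E) (a : A →+* E) (π : E →+* C),
      a.Etale ∧ Function.Surjective π ∧ π.comp a = g.comp f := by
  classical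
  let I : Ideal A := RingHom.ker f
  let e : A ⧸ I ≃+* B := RingHom.quotientKerEquivOfSurjective hf
  letI : Algebra A C := (g.comp f).toAlgebra
  letI : Algebra (A ⧸ I) C := (g.comp e.toRingHom).toAlgebra
  haveI : IsScalarTower A (A ⧸ I) C := IsScalarTower.of_algebraMap_eq (fun x => by
    simp only [RingHom.algebraMap_toAlgebra, RingHom.comp_apply]
    rfl)
  haveI : Algebra.Etale (A ⧸ I) C := RingHom.Etale.respectsIso.2 g e hg
  obtain ⟨E, _, _, hE, π, hπ, -⟩ :=
    Groth.Agent.Lib.Helper58.EtaleLift.exists_etale_lift_quotient I C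
  refine ⟨E, inferInstance, algebraMap A E, π.toRingHom, RingHom.etale_algebraMap.mpr hE, hπ, ?_⟩
  ext x
  simp only [RingHom.comp_apply]
  exact π.commutes x

end Groth.Agent.Lib.Helper57.EtLiftClosed
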