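import Groth.Agent.Lib.Helper57.EtQF1
import Groth.Agent.Lib.Helper57.EtQF2

/-!
# Étale localization of several quasi-finite points (helper57)

`exists_pieces`: for `f : X ⟶ S` separated and locally of finite type and finitely many points
`x i` of the fibre over `s` at which `f` is quasi-finite, there is an étale neighbourhood
`(U, u)` of `s` with trivial residue field extension such that `X ×_S U` contains pairwise
disjoint open and closed pieces `Y i`, finite over `U`, each with exactly one point over `u`,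
that point lying over `x i`.  (Stacks 02LM/02LN with residue field isomorphism.)
-/

universe u v

open CategoryTheory CategoryTheory.Limits AlgebraicGeometry TopologicalSpace

namespace Groth.Agent.Lib.Helper57.EtQF

/-- **Lemma B**, for an arbitrary cartesian square. -/
theorem eq_of_isPullback {X' X U S : Scheme.{u}} {p : X' ⟶ X} {f' : X' ⟶ U} {f : X ⟶ S}
    {g : U ⟶ S} (sq : IsPullback p f' f g) (u : U) [IsIso (g.residueFieldMap u)]
    (w w' : X') (hw : f' w = u) (hw' : f' w' = u) (h : p w = p w') : w = w' := by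
  have h1 : sq.isoPullback.hom ≫ pullback.fst f g = p := sq.isoPullback_hom_fst
  have h2 : sq.isoPullback.hom ≫ pullback.snd f g = f' := sq.isoPullback_hom_snd
  have key := eq_of_fst_eq_of_snd_eq (f := f) (g := g) u (sq.isoPullback.hom w)
    (sq.isoPullback.hom w') ?_ ?_ ?_
  · have := congrArg sq.isoPullback.inv key
    simpa using this
  · rw [← Scheme.Hom.comp_apply, h2, hw]
  · rw [← Scheme.Hom.comp_apply, h2, hw']
  · rw [← Scheme.Hom.comp_apply, ← Scheme.Hom.comp_apply, h1, h]

/-- Quasi-finiteness at a point is stable under base change. -/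
theorem quasiFiniteAt_of_isPullback {X' X U S : Scheme.{u}} {p : X' ⟶ X} {f' : X' ⟶ U}
    {f : X ⟶ S} {g : U ⟶ S} (sq : IsPullback p f' f g) [LocallyOfFiniteType f] (w : X')
    (hq : f.QuasiFiniteAt (p w)) : f'.QuasiFiniteAt w := by
  have : LocallyOfFiniteType f' := MorphismProperty.of_isPullback (P := @LocallyOfFiniteType) sq ‹_›
  let W := f.quasiFiniteLocus
  let W' : X'.Opens := p ⁻¹ᵁ W
  have hu' : w ∈ W' := hq
  have sqW : IsPullback (p ∣_ W) W'.ι W.ι p := isPullback_morphismRestrict p W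
  have sq' : IsPullback (p ∣_ W) (W'.ι ≫ f') (W.ι ≫ f) g := sqW.paste_vert sq
  have : LocallyQuasiFinite (W'.ι ≫ f') :=
    MorphismProperty.of_isPullback (P := @LocallyQuasiFinite) sq' inferInstance
  have h1 : (W'.ι ≫ f').QuasiFiniteAt ⟨w, hu'⟩ := Scheme.Hom.quasiFiniteAt _ _
  rwa [Scheme.Hom.quasiFiniteAt_comp_iff_of_isOpenImmersion] at h1

/-- A finite open and closed piece of `X'` over `U` with exactly one point over `u`. -/
structure Piece {X' U : Scheme.{u}} (f' : X' ⟶ U) (u : U) where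
  /-- the piece -/
  Y : Scheme.{u}
  /-- its inclusion -/
  j : Y ⟶ X'
  isOpenImmersion : IsOpenImmersion j
  isClosedImmersion : IsClosedImmersion j
  isFinite : IsFinite (j ≫ f')
  /-- the unique point over `u` -/
  pt : Y
  hpt : f' (j pt) = u
  uniq : ∀ y : Y, f' (j y) = u → y = pt

attribute [instance] Piece.isOpenImmersion Piece.isClosedImmersion Piece.isFinite

/-- Base change of a piece along a neighbourhood with trivial residue field extension. -/
theorem Piece.exists_pullback {X₁ U₁ Z U₂ : Scheme.{u}} {f₁ : X₁ ⟶ U₁} {u₁ : U₁}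
    (P : Piece f₁ u₁) {q : Z ⟶ X₁} {h : Z ⟶ U₂} {g₂ : U₂ ⟶ U₁} (sq : IsPullback q h f₁ g₂)
    (u₂ : U₂) (hu : g₂ u₂ = u₁) [IsIso (g₂.residueFieldMap u₂)] :
    ∃ P' : Piece h u₂, q (P'.j P'.pt) = P.j P.pt ∧ Set.range P'.j = q ⁻¹' Set.range P.j := by
  have sq' : IsPullback (pullback.fst P.j q) (pullback.snd P.j q ≫ h) (P.j ≫ f₁) g₂ :=
    (IsPullback.of_hasPullback P.j q).paste_vert sq
  have hfin : IsFinite (pullback.snd P.j q ≫ h) :=
    MorphismProperty.of_isPullback (P := @IsFinite) sq' inferInstance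
  obtain ⟨y₀, hy₀, hy₀'⟩ := Scheme.exists_preimage_of_isPullback sq' P.pt u₂
    (by rw [Scheme.Hom.comp_apply, P.hpt, hu])
  have huniq : ∀ y : ↑(pullback P.j q), h (pullback.snd P.j q y) = u₂ → y = y₀ := by
    intro y hy
    refine eq_of_isPullback sq' u₂ y y₀ (by rw [Scheme.Hom.comp_apply]; exact hy) hy₀' ?_
    rw [hy₀]
    apply P.uniq
    rw [← Scheme.Hom.comp_apply, ← Scheme.Hom.comp_apply, sq'.w,
      Scheme.Hom.comp_apply, Scheme.Hom.comp_apply, hy, hu]
  refine ⟨⟨pullback P.j q, pullback.snd P.j q, inferInstance, inferInstance, hfin, y₀, ?_, huniq⟩,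
    ?_, ?_⟩
  · rw [← Scheme.Hom.comp_apply]; exact hy₀'
  · show q (pullback.snd P.j q y₀) = _
    rw [← Scheme.Hom.comp_apply, ← pullback.condition, Scheme.Hom.comp_apply, hy₀]
  · ext z
    constructor
    · rintro ⟨y, rfl⟩
      refine ⟨pullback.fst P.j q y, ?_⟩
      rw [← Scheme.Hom.comp_apply, pullback.condition, Scheme.Hom.comp_apply]
    · rintro ⟨y, hy⟩
      obtain ⟨a, -, ha⟩ := Scheme.Pullback.exists_preimage_pullback (f := P.j) (g := q) y z hy
      exact ⟨a, ha⟩

/-- Transport of a piece along an open and closed immersion. -/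
def Piece.comp {X₂ Z U₂ : Scheme.{u}} {f₂ : X₂ ⟶ U₂} {u₂ : U₂} (P : Piece f₂ u₂)
    (jW : X₂ ⟶ Z) [IsOpenImmersion jW] [IsClosedImmersion jW] (h : Z ⟶ U₂) (hh : jW ≫ h = f₂) :
    Piece h u₂ where
  Y := P.Y
  j := P.j ≫ jW
  isOpenImmersion := inferInstance
  isClosedImmersion := inferInstance
  isFinite := by rw [Category.assoc, hh]; infer_instance
  pt := P.pt
  hpt := by rw [← Scheme.Hom.comp_apply, Category.assoc, hh, Scheme.Hom.comp_apply]; exact P.hpt
  uniq := fun y hy => P.uniq y (by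
    rw [← Scheme.Hom.comp_apply, Category.assoc, hh, Scheme.Hom.comp_apply] at hy; exact hy)


/-- **Étale localization of finitely many quasi-finite points of a fibre**, with trivial residue
field extension at the marked point of the étale neighbourhood. -/
theorem exists_pieces {ι : Type v} [Finite ι] :
    ∀ {X S : Scheme.{u}} (f : X ⟶ S) [LocallyOfFiniteType f] [IsSeparated f] (s : S)
      (x : ι → X) (_ : Function.Injective x) (_ : ∀ i, f (x i) = s)
      (_ : ∀ i, f.QuasiFiniteAt (x i)),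
      ∃ (U : Scheme.{u}) (g : U ⟶ S) (u : U), Etale g ∧ g u = s ∧ IsIso (g.residueFieldMap u) ∧
        ∃ (X' : Scheme.{u}) (p : X' ⟶ X) (f' : X' ⟶ U), IsPullback p f' f g ∧
          ∃ P : ι → Piece f' u, (∀ i, p ((P i).j (P i).pt) = x i) ∧
            (∀ i i', i ≠ i' → Disjoint (Set.range (P i).j) (Set.range (P i').j)) := by
  induction ι using Finite.induction_empty_option with
  | of_equiv e ih =>
    intro X S f _ _ s x hinj hs hx
    obtain ⟨U, g, u, hg, hu, hiso, X', p, f', sq, P, hP, hdisj⟩ :=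
      ih f s (x ∘ e) (hinj.comp e.injective) (fun i => hs _) (fun i => hx _)
    refine ⟨U, g, u, hg, hu, hiso, X', p, f', sq, fun b => P (e.symm b), fun b => ?_,
      fun b b' hbb' => hdisj _ _ (fun h => hbb' (e.symm.injective h))⟩
    rw [hP]; simp
  | h_empty =>
    intro X S f _ _ s x hinj hs hx
    refine ⟨S, 𝟙 S, s, inferInstance, rfl, ?_, X, 𝟙 X, f, IsPullback.id_horiz f, PEmpty.elim,
      fun i => i.elim, fun i => i.elim⟩
    rw [Scheme.residueFieldMap_id]; exact IsIso.id _
  | h_option ih =>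
    rename_i α _
    intro X S f _ _ s x hinj hs hx
    obtain ⟨U₁, g₁, u₁, hg₁, hu₁, hiso₁, V₁, v₁, hV₁, hfin₁, hv₁V, hv₁x, hv₁u, huniq₁⟩ :=
      exists_etale_nbhd_split f (x none) (hx none)
    let W₁ : (pullback f g₁).Opens := ⟨(V₁ : Set ↑(pullback f g₁))ᶜ, hV₁.1.isOpen_compl⟩
    have hW₁closed : IsClosed (W₁ : Set ↑(pullback f g₁)) := hV₁.2.isClosed_compl
    have hV₁ci : IsClosedImmersion V₁.ι := .of_isPreimmersion _ (by simpa using hV₁.1)
    have hW₁ci : IsClosedImmersion W₁.ι := .of_isPreimmersion _ (by simpa using hW₁closed)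
    let f₁ : W₁.toScheme ⟶ U₁ := W₁.ι ≫ pullback.snd f g₁
    have hex : ∀ a : α, ∃ w : ↑(pullback f g₁),
        pullback.fst f g₁ w = x (some a) ∧ pullback.snd f g₁ w = u₁ := fun a =>
      Scheme.Pullback.exists_preimage_pullback _ _ (by rw [hs, hu₁, hs])
    choose w hwx hwu using hex
    have hwW : ∀ a, w a ∈ W₁ := fun a hmem => by
      have h1 := huniq₁ (w a) hmem (hwu a)
      have h2 : x (some a) = x none := by rw [← hwx a, h1, hv₁x]
      exact Option.some_ne_none a (hinj h2)
    let w' : α → W₁.toScheme := fun a => ⟨w a, hwW a⟩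
    have hw'inj : Function.Injective w' := by
      intro a b hab
      have h1 : w a = w b := congrArg Subtype.val hab
      have h2 : x (some a) = x (some b) := by rw [← hwx a, ← hwx b, h1]
      exact Option.some_injective _ (hinj h2)
    have hw's : ∀ a, f₁ (w' a) = u₁ := fun a => by
      show (W₁.ι ≫ pullback.snd f g₁) (w' a) = u₁
      rw [Scheme.Hom.comp_apply]; exact hwu a
    have hw'q : ∀ a, f₁.QuasiFiniteAt (w' a) := fun a => by
      show (W₁.ι ≫ pullback.snd f g₁).QuasiFiniteAt (w' a)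
      rw [Scheme.Hom.quasiFiniteAt_comp_iff_of_isOpenImmersion]
      apply quasiFiniteAt_of_isPullback (IsPullback.of_hasPullback f g₁)
      show f.QuasiFiniteAt (pullback.fst f g₁ (w a))
      rw [hwx a]; exact hx (some a)
    obtain ⟨U₂, g₂, u₂, hg₂, hu₂, hiso₂, X₂, p₂, f₂', sq₂, P₂, hP₂, hdisj₂⟩ :=
      ih f₁ u₁ w' hw'inj hw's hw'q
    let Z := pullback (pullback.snd f g₁) g₂
    let q : Z ⟶ pullback f g₁ := pullback.fst _ _
    let h : Z ⟶ U₂ := pullback.snd _ _
    have sqB : IsPullback q h (pullback.snd f g₁) g₂ := IsPullback.of_hasPullback _ _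
    have sqA : IsPullback (pullback.fst f g₁) (pullback.snd f g₁) f g₁ :=
      IsPullback.of_hasPullback _ _
    have sqBig : IsPullback (q ≫ pullback.fst f g₁) h f (g₂ ≫ g₁) := sqB.paste_horiz sqA
    let jW : X₂ ⟶ Z := pullback.lift (p₂ ≫ W₁.ι) f₂' (by rw [Category.assoc]; exact sq₂.w)
    have hjWq : jW ≫ q = p₂ ≫ W₁.ι := pullback.lift_fst _ _ _
    have hjWh : jW ≫ h = f₂' := pullback.lift_snd _ _ _
    have sqW : IsPullback p₂ jW W₁.ι q := by
      refine IsPullback.of_bot ?_ hjWq.symm sqB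
      rw [hjWh]; exact sq₂
    have hjWo : IsOpenImmersion jW :=
      MorphismProperty.of_isPullback (P := @IsOpenImmersion) sqW inferInstance
    have hjWc : IsClosedImmersion jW :=
      MorphismProperty.of_isPullback (P := @IsClosedImmersion) sqW inferInstance
    let P₁ : Piece (pullback.snd f g₁) u₁ :=
      ⟨V₁, V₁.ι, inferInstance, hV₁ci, hfin₁, ⟨v₁, hv₁V⟩, hv₁u, fun y hy =>
        Subtype.ext (huniq₁ y.1 y.2 hy)⟩
    obtain ⟨P₁', hP₁'pt, hP₁'range⟩ := P₁.exists_pullback sqB u₂ hu₂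
    refine ⟨U₂, g₂ ≫ g₁, u₂, inferInstance, ?_, ?_, Z, q ≫ pullback.fst f g₁, h, sqBig,
      fun o => o.elim P₁' (fun a => (P₂ a).comp jW h hjWh), ?_, ?_⟩
    · rw [Scheme.Hom.comp_apply, hu₂, hu₁, hs]
    · rw [Scheme.residueFieldMap_comp]
      have : IsIso (g₁.residueFieldMap (g₂ u₂)) := by rw [hu₂]; exact hiso₁
      exact IsIso.comp_isIso' this hiso₂
    · rintro (_ | a)
      · show (q ≫ pullback.fst f g₁) (P₁'.j P₁'.pt) = x none
        rw [Scheme.Hom.comp_apply, hP₁'pt]
        exact hv₁x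
      · show (q ≫ pullback.fst f g₁) (((P₂ a).j ≫ jW) (P₂ a).pt) = x (some a)
        rw [← Scheme.Hom.comp_apply, ← Category.assoc, Category.assoc _ jW q, hjWq,
          Scheme.Hom.comp_apply, Scheme.Hom.comp_apply, Scheme.Hom.comp_apply, hP₂ a]
        exact hwx a
    · have key : ∀ a, Disjoint (Set.range P₁'.j) (Set.range ((P₂ a).j ≫ jW)) := by
        intro a
        rw [Set.disjoint_left]
        rintro z hz ⟨y, rfl⟩
        rw [hP₁'range] at hz
        obtain ⟨y₁, hy₁⟩ := hz
        have h1 : q (((P₂ a).j ≫ jW) y) = W₁.ι (p₂ ((P₂ a).j y)) := by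
          rw [← Scheme.Hom.comp_apply, Category.assoc, hjWq]; rfl
        have h2 : W₁.ι (p₂ ((P₂ a).j y)) ∈ W₁ := (p₂ ((P₂ a).j y)).2
        have h3 : q (((P₂ a).j ≫ jW) y) ∈ V₁ := by
          rw [← hy₁]; exact y₁.2
        rw [h1] at h3
        exact h2 h3
      rintro (_ | a) (_ | b) hab
      · exact absurd rfl hab
      · exact key b
      · exact (key a).symm
      · have hab' : a ≠ b := fun h => hab (congrArg some h)
        show Disjoint (Set.range ((P₂ a).j ≫ jW)) (Set.range ((P₂ b).j ≫ jW))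
        rw [Set.disjoint_left]
        rintro z ⟨y, rfl⟩ ⟨y', hy'⟩
        have h1 : (P₂ b).j y' = (P₂ a).j y := jW.isOpenEmbedding.injective hy'
        exact Set.disjoint_left.mp (hdisj₂ a b hab') ⟨y, rfl⟩ ⟨y', h1⟩

end Groth.Agent.Lib.Helper57.EtQF
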