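import Groth.Agent.Lib.Helper57.EtQF3

/-!
# Étale localization of several quasi-finite points, non-separated case (helper57)

Same as `exists_pieces` but without separatedness: the pieces are only open.
-/

universe u v

open CategoryTheory CategoryTheory.Limits AlgebraicGeometry TopologicalSpace

namespace Groth.Agent.Lib.Helper57.EtQF

/-- A finite open piece of `X'` over `U` with exactly one point over `u`. -/
structure OPiece {X' U : Scheme.{u}} (f' : X' ⟶ U) (u : U) where
  /-- the piece -/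
  Y : Scheme.{u}
  /-- its inclusion -/
  j : Y ⟶ X'
  isOpenImmersion : IsOpenImmersion j
  isFinite : IsFinite (j ≫ f')
  /-- the unique point over `u` -/
  pt : Y
  hpt : f' (j pt) = u
  uniq : ∀ y : Y, f' (j y) = u → y = pt

attribute [instance] OPiece.isOpenImmersion OPiece.isFinite

/-- Base change of an open piece along a neighbourhood with trivial residue field extension. -/
theorem OPiece.exists_pullback {X₁ U₁ Z U₂ : Scheme.{u}} {f₁ : X₁ ⟶ U₁} {u₁ : U₁}
    (P : OPiece f₁ u₁) {q : Z ⟶ X₁} {h : Z ⟶ U₂} {g₂ : U₂ ⟶ U₁} (sq : IsPullback q h f₁ g₂)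
    (u₂ : U₂) (hu : g₂ u₂ = u₁) [IsIso (g₂.residueFieldMap u₂)] :
    ∃ P' : OPiece h u₂, q (P'.j P'.pt) = P.j P.pt := by
  have sq' : IsPullback (pullback.fst P.j q) (pullback.snd P.j q ≫ h) (P.j ≫ f₁) g₂ :=
    (IsPullback.of_hasPullback P.j q).paste_vert sq
  have hfin : IsFinite (pullback.snd P.j q ≫ h) :=
    MorphismProperty.of_isPullback (P := @IsFinite) sq' inferInstance
  obtain ⟨y₀, hy₀, hy₀'⟩ := Scheme.exists_preimage_of_isPullback sq' P.pt u₂
    (by rw [Scheme.Hom.comp_apply, P.hpt, hu])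
  have huniq : ∀ y : ↑(pullback P.j q), h (pullback.snd P.j q y) = u₂ → y = y₀ := by
    intro y hy
    refine eq_of_isPullback sq' u₂ y y₀ (by rw [Scheme.Hom.comp_apply]; exact hy) hy₀' ?_
    rw [hy₀]
    apply P.uniq
    rw [← Scheme.Hom.comp_apply, ← Scheme.Hom.comp_apply, sq'.w,
      Scheme.Hom.comp_apply, Scheme.Hom.comp_apply, hy, hu]
  refine ⟨⟨pullback P.j q, pullback.snd P.j q, inferInstance, hfin, y₀, ?_, huniq⟩, ?_⟩
  · rw [← Scheme.Hom.comp_apply]; exact hy₀'
  · show q (pullback.snd P.j q y₀) = _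
    rw [← Scheme.Hom.comp_apply, ← pullback.condition, Scheme.Hom.comp_apply, hy₀]

/-- **Étale localization of finitely many quasi-finite points of a fibre** without
separatedness. -/
theorem exists_open_pieces {ι : Type v} [Finite ι] :
    ∀ {X S : Scheme.{u}} (f : X ⟶ S) [LocallyOfFiniteType f] (s : S)
      (x : ι → X) (_ : Function.Injective x) (_ : ∀ i, f (x i) = s)
      (_ : ∀ i, f.QuasiFiniteAt (x i)),
      ∃ (U : Scheme.{u}) (g : U ⟶ S) (u : U), Etale g ∧ g u = s ∧ IsIso (g.residueFieldMap u) ∧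
        ∃ (X' : Scheme.{u}) (p : X' ⟶ X) (f' : X' ⟶ U), IsPullback p f' f g ∧
          ∃ P : ι → OPiece f' u, ∀ i, p ((P i).j (P i).pt) = x i := by
  induction ι using Finite.induction_empty_option with
  | of_equiv e ih =>
    intro X S f _ s x hinj hs hx
    obtain ⟨U, g, u, hg, hu, hiso, X', p, f', sq, P, hP⟩ :=
      ih f s (x ∘ e) (hinj.comp e.injective) (fun i => hs _) (fun i => hx _)
    refine ⟨U, g, u, hg, hu, hiso, X', p, f', sq, fun b => P (e.symm b), fun b => ?_⟩
    rw [hP]; simp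
  | h_empty =>
    intro X S f _ s x hinj hs hx
    refine ⟨S, 𝟙 S, s, inferInstance, rfl, ?_, X, 𝟙 X, f, IsPullback.id_horiz f, PEmpty.elim,
      fun i => i.elim⟩
    rw [Scheme.residueFieldMap_id]; exact IsIso.id _
  | h_option ih =>
    rename_i α _
    intro X S f _ s x hinj hs hx
    obtain ⟨U₁, g₁, u₁, hg₁, hu₁, hiso₁, V₁, v₁, hfin₁, hv₁V, hv₁x, hv₁u, huniq₁⟩ :=
      exists_etale_nbhd_split' f (x none) (hx none)
    have hex : ∀ a : α, ∃ w : ↑(pullback f g₁),
        pullback.fst f g₁ w = x (some a) ∧ pullback.snd f g₁ w = u₁ := fun a =>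
      Scheme.Pullback.exists_preimage_pullback _ _ (by rw [hs, hu₁, hs])
    choose w hwx hwu using hex
    have hwinj : Function.Injective w := by
      intro a b hab
      have h2 : x (some a) = x (some b) := by rw [← hwx a, ← hwx b, hab]
      exact Option.some_injective _ (hinj h2)
    have hwq : ∀ a, (pullback.snd f g₁).QuasiFiniteAt (w a) := fun a => by
      apply quasiFiniteAt_of_isPullback (IsPullback.of_hasPullback f g₁)
      show f.QuasiFiniteAt (pullback.fst f g₁ (w a))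
      rw [hwx a]; exact hx (some a)
    obtain ⟨U₂, g₂, u₂, hg₂, hu₂, hiso₂, X₂, p₂, f₂', sq₂, P₂, hP₂⟩ :=
      ih (pullback.snd f g₁) u₁ w hwinj hwu hwq
    have sqBig : IsPullback (p₂ ≫ pullback.fst f g₁) f₂' f (g₂ ≫ g₁) :=
      sq₂.paste_horiz (IsPullback.of_hasPullback f g₁)
    let P₁ : OPiece (pullback.snd f g₁) u₁ :=
      ⟨V₁, V₁.ι, inferInstance, hfin₁, ⟨v₁, hv₁V⟩, hv₁u, fun y hy =>
        Subtype.ext (huniq₁ y.1 y.2 hy)⟩
    obtain ⟨P₁', hP₁'pt⟩ := P₁.exists_pullback sq₂ u₂ hu₂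
    refine ⟨U₂, g₂ ≫ g₁, u₂, inferInstance, ?_, ?_, X₂, p₂ ≫ pullback.fst f g₁, f₂', sqBig,
      fun o => o.elim P₁' P₂, ?_⟩
    · rw [Scheme.Hom.comp_apply, hu₂, hu₁, hs]
    · rw [Scheme.residueFieldMap_comp]
      have : IsIso (g₁.residueFieldMap (g₂ u₂)) := by rw [hu₂]; exact hiso₁
      exact IsIso.comp_isIso' this hiso₂
    · rintro (_ | a)
      · show (p₂ ≫ pullback.fst f g₁) (P₁'.j P₁'.pt) = x none
        rw [Scheme.Hom.comp_apply, hP₁'pt]
        exact hv₁x
      · show (p₂ ≫ pullback.fst f g₁) ((P₂ a).j (P₂ a).pt) = x (some a)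
        rw [Scheme.Hom.comp_apply, hP₂ a]
        exact hwx a

/-- An open piece, as an open subset of the chosen pullback. -/
theorem OPiece.exists_opens {X' X U S : Scheme.{u}} {p : X' ⟶ X} {f' : X' ⟶ U} {f : X ⟶ S}
    {g : U ⟶ S} (sq : IsPullback p f' f g) {u : U} (P : OPiece f' u) :
    ∃ (V : (pullback f g).Opens) (v : ↑(pullback f g)),
      IsFinite (V.ι ≫ pullback.snd f g) ∧ v ∈ V ∧
      pullback.snd f g v = u ∧ pullback.fst f g v = p (P.j P.pt) ∧
      (∀ w ∈ V, pullback.snd f g w = u → w = v) ∧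
      v = sq.isoPullback.hom (P.j P.pt) := by
  have h1 : sq.isoPullback.hom ≫ pullback.fst f g = p := sq.isoPullback_hom_fst
  have h2 : sq.isoPullback.hom ≫ pullback.snd f g = f' := sq.isoPullback_hom_snd
  let j' : P.Y ⟶ pullback f g := P.j ≫ sq.isoPullback.hom
  have hfin : IsFinite (j'.opensRange.ι ≫ pullback.snd f g) := by
    rw [← MorphismProperty.cancel_left_of_respectsIso @IsFinite j'.isoOpensRange.hom,
      Scheme.Hom.isoOpensRange_hom_ι_assoc]
    show IsFinite ((P.j ≫ sq.isoPullback.hom) ≫ pullback.snd f g)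
    rw [Category.assoc, h2]
    infer_instance
  refine ⟨j'.opensRange, j' P.pt, hfin, ⟨P.pt, rfl⟩, ?_, ?_, ?_, rfl⟩
  · show pullback.snd f g ((P.j ≫ sq.isoPullback.hom) P.pt) = u
    rw [← Scheme.Hom.comp_apply, Category.assoc, h2, Scheme.Hom.comp_apply]
    exact P.hpt
  · show pullback.fst f g ((P.j ≫ sq.isoPullback.hom) P.pt) = _
    rw [← Scheme.Hom.comp_apply, Category.assoc, h1, Scheme.Hom.comp_apply]
  · rintro w ⟨y, rfl⟩ hw
    have : y = P.pt := by
      apply P.uniq
      have h3 : f' (P.j y) = (sq.isoPullback.hom ≫ pullback.snd f g) (P.j y) := by rw [h2]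
      rw [h3, Scheme.Hom.comp_apply]
      exact hw
    rw [this]

end Groth.Agent.Lib.Helper57.EtQF
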