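import Groth.Agent.Lib.Helper57.EtQF4
import Mathlib.AlgebraicGeometry.Fiber

/-!
# Isolated points of fibres and étale neighbourhoods (helper57)

* `isOpen_singleton_iff`: a point of the scheme-theoretic fibre is isolated iff the morphism is
  quasi-finite at it.
* `fiberIso`: base change along a neighbourhood with trivial residue field extension does not
  change the fibre.
* `exists_clopen_finite_part`: Stacks 02LN-style statement: all isolated points of the fibre are
  split off by one finite clopen piece after an elementary étale base change.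
-/

universe u v

open CategoryTheory CategoryTheory.Limits AlgebraicGeometry TopologicalSpace

namespace Groth.Agent.Lib.Helper57.EtQF

theorem isOpen_singleton_iff_aux {X Y : Scheme.{u}} (f : X ⟶ Y) [LocallyOfFiniteType f]
    (x : X) (y : Y) (h : f x = y) (w : ↑(f.fiber y)) (hw : f.fiberι y w = x) :
    IsOpen ({w} : Set ↑(f.fiber y)) ↔ f.QuasiFiniteAt x := by
  subst h
  have : w = f.asFiber x := by
    apply (f.fiberι (f x)).isEmbedding.injective
    rw [hw, Scheme.Hom.fiberι_asFiber]
  rw [this]
  exact Scheme.Hom.quasiFiniteAt_iff_isOpen_singleton_asFiber.symm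

/-- A point of the fibre is isolated iff `f` is quasi-finite there. -/
theorem isOpen_singleton_iff {X Y : Scheme.{u}} (f : X ⟶ Y) [LocallyOfFiniteType f]
    (y : Y) (w : ↑(f.fiber y)) :
    IsOpen ({w} : Set ↑(f.fiber y)) ↔ f.QuasiFiniteAt (f.fiberι y w) := by
  refine isOpen_singleton_iff_aux f _ y ?_ w rfl
  have : f.fiberι y w ∈ f ⁻¹' {y} := by
    rw [← Scheme.Hom.range_fiberι]; exact ⟨w, rfl⟩
  exact this

/-- The fibre over `u` of the base change of `f` along `g` is the fibre of `f` over `g u` when the
residue field extension at `u` is trivial. -/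
theorem exists_fiberIso {X S U : Scheme.{u}} (f : X ⟶ S) (g : U ⟶ S) (u : U)
    [IsIso (g.residueFieldMap u)] :
    ∃ e : (pullback.snd f g).fiber u ≅ f.fiber (g u),
      e.hom ≫ f.fiberι (g u) = (pullback.snd f g).fiberι u ≫ pullback.fst f g := by
  have sq1 : IsPullback ((pullback.snd f g).fiberι u)
      ((pullback.snd f g).fiberToSpecResidueField u) (pullback.snd f g)
      (U.fromSpecResidueField u) := IsPullback.of_hasPullback _ _
  have sq2 : IsPullback (pullback.fst f g) (pullback.snd f g) f g := IsPullback.of_hasPullback _ _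
  have sq3 := sq1.paste_horiz sq2
  rw [← Scheme.Hom.SpecMap_residueFieldMap_fromSpecResidueField] at sq3
  have sq4 : IsPullback (f.fiberι (g u)) (f.fiberToSpecResidueField (g u)) f
      (S.fromSpecResidueField (g u)) := IsPullback.of_hasPullback _ _
  have sq5 : IsPullback ((pullback.snd f g).fiberι u ≫ pullback.fst f g)
      ((pullback.snd f g).fiberToSpecResidueField u ≫ Spec.map (g.residueFieldMap u)) f
      (S.fromSpecResidueField (g u)) := by
    refine IsPullback.of_iso sq3 (Iso.refl _) (Iso.refl _) (asIso (Spec.map (g.residueFieldMap u)))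
      (Iso.refl _) ?_ ?_ ?_ ?_ <;> simp
  exact ⟨sq5.isoIsPullback _ _ sq4, sq5.isoIsPullback_hom_fst _ _ sq4⟩

/-- **Stacks 02LN-style**: after an elementary étale base change all isolated points of the fibre
lie in one open and closed piece finite over the base. -/
theorem exists_clopen_finite_part {X S : Scheme.{u}} (f : X ⟶ S) [LocallyOfFiniteType f]
    [IsSeparated f] (s : S)
    (hfin : {x : ↑(f.fiber s) | IsOpen ({x} : Set ↑(f.fiber s))}.Finite) :
    ∃ (U : Scheme.{u}) (g : U ⟶ S) (u : U), Etale g ∧ g u = s ∧ IsIso (g.residueFieldMap u) ∧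
      ∃ V : (pullback f g).Opens, IsClopen (V : Set ↑(pullback f g)) ∧
        IsFinite (V.ι ≫ pullback.snd f g) ∧
        ∀ w : ↑((pullback.snd f g).fiber u), (pullback.snd f g).fiberι u w ∉ V →
          ¬ IsOpen ({w} : Set ↑((pullback.snd f g).fiber u)) := by
  classical
  let ι := {x : ↑(f.fiber s) // IsOpen ({x} : Set ↑(f.fiber s))}
  have : Finite ι := hfin.to_subtype
  let x : ι → X := fun i => f.fiberι s i.1
  have hinj : Function.Injective x := fun i j h =>
    Subtype.ext ((f.fiberι s).isEmbedding.injective h)
  have hs : ∀ i, f (x i) = s := fun i => by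
    have : x i ∈ f ⁻¹' {s} := by rw [← Scheme.Hom.range_fiberι]; exact ⟨i.1, rfl⟩
    exact this
  have hq : ∀ i, f.QuasiFiniteAt (x i) := fun i => (isOpen_singleton_iff f s i.1).mp i.2
  obtain ⟨U, g, u, hg, hu, hiso, X', p, f', sq, P, hP, hdisj⟩ := exists_pieces f s x hinj hs hq
  choose V v hVclopen hVfin hvV hvu hvx huniq hVeq using fun i => (P i).exists_opens sq
  refine ⟨U, g, u, hg, hu, hiso, ⨆ i, V i, ?_, ?_, ?_⟩
  · constructor
    · have : ((⨆ i, V i : (pullback f g).Opens) : Set ↑(pullback f g)) =
          ⋃ i, (V i : Set ↑(pullback f g)) := by simp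
      rw [this]
      exact isClosed_iUnion_of_finite (fun i => (hVclopen i).1)
    · exact (⨆ i, V i).2
  · refine isFinite_iSup_ι_comp _ V ?_ hVfin
    intro i i' hii'
    rw [← TopologicalSpace.Opens.coe_disjoint, hVeq, hVeq]
    have hinj' : Function.Injective sq.isoPullback.hom := sq.isoPullback.hom.homeomorph.injective
    exact (Set.disjoint_image_iff hinj').mpr (hdisj i i' hii')
  · intro w hw hopen
    subst hu
    obtain ⟨e, he⟩ := exists_fiberIso f g u
    have h1 : IsOpen ({e.hom w} : Set ↑(f.fiber (g u))) := by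
      have := (e.hom.homeomorph.isOpen_image (s := {w})).mpr hopen
      rwa [Set.image_singleton] at this
    let i : ι := ⟨e.hom w, h1⟩
    have h2 : pullback.fst f g ((pullback.snd f g).fiberι u w) = x i := by
      show _ = f.fiberι (g u) (e.hom w)
      rw [← Scheme.Hom.comp_apply, ← Scheme.Hom.comp_apply, he]
    have h3 : pullback.snd f g ((pullback.snd f g).fiberι u w) = u := by
      have : (pullback.snd f g).fiberι u w ∈ (pullback.snd f g) ⁻¹' {u} := by
        rw [← Scheme.Hom.range_fiberι]; exact ⟨w, rfl⟩
      exact this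
    have h4 : (pullback.snd f g).fiberι u w = v i :=
      eq_of_fst_eq_of_snd_eq u _ _ h3 (hvu i) (h2.trans ((hvx i).trans (hP i)).symm)
    apply hw
    rw [h4]
    exact TopologicalSpace.Opens.mem_iSup.mpr ⟨i, hvV i⟩

end Groth.Agent.Lib.Helper57.EtQF
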