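import Mathlib

/-!
# Étale neighbourhoods realising separable residue field extensions (helper57)

Ring-level: for a prime `𝔭` of `R` and a separable polynomial over `κ(𝔭)` there is an étale
`R`-algebra `R'` with a prime `𝔮` over `𝔭` such that the polynomial splits in `κ(𝔮)`
(Stacks 00UD, iterated).
-/

universe u

open Polynomial

namespace Groth.Agent.Lib.Helper57.EtRes

section Element

variable {R : Type u} [CommRing R] (𝔭 : Ideal R) [𝔭.IsPrime]
variable {Ω : Type u} [Field Ω] [Algebra 𝔭.ResidueField Ω] [Algebra R Ω]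
  [IsScalarTower R 𝔭.ResidueField Ω]

/-- common denominators for finitely many elements of the residue field at a prime. -/
theorem exists_common_denominator (c : ℕ → 𝔭.ResidueField) (n : ℕ) :
    ∃ t : R, t ∉ 𝔭 ∧ ∀ i < n, ∃ r : R,
      algebraMap R 𝔭.ResidueField r = algebraMap R 𝔭.ResidueField t * c i := by
  classical
  have hsurj : Function.Surjective (algebraMap (Localization.AtPrime 𝔭) 𝔭.ResidueField) :=
    IsLocalRing.residue_surjective
  choose c' hc' using fun i => hsurj (c i)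
  obtain ⟨b, hb⟩ := IsLocalization.exist_integer_multiples_of_finset 𝔭.primeCompl
    ((Finset.range n).image c')
  refine ⟨b, b.2, fun i hi => ?_⟩
  obtain ⟨r, hr⟩ := hb (c' i) (Finset.mem_image_of_mem _ (Finset.mem_range.mpr hi))
  refine ⟨r, ?_⟩
  rw [IsScalarTower.algebraMap_apply R (Localization.AtPrime 𝔭) 𝔭.ResidueField, hr,
    Algebra.smul_def, map_mul, hc',
    ← IsScalarTower.algebraMap_apply R (Localization.AtPrime 𝔭) 𝔭.ResidueField]

/-- every separable element of an extension `Ω` of `κ(𝔭)` is, up to a unit of `R` at `𝔭`,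
the value of a point of an étale `R`-algebra. -/
theorem exists_pointed_etale_of_isSeparable (α : Ω) (hα : IsSeparable 𝔭.ResidueField α) :
    ∃ (A : Type u) (_ : CommRing A) (_ : Algebra R A) (_ : Algebra.Etale R A)
      (φ : A →ₐ[R] Ω) (a : A) (t : R), t ∉ 𝔭 ∧ φ a = algebraMap R Ω t * α := by
  set k := 𝔭.ResidueField
  have hint : IsIntegral k α := hα.isIntegral
  obtain ⟨t, ht, hcoef⟩ := exists_common_denominator 𝔭 (minpoly k α).coeff (minpoly k α).natDegree
  have ht0 : algebraMap R k t ≠ 0 := by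
    rwa [Ne, Ideal.algebraMap_residueField_eq_zero]
  set β : Ω := algebraMap R k t • α with hβ
  have hβ' : β = algebraMap R Ω t * α := by
    rw [hβ, Algebra.smul_def, ← IsScalarTower.algebraMap_apply]
  have hβsep : IsSeparable k β := by
    rw [hβ, Algebra.smul_def]
    exact Field.isSeparable_mul (isSeparable_algebraMap _) hα
  have hmin : minpoly k β = (minpoly k α).scaleRoots (algebraMap R k t) :=
    IsIntegrallyClosed.minpoly_smul ht0 hint
  have hp₀ : (minpoly k β).Monic := minpoly.monic hβsep.isIntegral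
  have hlift : minpoly k β ∈ Polynomial.lifts (algebraMap R k) := by
    rw [Polynomial.lifts_iff_coeff_lifts]
    intro i
    rw [hmin, coeff_scaleRoots]
    rcases lt_trichotomy i (minpoly k α).natDegree with hi | hi | hi
    · obtain ⟨r, hr⟩ := hcoef i hi
      obtain ⟨m, hm⟩ : ∃ m, (minpoly k α).natDegree - i = m + 1 :=
        ⟨(minpoly k α).natDegree - i - 1, by omega⟩
      refine ⟨r * t ^ m, ?_⟩
      rw [map_mul, hr, map_pow, hm, pow_succ]
      ring
    · refine ⟨1, ?_⟩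
      rw [hi, Nat.sub_self, pow_zero, mul_one, map_one]
      exact ((minpoly.monic hint).coeff_natDegree).symm
    · refine ⟨0, ?_⟩
      rw [coeff_eq_zero_of_natDegree_lt hi, zero_mul, map_zero]
  obtain ⟨p, hp1, -, hpm⟩ := lifts_and_natDegree_eq_and_monic hlift hp₀
  let P : StandardEtalePair R := ⟨p, hpm, derivative p, ⟨1, 0, 1, by simp⟩⟩
  have hev : ∀ q : R[X], aeval β q = aeval β (q.map (algebraMap R k)) := by
    intro q
    rw [aeval_def, aeval_def, eval₂_map]
    congr 1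
    exact IsScalarTower.algebraMap_eq R k Ω
  have hmap : P.HasMap β := by
    constructor
    · show aeval β p = 0
      rw [hev, hp1]
      exact minpoly.aeval _ _
    · show IsUnit (aeval β (derivative p))
      rw [hev, ← derivative_map, hp1, isUnit_iff_ne_zero]
      exact Polynomial.Separable.aeval_derivative_ne_zero hβsep (minpoly.aeval _ _)
  exact ⟨P.Ring, inferInstance, inferInstance, inferInstance, P.lift β hmap, P.X, t, ht,
    (P.lift_X β hmap).trans hβ'⟩

end Element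


section Root

variable {R : Type u} [CommRing R] (𝔭 : Ideal R) [𝔭.IsPrime]

/-- Adjoining a root of an irreducible separable polynomial over `κ(𝔭)` by an étale extension. -/
theorem exists_etale_root (P : 𝔭.ResidueField[X]) (hP : Irreducible P) (hsep : P.Separable) :
    ∃ (R' : Type u) (_ : CommRing R') (_ : Algebra R R') (_ : Algebra.Etale R R')
      (𝔮 : Ideal R') (_ : 𝔮.IsPrime) (h : 𝔭 = 𝔮.comap (algebraMap R R')) (ρ : 𝔮.ResidueField),
      (P.map (Ideal.ResidueField.map 𝔭 𝔮 (algebraMap R R') h)).IsRoot ρ := by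
  have : Fact (Irreducible P) := ⟨hP⟩
  set k := 𝔭.ResidueField
  let Ω := AdjoinRoot P
  let α : Ω := AdjoinRoot.root P
  have hroot : aeval α P = 0 := by
    rw [aeval_def]; exact AdjoinRoot.eval₂_root P
  have hα : IsSeparable k α := hsep.of_dvd (minpoly.dvd k α hroot)
  obtain ⟨A, _, _, _, φ, a, t, ht, hφa⟩ := exists_pointed_etale_of_isSeparable 𝔭 α hα
  have hker : ∀ x : R, algebraMap R Ω x = 0 ↔ x ∈ 𝔭 := by
    intro x
    rw [IsScalarTower.algebraMap_apply R k Ω, map_eq_zero_iff _ (algebraMap k Ω).injective,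
      Ideal.algebraMap_residueField_eq_zero]
  let 𝔮 : Ideal A := RingHom.ker φ.toRingHom
  have h𝔮 : 𝔮.IsPrime := RingHom.ker_isPrime _
  have h : 𝔭 = 𝔮.comap (algebraMap R A) := by
    ext x
    rw [Ideal.mem_comap, RingHom.mem_ker]
    show _ ↔ φ (algebraMap R A x) = 0
    rw [φ.commutes, hker]
  let ψ : 𝔮.ResidueField →+* Ω := Ideal.ResidueField.lift 𝔮 φ.toRingHom le_rfl (by
    intro x hx
    show IsUnit (φ x)
    rw [isUnit_iff_ne_zero]
    exact hx)
  have hψ : ∀ x : A, ψ (algebraMap A 𝔮.ResidueField x) = φ x := fun x =>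
    Ideal.ResidueField.lift_algebraMap _ _ _ _ x
  have hcomp : ψ.comp (Ideal.ResidueField.map 𝔭 𝔮 (algebraMap R A) h) = algebraMap k Ω := by
    apply Ideal.ResidueField.ringHom_ext
    ext r
    simp only [RingHom.comp_apply]
    rw [Ideal.ResidueField.map_algebraMap, hψ, φ.commutes, ← IsScalarTower.algebraMap_apply]
  have ht0 : algebraMap R Ω t ≠ 0 := fun h0 => ht ((hker t).mp h0)
  let ρ : 𝔮.ResidueField :=
    algebraMap A 𝔮.ResidueField a * (algebraMap A 𝔮.ResidueField (algebraMap R A t))⁻¹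
  have hρ : ψ ρ = α := by
    show ψ (_ * _) = α
    rw [map_mul, map_inv₀, hψ, hψ, hφa, φ.commutes, mul_comm, inv_mul_cancel_left₀ ht0]
  refine ⟨A, inferInstance, inferInstance, inferInstance, 𝔮, h𝔮, h, ρ, ?_⟩
  apply ψ.injective
  rw [map_zero, eval_map, Polynomial.hom_eval₂, hcomp, hρ, ← aeval_def]
  exact hroot

end Root


section Splits

theorem residueField_map_comp {R₀ R₁ R₂ : Type*} [CommRing R₀] [CommRing R₁] [CommRing R₂]
    (f : R₀ →+* R₁) (g : R₁ →+* R₂) (𝔭 : Ideal R₀) [𝔭.IsPrime] (𝔮 : Ideal R₁) [𝔮.IsPrime]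
    (𝔯 : Ideal R₂) [𝔯.IsPrime] (h₁ : 𝔭 = 𝔮.comap f) (h₂ : 𝔮 = 𝔯.comap g)
    (h₃ : 𝔭 = 𝔯.comap (g.comp f)) :
    (Ideal.ResidueField.map 𝔮 𝔯 g h₂).comp (Ideal.ResidueField.map 𝔭 𝔮 f h₁) =
      Ideal.ResidueField.map 𝔭 𝔯 (g.comp f) h₃ := by
  apply Ideal.ResidueField.ringHom_ext
  ext r
  simp only [RingHom.comp_apply]
  rw [Ideal.ResidueField.map_algebraMap, Ideal.ResidueField.map_algebraMap,
    Ideal.ResidueField.map_algebraMap]
  rfl

/-- A separable polynomial over `κ(𝔭)` splits in `κ(𝔮)` for a suitable étale neighbourhood. -/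
theorem exists_etale_splits : ∀ (n : ℕ) {R : Type u} [CommRing R] (𝔭 : Ideal R) [𝔭.IsPrime]
    (P : 𝔭.ResidueField[X]), P.natDegree = n → P.Separable →
    ∃ (R' : Type u) (_ : CommRing R') (_ : Algebra R R') (_ : Algebra.Etale R R')
      (𝔮 : Ideal R') (_ : 𝔮.IsPrime) (h : 𝔭 = 𝔮.comap (algebraMap R R')),
      (P.map (Ideal.ResidueField.map 𝔭 𝔮 (algebraMap R R') h)).Splits := by
  intro n
  induction n with
  | zero =>
    intro R _ 𝔭 _ P hn _
    refine ⟨R, inferInstance, inferInstance, inferInstance, 𝔭, inferInstance, ?_, ?_⟩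
    · rw [Algebra.algebraMap_self, Ideal.comap_id]
    · apply Splits.of_natDegree_eq_zero
      exact Nat.eq_zero_of_le_zero ((natDegree_map_le).trans hn.le)
  | succ n ih =>
    intro R _ 𝔭 _ P hn hsep
    obtain ⟨m, hm, hmP⟩ := Polynomial.exists_irreducible_of_natDegree_pos
      (show 0 < P.natDegree by omega)
    obtain ⟨R₁, _, _, _, 𝔮₁, _, h₁, ρ, hρ⟩ := exists_etale_root 𝔭 m hm (hsep.of_dvd hmP)
    set μ₁ := Ideal.ResidueField.map 𝔭 𝔮₁ (algebraMap R R₁) h₁
    have hρ' : (P.map μ₁).IsRoot ρ := by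
      obtain ⟨c, rfl⟩ := hmP
      rw [Polynomial.map_mul, IsRoot.def, eval_mul, hρ, zero_mul]
    have hfac : (X - C ρ) * (P.map μ₁ /ₘ (X - C ρ)) = P.map μ₁ :=
      mul_divByMonic_eq_iff_isRoot.mpr hρ'
    have hdeg : (P.map μ₁ /ₘ (X - C ρ)).natDegree = n := by
      rw [natDegree_divByMonic _ (monic_X_sub_C ρ), natDegree_map, hn, natDegree_X_sub_C]
      rfl
    have hsep₂ : (P.map μ₁ /ₘ (X - C ρ)).Separable := by
      have : (P.map μ₁).Separable := hsep.map
      rw [← hfac] at this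
      exact this.of_mul_right
    obtain ⟨R₂, _, _, _, 𝔮₂, _, h₂, hsplit⟩ := ih 𝔮₁ (P.map μ₁ /ₘ (X - C ρ)) hdeg hsep₂
    let _ : Algebra R R₂ := ((algebraMap R₁ R₂).comp (algebraMap R R₁)).toAlgebra
    have : IsScalarTower R R₁ R₂ := IsScalarTower.of_algebraMap_eq' rfl
    have : Algebra.Etale R R₂ := Algebra.Etale.comp R R₁ R₂
    have h : 𝔭 = 𝔮₂.comap (algebraMap R R₂) := by
      rw [h₁, h₂, Ideal.comap_comap]; rfl
    refine ⟨R₂, inferInstance, inferInstance, inferInstance, 𝔮₂, inferInstance, h, ?_⟩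
    have hcomp := residueField_map_comp (algebraMap R R₁) (algebraMap R₁ R₂) 𝔭 𝔮₁ 𝔮₂ h₁ h₂ h
    have : Ideal.ResidueField.map 𝔭 𝔮₂ (algebraMap R R₂) h =
        (Ideal.ResidueField.map 𝔮₁ 𝔮₂ (algebraMap R₁ R₂) h₂).comp μ₁ := hcomp.symm
    rw [this, ← Polynomial.map_map, ← hfac, Polynomial.map_mul, Polynomial.map_sub, map_X, map_C]
    exact (Splits.X_sub_C _).mul hsplit

/-- Finitely many separable polynomials over `κ(𝔭)` split simultaneously in `κ(𝔮)` for a
suitable étale neighbourhood. -/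
theorem exists_etale_splits_family {ι : Type*} [Finite ι] :
    ∀ {R : Type u} [CommRing R] (𝔭 : Ideal R) [𝔭.IsPrime]
    (P : ι → 𝔭.ResidueField[X]), (∀ i, (P i).Separable) →
    ∃ (R' : Type u) (_ : CommRing R') (_ : Algebra R R') (_ : Algebra.Etale R R')
      (𝔮 : Ideal R') (_ : 𝔮.IsPrime) (h : 𝔭 = 𝔮.comap (algebraMap R R')),
      ∀ i, ((P i).map (Ideal.ResidueField.map 𝔭 𝔮 (algebraMap R R') h)).Splits := by
  induction ι using Finite.induction_empty_option with
  | of_equiv e ih =>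
    intro R _ 𝔭 _ P hP
    obtain ⟨R', i1, i2, i3, 𝔮, i4, h, hs⟩ := ih 𝔭 (P ∘ e) (fun i => hP _)
    exact ⟨R', i1, i2, i3, 𝔮, i4, h, fun b => by simpa using hs (e.symm b)⟩
  | h_empty =>
    intro R _ 𝔭 _ P hP
    refine ⟨R, inferInstance, inferInstance, inferInstance, 𝔭, inferInstance, ?_, fun i => i.elim⟩
    rw [Algebra.algebraMap_self, Ideal.comap_id]
  | h_option ih =>
    intro R _ 𝔭 _ P hP
    obtain ⟨R₁, _, _, _, 𝔮₁, _, h₁, hs₁⟩ := exists_etale_splits _ 𝔭 (P none) rfl (hP none)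
    set μ₁ := Ideal.ResidueField.map 𝔭 𝔮₁ (algebraMap R R₁) h₁
    obtain ⟨R₂, _, _, _, 𝔮₂, _, h₂, hs₂⟩ := ih 𝔮₁ (fun a => (P (some a)).map μ₁)
      (fun a => (hP (some a)).map)
    let _ : Algebra R R₂ := ((algebraMap R₁ R₂).comp (algebraMap R R₁)).toAlgebra
    have : IsScalarTower R R₁ R₂ := IsScalarTower.of_algebraMap_eq' rfl
    have : Algebra.Etale R R₂ := Algebra.Etale.comp R R₁ R₂
    have h : 𝔭 = 𝔮₂.comap (algebraMap R R₂) := by
      rw [h₁, h₂, Ideal.comap_comap]; rfl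
    refine ⟨R₂, inferInstance, inferInstance, inferInstance, 𝔮₂, inferInstance, h, ?_⟩
    have hcomp := residueField_map_comp (algebraMap R R₁) (algebraMap R₁ R₂) 𝔭 𝔮₁ 𝔮₂ h₁ h₂ h
    have hμ : Ideal.ResidueField.map 𝔭 𝔮₂ (algebraMap R R₂) h =
        (Ideal.ResidueField.map 𝔮₁ 𝔮₂ (algebraMap R₁ R₂) h₂).comp μ₁ := hcomp.symm
    rintro (_ | a)
    · rw [hμ, ← Polynomial.map_map]
      exact hs₁.map _
    · rw [hμ, ← Polynomial.map_map]
      exact hs₂ a

end Splits

end Groth.Agent.Lib.Helper57.EtRes
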