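import Groth.Agent.Lib.Helper57.EtQF1
import Groth.Agent.Lib.Helper57.EtRes1

/-!
# Étale neighbourhoods splitting separable polynomials over a residue field (helper57)
-/

universe u

open CategoryTheory CategoryTheory.Limits AlgebraicGeometry TopologicalSpace Polynomial

namespace Groth.Agent.Lib.Helper57.EtRes

open Groth.Agent.Lib.Helper57.EtQF

/-- The residue field map of a pointed morphism `(U', u') → (U, u)`. -/
noncomputable def resMap {U' U : Scheme.{u}} (g : U' ⟶ U) {u' : U'} {u : U} (h : g u' = u) :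
    U.residueField u ⟶ U'.residueField u' :=
  (U.residueFieldCongr h).inv ≫ g.residueFieldMap u'

theorem resMap_rfl {U' U : Scheme.{u}} (g : U' ⟶ U) (u' : U') :
    resMap g (rfl : g u' = g u') = g.residueFieldMap u' := by
  simp [resMap]

theorem resMap_comp {U₂ U₁ U₀ : Scheme.{u}} (g₂ : U₂ ⟶ U₁) (g₁ : U₁ ⟶ U₀) {u₂ : U₂} {u₁ : U₁}
    {u₀ : U₀} (h₂ : g₂ u₂ = u₁) (h₁ : g₁ u₁ = u₀) (h : (g₂ ≫ g₁) u₂ = u₀) :
    resMap (g₂ ≫ g₁) h = resMap g₁ h₁ ≫ resMap g₂ h₂ := by
  subst h₂
  subst h₁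
  simp [resMap, Scheme.residueFieldMap_comp]

theorem resMap_trans {U' U : Scheme.{u}} (g : U' ⟶ U) {u' : U'} {u v : U} (h : g u' = u)
    (e : u = v) : resMap g (h.trans e) = (U.residueFieldCongr e).inv ≫ resMap g h := by
  subst e
  simp [resMap]

instance {U' U : Scheme.{u}} (g : U' ⟶ U) [IsOpenImmersion g] {u' : U'} {u : U} (h : g u' = u) :
    IsIso (resMap g h) := by
  unfold resMap; infer_instance

/-- `resMap` of `Spec.map φ` in terms of `Ideal.ResidueField.map`. -/
theorem resMap_SpecMap {R R' : CommRingCat.{u}} (φ : R ⟶ R') (u : PrimeSpectrum R')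
    (𝔭' : PrimeSpectrum R) (hpt : Spec.map φ u = 𝔭')
    (h : 𝔭'.asIdeal = u.asIdeal.comap φ.hom) :
    resMap (Spec.map φ) hpt ≫ (Scheme.Spec.residueFieldIso R' u).hom =
      (Scheme.Spec.residueFieldIso R 𝔭').hom ≫
        CommRingCat.ofHom (Ideal.ResidueField.map 𝔭'.asIdeal u.asIdeal φ.hom h) := by
  subst hpt
  rw [resMap_rfl]
  exact residueFieldMap_SpecMap φ u


set_option backward.isDefEq.respectTransparency false in
/-- Finitely many separable polynomials over `κ(s)` split in `κ(u)` for a suitable étale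
neighbourhood `(U, u)` of `s`. -/
theorem exists_etale_nbhd_splits {S : Scheme.{u}} (s : S) {ι : Type*} [Finite ι]
    (P : ι → (S.residueField s)[X]) (hP : ∀ i, (P i).Separable) :
    ∃ (U : Scheme.{u}) (g : U ⟶ S) (u : U) (h : g u = s), Etale g ∧
      ∀ i, ((P i).map (resMap g h).hom).Splits := by
  obtain ⟨_, ⟨W, hW, rfl⟩, hsW, -⟩ := S.isBasis_affineOpens.exists_subset_of_mem_open
    (Set.mem_univ s) isOpen_univ
  let 𝔭' : PrimeSpectrum Γ(S, W) := hW.primeIdealOf ⟨s, hsW⟩
  have hfs : hW.fromSpec 𝔭' = s := hW.fromSpec_primeIdealOf ⟨s, hsW⟩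
  let ε : S.residueField s ⟶ .of 𝔭'.asIdeal.ResidueField :=
    resMap hW.fromSpec hfs ≫ (Scheme.Spec.residueFieldIso Γ(S, W) 𝔭').hom
  obtain ⟨R', _, _, _, 𝔮, _, h, hs⟩ := exists_etale_splits_family 𝔭'.asIdeal
    (fun i => (P i).map ε.hom) (fun i => (hP i).map)
  let φ : Γ(S, W) ⟶ .of R' := CommRingCat.ofHom <| algebraMap Γ(S, W) R'
  have hφ : φ.hom.Etale := RingHom.etale_algebraMap.mpr ‹_›
  have : Etale (Spec.map φ) := HasRingHomProperty.Spec_iff.mpr hφ
  let u : PrimeSpectrum R' := ⟨𝔮, ‹_›⟩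
  have hpt : Spec.map φ u = 𝔭' := PrimeSpectrum.ext h.symm
  have hu : (Spec.map φ ≫ hW.fromSpec) u = s := by
    rw [Scheme.Hom.comp_apply, hpt, hfs]
  refine ⟨Spec (.of R'), Spec.map φ ≫ hW.fromSpec, u, hu, inferInstance, fun i => ?_⟩
  have h1 : resMap (Spec.map φ ≫ hW.fromSpec) hu =
      resMap hW.fromSpec hfs ≫ resMap (Spec.map φ) hpt := resMap_comp _ _ hpt hfs hu
  have h2 := resMap_SpecMap φ u 𝔭' hpt h
  have h3 : resMap (Spec.map φ ≫ hW.fromSpec) hu =
      ε ≫ CommRingCat.ofHom (Ideal.ResidueField.map 𝔭'.asIdeal 𝔮 (algebraMap Γ(S, W) R') h) ≫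
        (Scheme.Spec.residueFieldIso (.of R') u).inv := by
    have h4 : resMap (Spec.map φ) hpt = (Scheme.Spec.residueFieldIso Γ(S, W) 𝔭').hom ≫
        CommRingCat.ofHom (Ideal.ResidueField.map 𝔭'.asIdeal 𝔮 (algebraMap Γ(S, W) R') h) ≫
        (Scheme.Spec.residueFieldIso (.of R') u).inv := by
      rw [← Category.assoc, Iso.eq_comp_inv]
      exact h2
    rw [h1, h4]
    simp [ε]
  rw [h3]
  have := (hs i).map (Scheme.Spec.residueFieldIso (.of R') u).inv.hom
  simpa [Polynomial.map_map, RingHom.comp_assoc] using this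


set_option backward.isDefEq.respectTransparency false in
/-- At a quasi-finite point the residue field extension is finite. -/
theorem finite_residueFieldMap_of_quasiFiniteAt {X S : Scheme.{u}} (f : X ⟶ S)
    [LocallyOfFiniteType f] (x : X) (hx : f.QuasiFiniteAt x) :
    (f.residueFieldMap x).hom.Finite := by
  obtain ⟨_, ⟨U, hU, rfl⟩, hxU, -⟩ := S.isBasis_affineOpens.exists_subset_of_mem_open
    (Set.mem_univ (f x)) isOpen_univ
  obtain ⟨_, ⟨V, hV, rfl⟩, hxV, hUV : V ≤ f ⁻¹ᵁ U⟩ :=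
    X.isBasis_affineOpens.exists_subset_of_mem_open hxU (f ⁻¹ᵁ U).2
  let q' : PrimeSpectrum Γ(X, V) := hV.primeIdealOf ⟨x, hxV⟩
  have hq' : hV.fromSpec q' = x := hV.fromSpec_primeIdealOf ⟨x, hxV⟩
  let φ := f.appLE U V hUV
  have hsq : hV.fromSpec ≫ f = Spec.map φ ≫ hU.fromSpec :=
    (IsAffineOpen.SpecMap_appLE_fromSpec f hU hV hUV).symm
  -- ring level
  have hfin : (Ideal.ResidueField.map (PrimeSpectrum.comap φ.hom q').asIdeal q'.asIdeal φ.hom
      rfl).Finite := by
    algebraize [φ.hom]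
    have : Algebra.QuasiFiniteAt Γ(S, U) q'.asIdeal := hx.quasiFiniteAt hV hU hUV hxV
    have hlies : q'.asIdeal.LiesOver (PrimeSpectrum.comap φ.hom q').asIdeal := ⟨rfl⟩
    let := Localization.AtPrime.algebraOfLiesOver (PrimeSpectrum.comap φ.hom q').asIdeal
      q'.asIdeal
    have hmf : Module.Finite (PrimeSpectrum.comap φ.hom q').asIdeal.ResidueField
      q'.asIdeal.ResidueField := inferInstance
    exact RingHom.finite_algebraMap.mpr hmf
  have h1 : ((Spec.map φ).residueFieldMap q').hom.Finite := by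
    have h2 := residueFieldMap_SpecMap φ q'
    have h3 : (Spec.map φ).residueFieldMap q' =
        (Scheme.Spec.residueFieldIso Γ(S, U) (PrimeSpectrum.comap φ.hom q')).hom ≫
        CommRingCat.ofHom (Ideal.ResidueField.map (PrimeSpectrum.comap φ.hom q').asIdeal
          q'.asIdeal φ.hom rfl) ≫ (Scheme.Spec.residueFieldIso Γ(X, V) q').inv := by
      rw [← Category.assoc, Iso.eq_comp_inv]
      exact h2
    rw [h3]
    exact (RingHom.finite_respectsIso.cancel_left_isIso _ _).mpr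
      ((RingHom.finite_respectsIso.cancel_right_isIso _ _).mpr hfin)
  have h4 : ((Spec.map φ ≫ hU.fromSpec).residueFieldMap q').hom.Finite := by
    rw [Scheme.residueFieldMap_comp]
    exact (RingHom.finite_respectsIso.cancel_left_isIso _ _).mpr h1
  have h5 : ((hV.fromSpec ≫ f).residueFieldMap q').hom.Finite := by
    rw [Scheme.Hom.residueFieldMap_congr hsq]
    exact (RingHom.finite_respectsIso.cancel_left_isIso _ _).mpr h4
  rw [Scheme.residueFieldMap_comp] at h5
  have h6 := (RingHom.finite_respectsIso.cancel_right_isIso _ _).mp h5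
  rwa [hq'] at h6

end Groth.Agent.Lib.Helper57.EtRes
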