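import Groth.Agent.Lib.Helper57.EtRes2
import Groth.Agent.Lib.Helper57.EtQF2

/-!
# Purely inseparable residue fields after étale localization (helper57)
-/

universe u

open CategoryTheory CategoryTheory.Limits AlgebraicGeometry TopologicalSpace Polynomial

namespace Groth.Agent.Lib.Helper57.EtRes

open Groth.Agent.Lib.Helper57.EtQF

section FieldTheory

/-- If `L` splits the minimal polynomials of all separable elements of the algebraic extension
`K/k`, then in any common overfield `F` the image of `K` is purely inseparable over `L`. -/
theorem mem_perfectClosure_of_splits {k K L F : Type*} [Field k] [Field K] [Field L] [Field F]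
    [Algebra k K] [Algebra k L] [Algebra K F] [Algebra L F] [Algebra k F]
    [IsScalarTower k K F] [IsScalarTower k L F] [Algebra.IsAlgebraic k K]
    (hsplit : ∀ γ : K, IsSeparable k γ → ((minpoly k γ).map (algebraMap k L)).Splits) (β : K) :
    algebraMap K F β ∈ perfectClosure L F := by
  let q := ringExpChar k
  have : ExpChar k q := ringExpChar.expChar k
  have : ExpChar K q := expChar_of_injective_algebraMap (algebraMap k K).injective q
  have : ExpChar L q := expChar_of_injective_algebraMap (algebraMap k L).injective q
  have : ExpChar (separableClosure k K) q :=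
    expChar_of_injective_algebraMap (algebraMap k (separableClosure k K)).injective q
  obtain ⟨n, c, hc⟩ := IsPurelyInseparable.pow_mem (separableClosure k K) q β
  have hγ : IsSeparable k (c : K) := c.2
  have hint : IsIntegral k (c : K) := hγ.isIntegral
  have hsp := hsplit (c : K) hγ
  have hne : (minpoly k (c : K)).map (algebraMap k L) ≠ 0 :=
    (Polynomial.map_ne_zero_iff (algebraMap k L).injective).mpr (minpoly.ne_zero hint)
  have hroot : (((minpoly k (c : K)).map (algebraMap k L)).map (algebraMap L F)).IsRoot
      (algebraMap K F (c : K)) := by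
    rw [Polynomial.map_map, ← IsScalarTower.algebraMap_eq, IsRoot.def, eval_map_algebraMap,
      aeval_algebraMap_apply, minpoly.aeval, map_zero]
  have hmem := hsp.mem_range_of_isRoot hne hroot
  rw [mem_perfectClosure_iff_pow_mem q]
  refine ⟨n, ?_⟩
  rw [← map_pow, ← hc]
  exact hmem

/-- For a finite extension `K/k` there is a single separable polynomial over `k` such that any
extension `L/k` splitting it splits the minimal polynomial of every separable element of `K`. -/
theorem exists_separable_poly (k K : Type*) [Field k] [Field K] [Algebra k K]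
    [FiniteDimensional k K] :
    ∃ Q : k[X], Q.Separable ∧ ∀ (L : Type*) [Field L] [Algebra k L],
      (Q.map (algebraMap k L)).Splits →
      ∀ γ : K, IsSeparable k γ → ((minpoly k γ).map (algebraMap k L)).Splits := by
  obtain ⟨α, hα⟩ := Field.exists_primitive_element k (separableClosure k K)
  refine ⟨minpoly k α, Algebra.IsSeparable.isSeparable k α, fun L _ _ hL γ hγ => ?_⟩
  have hmem : (⟨γ, hγ⟩ : separableClosure k K) ∈ IntermediateField.adjoin k {α} := by
    rw [hα]; trivial
  have := IntermediateField.splits_of_mem_adjoin (F := k) (K := separableClosure k K) (L := L)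
    (S := {α}) (fun x hx => by
      rw [Set.mem_singleton_iff] at hx
      subst hx
      exact ⟨(Algebra.IsSeparable.isSeparable k x).isIntegral, hL⟩) hmem
  rwa [IntermediateField.minpoly_eq] at this

end FieldTheory


section SplitsAt

variable {X S : Scheme.{u}}

/-- The étale neighbourhood `(U, u)` of `f x` splits the minimal polynomials of all separable
elements of `κ(x)/κ(f x)`. -/
def SplitsAt (f : X ⟶ S) (x : X) {U : Scheme.{u}} (g : U ⟶ S) (u : U) (h : g u = f x) : Prop :=
  letI := (f.residueFieldMap x).hom.toAlgebra
  ∀ γ : X.residueField x, IsSeparable (S.residueField (f x)) γ →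
    ((minpoly (S.residueField (f x)) γ).map (resMap g h).hom).Splits

theorem SplitsAt.mono {f : X ⟶ S} {x : X} {U₀ : Scheme.{u}} {g₀ : U₀ ⟶ S} {u₀ : U₀}
    {h₀ : g₀ u₀ = f x} (hsp : SplitsAt f x g₀ u₀ h₀) {U₂ : Scheme.{u}} (g₂ : U₂ ⟶ U₀) (u₂ : U₂)
    (h₂ : g₂ u₂ = u₀) (h : (g₂ ≫ g₀) u₂ = f x) : SplitsAt f x (g₂ ≫ g₀) u₂ h := by
  intro γ hγ
  have := (hsp γ hγ).map (resMap g₂ h₂).hom
  rw [Polynomial.map_map] at this
  rw [resMap_comp g₂ g₀ h₂ h₀ h]
  exact this

/-- Existence of an étale neighbourhood splitting the separable parts of finitely many finite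
residue field extensions. -/
theorem exists_splitsAt (f : X ⟶ S) (s : S) {ι : Type*} [Finite ι] (x : ι → X)
    (hs : ∀ i, f (x i) = s) (hfin : ∀ i, (f.residueFieldMap (x i)).hom.Finite) :
    ∃ (U : Scheme.{u}) (g : U ⟶ S) (u : U) (h : g u = s), Etale g ∧
      ∀ i, SplitsAt f (x i) g u (h.trans (hs i).symm) := by
  have key : ∀ i, ∃ Q : (S.residueField (f (x i)))[X], Q.Separable ∧
      ∀ (L : Type u) [Field L] (b : S.residueField (f (x i)) →+* L), (Q.map b).Splits →
        letI := (f.residueFieldMap (x i)).hom.toAlgebra
        ∀ γ : X.residueField (x i), IsSeparable (S.residueField (f (x i))) γ →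
          ((minpoly (S.residueField (f (x i))) γ).map b).Splits := by
    intro i
    let _ := (f.residueFieldMap (x i)).hom.toAlgebra
    have : FiniteDimensional (S.residueField (f (x i))) (X.residueField (x i)) := hfin i
    obtain ⟨Q, hQ, hQ'⟩ := exists_separable_poly (S.residueField (f (x i))) (X.residueField (x i))
    refine ⟨Q, hQ, fun L _ b hb γ hγ => ?_⟩
    let _ := b.toAlgebra
    exact hQ' L hb γ hγ
  choose Q hQsep hQ using key
  obtain ⟨U, g, u, h, hg, hsplit⟩ := exists_etale_nbhd_splits s
    (fun i => (Q i).map (S.residueFieldCongr (hs i)).hom.hom) (fun i => (hQsep i).map)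
  refine ⟨U, g, u, h, hg, fun i => ?_⟩
  intro γ hγ
  refine hQ i _ _ ?_ γ hγ
  have h1 := hsplit i
  rw [Polynomial.map_map] at h1
  rw [resMap_trans g h (hs i).symm]
  exact h1

end SplitsAt


section PurelyInseparable

open AlgebraicGeometry.Scheme.Pullback

variable {X S U : Scheme.{u}} {f : X ⟶ S} {g : U ⟶ S}

/-- If `(U, u)` splits the separable part of `κ(x)/κ(f x)`, every point of `X ×_S U` over
`(x, u)` has residue field purely inseparable over `κ(u)`. -/
theorem isPurelyInseparable_of_splitsAt_aux (w : ↑(pullback f g))
    (hfin : (f.residueFieldMap (pullback.fst f g w)).hom.Finite)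
    (hcond : g (pullback.snd f g w) = f (pullback.fst f g w))
    (hsp : SplitsAt f (pullback.fst f g w) g (pullback.snd f g w) hcond) :
    letI := ((pullback.snd f g).residueFieldMap w).hom.toAlgebra
    IsPurelyInseparable (U.residueField (pullback.snd f g w))
      ((pullback f g).residueField w) := by
  have hcomm : f.residueFieldMap (pullback.fst f g w) ≫ (pullback.fst f g).residueFieldMap w =
      resMap g hcond ≫ (pullback.snd f g).residueFieldMap w := by
    have := residueFieldCongr_inv_residueFieldMap_ofPoint w
    dsimp only [Triplet.ofPoint] at this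
    rw [Scheme.residueFieldCongr_refl] at this
    simpa [resMap] using this
  let _ : Algebra (S.residueField (f (pullback.fst f g w))) (X.residueField (pullback.fst f g w)) :=
    (f.residueFieldMap (pullback.fst f g w)).hom.toAlgebra
  let _ : Algebra (S.residueField (f (pullback.fst f g w))) (U.residueField (pullback.snd f g w)) :=
    (resMap g hcond).hom.toAlgebra
  let _ : Algebra (X.residueField (pullback.fst f g w)) ((pullback f g).residueField w) :=
    ((pullback.fst f g).residueFieldMap w).hom.toAlgebra
  let _ : Algebra (U.residueField (pullback.snd f g w)) ((pullback f g).residueField w) :=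
    ((pullback.snd f g).residueFieldMap w).hom.toAlgebra
  let _ : Algebra (S.residueField (f (pullback.fst f g w))) ((pullback f g).residueField w) :=
    (f.residueFieldMap (pullback.fst f g w) ≫ (pullback.fst f g).residueFieldMap w).hom.toAlgebra
  have : IsScalarTower (S.residueField (f (pullback.fst f g w)))
      (X.residueField (pullback.fst f g w)) ((pullback f g).residueField w) :=
    IsScalarTower.of_algebraMap_eq' rfl
  have : IsScalarTower (S.residueField (f (pullback.fst f g w)))
      (U.residueField (pullback.snd f g w)) ((pullback f g).residueField w) :=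
    IsScalarTower.of_algebraMap_eq' congr($(hcomm).hom)
  have : Module.Finite (S.residueField (f (pullback.fst f g w)))
      (X.residueField (pullback.fst f g w)) := hfin
  have hint : (f.residueFieldMap (Triplet.ofPoint w).x).hom.IsIntegral := hfin.to_isIntegral
  have hsurj := ofPointTensor_surjective w (isMaximal_of_isIntegral (Triplet.ofPoint w) hint _)
  have htop := subring_eq_top w hsurj
    (perfectClosure (U.residueField (pullback.snd f g w))
      ((pullback f g).residueField w)).toSubring
    (fun a => mem_perfectClosure_of_splits (k := S.residueField (f (pullback.fst f g w)))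
      (fun γ hγ => hsp γ hγ) a)
    (fun b => (perfectClosure (U.residueField (pullback.snd f g w))
      ((pullback f g).residueField w)).algebraMap_mem b)
  rw [isPurelyInseparable_iff_perfectClosure_eq_top]
  refine top_unique fun y _ => ?_
  have : y ∈ (perfectClosure (U.residueField (pullback.snd f g w))
      ((pullback f g).residueField w)).toSubring := htop ▸ Subring.mem_top y
  exact this

/-- Version with named points. -/
theorem isPurelyInseparable_of_splitsAt (w : ↑(pullback f g)) (x : X) (u : U)
    (hwx : pullback.fst f g w = x) (hwu : pullback.snd f g w = u)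
    (hfin : (f.residueFieldMap x).hom.Finite) (h : g u = f x) (hsp : SplitsAt f x g u h) :
    letI := ((pullback.snd f g).residueFieldMap w).hom.toAlgebra
    IsPurelyInseparable (U.residueField (pullback.snd f g w))
      ((pullback f g).residueField w) := by
  subst hwx
  subst hwu
  exact isPurelyInseparable_of_splitsAt_aux w hfin h hsp

/-- If `κ(x)/κ(f x)` is finite, there are only finitely many points of `X ×_S U` over `(x, u)`. -/
theorem finite_points (x : X) (u : U) (hfin : (f.residueFieldMap x).hom.Finite) :
    {w : ↑(pullback f g) | pullback.fst f g w = x ∧ pullback.snd f g w = u}.Finite := by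
  by_cases h : f x = g u
  · let T : Triplet f g := Triplet.mk' x u h
    have h1 : ((S.residueFieldCongr T.hx).inv ≫ f.residueFieldMap T.x).hom.Finite :=
      (RingHom.finite_respectsIso.cancel_left_isIso _ _).mpr hfin
    have h2 : T.tensorInr.hom.Finite := by
      have h3 := RingHom.finite_isStableUnderBaseChange.pushout_inl
        RingHom.finite_respectsIso
        ((S.residueFieldCongr T.hy).inv ≫ g.residueFieldMap T.y)
        ((S.residueFieldCongr T.hx).inv ≫ f.residueFieldMap T.x) h1
      have h4 : T.tensorInr = pushout.inl _ _ ≫ (pushoutSymmetry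
        ((S.residueFieldCongr T.hy).inv ≫ g.residueFieldMap T.y)
        ((S.residueFieldCongr T.hx).inv ≫ f.residueFieldMap T.x)).hom :=
        (inl_comp_pushoutSymmetry_hom _ _).symm
      rw [h4]
      exact (RingHom.finite_respectsIso.cancel_right_isIso _ _).mpr h3
    let _ : Algebra (U.residueField T.y) T.tensor := T.tensorInr.hom.toAlgebra
    have : Module.Finite (U.residueField T.y) T.tensor := h2
    have : IsArtinianRing T.tensor := IsArtinianRing.of_finite (U.residueField T.y) T.tensor
    have hfinite : Finite (Spec T.tensor) := inferInstanceAs (Finite (PrimeSpectrum T.tensor))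
    refine (Set.finite_range T.SpecTensorTo).subset ?_
    rintro w ⟨hwx, hwu⟩
    have hT : Triplet.ofPoint w = T := Triplet.ext hwx hwu
    have hw := SpecTensorTo_SpecOfPoint w
    rw [← hw]
    generalize SpecOfPoint w = p
    revert p
    rw [hT]
    intro p
    exact ⟨p, rfl⟩
  · convert Set.finite_empty
    ext w
    simp only [Set.mem_ofPred_eq, Set.mem_empty_iff_false, iff_false, not_and]
    rintro rfl rfl
    apply h
    rw [← Scheme.Hom.comp_apply, pullback.condition, Scheme.Hom.comp_apply]

end PurelyInseparable

end Groth.Agent.Lib.Helper57.EtRes
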