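import Groth.Agent.Lib.Helper57.EtRes3
import Groth.Agent.Lib.Helper57.EtQF5

/-!
# Étale localization of quasi-finite points with purely inseparable residue fields,
non-separated version (helper57)

Stacks 02LN-ish: the statement without separatedness: the pieces are only open.
-/

universe u

open CategoryTheory CategoryTheory.Limits AlgebraicGeometry TopologicalSpace

namespace Groth.Agent.Lib.Helper57.EtRes

open Groth.Agent.Lib.Helper57.EtQF

theorem exists_etale_nbhd_purelyInseparable_open {X S : Scheme.{u}} (f : X ⟶ S)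
    [LocallyOfFiniteType f] (s : S)
    {ι : Type} [Finite ι] (x : ι → ↑X) (hinj : Function.Injective x) (hs : ∀ i, f (x i) = s)
    (hx : ∀ i, f.QuasiFiniteAt (x i)) :
    ∃ (U : Scheme.{u}) (g : U ⟶ S) (u : U), Etale g ∧ g u = s ∧
      ∃ (J : ι → Type) (_ : ∀ i, Finite (J i)) (V : ∀ i, J i → (pullback f g).Opens)
        (v : ∀ i, J i → ↑(pullback f g)),
        (∀ i j, v i j ∈ V i j ∧ IsFinite ((V i j).ι ≫ pullback.snd f g) ∧
          pullback.snd f g (v i j) = u ∧
          (∀ w : ↑(pullback f g), w ∈ V i j → pullback.snd f g w = u → w = v i j) ∧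
          (letI := ((pullback.snd f g).residueFieldMap (v i j)).hom.toAlgebra
           Module.Finite ↑(U.residueField (pullback.snd f g (v i j)))
            ↑((pullback f g).residueField (v i j)) ∧
           IsPurelyInseparable ↑(U.residueField (pullback.snd f g (v i j)))
            ↑((pullback f g).residueField (v i j))) ∧
          pullback.fst f g (v i j) = x i) ∧
        (∀ i j i' j', v i j = v i' j' → i = i' ∧ HEq j j') ∧
        (∀ (w : ↑(pullback f g)) (i : ι), pullback.snd f g w = u → pullback.fst f g w = x i →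
          ∃ j, w = v i j) := by
  have hfin : ∀ i, (f.residueFieldMap (x i)).hom.Finite := fun i =>
    finite_residueFieldMap_of_quasiFiniteAt f (x i) (hx i)
  obtain ⟨U₀, g₀, u₀, h₀, hg₀, hsp₀⟩ := exists_splitsAt f s x hs hfin
  -- the points over `u₀` lying over some `x i`
  let T : Set ↑(pullback f g₀) :=
    {w | pullback.snd f g₀ w = u₀ ∧ ∃ i, pullback.fst f g₀ w = x i}
  have hTfin : T.Finite := by
    have h1 : (⋃ i, {w : ↑(pullback f g₀) |
        pullback.fst f g₀ w = x i ∧ pullback.snd f g₀ w = u₀}).Finite :=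
      Set.finite_iUnion fun i => finite_points (x i) u₀ (hfin i)
    refine h1.subset ?_
    rintro w ⟨hw, i, hi⟩
    exact Set.mem_iUnion.mpr ⟨i, hi, hw⟩
  have : Finite ↥T := hTfin.to_subtype
  have hTq : ∀ w : ↥T, (pullback.snd f g₀).QuasiFiniteAt w.1 := by
    rintro ⟨w, hw, i, hi⟩
    apply quasiFiniteAt_of_isPullback (IsPullback.of_hasPullback f g₀)
    show f.QuasiFiniteAt (pullback.fst f g₀ w)
    rw [hi]; exact hx i
  obtain ⟨U₂, g₂, u₂, hg₂, hu₂, hiso₂, X₂, p₂, f₂', sq₂, P, hP⟩ :=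
    exists_open_pieces (pullback.snd f g₀) u₀ (fun w : ↥T => w.1) Subtype.val_injective
      (fun w => w.2.1) hTq
  have sqBig : IsPullback (p₂ ≫ pullback.fst f g₀) f₂' f (g₂ ≫ g₀) :=
    sq₂.paste_horiz (IsPullback.of_hasPullback f g₀)
  choose V v hVfin hvV hvu hvx hVuniq hveq using fun w => (P w).exists_opens sqBig
  have hvx' : ∀ w : ↥T, pullback.fst f (g₂ ≫ g₀) (v w) = pullback.fst f g₀ w.1 := by
    intro w
    rw [hvx w, Scheme.Hom.comp_apply, hP w]
  have hvinj : Function.Injective v := by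
    intro w w' hww'
    have h1 : sqBig.isoPullback.hom ((P w).j (P w).pt) =
        sqBig.isoPullback.hom ((P w').j (P w').pt) := by rw [← hveq, ← hveq, hww']
    have h2 := sqBig.isoPullback.hom.homeomorph.injective h1
    apply Subtype.ext
    rw [← hP w, ← hP w', h2]
  have hgu : (g₂ ≫ g₀) u₂ = s := by rw [Scheme.Hom.comp_apply, hu₂, h₀]
  -- the index types
  let J : ι → Type := fun i => Fin (Nat.card {w : ↥T // pullback.fst f g₀ w.1 = x i})
  let e : ∀ i, J i ≃ {w : ↥T // pullback.fst f g₀ w.1 = x i} := fun i =>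
    (Finite.equivFin _).symm
  refine ⟨U₂, g₂ ≫ g₀, u₂, inferInstance, hgu, J, fun i => inferInstance,
    fun i j => V (e i j).1, fun i j => v (e i j).1, ?_, ?_, ?_⟩
  · intro i j
    refine ⟨hvV _, hVfin _, hvu _, hVuniq _, ⟨?_, ?_⟩, ?_⟩
    · have hq : (pullback.snd f (g₂ ≫ g₀)).QuasiFiniteAt (v (e i j).1) := by
        apply quasiFiniteAt_of_isPullback (IsPullback.of_hasPullback f (g₂ ≫ g₀))
        show f.QuasiFiniteAt (pullback.fst f (g₂ ≫ g₀) (v (e i j).1))
        rw [hvx', (e i j).2]; exact hx i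
      exact finite_residueFieldMap_of_quasiFiniteAt (pullback.snd f (g₂ ≫ g₀)) _ hq
    · have hxi : pullback.fst f (g₂ ≫ g₀) (v (e i j).1) = x i := by
        rw [hvx', (e i j).2]
      have h : (g₂ ≫ g₀) u₂ = f (x i) := hgu.trans (hs i).symm
      exact isPurelyInseparable_of_splitsAt (v (e i j).1) (x i) u₂ hxi (hvu _) (hfin i) h
        ((hsp₀ i).mono g₂ u₂ hu₂ h)
    · rw [hvx', (e i j).2]
  · intro i j i' j' hne
    have hww' : (e i j).1 = (e i' j').1 := hvinj hne
    have hii' : i = i' := by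
      apply hinj
      rw [← (e i j).2, ← (e i' j').2, hww']
    subst hii'
    refine ⟨rfl, heq_of_eq ?_⟩
    exact (e i).injective (Subtype.ext hww')
  · intro w' i hw'u hw'x
    let w'' : X₂ := sqBig.isoPullback.inv w'
    have h1 : f₂' w'' = u₂ := by
      show f₂' (sqBig.isoPullback.inv w') = u₂
      rw [← Scheme.Hom.comp_apply, sqBig.isoPullback_inv_snd, hw'u]
    have h2 : pullback.fst f g₀ (p₂ w'') = x i := by
      show pullback.fst f g₀ (p₂ (sqBig.isoPullback.inv w')) = x i
      rw [← Scheme.Hom.comp_apply, ← Scheme.Hom.comp_apply, sqBig.isoPullback_inv_fst, hw'x]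
    have h3 : pullback.snd f g₀ (p₂ w'') = u₀ := by
      rw [← Scheme.Hom.comp_apply, sq₂.w, Scheme.Hom.comp_apply, h1, hu₂]
    let w₀ : ↥T := ⟨p₂ w'', h3, i, h2⟩
    refine ⟨(e i).symm ⟨w₀, h2⟩, ?_⟩
    show w' = v (e i ((e i).symm ⟨w₀, h2⟩)).1
    rw [Equiv.apply_symm_apply]
    show w' = v w₀
    rw [hveq]
    have h4 : w'' = (P w₀).j (P w₀).pt := by
      have := hiso₂
      refine eq_of_isPullback sq₂ u₂ _ _ h1 (P w₀).hpt ?_
      rw [hP w₀]
    rw [← h4]
    show w' = sqBig.isoPullback.hom (sqBig.isoPullback.inv w')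
    rw [← Scheme.Hom.comp_apply, Iso.inv_hom_id]
    rfl

end Groth.Agent.Lib.Helper57.EtRes
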