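import Groth.Agent.Lib.Helper57.EtRes2

/-!
# Finite unramified / étale morphisms near a point with trivial residue field extension (helper57)

* `exists_isClosedImmersion_restrict`: a finite unramified morphism `h : Y ⟶ U` with a unique
  point `y` over `u = h y` and `κ(u) → κ(y)` surjective is a closed immersion over a neighbourhood
  of `u` (Stacks 04DG).
* `exists_isIso_restrict`: if moreover `h` is étale, it is an isomorphism over a neighbourhood
  of `u`.
-/

universe u

open CategoryTheory CategoryTheory.Limits AlgebraicGeometry TopologicalSpace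

namespace Groth.Agent.Lib.Helper57.EtUnr

open Groth.Agent.Lib.Helper57.EtQF Groth.Agent.Lib.Helper57.EtRes

section Ring

variable {R S : Type*} [CommRing R] [CommRing S] [Algebra R S]

/-- If `R_p → S_q` is surjective, `q` the unique prime over `p` and `S` is finite over `R`, then
`R[1/r] → S[1/r]` is surjective for some `r ∉ p`, in the following elementwise form. -/
theorem exists_forall_exists_algebraMap_eq [Module.Finite R S] {p : Ideal R} [p.IsPrime]
    {q : Ideal S} [q.IsPrime] [q.LiesOver p] (hq : p.primesOver S = {q})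
    (H : Function.Surjective (Localization.localRingHom p q (algebraMap R S) (q.over_def p))) :
    ∃ r ∉ p, ∀ x : S, ∃ a : R, algebraMap R S a = algebraMap R S r * x := by
  classical
  have key (x : S) : ∃ a, ∃ b ∉ p, algebraMap R S a = algebraMap R S b * x := by
    have := (IsLocalization.mk'_surjective p.primeCompl).exists.mp (H (algebraMap _ _ x))
    simp only [Localization.localRingHom_mk', Prod.exists, Subtype.exists,
      Ideal.mem_primeCompl_iff, IsLocalization.mk'_eq_iff_eq_mul, exists_prop, ← map_mul,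
      IsLocalization.eq_iff_exists q.primeCompl] at this
    obtain ⟨a, b, hbp, c, hcq, hc⟩ := this
    obtain ⟨d, hd, e, he⟩ := Ideal.exists_notMem_dvd_algebraMap_of_primesOver_eq_singleton hq _ hcq
    refine ⟨d * a, d * b, ‹p.IsPrime›.mul_notMem hd hbp, ?_⟩
    rw [map_mul, map_mul, he]
    linear_combination e * hc
  choose a b hbp e using key
  obtain ⟨s, hs⟩ := Module.Finite.fg_top (R := R) (M := S)
  refine ⟨∏ i ∈ s, b i, prod_mem (S := p.primeCompl) fun _ _ ↦ hbp _, fun x => ?_⟩
  have hx : x ∈ Submodule.span R (s : Set S) := hs ▸ Submodule.mem_top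
  induction hx using Submodule.span_induction with
  | zero => exact ⟨0, by simp⟩
  | mem y hy =>
    refine ⟨(∏ i ∈ s.erase y, b i) * a y, ?_⟩
    rw [map_mul, e, ← Finset.prod_erase_mul s b hy, map_mul]
    ring
  | add y z _ _ hy hz =>
    obtain ⟨ay, hay⟩ := hy
    obtain ⟨az, haz⟩ := hz
    exact ⟨ay + az, by rw [map_add, hay, haz]; ring⟩
  | smul c y _ hy =>
    obtain ⟨ay, hay⟩ := hy
    exact ⟨c * ay, by rw [map_mul, hay, Algebra.smul_def]; ring⟩

/-- Surjectivity of the map of localizations away from `r`. -/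
theorem away_map_surjective {A B : Type*} [CommRing A] [CommRing B] (φ : A →+* B) (r : A)
    (hr : ∀ b, ∃ a, φ a = φ r * b) (A' B' : Type*) [CommRing A'] [CommRing B'] [Algebra A A']
    [Algebra B B'] [IsLocalization.Away r A'] [IsLocalization.Away (φ r) B'] :
    Function.Surjective (IsLocalization.Away.map A' B' φ r) := by
  intro x
  obtain ⟨b, ⟨_, n, rfl⟩, rfl⟩ := IsLocalization.exists_mk'_eq (.powers (φ r)) x
  obtain ⟨a, ha⟩ := hr b
  refine ⟨IsLocalization.mk' A' a (⟨r ^ (n + 1), n + 1, rfl⟩ : Submonoid.powers r), ?_⟩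
  rw [IsLocalization.Away.map, IsLocalization.map_mk', IsLocalization.mk'_eq_iff_eq]
  simp only [map_pow, ha]
  congr 1
  ring

end Ring

set_option backward.isDefEq.respectTransparency false in
/-- Translation of properties of the residue field extension at a point to the ring level. -/
theorem residueFieldMap_iff {P : ∀ {R S : Type u} [CommRing R] [CommRing S], (R →+* S) → Prop}
    (hP : RingHom.RespectsIso P) {X S : Scheme.{u}} (f : X ⟶ S) {U : S.Opens}
    (hU : IsAffineOpen U) {V : X.Opens} (hV : IsAffineOpen V) (hUV : V ≤ f ⁻¹ᵁ U) (x : X)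
    (hxV : x ∈ V) :
    P (f.residueFieldMap x).hom ↔
      P (Ideal.ResidueField.map
        (PrimeSpectrum.comap (f.appLE U V hUV).hom (hV.primeIdealOf ⟨x, hxV⟩)).asIdeal
        (hV.primeIdealOf ⟨x, hxV⟩).asIdeal (f.appLE U V hUV).hom rfl) := by
  let q' : PrimeSpectrum Γ(X, V) := hV.primeIdealOf ⟨x, hxV⟩
  have hq' : hV.fromSpec q' = x := hV.fromSpec_primeIdealOf ⟨x, hxV⟩
  let φ := f.appLE U V hUV
  have hsq : hV.fromSpec ≫ f = Spec.map φ ≫ hU.fromSpec :=
    (IsAffineOpen.SpecMap_appLE_fromSpec f hU hV hUV).symm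
  have h3 : (Spec.map φ).residueFieldMap q' =
      (Scheme.Spec.residueFieldIso Γ(S, U) (PrimeSpectrum.comap φ.hom q')).hom ≫
      CommRingCat.ofHom (Ideal.ResidueField.map (PrimeSpectrum.comap φ.hom q').asIdeal
        q'.asIdeal φ.hom rfl) ≫ (Scheme.Spec.residueFieldIso Γ(X, V) q').inv := by
    rw [← Category.assoc, Iso.eq_comp_inv]
    exact residueFieldMap_SpecMap φ q'
  have e1 : P ((Spec.map φ).residueFieldMap q').hom ↔
      P (Ideal.ResidueField.map (PrimeSpectrum.comap φ.hom q').asIdeal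
        q'.asIdeal φ.hom rfl) := by
    rw [h3]
    exact (hP.cancel_left_isIso _ _).trans (hP.cancel_right_isIso _ _)
  have e2 : P ((Spec.map φ ≫ hU.fromSpec).residueFieldMap q').hom ↔
      P ((Spec.map φ).residueFieldMap q').hom := by
    rw [Scheme.residueFieldMap_comp]
    exact hP.cancel_left_isIso _ _
  have e3 : P ((hV.fromSpec ≫ f).residueFieldMap q').hom ↔
      P ((Spec.map φ ≫ hU.fromSpec).residueFieldMap q').hom := by
    rw [Scheme.Hom.residueFieldMap_congr hsq]
    exact hP.cancel_left_isIso _ _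
  have e4 : P ((hV.fromSpec ≫ f).residueFieldMap q').hom ↔
      P (f.residueFieldMap (hV.fromSpec q')).hom := by
    rw [Scheme.residueFieldMap_comp]
    exact hP.cancel_right_isIso _ _
  rw [hq'] at e4
  exact e4.symm.trans (e3.trans (e2.trans e1))

set_option backward.isDefEq.respectTransparency false in
/-- **Lemma C**: a finite unramified morphism with a single point `y` over `u = h y`, with trivial
residue field extension there, is a closed immersion over a neighbourhood of `u`. -/
theorem exists_isClosedImmersion_restrict {Y U : Scheme.{u}} (h : Y ⟶ U) [IsFinite h]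
    [FormallyUnramified h] (y : Y) (huniq : ∀ y', h y' = h y → y' = y)
    (hres : Function.Surjective (h.residueFieldMap y).hom) :
    ∃ U' : U.Opens, h y ∈ U' ∧ IsClosedImmersion (h ∣_ U') := by
  obtain ⟨_, ⟨U₀, hU₀, rfl⟩, huU₀, -⟩ := U.isBasis_affineOpens.exists_subset_of_mem_open
    (Set.mem_univ (h y)) isOpen_univ
  have hV₀ : IsAffineOpen (h ⁻¹ᵁ U₀) := hU₀.preimage h
  have hyV₀ : y ∈ h ⁻¹ᵁ U₀ := huU₀
  have hfin : (h.appLE U₀ (h ⁻¹ᵁ U₀) le_rfl).hom.Finite := by
    rw [Scheme.Hom.appLE_eq_app]; exact h.finite_app U₀ hU₀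
  have hunr : (h.appLE U₀ (h ⁻¹ᵁ U₀) le_rfl).hom.FormallyUnramified :=
    FormallyUnramified.formallyUnramified_appLE h hU₀ hV₀ le_rfl
  have hsurj := (residueFieldMap_iff RingHom.surjective_respectsIso h hU₀ hV₀ le_rfl y hyV₀).mp hres
  set φ := h.appLE U₀ (h ⁻¹ᵁ U₀) le_rfl with hφ
  set q' : PrimeSpectrum Γ(Y, h ⁻¹ᵁ U₀) := hV₀.primeIdealOf ⟨y, hyV₀⟩ with hq'def
  have hq'y : hV₀.fromSpec q' = y := hV₀.fromSpec_primeIdealOf ⟨y, hyV₀⟩
  have hsq : hV₀.fromSpec ≫ h = Spec.map φ ≫ hU₀.fromSpec :=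
    (IsAffineOpen.SpecMap_appLE_fromSpec h hU₀ hV₀ le_rfl).symm
  algebraize [φ.hom]
  have hlies : q'.asIdeal.LiesOver (PrimeSpectrum.comap φ.hom q').asIdeal := ⟨rfl⟩
  -- uniqueness of the prime
  have hq : (PrimeSpectrum.comap φ.hom q').asIdeal.primesOver Γ(Y, h ⁻¹ᵁ U₀) = {q'.asIdeal} := by
    ext Q
    simp only [Set.mem_singleton_iff]
    constructor
    · rintro ⟨hQprime, hQlies⟩
      let Q' : PrimeSpectrum Γ(Y, h ⁻¹ᵁ U₀) := ⟨Q, hQprime⟩
      have h1 : Spec.map φ Q' = Spec.map φ q' := by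
        apply PrimeSpectrum.ext
        exact (hQlies.over).symm
      have h2 : h (hV₀.fromSpec Q') = h (hV₀.fromSpec q') := by
        rw [← Scheme.Hom.comp_apply, ← Scheme.Hom.comp_apply, hsq, Scheme.Hom.comp_apply,
          Scheme.Hom.comp_apply, h1]
      rw [hq'y] at h2
      have h3 := huniq _ h2
      rw [← hq'y] at h3
      have h4 : Q' = q' := hV₀.fromSpec.isOpenEmbedding.injective h3
      exact congrArg PrimeSpectrum.asIdeal h4
    · rintro rfl
      exact ⟨q'.2, hlies⟩
  have hunrAt : Algebra.IsUnramifiedAt Γ(U, U₀) q'.asIdeal :=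
    Algebra.FormallyUnramified.comp _ Γ(Y, h ⁻¹ᵁ U₀) _
  let := Localization.AtPrime.algebraOfLiesOver (PrimeSpectrum.comap φ.hom q').asIdeal q'.asIdeal
  have hloc := Localization.localRingHom_surjective_of_primesOver_eq_singleton hq hsurj
  obtain ⟨r, hr, hrsurj⟩ := exists_forall_exists_algebraMap_eq hq hloc
  have hφapp : φ = h.app U₀ := Scheme.Hom.appLE_eq_app ..
  refine ⟨U.basicOpen r, ?_, ?_⟩
  · -- `h y ∈ D(r)`
    show y ∈ h ⁻¹ᵁ U.basicOpen r
    rw [Scheme.preimage_basicOpen, ← hq'y]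
    show q' ∈ hV₀.fromSpec ⁻¹ᵁ Y.basicOpen (h.app U₀ r)
    rw [hV₀.fromSpec_preimage_basicOpen]
    show h.app U₀ r ∉ q'.asIdeal
    rw [← hφapp]
    exact hr
  · have hU' : IsAffineOpen (U.basicOpen r) := hU₀.basicOpen r
    have : IsAffine (U.basicOpen r).toScheme := hU'
    rw [HasAffineProperty.iff_of_isAffine (P := @IsClosedImmersion)]
    refine ⟨(hU'.preimage h : IsAffineOpen (h ⁻¹ᵁ U.basicOpen r)), ?_⟩
    have h1 : (h ∣_ U.basicOpen r).appTop = (U.basicOpen r).topIso.hom ≫ h.app (U.basicOpen r) ≫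
        (h ⁻¹ᵁ U.basicOpen r).topIso.inv := by
      rw [← Scheme.Hom.resLE_eq_morphismRestrict, Scheme.Hom.appTop, Scheme.Hom.resLE_app_top,
        Scheme.Hom.appLE_eq_app]
    rw [h1]
    have h2 : Function.Surjective (h.app (U.basicOpen r)) := by
      rw [IsAffineOpen.app_basicOpen_eq_away_map h hU₀ hV₀ r]
      have := hU₀.isLocalization_basicOpen r
      have := hV₀.isLocalization_basicOpen (h.app U₀ r)
      have h3 := away_map_surjective (h.app U₀).hom r (fun b => by
        obtain ⟨a, ha⟩ := hrsurj b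
        exact ⟨a, by rw [← hφapp]; exact ha⟩) Γ(U, U.basicOpen r) Γ(Y, Y.basicOpen (h.app U₀ r))
      exact (ConcreteCategory.bijective_of_isIso (Y.presheaf.map (eqToHom _).op)).2.comp h3
    have h4 := (ConcreteCategory.bijective_of_isIso (U.basicOpen r).topIso.hom).2
    have h5 := (ConcreteCategory.bijective_of_isIso (h ⁻¹ᵁ U.basicOpen r).topIso.inv).2
    exact (h5.comp h2).comp h4

/-- A property stable under base change which holds for `h` over the open `U'` holds for any base
change of `h` along a morphism landing in `U'`. -/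
theorem of_isPullback_of_range_subset {Q : MorphismProperty Scheme.{u}}
    [Q.IsStableUnderBaseChange] {Y U : Scheme.{u}} (h : Y ⟶ U) (U' : U.Opens) (hQ : Q (h ∣_ U'))
    {T Y' : Scheme.{u}} (t : T ⟶ U) (a : Y' ⟶ Y) (b : Y' ⟶ T) (sq : IsPullback a b h t)
    (ht : Set.range t ⊆ U') : Q b := by
  let t' : T ⟶ U'.toScheme := IsOpenImmersion.lift U'.ι t (by simpa using ht)
  have ht' : t' ≫ U'.ι = t := IsOpenImmersion.lift_fac _ _ _
  have sq_a : IsPullback (h ∣_ U') (h ⁻¹ᵁ U').ι U'.ι h := isPullback_morphismRestrict h U'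
  let a' : Y' ⟶ (h ⁻¹ᵁ U').toScheme := sq_a.lift (b ≫ t') a (by rw [Category.assoc, ht', sq.w])
  have ha'1 : a' ≫ (h ∣_ U') = b ≫ t' := sq_a.lift_fst _ _ _
  have ha'2 : a' ≫ (h ⁻¹ᵁ U').ι = a := sq_a.lift_snd _ _ _
  have sq' : IsPullback b a' t' (h ∣_ U') := by
    refine IsPullback.of_bot ?_ ha'1.symm sq_a
    rw [ha'2, ht']
    exact sq.flip
  exact MorphismProperty.of_isPullback sq'.flip hQ

/-- Universal form of Lemma C. -/
theorem exists_nbhd_forall_isClosedImmersion {Y U : Scheme.{u}} (h : Y ⟶ U) [IsFinite h]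
    [FormallyUnramified h] (y : Y) (huniq : ∀ y', h y' = h y → y' = y)
    (hres : Function.Surjective (h.residueFieldMap y).hom) :
    ∃ U' : U.Opens, h y ∈ U' ∧ ∀ {T Y' : Scheme.{u}} (t : T ⟶ U) (a : Y' ⟶ Y) (b : Y' ⟶ T),
      IsPullback a b h t → Set.range t ⊆ U' → IsClosedImmersion b := by
  obtain ⟨U', hu, hcl⟩ := exists_isClosedImmersion_restrict h y huniq hres
  exact ⟨U', hu, fun t a b sq ht =>
    of_isPullback_of_range_subset (Q := @IsClosedImmersion) h U' hcl t a b sq ht⟩

/-- **Lemma C, étale case**: a finite étale morphism with a single point `y` over `u = h y`, with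
trivial residue field extension there, is an isomorphism over a neighbourhood of `u`. -/
theorem exists_isIso_restrict {Y U : Scheme.{u}} (h : Y ⟶ U) [IsFinite h]
    [Etale h] (y : Y) (huniq : ∀ y', h y' = h y → y' = y)
    (hres : Function.Surjective (h.residueFieldMap y).hom) :
    ∃ U' : U.Opens, h y ∈ U' ∧ IsIso (h ∣_ U') := by
  obtain ⟨U₁, hu₁, hcl⟩ := exists_isClosedImmersion_restrict h y huniq hres
  have : Mono (h ∣_ U₁) := inferInstance
  have : Flat (h ∣_ U₁) := inferInstance
  have : LocallyOfFinitePresentation (h ∣_ U₁) := inferInstance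
  have hopen : IsOpenImmersion (h ∣_ U₁) := IsOpenImmersion.of_flat_of_mono _
  refine ⟨U₁.ι ''ᵁ (h ∣_ U₁).opensRange, ?_, ?_⟩
  · refine ⟨⟨h y, hu₁⟩, ⟨⟨y, hu₁⟩, ?_⟩, rfl⟩
    apply Subtype.ext
    show U₁.ι ((h ∣_ U₁) ⟨y, hu₁⟩) = h y
    rw [← Scheme.Hom.comp_apply, morphismRestrict_ι]
    rfl
  · have h1 : IsIso ((h ∣_ U₁) ∣_ (h ∣_ U₁).opensRange) := by
      have h2 : IsIso (pullback.snd (h ∣_ U₁) (h ∣_ U₁)) := inferInstance
      exact ((MorphismProperty.isomorphisms Scheme.{u}).arrow_mk_iso_iff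
        (morphismRestrictOpensRange (h ∣_ U₁) (h ∣_ U₁))).mpr h2
    exact ((MorphismProperty.isomorphisms Scheme.{u}).arrow_mk_iso_iff
      (morphismRestrictRestrict h U₁ (h ∣_ U₁).opensRange)).mp h1

/-- Universal form of Lemma C, étale case. -/
theorem exists_nbhd_forall_isIso {Y U : Scheme.{u}} (h : Y ⟶ U) [IsFinite h]
    [Etale h] (y : Y) (huniq : ∀ y', h y' = h y → y' = y)
    (hres : Function.Surjective (h.residueFieldMap y).hom) :
    ∃ U' : U.Opens, h y ∈ U' ∧ ∀ {T Y' : Scheme.{u}} (t : T ⟶ U) (a : Y' ⟶ Y) (b : Y' ⟶ T),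
      IsPullback a b h t → Set.range t ⊆ U' → IsIso b := by
  obtain ⟨U', hu, hiso⟩ := exists_isIso_restrict h y huniq hres
  exact ⟨U', hu, fun t a b sq ht =>
    of_isPullback_of_range_subset (Q := MorphismProperty.isomorphisms Scheme.{u}) h U' hiso
      t a b sq ht⟩

end Groth.Agent.Lib.Helper57.EtUnr
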