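import Groth.Agent.Lib.Helper57.EtQF5

/-!
# Systems of finite open pieces over an étale neighbourhood (helper57)

A `System` is a finite family of open pieces of `X ×_S U`, finite over `U`, each with a unique
point over `u`, labelled by the points `x i`, containing all the points over `(x i, u)`.
Systems can be pulled back along pointed maps `(U₂, u₂) → (U, u)` with trivial residue field
extension, in particular shrunk to open neighbourhoods of `u`.
-/

universe u

open CategoryTheory CategoryTheory.Limits AlgebraicGeometry TopologicalSpace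

namespace Groth.Agent.Lib.Helper57.EtQF

/-- Base change of an open piece, with the cartesian squares. -/
theorem OPiece.exists_pullback_sq {X₁ U₁ Z U₂ : Scheme.{u}} {f₁ : X₁ ⟶ U₁} {u₁ : U₁}
    (P : OPiece f₁ u₁) {q : Z ⟶ X₁} {h : Z ⟶ U₂} {g₂ : U₂ ⟶ U₁} (sq : IsPullback q h f₁ g₂)
    (u₂ : U₂) (hu : g₂ u₂ = u₁) [IsIso (g₂.residueFieldMap u₂)] :
    ∃ (P' : OPiece h u₂) (r : P'.Y ⟶ P.Y), IsPullback r P'.j P.j q ∧
      IsPullback r (P'.j ≫ h) (P.j ≫ f₁) g₂ ∧ q (P'.j P'.pt) = P.j P.pt := by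
  have sq' : IsPullback (pullback.fst P.j q) (pullback.snd P.j q ≫ h) (P.j ≫ f₁) g₂ :=
    (IsPullback.of_hasPullback P.j q).paste_vert sq
  have hfin : IsFinite (pullback.snd P.j q ≫ h) :=
    MorphismProperty.of_isPullback (P := @IsFinite) sq' inferInstance
  obtain ⟨y₀, hy₀, hy₀'⟩ := Scheme.exists_preimage_of_isPullback sq' P.pt u₂
    (by rw [Scheme.Hom.comp_apply, P.hpt, hu])
  have huniq : ∀ y : ↑(pullback P.j q), h (pullback.snd P.j q y) = u₂ → y = y₀ := by
    intro y hy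
    refine eq_of_isPullback sq' u₂ y y₀ (by rw [Scheme.Hom.comp_apply]; exact hy) hy₀' ?_
    rw [hy₀]
    apply P.uniq
    rw [← Scheme.Hom.comp_apply, ← Scheme.Hom.comp_apply, sq'.w,
      Scheme.Hom.comp_apply, Scheme.Hom.comp_apply, hy, hu]
  refine ⟨⟨pullback P.j q, pullback.snd P.j q, inferInstance, hfin, y₀, ?_, huniq⟩,
    pullback.fst P.j q, IsPullback.of_hasPullback P.j q, sq', ?_⟩
  · rw [← Scheme.Hom.comp_apply]; exact hy₀'
  · show q (pullback.snd P.j q y₀) = _
    rw [← Scheme.Hom.comp_apply, ← pullback.condition, Scheme.Hom.comp_apply, hy₀]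

/-- The open subset underlying a piece. -/
noncomputable def OPiece.opens {X' U : Scheme.{u}} {f' : X' ⟶ U} {u : U} (P : OPiece f' u) :
    X'.Opens := P.j.opensRange

/-- The marked point of a piece. -/
noncomputable def OPiece.point {X' U : Scheme.{u}} {f' : X' ⟶ U} {u : U} (P : OPiece f' u) : X' :=
  P.j P.pt

section OPiece

variable {X' U : Scheme.{u}} {f' : X' ⟶ U} {u : U} (P : OPiece f' u)

theorem OPiece.point_mem : P.point ∈ P.opens := ⟨P.pt, rfl⟩

theorem OPiece.map_point : f' P.point = u := P.hpt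

theorem OPiece.eq_point {w : X'} (hw : w ∈ P.opens) (hwu : f' w = u) : w = P.point := by
  obtain ⟨y, rfl⟩ := hw
  rw [P.uniq y hwu]
  rfl

theorem OPiece.opens_ι_comp_iff (Q : MorphismProperty Scheme.{u}) [Q.RespectsIso] :
    Q (P.opens.ι ≫ f') ↔ Q (P.j ≫ f') := by
  have h : P.j.isoOpensRange.hom ≫ P.opens.ι ≫ f' = P.j ≫ f' :=
    Scheme.Hom.isoOpensRange_hom_ι_assoc ..
  exact (Q.cancel_left_of_respectsIso P.j.isoOpensRange.hom (P.opens.ι ≫ f')).symm.trans
    (iff_of_eq (congrArg (fun m => Q m) h))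

theorem OPiece.coe_opens : (P.opens : Set X') = Set.range P.j := rfl

end OPiece

/-- A system of finite open pieces of `X ×_S U` near the fibre over `u`, labelled by the points
`x i`. The flag `D` records whether the pieces are pairwise disjoint. -/
structure System {X S : Scheme.{u}} (f : X ⟶ S) {ι : Type} (x : ι → X) {U : Scheme.{u}}
    (g : U ⟶ S) (u : U) (K : Type) (lab : K → ι) (D : Prop) where
  /-- the pieces -/
  P : K → OPiece (pullback.snd f g) u
  fst_pt : ∀ k, pullback.fst f g (P k).point = x (lab k)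
  inj : ∀ k k', (P k).point = (P k').point → k = k'
  cover : ∀ (w : ↑(pullback f g)) (i : ι), pullback.snd f g w = u → pullback.fst f g w = x i →
    ∃ k, lab k = i ∧ w = (P k).point
  disj : D → ∀ k k', k ≠ k' → Disjoint ((P k).opens : Set ↑(pullback f g)) (P k').opens

section System

variable {X S : Scheme.{u}} {f : X ⟶ S} {ι : Type} {x : ι → X} {U : Scheme.{u}}
    {g : U ⟶ S} {u : U} {K : Type} {lab : K → ι} {D : Prop}

/-- The comparison map `X ×_S U₂ ⟶ X ×_S U` for `t : U₂ ⟶ U`. -/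
noncomputable abbrev baseChangeMap (f : X ⟶ S) (g : U ⟶ S) {U₂ : Scheme.{u}} (t : U₂ ⟶ U) :
    pullback f (t ≫ g) ⟶ pullback f g :=
  pullback.map f (t ≫ g) f g (𝟙 X) t (𝟙 S) (by simp) (by simp)

theorem isPullback_baseChangeMap (f : X ⟶ S) (g : U ⟶ S) {U₂ : Scheme.{u}} (t : U₂ ⟶ U) :
    IsPullback (baseChangeMap f g t) (pullback.snd f (t ≫ g)) (pullback.snd f g) t := by
  have h1 : baseChangeMap f g t ≫ pullback.fst f g = pullback.fst f (t ≫ g) :=
    (pullback.lift_fst _ _ _).trans (Category.comp_id _)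
  have h2 : baseChangeMap f g t ≫ pullback.snd f g = pullback.snd f (t ≫ g) ≫ t :=
    pullback.lift_snd _ _ _
  refine IsPullback.of_right ?_ h2 (IsPullback.of_hasPullback f g)
  rw [h1]
  exact IsPullback.of_hasPullback f (t ≫ g)

theorem baseChangeMap_fst (f : X ⟶ S) (g : U ⟶ S) {U₂ : Scheme.{u}} (t : U₂ ⟶ U) :
    baseChangeMap f g t ≫ pullback.fst f g = pullback.fst f (t ≫ g) :=
  (pullback.lift_fst _ _ _).trans (Category.comp_id _)

theorem baseChangeMap_snd (f : X ⟶ S) (g : U ⟶ S) {U₂ : Scheme.{u}} (t : U₂ ⟶ U) :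
    baseChangeMap f g t ≫ pullback.snd f g = pullback.snd f (t ≫ g) ≫ t :=
  pullback.lift_snd _ _ _

/-- Base change of a system along a pointed map with trivial residue field extension. -/
theorem System.exists_baseChange (Sy : System f x g u K lab D) {U₂ : Scheme.{u}} (t : U₂ ⟶ U)
    (u₂ : U₂) (hu : t u₂ = u) [IsIso (t.residueFieldMap u₂)] :
    ∃ Sy' : System f x (t ≫ g) u₂ K lab D, ∀ k, ∃ r : (Sy'.P k).Y ⟶ (Sy.P k).Y,
      IsPullback r (Sy'.P k).j (Sy.P k).j (baseChangeMap f g t) ∧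
      IsPullback r ((Sy'.P k).j ≫ pullback.snd f (t ≫ g)) ((Sy.P k).j ≫ pullback.snd f g) t ∧
      baseChangeMap f g t (Sy'.P k).point = (Sy.P k).point := by
  have sq_c := isPullback_baseChangeMap f g t
  choose P' r hr1 hr2 hr3 using fun k => (Sy.P k).exists_pullback_sq sq_c u₂ hu
  have hrange : ∀ k, ∀ w ∈ (P' k).opens, baseChangeMap f g t w ∈ (Sy.P k).opens := by
    rintro k _ ⟨y, rfl⟩
    refine ⟨r k y, ?_⟩
    rw [← Scheme.Hom.comp_apply, (hr1 k).w, Scheme.Hom.comp_apply]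
  refine ⟨⟨P', ?_, ?_, ?_, ?_⟩, fun k => ⟨r k, hr1 k, hr2 k, hr3 k⟩⟩
  · intro k
    rw [← baseChangeMap_fst f g t, Scheme.Hom.comp_apply]
    show pullback.fst f g (baseChangeMap f g t ((P' k).j (P' k).pt)) = _
    rw [hr3 k]
    exact Sy.fst_pt k
  · intro k k' hkk'
    apply Sy.inj
    show (Sy.P k).j (Sy.P k).pt = (Sy.P k').j (Sy.P k').pt
    rw [← hr3 k, ← hr3 k']
    exact congrArg _ hkk'
  · intro w i hwu hwx
    have h1 : pullback.snd f g (baseChangeMap f g t w) = u := by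
      rw [← Scheme.Hom.comp_apply, baseChangeMap_snd, Scheme.Hom.comp_apply, hwu, hu]
    have h2 : pullback.fst f g (baseChangeMap f g t w) = x i := by
      rw [← Scheme.Hom.comp_apply, baseChangeMap_fst, hwx]
    obtain ⟨k, hk, hwk⟩ := Sy.cover _ i h1 h2
    refine ⟨k, hk, ?_⟩
    refine eq_of_isPullback sq_c u₂ w (P' k).point hwu (P' k).hpt ?_
    rw [hwk]
    exact (hr3 k).symm
  · intro hD k k' hkk'
    rw [Set.disjoint_left]
    intro w hw hw'
    exact Set.disjoint_left.mp (Sy.disj hD k k' hkk') (hrange k w hw) (hrange k' w hw')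

/-- Shrinking a system so that all pieces acquire a property which holds near `u`. -/
theorem System.exists_shrink [Finite K] (Sy : System f x g u K lab D)
    (Q : MorphismProperty Scheme.{u})
    (hQ : ∀ k, ∃ U' : U.Opens, u ∈ U' ∧ ∀ {T Y' : Scheme.{u}} (t : T ⟶ U) (a : Y' ⟶ (Sy.P k).Y)
      (b : Y' ⟶ T), IsPullback a b ((Sy.P k).j ≫ pullback.snd f g) t → Set.range t ⊆ U' → Q b) :
    ∃ (U' : U.Opens) (hu : u ∈ U') (Sy' : System f x (U'.ι ≫ g) ⟨u, hu⟩ K lab D),
      (∀ k, Q ((Sy'.P k).j ≫ pullback.snd f (U'.ι ≫ g))) ∧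
      ∀ k, ∃ r : (Sy'.P k).Y ⟶ (Sy.P k).Y,
        IsPullback r (Sy'.P k).j (Sy.P k).j (baseChangeMap f g U'.ι) ∧
        baseChangeMap f g U'.ι (Sy'.P k).point = (Sy.P k).point := by
  choose U'' hu'' hU'' using hQ
  have hfin : (Set.range U'').Finite := Set.finite_range U''
  let U' : U.Opens := ⟨⋂ k, (U'' k : Set U), isOpen_iInter_of_finite fun k => (U'' k).2⟩
  have hu : u ∈ U' := Set.mem_iInter.mpr hu''
  have hle : ∀ k, U' ≤ U'' k := fun k w hw => Set.mem_iInter.mp hw k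
  obtain ⟨Sy', hSy'⟩ := Sy.exists_baseChange U'.ι ⟨u, hu⟩ rfl
  refine ⟨U', hu, Sy', fun k => ?_, fun k => ?_⟩
  · obtain ⟨r, -, hr2, -⟩ := hSy' k
    refine hU'' k U'.ι r _ hr2 ?_
    rintro _ ⟨w, rfl⟩
    exact hle k w.2
  · obtain ⟨r, hr1, -, hr3⟩ := hSy' k
    exact ⟨r, hr1, hr3⟩

end System

end Groth.Agent.Lib.Helper57.EtQF
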