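import Groth.Agent.Lib.Helper57.EtUnr1
import Groth.Agent.Lib.Helper57.EtUnr2
import Groth.Agent.Lib.Helper57.EtRes4
import Groth.Agent.Lib.Helper57.EtRes5

/-!
# Étale local structure of unramified and étale morphisms at finitely many points (helper57)

Stacks 04HG, 04HH (unramified), 04HM, 04HN (étale).
-/

universe u

open CategoryTheory CategoryTheory.Limits AlgebraicGeometry TopologicalSpace

namespace Groth.Agent.Lib.Helper57.EtUnr

open Groth.Agent.Lib.Helper57.EtQF Groth.Agent.Lib.Helper57.EtRes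

/-- Common format of `exists_etale_nbhd_purelyInseparable` (separated case, disjoint pieces) and
`exists_etale_nbhd_purelyInseparable_open`. -/
theorem exists_etale_nbhd_common {X S : Scheme.{u}} (f : X ⟶ S) [LocallyOfFiniteType f]
    (D : Prop) (hD : D → IsSeparated f) (s : S)
    {ι : Type} [Finite ι] (x : ι → ↑X) (hinj : Function.Injective x) (hs : ∀ i, f (x i) = s)
    (hx : ∀ i, f.QuasiFiniteAt (x i)) :
    ∃ (U : Scheme.{u}) (g : U ⟶ S) (u : U), Etale g ∧ g u = s ∧
      ∃ (J : ι → Type) (_ : ∀ i, Finite (J i)) (V : ∀ i, J i → (pullback f g).Opens)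
        (v : ∀ i, J i → ↑(pullback f g)),
        (∀ i j, v i j ∈ V i j ∧ IsFinite ((V i j).ι ≫ pullback.snd f g) ∧
          pullback.snd f g (v i j) = u ∧
          (∀ w : ↑(pullback f g), w ∈ V i j → pullback.snd f g w = u → w = v i j) ∧
          (letI := ((pullback.snd f g).residueFieldMap (v i j)).hom.toAlgebra
           IsPurelyInseparable ↑(U.residueField (pullback.snd f g (v i j)))
            ↑((pullback f g).residueField (v i j))) ∧
          pullback.fst f g (v i j) = x i) ∧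
        (∀ i j i' j', v i j = v i' j' → i = i' ∧ HEq j j') ∧
        (∀ (w : ↑(pullback f g)) (i : ι), pullback.snd f g w = u → pullback.fst f g w = x i →
          ∃ j, w = v i j) ∧
        (D → ∀ i j i' j', ((V i j : Set ↑(pullback f g)) ∩ (V i' j')).Nonempty →
          i = i' ∧ HEq j j') := by
  by_cases hDD : D
  · have := hD hDD
    obtain ⟨U, g, u, hg, hu, J, hJ, V, v, -, hdisj, hV, hcov⟩ :=
      exists_etale_nbhd_purelyInseparable f s x hinj hs hx
    refine ⟨U, g, u, hg, hu, J, hJ, V, v, hV, ?_, ?_, fun _ => hdisj⟩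
    · intro i j i' j' hvv
      exact hdisj i j i' j' ⟨v i j, (hV i j).1, hvv ▸ (hV i' j').1⟩
    · intro w i hwu hwx
      obtain ⟨j, hj⟩ := hcov w i hwu hwx
      exact ⟨j, (hV i j).2.2.2.1 w hj hwu⟩
  · obtain ⟨U, g, u, hg, hu, J, hJ, V, v, hV, hinj', hcov⟩ :=
      exists_etale_nbhd_purelyInseparable_open f s x hinj hs hx
    refine ⟨U, g, u, hg, hu, J, hJ, V, v, fun i j => ?_, hinj', hcov, fun h => absurd h hDD⟩
    obtain ⟨h1, h2, h3, h4, h5, h6⟩ := hV i j
    exact ⟨h1, h2, h3, h4, h5.2, h6⟩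

/-- A morphism which is locally of finite type and formally unramified is locally quasi-finite. -/
theorem locallyQuasiFinite_of_unramified {X S : Scheme.{u}} (f : X ⟶ S) [LocallyOfFiniteType f]
    [FormallyUnramified f] : LocallyQuasiFinite f := by
  refine ⟨fun {U} hU {V} hV e => ?_⟩
  have h1 : (f.appLE U V e).hom.FormallyUnramified :=
    FormallyUnramified.formallyUnramified_appLE f hU hV e
  have h2 : (f.appLE U V e).hom.FiniteType := f.finiteType_appLE hU hV e
  algebraize [(f.appLE U V e).hom]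
  exact inferInstanceAs (Algebra.QuasiFinite Γ(S, U) Γ(X, V))

theorem surjective_residueFieldMap_congr {A B : Scheme.{u}} {φ ψ : A ⟶ B} (e : φ = ψ) (a : A)
    (h : Function.Surjective (φ.residueFieldMap a).hom) :
    Function.Surjective (ψ.residueFieldMap a).hom := by
  subst e; exact h

/-- The initial system of pieces for a morphism which is unramified on an open `X₀` containing
the points `x i`. -/
theorem exists_system {X S : Scheme.{u}} (f : X ⟶ S) (X₀ : X.Opens)
    [LocallyOfFiniteType (X₀.ι ≫ f)] [FormallyUnramified (X₀.ι ≫ f)] (D : Prop)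
    (hD : D → IsSeparated f) (s : S) {ι : Type} [Finite ι] (x : ι → X)
    (hinj : Function.Injective x) (hs : ∀ i, f (x i) = s) (hxX₀ : ∀ i, x i ∈ X₀) :
    ∃ (U : Scheme.{u}) (g : U ⟶ S) (u : U), Etale g ∧ g u = s ∧
      ∃ (K : Type) (_ : Finite K) (lab : K → ι) (Sy : System f x g u K lab D),
        ∀ k, Function.Surjective
          (((Sy.P k).j ≫ pullback.snd f g).residueFieldMap (Sy.P k).pt).hom ∧
          ∃ m : (Sy.P k).Y ⟶ pullback (X₀.ι ≫ f) g, IsOpenImmersion m ∧
            m ≫ pullback.snd (X₀.ι ≫ f) g = (Sy.P k).j ≫ pullback.snd f g := by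
  have := locallyQuasiFinite_of_unramified (X₀.ι ≫ f)
  let x₀ : ι → X₀.toScheme := fun i => ⟨x i, hxX₀ i⟩
  have hx₀inj : Function.Injective x₀ := fun i i' h => hinj (congrArg Subtype.val h)
  have hD' : D → IsSeparated (X₀.ι ≫ f) := fun h => by
    have := hD h
    infer_instance
  obtain ⟨U, g, u, hg, hu, J, hJ, V, v, hV, hvinj, hcov, hdisj⟩ :=
    exists_etale_nbhd_common (X₀.ι ≫ f) D hD' s x₀ hx₀inj (fun i => hs i)
      (fun i => (X₀.ι ≫ f).quasiFiniteAt _)
  -- the open immersion `X₀ ×_S U ⟶ X ×_S U`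
  let ψ : pullback (X₀.ι ≫ f) g ⟶ pullback f g :=
    pullback.map (X₀.ι ≫ f) g f g X₀.ι (𝟙 U) (𝟙 S) (by simp) (by simp)
  have hψ1 : ψ ≫ pullback.fst f g = pullback.fst (X₀.ι ≫ f) g ≫ X₀.ι := pullback.lift_fst _ _ _
  have hψ2 : ψ ≫ pullback.snd f g = pullback.snd (X₀.ι ≫ f) g :=
    (pullback.lift_snd _ _ _).trans (Category.comp_id _)
  have sqψ : IsPullback ψ (pullback.fst (X₀.ι ≫ f) g) (pullback.fst f g) X₀.ι := by
    refine IsPullback.of_right ?_ hψ1 (IsPullback.of_hasPullback f g).flip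
    rw [hψ2]
    exact (IsPullback.of_hasPullback (X₀.ι ≫ f) g).flip
  have hψinj : Function.Injective ψ := ψ.isOpenEmbedding.injective
  -- residue fields
  have hsurj : ∀ i j, Function.Surjective
      ((pullback.snd (X₀.ι ≫ f) g).residueFieldMap (v i j)).hom := by
    intro i j
    have : FormallyUnramified (pullback.snd (X₀.ι ≫ f) g) :=
      MorphismProperty.pullback_snd _ _ inferInstance
    have : LocallyOfFiniteType (pullback.snd (X₀.ι ≫ f) g) :=
      MorphismProperty.pullback_snd _ _ inferInstance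
    let _ : Algebra ↑(U.residueField (pullback.snd (X₀.ι ≫ f) g (v i j)))
      ↑((pullback (X₀.ι ≫ f) g).residueField (v i j)) :=
      ((pullback.snd (X₀.ι ≫ f) g).residueFieldMap (v i j)).hom.toAlgebra
    have h1 : IsPurelyInseparable ↑(U.residueField (pullback.snd (X₀.ι ≫ f) g (v i j)))
      ↑((pullback (X₀.ι ≫ f) g).residueField (v i j)) := (hV i j).2.2.2.2.1
    have h2 : Algebra.IsSeparable ↑(U.residueField (pullback.snd (X₀.ι ≫ f) g (v i j)))
      ↑((pullback (X₀.ι ≫ f) g).residueField (v i j)) := inferInstance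
    exact IsPurelyInseparable.surjective_algebraMap_of_isSeparable _ _
  let P : (Σ i, J i) → OPiece (pullback.snd f g) u := fun k =>
    { Y := (V k.1 k.2).toScheme
      j := (V k.1 k.2).ι ≫ ψ
      isOpenImmersion := inferInstance
      isFinite := by
        rw [Category.assoc, hψ2]
        exact (hV k.1 k.2).2.1
      pt := ⟨v k.1 k.2, (hV k.1 k.2).1⟩
      hpt := by
        show pullback.snd f g (ψ (v k.1 k.2)) = u
        rw [← Scheme.Hom.comp_apply, hψ2]
        exact (hV k.1 k.2).2.2.1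
      uniq := by
        intro y hy
        apply Subtype.ext
        refine (hV k.1 k.2).2.2.2.1 y.1 y.2 ?_
        have : pullback.snd f g (ψ y.1) = u := hy
        rwa [← Scheme.Hom.comp_apply, hψ2] at this }
  have hPpoint : ∀ k : Σ i, J i, (P k).point = ψ (v k.1 k.2) := fun k => rfl
  have hfst : ∀ k : Σ i, J i, pullback.fst f g (P k).point = x k.1 := by
    rintro ⟨i, j⟩
    rw [hPpoint, ← Scheme.Hom.comp_apply, hψ1, Scheme.Hom.comp_apply, (hV i j).2.2.2.2.2]
    rfl
  have hPinj : ∀ k k' : Σ i, J i, (P k).point = (P k').point → k = k' := by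
    rintro ⟨i, j⟩ ⟨i', j'⟩ hkk'
    rw [hPpoint, hPpoint] at hkk'
    obtain ⟨rfl, hjj'⟩ := hvinj i j i' j' (hψinj hkk')
    rw [eq_of_heq hjj']
  have hPcov : ∀ (w : ↑(pullback f g)) (i : ι), pullback.snd f g w = u →
      pullback.fst f g w = x i → ∃ k : Σ i, J i, k.1 = i ∧ w = (P k).point := by
    intro w i hwu hwx
    obtain ⟨w₀, hw₀, hw₀x⟩ := Scheme.exists_preimage_of_isPullback sqψ w (x₀ i) hwx
    have hw₀u : pullback.snd (X₀.ι ≫ f) g w₀ = u := by
      rw [← hψ2, Scheme.Hom.comp_apply, hw₀, hwu]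
    obtain ⟨j, hj⟩ := hcov w₀ i hw₀u hw₀x
    refine ⟨⟨i, j⟩, rfl, ?_⟩
    rw [hPpoint, ← hj, hw₀]
  have hPdisj : D → ∀ k k' : Σ i, J i, k ≠ k' →
      Disjoint ((P k).opens : Set ↑(pullback f g)) (P k').opens := by
    intro hDD k k' hkk'
    rw [Set.disjoint_left]
    rintro _ ⟨y, rfl⟩ ⟨y', hy'⟩
    apply hkk'
    have h1 : y'.1 = y.1 := hψinj hy'
    obtain ⟨h2, h3⟩ := hdisj hDD k.1 k.2 k'.1 k'.2 ⟨y.1, y.2, h1 ▸ y'.2⟩
    exact Sigma.ext h2 h3
  refine ⟨U, g, u, hg, hu, Σ i, J i, inferInstance, Sigma.fst,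
    ⟨P, hfst, hPinj, hPcov, hPdisj⟩, ?_⟩
  rintro ⟨i, j⟩
  have h1 : (V i j).ι ≫ pullback.snd (X₀.ι ≫ f) g = (P ⟨i, j⟩).j ≫ pullback.snd f g := by
    show _ = ((V i j).ι ≫ ψ) ≫ pullback.snd f g
    rw [Category.assoc, hψ2]
  refine ⟨?_, (V i j).ι, inferInstance, h1⟩
  refine surjective_residueFieldMap_congr h1 _ ?_
  rw [Scheme.residueFieldMap_comp]
  exact (ConcreteCategory.bijective_of_isIso
    ((V i j).ι.residueFieldMap (⟨v i j, (hV i j).1⟩ : (V i j).toScheme))).2.comp (hsurj i j)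

end Groth.Agent.Lib.Helper57.EtUnr
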