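import Groth.Agent.Lib.Helper57.EtUnr3

/-!
# Étale local structure of unramified and étale morphisms: master theorems (helper57)
-/

universe u

open CategoryTheory CategoryTheory.Limits AlgebraicGeometry TopologicalSpace

namespace Groth.Agent.Lib.Helper57.EtUnr

open Groth.Agent.Lib.Helper57.EtQF Groth.Agent.Lib.Helper57.EtRes

/-- A source-local property holding on each `W i` holds on their union. -/
theorem of_iSup_opens {P : MorphismProperty Scheme.{u}} [IsZariskiLocalAtSource P]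
    {X S : Scheme.{u}} (f : X ⟶ S) {ι : Type*} (W : ι → X.Opens) (h : ∀ i, P ((W i).ι ≫ f)) :
    P ((⨆ i, W i).ι ≫ f) := by
  refine IsZariskiLocalAtSource.of_openCover (P := P) (Scheme.Opens.iSupOpenCover W) fun i => ?_
  have h1 : (Scheme.Opens.iSupOpenCover W).f i ≫ (⨆ i, W i).ι ≫ f = (W i).ι ≫ f := by
    show X.homOfLE (le_iSup W i) ≫ _ ≫ f = _
    rw [Scheme.homOfLE_ι_assoc]
  exact h1 ▸ h i

/-- Master theorem, unramified case. -/
theorem exists_system_isClosedImmersion {X S : Scheme.{u}} (f : X ⟶ S) (D : Prop)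
    (hD : D → IsSeparated f) (s : S) {ι : Type} [Finite ι] (x : ι → X)
    (hinj : Function.Injective x) (hs : ∀ i, f (x i) = s)
    (hx : ∀ i, ∃ W : X.Opens, x i ∈ W ∧ LocallyOfFiniteType (W.ι ≫ f) ∧
      FormallyUnramified (W.ι ≫ f)) :
    ∃ (U : Scheme.{u}) (g : U ⟶ S) (u : U), Etale g ∧ g u = s ∧
      ∃ (K : Type) (_ : Finite K) (lab : K → ι) (Sy : System f x g u K lab D),
        ∀ k, IsClosedImmersion ((Sy.P k).j ≫ pullback.snd f g) := by
  choose W hxW hlft hunr using hx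
  have : LocallyOfFiniteType ((⨆ i, W i).ι ≫ f) := of_iSup_opens f W hlft
  have : FormallyUnramified ((⨆ i, W i).ι ≫ f) := of_iSup_opens f W hunr
  have hxX₀ : ∀ i, x i ∈ ⨆ i, W i := fun i => Opens.mem_iSup.mpr ⟨i, hxW i⟩
  obtain ⟨U, g, u, hg, hu, K, hK, lab, Sy, hSy⟩ := exists_system f (⨆ i, W i) D hD s x hinj hs hxX₀
  have hQ : ∀ k, ∃ U' : U.Opens, u ∈ U' ∧ ∀ {T Y' : Scheme.{u}} (t : T ⟶ U)
      (a : Y' ⟶ (Sy.P k).Y) (b : Y' ⟶ T),
      IsPullback a b ((Sy.P k).j ≫ pullback.snd f g) t → Set.range t ⊆ U' →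
        IsClosedImmersion b := by
    intro k
    obtain ⟨hsurj, m, hm, hmeq⟩ := hSy k
    have : FormallyUnramified (pullback.snd ((⨆ i, W i).ι ≫ f) g) :=
      MorphismProperty.pullback_snd _ _ inferInstance
    have hunr' : FormallyUnramified ((Sy.P k).j ≫ pullback.snd f g) := by
      rw [← hmeq]
      exact MorphismProperty.comp_mem @FormallyUnramified _ _ (inferInstance : FormallyUnramified m)
        ‹_›
    have hpt : ((Sy.P k).j ≫ pullback.snd f g) (Sy.P k).pt = u := (Sy.P k).hpt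
    obtain ⟨U', hu', hU'⟩ := exists_nbhd_forall_isClosedImmersion
      ((Sy.P k).j ≫ pullback.snd f g) (Sy.P k).pt
      (fun y' hy' => (Sy.P k).uniq y' (hy'.trans hpt)) hsurj
    exact ⟨U', hpt ▸ hu', hU'⟩
  obtain ⟨U', hu', Sy', hQ', -⟩ := Sy.exists_shrink @IsClosedImmersion hQ
  refine ⟨U', U'.ι ≫ g, ⟨u, hu'⟩, inferInstance, ?_, K, hK, lab, Sy', hQ'⟩
  rw [Scheme.Hom.comp_apply]
  exact hu

/-- Master theorem, étale case. -/
theorem exists_system_isIso {X S : Scheme.{u}} (f : X ⟶ S) (D : Prop)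
    (hD : D → IsSeparated f) (s : S) {ι : Type} [Finite ι] (x : ι → X)
    (hinj : Function.Injective x) (hs : ∀ i, f (x i) = s)
    (hx : ∀ i, ∃ W : X.Opens, x i ∈ W ∧ Etale (W.ι ≫ f)) :
    ∃ (U : Scheme.{u}) (g : U ⟶ S) (u : U), Etale g ∧ g u = s ∧
      ∃ (K : Type) (_ : Finite K) (lab : K → ι) (Sy : System f x g u K lab D),
        ∀ k, IsIso ((Sy.P k).j ≫ pullback.snd f g) := by
  choose W hxW het using hx
  have : Etale ((⨆ i, W i).ι ≫ f) := of_iSup_opens f W het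
  have hxX₀ : ∀ i, x i ∈ ⨆ i, W i := fun i => Opens.mem_iSup.mpr ⟨i, hxW i⟩
  obtain ⟨U, g, u, hg, hu, K, hK, lab, Sy, hSy⟩ := exists_system f (⨆ i, W i) D hD s x hinj hs hxX₀
  have hQ : ∀ k, ∃ U' : U.Opens, u ∈ U' ∧ ∀ {T Y' : Scheme.{u}} (t : T ⟶ U)
      (a : Y' ⟶ (Sy.P k).Y) (b : Y' ⟶ T),
      IsPullback a b ((Sy.P k).j ≫ pullback.snd f g) t → Set.range t ⊆ U' →
        MorphismProperty.isomorphisms Scheme.{u} b := by
    intro k
    obtain ⟨hsurj, m, hm, hmeq⟩ := hSy k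
    have het' : Etale ((Sy.P k).j ≫ pullback.snd f g) := by
      rw [← hmeq]; infer_instance
    have hpt : ((Sy.P k).j ≫ pullback.snd f g) (Sy.P k).pt = u := (Sy.P k).hpt
    obtain ⟨U', hu', hU'⟩ := exists_nbhd_forall_isIso
      ((Sy.P k).j ≫ pullback.snd f g) (Sy.P k).pt
      (fun y' hy' => (Sy.P k).uniq y' (hy'.trans hpt)) hsurj
    exact ⟨U', hpt ▸ hu', hU'⟩
  obtain ⟨U', hu', Sy', hQ', -⟩ := Sy.exists_shrink (MorphismProperty.isomorphisms Scheme.{u}) hQ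
  refine ⟨U', U'.ι ≫ g, ⟨u, hu'⟩, inferInstance, ?_, K, hK, lab, Sy', hQ'⟩
  rw [Scheme.Hom.comp_apply]
  exact hu

end Groth.Agent.Lib.Helper57.EtUnr
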