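import Groth.Agent.Lib.Helper57.EtUnr4

/-!
# Finite unramified / étale morphisms are étale locally disjoint unions of closed immersions /
isomorphisms (helper57)

Stacks 04HJ, 04HN.
-/

universe u

open CategoryTheory CategoryTheory.Limits AlgebraicGeometry TopologicalSpace

namespace Groth.Agent.Lib.Helper57.EtUnr

open Groth.Agent.Lib.Helper57.EtQF Groth.Agent.Lib.Helper57.EtRes

/-- From a disjoint system of pieces with property `Q` containing all the points of the fibre
over `s` of a finite morphism: the base change to a smaller neighbourhood is the disjoint union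
of the pieces. -/
theorem exists_split_of_system {X S : Scheme.{u}} (f : X ⟶ S) [IsFinite f] (s : S)
    (Q : MorphismProperty Scheme.{u}) [Q.IsStableUnderBaseChange]
    {ι : Type} (x : ι → X) (hx : ∀ y : X, f y = s → ∃ i, x i = y)
    {U : Scheme.{u}} (g : U ⟶ S) [Etale g] (u : U) (hu : g u = s) {K : Type} [Finite K]
    {lab : K → ι} (Sy : System f x g u K lab True)
    (hQ : ∀ k, Q ((Sy.P k).j ≫ pullback.snd f g)) :
    ∃ (U' : Scheme.{u}) (g' : U' ⟶ S) (_ : Etale g') (u' : U') (_ : g' u' = s)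
      (n : ℕ) (V : Fin n → Scheme.{u}) (c : ∀ j, V j ⟶ U') (_ : ∀ j, Q (c j))
      (e : (∐ V) ≅ pullback f g'), ∀ j, Sigma.ι V j ≫ e.hom ≫ pullback.snd f g' = c j := by
  classical
  -- the complement of the pieces
  have hclosed : ∀ k, IsClosed ((Sy.P k).opens : Set ↑(pullback f g)) := by
    intro k
    have : IsFinite (Sy.P k).j := .of_comp _ (pullback.snd f g)
    exact (Sy.P k).j.isClosedMap.isClosed_range
  let W : Set ↑(pullback f g) := (⋃ k, ((Sy.P k).opens : Set ↑(pullback f g)))ᶜ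
  have hWclosed : IsClosed W :=
    (isOpen_iUnion fun k => (Sy.P k).opens.2).isClosed_compl
  have hW : ∀ w, w ∈ W ↔ ∀ k, w ∉ (Sy.P k).opens := by
    intro w
    show w ∈ (⋃ k, ((Sy.P k).opens : Set ↑(pullback f g)))ᶜ ↔ _
    simp
  -- its image in `U` is closed and does not contain `u`
  have himclosed : IsClosed (pullback.snd f g '' W) :=
    (pullback.snd f g).isClosedMap _ hWclosed
  have hu_notMem : u ∉ pullback.snd f g '' W := by
    rintro ⟨w, hw, hwu⟩
    have h1 : f (pullback.fst f g w) = s := by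
      rw [← Scheme.Hom.comp_apply, pullback.condition, Scheme.Hom.comp_apply, hwu, hu]
    obtain ⟨i, hi⟩ := hx _ h1
    obtain ⟨k, -, hwk⟩ := Sy.cover w i hwu hi.symm
    exact (hW w).mp hw k (hwk ▸ (Sy.P k).point_mem)
  let U' : U.Opens := ⟨(pullback.snd f g '' W)ᶜ, himclosed.isOpen_compl⟩
  have hu' : u ∈ U' := hu_notMem
  obtain ⟨Sy', hSy'⟩ := Sy.exists_baseChange U'.ι ⟨u, hu'⟩ rfl
  choose r hr1 hr2 hr3 using hSy'
  have hQ' : ∀ k, Q ((Sy'.P k).j ≫ pullback.snd f (U'.ι ≫ g)) := fun k =>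
    MorphismProperty.of_isPullback (hr2 k) (hQ k)
  -- the pieces cover
  have hcover : ∀ w : ↑(pullback f (U'.ι ≫ g)), ∃ k, w ∈ (Sy'.P k).opens := by
    intro w
    have h1 : pullback.snd f g (baseChangeMap f g U'.ι w) ∈ U' := by
      rw [← Scheme.Hom.comp_apply, baseChangeMap_snd, Scheme.Hom.comp_apply]
      exact (pullback.snd f (U'.ι ≫ g) w).2
    have h2 : baseChangeMap f g U'.ι w ∉ W := fun h => h1 ⟨_, h, rfl⟩
    rw [hW] at h2
    push Not at h2
    obtain ⟨k, y, hy⟩ := h2
    obtain ⟨y', -, hy'⟩ := Scheme.exists_preimage_of_isPullback (hr1 k) y w hy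
    exact ⟨k, y', hy'⟩
  -- reindexing by `Fin n`
  obtain ⟨n, ⟨eK⟩⟩ := Finite.exists_equiv_fin K
  let V : Fin n → Scheme.{u} := fun j => (Sy'.P (eK.symm j)).Y
  let jj : ∀ j, V j ⟶ pullback f (U'.ι ≫ g) := fun j => (Sy'.P (eK.symm j)).j
  have hopen : ∀ j, IsOpenImmersion (jj j) := fun j => (Sy'.P (eK.symm j)).isOpenImmersion
  have hcolim : Nonempty (IsColimit (Cofan.mk (pullback f (U'.ι ≫ g)) jj)) := by
    apply nonempty_isColimit_cofanMk_of
    · rw [eq_top_iff]
      intro w _
      obtain ⟨k, hk⟩ := hcover w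
      have hk' : w ∈ (jj (eK k)).opensRange := by
        show w ∈ Set.range (Sy'.P (eK.symm (eK k))).j
        rw [eK.symm_apply_apply]
        exact hk
      exact (le_iSup (fun j => (jj j).opensRange) (eK k)) hk'
    · intro j j' hjj'
      show Disjoint (jj j).opensRange (jj j').opensRange
      rw [← TopologicalSpace.Opens.coe_disjoint]
      exact Sy'.disj trivial _ _ (fun h => hjj' (eK.symm.injective h))
  have hiso : IsIso (Sigma.desc jj) := by
    have := (Cofan.nonempty_isColimit_iff_isIso_sigmaDesc (Cofan.mk _ jj)).mp hcolim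
    simpa using this
  refine ⟨U', U'.ι ≫ g, inferInstance, ⟨u, hu'⟩, ?_, n, V,
    fun j => jj j ≫ pullback.snd f (U'.ι ≫ g), fun j => hQ' _, asIso (Sigma.desc jj), fun j => ?_⟩
  · rw [Scheme.Hom.comp_apply]; exact hu
  · rw [asIso_hom, ← Category.assoc, Sigma.ι_desc]

end Groth.Agent.Lib.Helper57.EtUnr
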