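import Mathlib
import Groth.Agent.Lib.Helper57.FE1
import Groth.Agent.Lib.Helper57.LS1

set_option autoImplicit false
open CategoryTheory CategoryTheory.Limits AlgebraicGeometry Opposite
universe u

/-! Geometry of finite étale morphisms: the diagonal and the lifts of geometric points. -/

namespace Groth.Agent.Lib.Helper57.FE

open Groth.Agent.Lib.Helper4 Groth.Agent.Lib.Helper57.IntStalk Groth.Agent.Lib.Helper21.ProperOver

variable {X Y : Scheme.{u}} (f : X ⟶ Y) [IsFinite f] [Etale f]

/-- the complement of the diagonal -/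
noncomputable def offDiag : (pullback f f).Opens :=
  ⟨(Set.range (pullback.diagonal f).base)ᶜ,
    (pullback.diagonal f).isClosedEmbedding.isClosed_range.isOpen_compl⟩

/-- the inclusion of the complement of the diagonal -/
noncomputable abbrev jOff : (offDiag f : Scheme.{u}) ⟶ pullback f f := (offDiag f).ι

lemma range_jOff : Set.range (jOff f).base = (Set.range (pullback.diagonal f).base)ᶜ := by
  rw [Scheme.Opens.range_ι]
  rfl

instance : IsClosedImmersion (jOff f) := by
  apply IsClosedImmersion.of_isPreimmersion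
  rw [range_jOff, isClosed_compl_iff]
  exact (pullback.diagonal f).isOpenEmbedding.isOpen_range

lemma isCompl_diag :
    IsCompl (Set.range (pullback.diagonal f).base) (Set.range (jOff f).base) := by
  rw [range_jOff]
  exact isCompl_compl

/-- the off-diagonal part, over `X` via the second projection -/
noncomputable abbrev fOff : (offDiag f : Scheme.{u}) ⟶ X := jOff f ≫ pullback.snd f f

instance : IsFinite (fOff f) := inferInstance

instance : Etale (fOff f) := inferInstance

variable {Ω : Type u} [Field Ω] [IsAlgClosed Ω]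

/-- the lifts of a geometric point -/
abbrev Lifts (η : Spec (CommRingCat.of Ω) ⟶ Y) := {ξ : Spec (CommRingCat.of Ω) ⟶ X // ξ ≫ f = η}

instance (η : Spec (CommRingCat.of Ω) ⟶ Y) : Finite (Lifts f η) := by
  have hprop : ClSub.IsProperOver f (Set.range (𝟙 X : X ⟶ X).base) := by
    apply isProperOver_of_isProper f (𝟙 X)
    rw [Category.id_comp]
    infer_instance
  have h := LS.finite_lifts f _ hprop η
  haveI := h.to_subtype
  refine Finite.of_injective (fun ξ : Lifts f η =>
    (⟨ξ.1, ξ.2, fun x => ⟨ξ.1.base x, rfl⟩⟩ :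
      {ybar : Spec (CommRingCat.of Ω) ⟶ X | ybar ≫ f = η ∧
        ∀ x, ybar.base x ∈ Set.range (𝟙 X : X ⟶ X).base})) ?_
  intro a b hab
  apply Subtype.ext
  exact congrArg (fun z => z.1) hab

/-- the map from lifts to the off-diagonal part to lifts to `X` -/
noncomputable def liftsMap (η : Spec (CommRingCat.of Ω) ⟶ Y) (ξ₁ : Lifts f η) :
    Lifts (fOff f) ξ₁.1 → Lifts f η := fun ζ =>
  ⟨ζ.1 ≫ jOff f ≫ pullback.fst f f, by
    have h1 : ζ.1 ≫ jOff f ≫ pullback.snd f f = ξ₁.1 := ζ.2
    have h2 : (ζ.1 ≫ jOff f ≫ pullback.fst f f) ≫ f = (ζ.1 ≫ jOff f ≫ pullback.snd f f) ≫ f := by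
      simp only [Category.assoc, pullback.condition]
    rw [h2, h1, ξ₁.2]⟩

lemma liftsMap_injective (η : Spec (CommRingCat.of Ω) ⟶ Y) (ξ₁ : Lifts f η) :
    Function.Injective (liftsMap f η ξ₁) := by
  intro a b hab
  apply Subtype.ext
  have h1 : a.1 ≫ jOff f ≫ pullback.fst f f = b.1 ≫ jOff f ≫ pullback.fst f f :=
    congrArg Subtype.val hab
  have h2 : a.1 ≫ jOff f ≫ pullback.snd f f = b.1 ≫ jOff f ≫ pullback.snd f f :=
    a.2.trans b.2.symm
  have h3 : a.1 ≫ jOff f = b.1 ≫ jOff f := by
    apply pullback.hom_ext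
    · rw [Category.assoc, Category.assoc]; exact h1
    · rw [Category.assoc, Category.assoc]; exact h2
  exact (cancel_mono (jOff f)).1 h3

lemma not_mem_range_liftsMap (η : Spec (CommRingCat.of Ω) ⟶ Y) (ξ₁ : Lifts f η) :
    ξ₁ ∉ Set.range (liftsMap f η ξ₁) := by
  rintro ⟨ζ, hζ⟩
  have h1 : ζ.1 ≫ jOff f ≫ pullback.fst f f = ξ₁.1 := congrArg Subtype.val hζ
  have h2 : ζ.1 ≫ jOff f ≫ pullback.snd f f = ξ₁.1 := ζ.2
  have h3 : ζ.1 ≫ jOff f = ξ₁.1 ≫ pullback.diagonal f := by
    apply pullback.hom_ext
    · rw [Category.assoc, Category.assoc, pullback.diagonal_fst, Category.comp_id]; exact h1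
    · rw [Category.assoc, Category.assoc, pullback.diagonal_snd, Category.comp_id]; exact h2
  have h4 : (jOff f).base (ζ.1.base default) ∈ Set.range (jOff f).base := ⟨_, rfl⟩
  have h5 : (jOff f).base (ζ.1.base default) =
      (pullback.diagonal f).base (ξ₁.1.base default) := by
    have := congrArg (fun m : Spec (CommRingCat.of Ω) ⟶ pullback f f => m.base default) h3
    exact this
  rw [range_jOff, h5] at h4
  exact h4 ⟨_, rfl⟩

lemma card_lifts_lt (η : Spec (CommRingCat.of Ω) ⟶ Y) (ξ₁ : Lifts f η) :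
    Nat.card (Lifts (fOff f) ξ₁.1) < Nat.card (Lifts f η) := by
  haveI := Fintype.ofFinite (Lifts (fOff f) ξ₁.1)
  haveI := Fintype.ofFinite (Lifts f η)
  rw [Nat.card_eq_fintype_card, Nat.card_eq_fintype_card]
  exact Fintype.card_lt_of_injective_of_notMem _ (liftsMap_injective f η ξ₁)
    (not_mem_range_liftsMap f η ξ₁)

/-- sheaves with zero sections are zero -/
theorem isZero_of_sections (A : EtCoh.Ab Y) (h : ∀ W : Y.Etale, IsZero (A.obj.obj (op W))) :
    IsZero A := by
  rw [IsZero.iff_id_eq_zero]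
  apply Sheaf.hom_ext
  apply NatTrans.ext
  funext W
  exact (h W.unop).eq_of_src _ _

/-- sheaves on the empty scheme are zero -/
theorem isZero_of_isEmpty_scheme [IsEmpty Y] (A : EtCoh.Ab Y) : IsZero A := by
  apply isZero_of_sections
  intro W
  haveI : IsEmpty W.left := ⟨fun w => IsEmpty.false (α := Y) (W.hom.base w)⟩
  exact Groth.Agent.S0069.isZero_of_isEmpty A W

/-- the open complement of the image -/
noncomputable def offImage : Y.Opens :=
  ⟨(Set.range f.base)ᶜ, f.isClosedMap.isClosed_range.isOpen_compl⟩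

instance : IsEmpty ↑(pullback f (offImage f).ι) := by
  constructor
  intro p
  have h1 : f.base ((pullback.fst f (offImage f).ι).base p) =
      (offImage f).ι.base ((pullback.snd f (offImage f).ι).base p) := by
    have := congrArg (fun m : pullback f (offImage f).ι ⟶ Y => m.base p)
      (pullback.condition (f := f) (g := (offImage f).ι))
    exact this
  have h2 : (offImage f).ι.base ((pullback.snd f (offImage f).ι).base p) ∈
      (Set.range f.base)ᶜ := ((pullback.snd f (offImage f).ι).base p).2
  rw [← h1] at h2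
  exact h2 ⟨_, rfl⟩

/-- a geometric point without lifts lies in the complement of the image -/
lemma exists_lift_offImage (η : Spec (CommRingCat.of Ω) ⟶ Y) (h : IsEmpty (Lifts f η)) :
    ∃ v : Spec (CommRingCat.of Ω) ⟶ (offImage f : Scheme.{u}), v ≫ (offImage f).ι = η := by
  have hsub : Set.range η.base ⊆ Set.range (offImage f).ι.base := by
    rintro _ ⟨a, rfl⟩
    rw [Scheme.Opens.range_ι]
    rintro ⟨x, hx⟩
    obtain ⟨ξ, hξ, -⟩ := LS.exists_lift_geomPoint f η x a hx
    exact h.false ⟨ξ, hξ⟩
  exact ⟨IsOpenImmersion.lift (offImage f).ι η hsub, IsOpenImmersion.lift_fac _ _ _⟩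

end Groth.Agent.Lib.Helper57.FE
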