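import Mathlib
import Groth.Agent.Lib.Helper57.FE2
import Groth.Agent.S0621

set_option autoImplicit false
open CategoryTheory CategoryTheory.Limits AlgebraicGeometry Opposite
universe u

/-! The direct image of a finite locally constant sheaf along a finite étale morphism is finite
locally constant. -/

namespace Groth.Agent.Lib.Helper57.FE

open Groth.Agent.Lib.Helper4 Groth.Agent.Lib.Helper57.IntStalk Groth.Agent.Lib.Helper21.ProperOver

variable {Ω : Type u} [Field Ω] [IsAlgClosed Ω]

/-- the decomposition of `f⁻¹ f_* F` for a finite étale morphism `f` -/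
theorem exists_decomp {X Y : Scheme.{u}} (f : X ⟶ Y) [IsFinite f] [Etale f] (F : EtCoh.Ab X) :
    Nonempty ((EtCoh.pull f).obj ((EtCoh.push f).obj F) ≅
      (EtCoh.pull (pullback.diagonal f)).obj ((EtCoh.pull (pullback.fst f f)).obj F) ⊞
        (EtCoh.push (fOff f)).obj
          ((EtCoh.pull (jOff f)).obj ((EtCoh.pull (pullback.fst f f)).obj F))) := by
  have h : IsPullback (pullback.fst f f) (pullback.snd f f) f f := IsPullback.of_hasPullback f f
  haveI := Groth.Agent.S0621.result f f (pullback.snd f f) (pullback.fst f f) h F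
  let e0 := asIso (EtCoh.baseChange0 f f (pullback.snd f f) (pullback.fst f f) h.w F)
  let F₁ := (EtCoh.pull (pullback.fst f f)).obj F
  haveI := isIso_decomp (pullback.diagonal f) (jOff f) (isCompl_diag f) F₁
  let d := asIso (biprod.lift ((EtCoh.pullPushAdj (pullback.diagonal f)).unit.app F₁)
    ((EtCoh.pullPushAdj (jOff f)).unit.app F₁))
  let G₁ := (EtCoh.pull (pullback.diagonal f)).obj F₁
  let G₂ := (EtCoh.pull (jOff f)).obj F₁
  let e1 : (EtCoh.push (pullback.snd f f)).obj F₁ ≅
      (EtCoh.push (pullback.snd f f)).obj ((EtCoh.push (pullback.diagonal f)).obj G₁) ⊞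
        (EtCoh.push (pullback.snd f f)).obj ((EtCoh.push (jOff f)).obj G₂) :=
    (EtCoh.push (pullback.snd f f)).mapIso d ≪≫ (EtCoh.push (pullback.snd f f)).mapBiprod _ _
  let a1 : (EtCoh.push (pullback.snd f f)).obj ((EtCoh.push (pullback.diagonal f)).obj G₁) ≅ G₁ :=
    (EtCoh.pushComp (pullback.snd f f) (pullback.diagonal f)).app G₁ ≪≫
      (pushEqId (pullback.diagonal_snd f)).app G₁
  let a2 : (EtCoh.push (pullback.snd f f)).obj ((EtCoh.push (jOff f)).obj G₂) ≅
      (EtCoh.push (fOff f)).obj G₂ :=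
    (EtCoh.pushComp (pullback.snd f f) (jOff f)).app G₂
  exact ⟨e0 ≪≫ e1 ≪≫ biprod.mapIso a1 a2⟩

theorem main : ∀ (n : ℕ) {X Y : Scheme.{u}} (f : X ⟶ Y) [IsFinite f] [Etale f] (F : EtCoh.Ab X)
    (_ : EtCoh.IsFiniteLocallyConstant F) (η : Spec (CommRingCat.of Ω) ⟶ Y),
    Nat.card (Lifts f η) = n →
    ∃ (V : Y.Etale) (v : Spec (CommRingCat.of Ω) ⟶ V.left), v ≫ V.hom = η ∧
      EtCoh.IsFiniteLocallyConstant ((EtCoh.pull V.hom).obj ((EtCoh.push f).obj F)) := by
  intro n
  induction n using Nat.strong_induction_on with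
  | _ n ih =>
    intro X Y f _ _ F hF η hn
    by_cases hne : Nonempty (Lifts f η)
    · obtain ⟨ξ₁⟩ := hne
      obtain ⟨e⟩ := exists_decomp f F
      have hF₁ : EtCoh.IsFiniteLocallyConstant ((EtCoh.pull (pullback.fst f f)).obj F) :=
        FlcPull.isFiniteLocallyConstant_pull _ F hF
      have hG₁ := FlcPull.isFiniteLocallyConstant_pull (pullback.diagonal f) _ hF₁
      have hG₂ := FlcPull.isFiniteLocallyConstant_pull (jOff f) _ hF₁
      have hlt : Nat.card (Lifts (fOff f) ξ₁.1) < n := hn ▸ card_lifts_lt f η ξ₁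
      obtain ⟨V₂, v₂, hv₂, hflc⟩ := ih _ hlt (fOff f) _ hG₂ ξ₁.1 rfl
      haveI : Etale V₂.hom := V₂.prop
      refine ⟨Scheme.Etale.mk (V₂.hom ≫ f), v₂, ?_, ?_⟩
      · change v₂ ≫ V₂.hom ≫ f = η
        rw [← Category.assoc, hv₂, ξ₁.2]
      · change EtCoh.IsFiniteLocallyConstant
          ((EtCoh.pull (V₂.hom ≫ f)).obj ((EtCoh.push f).obj F))
        have hsum := flc_biprod _ _ (FlcPull.isFiniteLocallyConstant_pull V₂.hom _ hG₁) hflc
        refine FlcPull.isFiniteLocallyConstant_of_iso ?_ hsum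
        exact ((EtCoh.pull V₂.hom).mapBiprod _ _).symm ≪≫ (EtCoh.pull V₂.hom).mapIso e.symm ≪≫
          ((EtCore.pullComp V₂.hom f).app _).symm
    · have hemp : IsEmpty (Lifts f η) := not_nonempty_iff.1 hne
      obtain ⟨v, hv⟩ := exists_lift_offImage f η hemp
      refine ⟨Scheme.Etale.mk (offImage f).ι, v, hv, ?_⟩
      change EtCoh.IsFiniteLocallyConstant
        ((EtCoh.pull (offImage f).ι).obj ((EtCoh.push f).obj F))
      have h : IsPullback (pullback.fst f (offImage f).ι) (pullback.snd f (offImage f).ι) f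
          (offImage f).ι := IsPullback.of_hasPullback _ _
      haveI := Groth.Agent.S0621.result f (offImage f).ι (pullback.snd f (offImage f).ι)
        (pullback.fst f (offImage f).ι) h F
      let e0 := asIso (EtCoh.baseChange0 f (offImage f).ι (pullback.snd f (offImage f).ι)
        (pullback.fst f (offImage f).ι) h.w F)
      refine FlcPull.isFiniteLocallyConstant_of_iso e0.symm (flc_of_isZero _ ?_)
      exact (EtCoh.push _).map_isZero (isZero_of_isEmpty_scheme _)

/-- the direct image of a finite locally constant sheaf along a finite étale morphism is finite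
locally constant -/
theorem flc_push {X Y : Scheme.{u}} (f : X ⟶ Y) [IsFinite f] [Etale f] (F : EtCoh.Ab X)
    (hF : EtCoh.IsFiniteLocallyConstant F) :
    EtCoh.IsFiniteLocallyConstant ((EtCoh.push f).obj F) := by
  apply flc_of_local
  intro y
  obtain ⟨V, v, hv, hflc⟩ := main (Ω := AlgebraicClosure (Y.residueField y)) _ f F hF
    (geomPtAlg Y y) rfl
  refine ⟨V, v.base default, ?_, hflc⟩
  have h1 : V.hom.base (v.base default) = (geomPtAlg Y y).base default := by
    rw [← hv]
    rfl
  rw [h1, geomPtAlg_default]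

end Groth.Agent.Lib.Helper57.FE
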