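import Groth.Agent.Lib.Helper57.ARCrit5
import Groth.Agent.Lib.Helper4.LocConstKerMod

set_option autoImplicit false
open CategoryTheory CategoryTheory.Limits AlgebraicGeometry Opposite
universe u

noncomputable section

namespace Groth.Agent.Lib.Helper57.FTLCGeneric

open Groth.Agent.Lib.Helper57.ARStalk Groth.Agent.Lib.Helper57.ARCrit Groth.Agent.Lib.Helper57.ModLC
  Groth.Agent.Lib.Helper4

variable (Λ : Type (u + 1)) [CommRing Λ] {X : Scheme.{u}}

theorem isZero_of_stalks (C : EtModW.Mod Λ X)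
    (h : ∀ x : GeomPt X, IsZero ((EtModW.stalk Λ x.pt).obj C)) : IsZero C := by
  have hiso : IsIso (0 : C ⟶ C) := (isIso_iff_stalkM Λ _).2 fun x => by
    rw [Functor.map_zero]
    exact ⟨0, (h x).eq_of_src _ _, (h x).eq_of_src _ _⟩
  rw [IsZero.iff_id_eq_zero]
  have := IsIso.hom_inv_id (0 : C ⟶ C)
  rw [zero_comp] at this
  exact this.symm

/-- stalks of a finite type locally constant sheaf at a point and a generization agree. -/
theorem stalk_iso_of_specializes (C : EtModW.Mod Λ X) (hC : EtModW.IsFTLocConst Λ C)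
    (ξ ζ : GeomPt X) (h : ξ.pt.base default ⤳ ζ.pt.base default) :
    Nonempty ((EtModW.stalk Λ ξ.pt).obj C ≅ (EtModW.stalk Λ ζ.pt).obj C) := by
  obtain ⟨ι, V, hV, hM⟩ := hC
  obtain ⟨i, y, hy⟩ := hV (ζ.pt.base default)
  haveI : Etale (V i).hom := (V i).prop
  have hopen : IsOpen (Set.range (V i).hom.base) := (V i).hom.isOpenMap.isOpen_range
  obtain ⟨y', hy'⟩ : ξ.pt.base default ∈ Set.range (V i).hom.base :=
    h.mem_open hopen ⟨y, hy⟩
  obtain ⟨l, hl, -⟩ := Scheme.exists_fac_of_etale_of_isSepClosed (V i).hom ζ.pt y hy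
  obtain ⟨l', hl', -⟩ := Scheme.exists_fac_of_etale_of_isSepClosed (V i).hom ξ.pt y' hy'
  obtain ⟨M, iA, iM, iF, e⟩ := hM i
  obtain ⟨e'⟩ := (restr_iso_const_iff Λ (V i) C (ModuleCat.of Λ M)).1 e
  have e1 : (EtModW.stalk Λ (l ≫ (V i).hom)).obj C ≅ ModuleCat.of Λ M :=
    ((stalkPullIso Λ (V i).hom l).app C).symm ≪≫ (EtModW.stalk Λ l).mapIso e' ≪≫
      stalkConstIso Λ l _
  have e2 : (EtModW.stalk Λ (l' ≫ (V i).hom)).obj C ≅ ModuleCat.of Λ M :=
    ((stalkPullIso Λ (V i).hom l').app C).symm ≪≫ (EtModW.stalk Λ l').mapIso e' ≪≫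
      stalkConstIso Λ l' _
  rw [hl] at e1
  rw [hl'] at e2
  exact ⟨e2 ≪≫ e1.symm⟩

theorem isZero_of_generic (C : EtModW.Mod Λ X) (hC : EtModW.IsFTLocConst Λ C)
    (h : ∀ x : X, ∃ ξ : GeomPt X, ξ.pt.base default ⤳ x ∧
      IsZero ((EtModW.stalk Λ ξ.pt).obj C)) : IsZero C := by
  apply isZero_of_stalks
  intro ζ
  obtain ⟨ξ, hξ, hz⟩ := h (ζ.pt.base default)
  obtain ⟨e⟩ := stalk_iso_of_specializes Λ C hC ξ ζ hξ
  exact hz.of_iso e.symm

variable [IsNoetherianRing Λ]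

theorem hom_zero_of_generic {A B : EtModW.Mod Λ X} (θ : A ⟶ B) (hA : EtModW.IsFTLocConst Λ A)
    (hB : EtModW.IsFTLocConst Λ B)
    (h : ∀ x : X, ∃ ξ : GeomPt X, ξ.pt.base default ⤳ x ∧ (EtModW.stalk Λ ξ.pt).map θ = 0) :
    θ = 0 := by
  have hcok := (LocConstMod.ft_kernel_cokernel θ hA hB).2
  have himg : EtModW.IsFTLocConst Λ (Abelian.image θ) :=
    (LocConstMod.ft_kernel_cokernel (cokernel.π θ) hB hcok).1
  have hz : IsZero (Abelian.image θ) := by
    apply isZero_of_generic Λ _ himg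
    intro x
    obtain ⟨ξ, hξ, h0⟩ := h x
    refine ⟨ξ, hξ, ?_⟩
    have hfac : (EtModW.stalk Λ ξ.pt).map (Abelian.factorThruImage θ) ≫
        (EtModW.stalk Λ ξ.pt).map (Abelian.image.ι θ) = 0 := by
      rw [← Functor.map_comp, Abelian.image.fac, h0]
    haveI : Mono ((EtModW.stalk Λ ξ.pt).map (Abelian.image.ι θ)) := inferInstance
    haveI : Epi ((EtModW.stalk Λ ξ.pt).map (Abelian.factorThruImage θ)) := inferInstance
    have h1 : (EtModW.stalk Λ ξ.pt).map (Abelian.factorThruImage θ) = 0 := by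
      rw [← cancel_mono ((EtModW.stalk Λ ξ.pt).map (Abelian.image.ι θ)), hfac, zero_comp]
    exact IsZero.of_epi_eq_zero _ h1
  rw [← Abelian.image.fac θ, hz.eq_of_tgt (Abelian.factorThruImage θ) 0, zero_comp]

end Groth.Agent.Lib.Helper57.FTLCGeneric
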