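import Groth.Agent.Lib.Helper57.FTLCGeneric
import Groth.Agent.Lib.Helper57.IntRecoll

set_option autoImplicit false
open CategoryTheory CategoryTheory.Limits AlgebraicGeometry Opposite
universe u

noncomputable section

namespace Groth.Agent.Lib.Helper57.FTLCML

open Groth.Agent.Lib.Helper57.ARStalk Groth.Agent.Lib.Helper57.ARCrit Groth.Agent.Lib.Helper57.ModLC
  Groth.Agent.Lib.Helper4 Groth.Agent.Lib.Helper57.FTLCGeneric Groth.Agent.Lib.Helper57.IntStalk

theorem isArtinian_of_pow_smul {Λ : Type u} [CommRing Λ] [IsNoetherianRing Λ] (I : Ideal Λ)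
    [IsArtinianRing (Λ ⧸ I)] (k : ℕ) :
    ∀ (M : Type u) [AddCommGroup M] [Module Λ M] [Module.Finite Λ M],
      (∀ a ∈ I ^ k, ∀ m : M, a • m = 0) → IsArtinian Λ M := by
  induction k with
  | zero =>
    intro M _ _ _ h
    haveI : Subsingleton M := ⟨fun x y => by
      have hx := h 1 (by simp) x
      have hy := h 1 (by simp) y
      rw [one_smul] at hx hy
      rw [hx, hy]⟩
    infer_instance
  | succ k ih =>
    intro M _ _ _ h
    haveI : IsNoetherian Λ M := isNoetherian_of_isNoetherianRing_of_finite Λ M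
    let N : Submodule Λ M := I • (⊤ : Submodule Λ M)
    haveI : Module.Finite Λ N := Module.Finite.of_fg (IsNoetherian.noetherian N)
    haveI h1 : IsArtinian Λ N := by
      apply ih N
      intro a ha n
      apply Subtype.ext
      change a • (n : M) = 0
      refine Submodule.smul_induction_on n.2 ?_ ?_
      · intro b hb m _
        rw [smul_smul]
        apply h
        rw [pow_succ]
        exact Ideal.mul_mem_mul ha hb
      · intro x y hx hy
        rw [smul_add, hx, hy, add_zero]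
    haveI h2 : IsArtinian (Λ ⧸ I) (M ⧸ N) := inferInstance
    haveI h3 : IsArtinian Λ (M ⧸ N) :=
      isArtinian_of_surjective_algebraMap (S := Λ) (R := Λ ⧸ I) (M := M ⧸ N)
        Ideal.Quotient.mk_surjective
    exact isArtinian_of_range_eq_ker N.subtype N.mkQ (by
      rw [Submodule.range_subtype, Submodule.ker_mkQ])

variable (Λ : Type (u + 1)) [CommRing Λ] [IsNoetherianRing Λ] {X : Scheme.{u}}

theorem tr_comp (F : ARSys.PS (EtModW.Mod Λ X)) {a b c : ℕ} (h1 : a ≤ b) (h2 : b ≤ c) :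
    ARSys.tr F h2 ≫ ARSys.tr F h1 = ARSys.tr F (h1.trans h2) := by
  change F.map _ ≫ F.map _ = F.map _
  rw [← F.map_comp]
  congr 1

theorem stalk_smul_eq_zero (I : Ideal Λ) (A : EtModW.Mod Λ X) (k : ℕ)
    (hA : ARSys.KilledBy (I ^ k) A) (ξ : GeomPt X) :
    ∀ a ∈ I ^ k, ∀ m : (EtModW.stalk Λ ξ.pt).obj A, a • m = 0 := by
  intro a ha m
  have h1 : (EtModW.stalk Λ ξ.pt).map (a • 𝟙 A) = 0 := by
    rw [hA a ha, Functor.map_zero]
  rw [Functor.map_smul, CategoryTheory.Functor.map_id] at h1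
  have h2 := congrArg (fun φ => φ.hom m) h1
  exact h2

theorem ml_etale (I : Ideal Λ) [IsArtinianRing (Λ ⧸ I)] [IsNoetherian X]
    (F : ARSys.PS (EtModW.Mod Λ X)) (hk : ARSys.TermKilled I F)
    (hF : ∀ n : ℕ, EtModW.IsFTLocConst Λ (F.obj (op n))) (n : ℕ) :
    ∃ r : ℕ, ∀ s : ℕ, r ≤ s →
      ARSys.tr F (Nat.le_add_right n r) ≫ cokernel.π (ARSys.tr F (Nat.le_add_right n s)) = 0 := by
  classical
  have hfin : (irreducibleComponents X).Finite :=
    TopologicalSpace.NoetherianSpace.finite_irreducibleComponents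
  have hgen : ∀ Y : irreducibleComponents X, ∃ η : X, closure {η} = (Y : Set X) := fun Y => by
    obtain ⟨η, hη⟩ := QuasiSober.sober Y.2.1
      (isClosed_of_mem_irreducibleComponents _ Y.2)
    exact ⟨η, hη⟩
  choose η hη using hgen
  let ξ : irreducibleComponents X → GeomPt X := fun Y => ⟨_, geomPtAlg X (η Y)⟩
  have hξ : ∀ Y, (ξ Y).pt.base default = η Y := fun Y => geomPtAlg_default X (η Y)
  let S : irreducibleComponents X → ModuleCat.{u + 1} Λ := fun Y =>
    (EtModW.stalk Λ (ξ Y).pt).obj (F.obj (op n))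
  let N : ∀ Y, ℕ → Submodule Λ (S Y) := fun Y s =>
    LinearMap.range ((EtModW.stalk Λ (ξ Y).pt).map (ARSys.tr F (Nat.le_add_right n s))).hom
  have hanti : ∀ Y (s s' : ℕ), s ≤ s' → N Y s' ≤ N Y s := by
    intro Y s s' hss
    rintro _ ⟨m, rfl⟩
    have h1 := tr_comp Λ F (Nat.le_add_right n s) (Nat.add_le_add_left hss n)
    have h2 : (EtModW.stalk Λ (ξ Y).pt).map (ARSys.tr F (Nat.le_add_right n s')) =
        (EtModW.stalk Λ (ξ Y).pt).map (ARSys.tr F (Nat.add_le_add_left hss n)) ≫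
          (EtModW.stalk Λ (ξ Y).pt).map (ARSys.tr F (Nat.le_add_right n s)) := by
      rw [← Functor.map_comp, h1]
    rw [h2]
    exact ⟨_, rfl⟩
  have hart : ∀ Y, IsArtinian Λ (S Y) := fun Y => by
    haveI : Module.Finite Λ (S Y) := finite_stalk_of_isFTLocConst Λ (ξ Y).pt _ (hF n)
    exact isArtinian_of_pow_smul I (n + 1) (S Y)
      (stalk_smul_eq_zero Λ I (F.obj (op n)) (n + 1) (hk n) (ξ Y))
  have hstab : ∀ Y, ∃ r, ∀ s, r ≤ s → N Y r = N Y s := fun Y => by
    haveI := hart Y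
    let f : ℕ →o (Submodule Λ (S Y))ᵒᵈ :=
      ⟨fun s => OrderDual.toDual (N Y s), fun s s' hss => hanti Y s s' hss⟩
    obtain ⟨r, hr⟩ := IsArtinian.monotone_stabilizes f
    exact ⟨r, fun s hs => congrArg OrderDual.ofDual (hr s hs)⟩
  choose rr hrr using hstab
  haveI : Fintype (irreducibleComponents X) := hfin.fintype
  let r := Finset.univ.sup rr
  refine ⟨r, fun s hs => ?_⟩
  have hcok := fun s => (LocConstMod.ft_kernel_cokernel (ARSys.tr F (Nat.le_add_right n s))
    (hF (n + s)) (hF n)).2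
  apply hom_zero_of_generic Λ _ (hF (n + r)) (hcok s)
  intro x
  let Y : irreducibleComponents X :=
    ⟨irreducibleComponent x, irreducibleComponent_mem_irreducibleComponents x⟩
  refine ⟨ξ Y, ?_, ?_⟩
  · rw [hξ Y, specializes_iff_mem_closure, hη Y]
    exact mem_irreducibleComponent
  · have hrY : rr Y ≤ r := Finset.le_sup (Finset.mem_univ Y)
    have heq : N Y r = N Y s := (hrr Y r hrY).symm.trans (hrr Y s (hrY.trans hs))
    rw [Functor.map_comp]
    apply ModuleCat.hom_ext
    apply LinearMap.ext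
    intro m
    have hm : ((EtModW.stalk Λ (ξ Y).pt).map (ARSys.tr F (Nat.le_add_right n r))).hom m ∈ N Y s := by
      rw [← heq]
      exact ⟨m, rfl⟩
    obtain ⟨m', hm'⟩ := hm
    have hz : (EtModW.stalk Λ (ξ Y).pt).map (ARSys.tr F (Nat.le_add_right n s)) ≫
        (EtModW.stalk Λ (ξ Y).pt).map (cokernel.π (ARSys.tr F (Nat.le_add_right n s))) = 0 := by
      rw [← Functor.map_comp, cokernel.condition, Functor.map_zero]
    have hz' := congrArg (fun φ => φ.hom m') hz
    change ((EtModW.stalk Λ (ξ Y).pt).map (cokernel.π (ARSys.tr F (Nat.le_add_right n s)))).hom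
      (((EtModW.stalk Λ (ξ Y).pt).map (ARSys.tr F (Nat.le_add_right n r))).hom m) = 0
    rw [← hm']
    exact hz'

end Groth.Agent.Lib.Helper57.FTLCML
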