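import Groth.Agent.Lib.Helper57.FTLCML
import Groth.Agent.Lib.Helper82.EpsMod

set_option autoImplicit false
open CategoryTheory CategoryTheory.Limits AlgebraicGeometry Opposite
universe u v₁ v₂ u₁ u₂

noncomputable section

namespace Groth.Agent.Lib.Helper57.FTLCML

section Abstract

variable {C : Type u₁} [Category.{v₁} C] [Abelian C] {D : Type u₂} [Category.{v₂} D] [Abelian D]

theorem imageSubobject_le_of_comp_cokernel {A A' B : C} (f : A ⟶ B) (g : A' ⟶ B)
    (w : f ≫ cokernel.π g = 0) : imageSubobject f ≤ imageSubobject g := by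
  let k : A ⟶ Abelian.image g := kernel.lift _ f w
  refine imageSubobject_le f (k ≫ (Abelian.imageIsoImage g).hom ≫ (imageSubobjectIso g).inv) ?_
  rw [Category.assoc, Category.assoc, imageSubobject_arrow',
    Abelian.imageIsoImage_hom_comp_image_ι]
  exact kernel.lift_ι _ _ _

theorem imageSubobject_map_eq (L : C ⥤ D) [L.Additive] [PreservesFiniteColimits L]
    {A A' B : C} (f : A ⟶ B) (g : A' ⟶ B) (c : A' ⟶ A) (hc : c ≫ f = g)
    (w : f ≫ cokernel.π g = 0) :
    imageSubobject (L.map g) = imageSubobject (L.map f) := by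
  apply le_antisymm
  · rw [← hc, L.map_comp]
    exact imageSubobject_comp_le _ _
  · apply imageSubobject_le_of_comp_cokernel
    rw [← cancel_mono (cokernelComparison g L), Category.assoc, π_comp_cokernelComparison,
      ← L.map_comp, w, L.map_zero, zero_comp]

end Abstract

end Groth.Agent.Lib.Helper57.FTLCML
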