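import Groth.Agent.Lib.Helper57.FinStalk8

set_option autoImplicit false
open CategoryTheory CategoryTheory.Limits AlgebraicGeometry Opposite
universe u v' u'

/-! Base change for finite morphisms: compatibility of iterated lifts of geometric points. -/

namespace Groth.Agent.Lib.Helper57.FinBC

open Groth.Agent.Lib.Helper4 Groth.Agent.Lib.Helper57.FinStalk

section

variable {X Y : Scheme.{u}} (f : X ⟶ Y) {Ω : Type u} [Field Ω] [IsSepClosed Ω]
  (ξ : Spec (CommRingCat.of Ω) ⟶ X)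

theorem ptHom_fiberIso_hom (V : Y.Etale)
    (x : (Scheme.pointSmallEtale ξ).fiber.obj ((EtCoh.bc f).obj V)) :
    ptHom ((EtStalkPull.fiberIso f ξ).hom.app V x) = ptHom x ≫ pullback.fst V.hom f := by
  simp [EtStalkPull.fiberIso, ptHom]
  rfl

theorem fiberIso_hom_liftPt (V : Y.Etale) (x : (Scheme.pointSmallEtale (ξ ≫ f)).fiber.obj V) :
    (EtStalkPull.fiberIso f ξ).hom.app V (liftPt f ξ rfl x) = x := by
  have h1 := ptHom_fiberIso_hom f ξ V (liftPt f ξ rfl x)
  have h2 := ptHom_liftPt_fst f ξ (η := ξ ≫ f) rfl x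
  have h3 := h1.trans h2
  exact pt_ext _ _ h3

theorem inv_app_eq_of_hom_app_eq {C : Type*} [Category C] {F₁ F₂ : C ⥤ Type u} (e : F₁ ≅ F₂)
    (V : C) (x : F₂.obj V) (y : F₁.obj V) (h : e.hom.app V y = x) : e.inv.app V x = y := by
  have h4 : e.inv.app V (e.hom.app V y) = y :=
    ConcreteCategory.congr_hom (e.hom_inv_id_app V) y
  rw [← h, h4]

theorem fiberIso_inv_app (V : Y.Etale) (x : (Scheme.pointSmallEtale (ξ ≫ f)).fiber.obj V) :
    (EtStalkPull.fiberIso f ξ).inv.app V x = liftPt f ξ rfl x :=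
  inv_app_eq_of_hom_app_eq (EtStalkPull.fiberIso f ξ) V x _ (fiberIso_hom_liftPt f ξ V x)

end

section

variable {X Y X' Y' : Scheme.{u}} (f : X ⟶ Y) (g : Y' ⟶ Y) (f' : X' ⟶ Y') (g' : X' ⟶ X)
  (w : g' ≫ f = f' ≫ g)

/-- The canonical comparison of iterated base changes. -/
noncomputable def θ (V : Y.Etale) :
    (EtCoh.bc f').obj ((EtCoh.bc g).obj V) ⟶ (EtCoh.bc g').obj ((EtCoh.bc f).obj V) :=
  (MorphismProperty.Over.pullbackComp (P := EtCoh.etaleMP.{u}) (Q := ⊤) f' g).inv.app V ≫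
    (MorphismProperty.Over.pullbackCongr (P := EtCoh.etaleMP.{u}) (Q := ⊤) w).inv.app V ≫
      (MorphismProperty.Over.pullbackComp (P := EtCoh.etaleMP.{u}) (Q := ⊤) g' f).hom.app V

/-- The morphism whose adjoint is the base change map. -/
noncomputable def β (F : EtCoh.Ab X) :
    (EtCoh.push f).obj F ⟶ (EtCoh.push g).obj ((EtCoh.push f').obj ((EtCoh.pull g').obj F)) :=
  (EtCoh.push f).map ((EtCoh.pullPushAdj g').unit.app F) ≫ (EtCoh.pushComp f g').hom.app _ ≫
      (EtCoh.pushCongr w).hom.app _ ≫ (EtCoh.pushComp g f').inv.app _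

theorem β_app (F : EtCoh.Ab X) (V : Y.Etale) :
    (β f g f' g' w F).hom.app (op V) =
      ((EtCoh.pullPushAdj g').unit.app F).hom.app (op ((EtCoh.bc f).obj V)) ≫
        ((EtCoh.pull g').obj F).obj.map (θ f g f' g' w V).op := by
  have key : ∀ {A B C D : X'.Etale} (a : A ⟶ B) (b : B ⟶ C) (c : C ⟶ D) (M : EtCoh.Ab X'),
      M.obj.map (a ≫ b ≫ c).op = M.obj.map c.op ≫ M.obj.map b.op ≫ M.obj.map a.op := by
    intros
    rw [op_comp, op_comp, Functor.map_comp, Functor.map_comp, Category.assoc]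
  refine Eq.trans ?_ (congrArg (_ ≫ ·) (key _ _ _ _).symm)
  rfl

theorem θ_left_fst_fst (V : Y.Etale) :
    (θ f g f' g' w V).left ≫ pullback.fst (pullback.snd V.hom f) g' ≫ pullback.fst V.hom f =
      pullback.fst (pullback.snd V.hom g) f' ≫ pullback.fst V.hom g := by
  have h1 := MorphismProperty.Over.pullbackComp_left_fst_fst (P := EtCoh.etaleMP.{u}) (Q := ⊤) g' f V
  have h2 := MorphismProperty.Over.pullbackCongr_hom_app_left_fst (P := EtCoh.etaleMP.{u}) (Q := ⊤) w V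
  have h3 := MorphismProperty.Over.pullbackComp_left_fst_fst (P := EtCoh.etaleMP.{u}) (Q := ⊤) f' g V
  let eA := MorphismProperty.Over.pullbackComp (P := EtCoh.etaleMP.{u}) (Q := ⊤) f' g
  let eB := MorphismProperty.Over.pullbackCongr (P := EtCoh.etaleMP.{u}) (Q := ⊤) w
  let eC := MorphismProperty.Over.pullbackComp (P := EtCoh.etaleMP.{u}) (Q := ⊤) g' f
  have hb : (eB.inv.app V).left ≫ (eB.hom.app V).left = 𝟙 _ :=
    congrArg (fun k => k.left) (eB.inv_hom_id_app V)
  have ha : (eA.inv.app V).left ≫ (eA.hom.app V).left = 𝟙 _ :=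
    congrArg (fun k => k.left) (eA.inv_hom_id_app V)
  have cancel_aux : ∀ {A B C : Scheme.{u}} (i : A ⟶ B) (h : B ⟶ A) (_ : i ≫ h = 𝟙 _) (p : A ⟶ C)
      (q : B ⟶ C) (_ : h ≫ p = q), i ≫ q = p := by
    intro A B C i h hi p q hq
    rw [← hq, ← Category.assoc, hi, Category.id_comp]
  have comp_aux : ∀ {A B C D E : Scheme.{u}} (a : A ⟶ B) (b : B ⟶ C) (c : C ⟶ D) (p : D ⟶ E)
      (p₁ : C ⟶ E) (p₂ : B ⟶ E) (r : A ⟶ E) (_ : c ≫ p = p₁) (_ : b ≫ p₁ = p₂) (_ : a ≫ p₂ = r),
      (a ≫ b ≫ c) ≫ p = r := by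
    intro A B C D E a b c p p₁ p₂ r h1 h2 h3
    rw [Category.assoc, Category.assoc, h1, h2, h3]
  have h2' : (eB.inv.app V).left ≫ pullback.fst V.hom (g' ≫ f) = pullback.fst V.hom (f' ≫ g) :=
    cancel_aux _ _ hb _ _ h2
  have h3' : (eA.inv.app V).left ≫ pullback.fst V.hom (f' ≫ g) =
      pullback.fst (pullback.snd V.hom g) f' ≫ pullback.fst V.hom g :=
    cancel_aux _ _ ha _ _ h3
  exact comp_aux _ _ _ _ _ _ _ h1 h2' h3'

theorem θ_left_snd (V : Y.Etale) :
    (θ f g f' g' w V).left ≫ pullback.snd (pullback.snd V.hom f) g' =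
      pullback.snd (pullback.snd V.hom g) f' :=
  MorphismProperty.Over.w (θ f g f' g' w V)

variable {Ω : Type u} [Field Ω] [IsSepClosed Ω]

theorem map_θ_liftPt (y' : Spec (CommRingCat.of Ω) ⟶ Y') (ξ' : Spec (CommRingCat.of Ω) ⟶ X')
    (hξ' : ξ' ≫ f' = y') (h : (ξ' ≫ g') ≫ f = y' ≫ g) (V : Y.Etale)
    (x : (Scheme.pointSmallEtale (y' ≫ g)).fiber.obj V) :
    (Scheme.pointSmallEtale ξ').fiber.map (θ f g f' g' w V)
        (liftPt f' ξ' hξ' (liftPt g y' rfl x)) =
      liftPt g' ξ' rfl (liftPt f (ξ' ≫ g') h x) := by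
  apply pt_ext
  refine (ptHom_map _ _).trans ?_
  set a := ptHom (liftPt f' ξ' hξ' (liftPt g y' rfl x)) with ha
  have ha1 : a ≫ pullback.fst (pullback.snd V.hom g) f' = ptHom (liftPt g y' (η := y' ≫ g) rfl x) :=
    ptHom_liftPt_fst f' ξ' hξ' _
  have ha2 : a ≫ pullback.snd (pullback.snd V.hom g) f' = ξ' := ptHom_liftPt_snd f' ξ' hξ' _
  have hb1 : ptHom (liftPt g y' (η := y' ≫ g) rfl x) ≫ pullback.fst V.hom g = ptHom x :=
    ptHom_liftPt_fst g y' rfl x
  set b := ptHom (liftPt g' ξ' (η := ξ' ≫ g') rfl (liftPt f (ξ' ≫ g') h x)) with hb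
  have hb2 : b ≫ pullback.fst (pullback.snd V.hom f) g' = ptHom (liftPt f (ξ' ≫ g') h x) :=
    ptHom_liftPt_fst g' ξ' rfl _
  have hb3 : b ≫ pullback.snd (pullback.snd V.hom f) g' = ξ' := ptHom_liftPt_snd g' ξ' rfl _
  have hc1 : ptHom (liftPt f (ξ' ≫ g') h x) ≫ pullback.fst V.hom f = ptHom x :=
    ptHom_liftPt_fst f (ξ' ≫ g') h x
  have hc2 : ptHom (liftPt f (ξ' ≫ g') h x) ≫ pullback.snd V.hom f = ξ' ≫ g' :=
    ptHom_liftPt_snd f (ξ' ≫ g') h x
  have hθ1 := θ_left_fst_fst f g f' g' w V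
  have hθ2 := θ_left_snd f g f' g' w V
  have hcond : pullback.fst (pullback.snd V.hom f) g' ≫ pullback.snd V.hom f =
      pullback.snd (pullback.snd V.hom f) g' ≫ g' := pullback.condition
  apply pullback.hom_ext
  · refine Eq.trans ?_ hb2.symm
    apply pullback.hom_ext
    · refine Eq.trans ?_ hc1.symm
      calc ((a ≫ (θ f g f' g' w V).left) ≫ pullback.fst (pullback.snd V.hom f) g') ≫
            pullback.fst V.hom f
          = a ≫ ((θ f g f' g' w V).left ≫ pullback.fst (pullback.snd V.hom f) g' ≫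
              pullback.fst V.hom f) := by simp only [Category.assoc]
        _ = a ≫ pullback.fst (pullback.snd V.hom g) f' ≫ pullback.fst V.hom g :=
            congrArg (a ≫ ·) hθ1
        _ = (a ≫ pullback.fst (pullback.snd V.hom g) f') ≫ pullback.fst V.hom g :=
            (Category.assoc _ _ _).symm
        _ = ptHom (liftPt g y' (η := y' ≫ g) rfl x) ≫ pullback.fst V.hom g :=
            congrArg (· ≫ pullback.fst V.hom g) ha1
        _ = ptHom x := hb1
    · refine Eq.trans ?_ hc2.symm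
      calc ((a ≫ (θ f g f' g' w V).left) ≫ pullback.fst (pullback.snd V.hom f) g') ≫
            pullback.snd V.hom f
          = a ≫ (θ f g f' g' w V).left ≫ (pullback.fst (pullback.snd V.hom f) g' ≫
              pullback.snd V.hom f) := by simp only [Category.assoc]
        _ = a ≫ (θ f g f' g' w V).left ≫ (pullback.snd (pullback.snd V.hom f) g' ≫ g') :=
            congrArg (fun t => a ≫ (θ f g f' g' w V).left ≫ t) hcond
        _ = (a ≫ ((θ f g f' g' w V).left ≫ pullback.snd (pullback.snd V.hom f) g')) ≫ g' := by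
            simp only [Category.assoc]
        _ = (a ≫ pullback.snd (pullback.snd V.hom g) f') ≫ g' :=
            congrArg (fun t => (a ≫ t) ≫ g') hθ2
        _ = ξ' ≫ g' := congrArg (· ≫ g') ha2
  · refine Eq.trans ?_ hb3.symm
    calc (a ≫ (θ f g f' g' w V).left) ≫ pullback.snd (pullback.snd V.hom f) g'
        = a ≫ ((θ f g f' g' w V).left ≫ pullback.snd (pullback.snd V.hom f) g') :=
          Category.assoc _ _ _
      _ = a ≫ pullback.snd (pullback.snd V.hom g) f' := congrArg (a ≫ ·) hθ2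
      _ = ξ' := ha2

end

end Groth.Agent.Lib.Helper57.FinBC
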