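import Groth.Agent.Lib.Helper57.FinBC1

set_option autoImplicit false
open CategoryTheory CategoryTheory.Limits AlgebraicGeometry Opposite
universe u

/-! Base change for finite morphisms: the stalk of the base change map on germs. -/

namespace Groth.Agent.Lib.Helper57.FinBC

open Groth.Agent.Lib.Helper4 Groth.Agent.Lib.Helper57.FinStalk

variable {X Y X' Y' : Scheme.{u}} (f : X ⟶ Y) (g : Y' ⟶ Y) (f' : X' ⟶ Y') (g' : X' ⟶ X)
  (w : g' ≫ f = f' ≫ g) {Ω : Type u} [Field Ω] [IsSepClosed Ω]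
  (y' : Spec (CommRingCat.of Ω) ⟶ Y')

/-- The comparison isomorphism for the stalk of a pullback. -/
noncomputable abbrev comapIso {X Y : Scheme.{u}} (f : X ⟶ Y) (ξ : Spec (CommRingCat.of Ω) ⟶ X) :
    (EtStalkPull.comapPt f ξ).sheafFiber (A := AddCommGrpCat.{u + 1}) ≅
      EtCoh.pull f ⋙ (Scheme.pointSmallEtale ξ).sheafFiber :=
  (Scheme.pointSmallEtale ξ).sheafFiberComapIso (EtCoh.bc f) (EtCoh.coverPreserving_bc f)
    AddCommGrpCat.{u + 1}

theorem baseChange0_eq (F : EtCoh.Ab X) :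
    EtCoh.baseChange0 f g f' g' w F =
      (EtCoh.pull g).map (β f g f' g' w F) ≫ (EtCoh.pullPushAdj g).counit.app _ :=
  (EtCoh.pullPushAdj g).homEquiv_counit _ _ _

theorem stalk_baseChange0 (F : EtCoh.Ab X) :
    (comapIso g y').hom.app ((EtCoh.push f).obj F) ≫
        (Scheme.pointSmallEtale y').sheafFiber.map (EtCoh.baseChange0 f g f' g' w F) =
      (EtStalkPull.comapPt g y').sheafFiber.map (β f g f' g' w F) ≫
        ComapCounit.canon (Scheme.pointSmallEtale y') (EtCoh.bc g) (EtCoh.coverPreserving_bc g)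
          AddCommGrpCat.{u + 1} ((EtCoh.push f').obj ((EtCoh.pull g').obj F)).obj := by
  rw [baseChange0_eq, Functor.map_comp]
  have h1 := (comapIso g y').hom.naturality (β f g f' g' w F)
  have h2 := ComapCounit.comp_counit_eq_canon (Scheme.pointSmallEtale y') (EtCoh.bc g)
    (EtCoh.coverPreserving_bc g) AddCommGrpCat.{u + 1} ((EtCoh.push f').obj ((EtCoh.pull g').obj F))
  exact (congrArg (· ≫ _) h1.symm).trans ((Category.assoc _ _ _).trans (congrArg (_ ≫ ·) h2))

theorem germ_stalk_baseChange0 (F : EtCoh.Ab X) (ξ' : Spec (CommRingCat.of Ω) ⟶ X')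
    (hξ' : ξ' ≫ f' = y') (V : Y.Etale)
    (x : (Scheme.pointSmallEtale y').fiber.obj ((EtCoh.bc g).obj V)) :
    (EtStalkPull.comapPt g y').toPresheafFiber V x ((EtCoh.push f).obj F).obj ≫
        (EtStalkPull.comapPt g y').sheafFiber.map (β f g f' g' w F) ≫
        ComapCounit.canon (Scheme.pointSmallEtale y') (EtCoh.bc g) (EtCoh.coverPreserving_bc g)
          AddCommGrpCat.{u + 1} ((EtCoh.push f').obj ((EtCoh.pull g').obj F)).obj ≫
        T f' ξ' hξ' ((EtCoh.pull g').obj F).obj =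
      (EtStalkPull.comapPt g' ξ').toPresheafFiber ((EtCoh.bc f).obj V)
          ((Scheme.pointSmallEtale ξ').fiber.map (θ f g f' g' w V) (liftPt f' ξ' hξ' x)) F.obj ≫
        (comapIso g' ξ').hom.app F := by
  set M := (EtCoh.pull g').obj F with hM
  set Q := (EtCoh.push f').obj M with hQ
  have s1 := (EtStalkPull.comapPt g y').toPresheafFiber_naturality (β f g f' g' w F).hom V x
  have s2 := ComapCounit.toPresheafFiber_canon (Scheme.pointSmallEtale y') (EtCoh.bc g)
    (EtCoh.coverPreserving_bc g) AddCommGrpCat.{u + 1} Q.obj V x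
  have s3 := toPresheafFiber_T f' ξ' hξ' M.obj ((EtCoh.bc g).obj V) x
  have s4 := β_app f g f' g' w F V
  have s5 := (Scheme.pointSmallEtale ξ').toPresheafFiber_w (θ f g f' g' w V)
    (liftPt f' ξ' hξ' x) M.obj
  have s6 := ComapCounit.germ_unit (Scheme.pointSmallEtale ξ') (EtCoh.bc g')
    (EtCoh.coverPreserving_bc g') AddCommGrpCat.{u + 1} F ((EtCoh.bc f).obj V)
    ((Scheme.pointSmallEtale ξ').fiber.map (θ f g f' g' w V) (liftPt f' ξ' hξ' x))
  refine Eq.trans ?_ s6
  refine (Category.assoc _ _ _).symm.trans ?_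
  refine (congrArg (· ≫ _) s1).trans ?_
  refine (Category.assoc _ _ _).trans ?_
  refine (congrArg ((β f g f' g' w F).hom.app (op V) ≫ ·) (Category.assoc _ _ _).symm).trans ?_
  refine (congrArg (fun t => (β f g f' g' w F).hom.app (op V) ≫ (t ≫ T f' ξ' hξ' M.obj)) s2).trans ?_
  refine (congrArg ((β f g f' g' w F).hom.app (op V) ≫ ·) s3).trans ?_
  refine (congrArg (· ≫ _) s4).trans ?_
  refine (Category.assoc _ _ _).trans ?_
  exact congrArg (_ ≫ ·) s5

end Groth.Agent.Lib.Helper57.FinBC
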