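import Groth.Agent.Lib.Helper57.FinBC2

set_option autoImplicit false
open CategoryTheory CategoryTheory.Limits AlgebraicGeometry Opposite
universe u

/-! Base change for finite morphisms: assembling the stalkwise bijectivity. -/

namespace Groth.Agent.Lib.Helper57.FinBC

open Groth.Agent.Lib.Helper4 Groth.Agent.Lib.Helper57.FinStalk

section

variable {X Y : Scheme.{u}} (f : X ⟶ Y) {Ω : Type u} [Field Ω] [IsSepClosed Ω]
  (ξ : Spec (CommRingCat.of Ω) ⟶ X)

/-- The comparison of fibres induced by helper4's isomorphism of points, on presheaves. -/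
noncomputable abbrev ρ (P : Y.Etaleᵒᵖ ⥤ AddCommGrpCat.{u + 1}) :
    (Scheme.pointSmallEtale (ξ ≫ f)).presheafFiber.obj P ⟶
      (EtStalkPull.comapPt f ξ).presheafFiber.obj P :=
  (GrothendieckTopology.Point.Hom.presheafFiber (EtStalkPull.ptIso f ξ).hom).app P

theorem toPresheafFiber_ρ (P : Y.Etaleᵒᵖ ⥤ AddCommGrpCat.{u + 1}) (V : Y.Etale)
    (x : (Scheme.pointSmallEtale (ξ ≫ f)).fiber.obj V) :
    (Scheme.pointSmallEtale (ξ ≫ f)).toPresheafFiber V x P ≫ ρ f ξ P =
      (EtStalkPull.comapPt f ξ).toPresheafFiber V (liftPt f ξ rfl x) P := by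
  have h1 : (Scheme.pointSmallEtale (ξ ≫ f)).toPresheafFiber V x P ≫ ρ f ξ P =
      (EtStalkPull.comapPt f ξ).toPresheafFiber V ((EtStalkPull.fiberIso f ξ).inv.app V x) P := by
    dsimp only [ρ]
    rw [GrothendieckTopology.Point.Hom.presheafFiber_app]
    exact (Scheme.pointSmallEtale (ξ ≫ f)).toPresheafFiber_presheafFiberDesc _ _ V x
  rw [h1, fiberIso_inv_app]

instance isIso_ρ (P : Y.Etaleᵒᵖ ⥤ AddCommGrpCat.{u + 1}) : IsIso (ρ f ξ P) := by
  refine ⟨(GrothendieckTopology.Point.Hom.presheafFiber (EtStalkPull.ptIso f ξ).inv).app P, ?_, ?_⟩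
  · have := GrothendieckTopology.Point.Hom.presheafFiber_comp (A := AddCommGrpCat.{u + 1})
      (EtStalkPull.ptIso f ξ).inv (EtStalkPull.ptIso f ξ).hom
    rw [Iso.inv_hom_id, GrothendieckTopology.Point.Hom.presheafFiber_id] at this
    exact (congrArg (fun t => t.app P) this).symm
  · have := GrothendieckTopology.Point.Hom.presheafFiber_comp (A := AddCommGrpCat.{u + 1})
      (EtStalkPull.ptIso f ξ).hom (EtStalkPull.ptIso f ξ).inv
    rw [Iso.hom_inv_id, GrothendieckTopology.Point.Hom.presheafFiber_id] at this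
    exact (congrArg (fun t => t.app P) this).symm

end

section

variable {X Y X' Y' : Scheme.{u}} (f : X ⟶ Y) (g : Y' ⟶ Y) (f' : X' ⟶ Y') (g' : X' ⟶ X)
  (w : g' ≫ f = f' ≫ g) {Ω : Type u} [Field Ω] [IsSepClosed Ω]
  (y' : Spec (CommRingCat.of Ω) ⟶ Y')

theorem main_identity (F : EtCoh.Ab X) (ξ' : Spec (CommRingCat.of Ω) ⟶ X')
    (hξ' : ξ' ≫ f' = y') (h : (ξ' ≫ g') ≫ f = y' ≫ g) :
    ρ g y' ((EtCoh.push f).obj F).obj ≫ (comapIso g y').hom.app ((EtCoh.push f).obj F) ≫
        (Scheme.pointSmallEtale y').sheafFiber.map (EtCoh.baseChange0 f g f' g' w F) ≫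
        T f' ξ' hξ' ((EtCoh.pull g').obj F).obj =
      T f (ξ' ≫ g') h F.obj ≫ ρ g' ξ' F.obj ≫ (comapIso g' ξ').hom.app F := by
  apply (Scheme.pointSmallEtale (y' ≫ g)).presheafFiber_hom_ext
  intro V x
  have e1 := toPresheafFiber_ρ g y' ((EtCoh.push f).obj F).obj V x
  have e2 := stalk_baseChange0 f g f' g' w y' F
  have e3 := germ_stalk_baseChange0 f g f' g' w y' F ξ' hξ' V (liftPt g y' rfl x)
  have e4 := map_θ_liftPt f g f' g' w y' ξ' hξ' h V x
  have e5 := toPresheafFiber_T f (ξ' ≫ g') h F.obj V x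
  have e6 := toPresheafFiber_ρ g' ξ' F.obj ((EtCoh.bc f).obj V) (liftPt f (ξ' ≫ g') h x)
  rw [e4] at e3
  -- left side
  have hL : (Scheme.pointSmallEtale (y' ≫ g)).toPresheafFiber V x ((EtCoh.push f).obj F).obj ≫
      ρ g y' ((EtCoh.push f).obj F).obj ≫ (comapIso g y').hom.app ((EtCoh.push f).obj F) ≫
        (Scheme.pointSmallEtale y').sheafFiber.map (EtCoh.baseChange0 f g f' g' w F) ≫
        T f' ξ' hξ' ((EtCoh.pull g').obj F).obj =
      (EtStalkPull.comapPt g' ξ').toPresheafFiber ((EtCoh.bc f).obj V)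
        (liftPt g' ξ' rfl (liftPt f (ξ' ≫ g') h x)) F.obj ≫ (comapIso g' ξ').hom.app F := by
    refine (Category.assoc _ _ _).symm.trans ?_
    refine (congrArg (· ≫ _) e1).trans ?_
    refine Eq.trans ?_ e3
    refine congrArg (_ ≫ ·) ?_
    refine (Category.assoc _ _ _).symm.trans ?_
    refine (congrArg (· ≫ _) e2).trans ?_
    exact Category.assoc _ _ _
  have hR : (Scheme.pointSmallEtale (y' ≫ g)).toPresheafFiber V x ((EtCoh.push f).obj F).obj ≫
      T f (ξ' ≫ g') h F.obj ≫ ρ g' ξ' F.obj ≫ (comapIso g' ξ').hom.app F =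
      (EtStalkPull.comapPt g' ξ').toPresheafFiber ((EtCoh.bc f).obj V)
        (liftPt g' ξ' rfl (liftPt f (ξ' ≫ g') h x)) F.obj ≫ (comapIso g' ξ').hom.app F := by
    refine (Category.assoc _ _ _).symm.trans ?_
    refine (congrArg (· ≫ _) e5).trans ?_
    refine (Category.assoc _ _ _).symm.trans ?_
    exact congrArg (· ≫ _) e6
  exact hL.trans hR.symm

end

end Groth.Agent.Lib.Helper57.FinBC
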