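import Groth.Agent.Lib.Helper57.StalkSets

set_option autoImplicit false
open CategoryTheory CategoryTheory.Limits AlgebraicGeometry Opposite
universe u v' u'

/-! Stalks of direct images along finite morphisms: the comparison maps to the stalks at the
geometric points of the fibre. -/

namespace Groth.Agent.Lib.Helper57.FinStalk

open Groth.Agent.Lib.Helper4

variable {X Y : Scheme.{u}} (f : X ⟶ Y) {Ω : Type u} [Field Ω] [IsSepClosed Ω]
  {η : Spec (CommRingCat.of Ω) ⟶ Y} (ξ : Spec (CommRingCat.of Ω) ⟶ X) (hξ : ξ ≫ f = η)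

/-- The underlying morphism of an element of the fibre functor. -/
noncomputable abbrev ptHom {Z : Scheme.{u}} {ζ : Spec (CommRingCat.of Ω) ⟶ Z} {U : Z.Etale}
    (u : (Scheme.pointSmallEtale ζ).fiber.obj U) : Spec (CommRingCat.of Ω) ⟶ U.left :=
  (show Over.mk ζ ⟶ (Scheme.Etale.forget Z).obj U from u).left

theorem ptHom_comp {Z : Scheme.{u}} {ζ : Spec (CommRingCat.of Ω) ⟶ Z} {U : Z.Etale}
    (u : (Scheme.pointSmallEtale ζ).fiber.obj U) : ptHom u ≫ U.hom = ζ :=
  Over.w (show Over.mk ζ ⟶ (Scheme.Etale.forget Z).obj U from u)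

/-- Constructor for elements of the fibre functor. -/
noncomputable abbrev mkPt {Z : Scheme.{u}} (ζ : Spec (CommRingCat.of Ω) ⟶ Z) (U : Z.Etale)
    (l : Spec (CommRingCat.of Ω) ⟶ U.left) (hl : l ≫ U.hom = ζ) :
    (Scheme.pointSmallEtale ζ).fiber.obj U :=
  (Over.homMk l hl : Over.mk ζ ⟶ (Scheme.Etale.forget Z).obj U)

theorem ptHom_mkPt {Z : Scheme.{u}} (ζ : Spec (CommRingCat.of Ω) ⟶ Z) (U : Z.Etale)
    (l : Spec (CommRingCat.of Ω) ⟶ U.left) (hl : l ≫ U.hom = ζ) :
    ptHom (mkPt ζ U l hl) = l := rfl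

theorem pt_ext {Z : Scheme.{u}} {ζ : Spec (CommRingCat.of Ω) ⟶ Z} {U : Z.Etale}
    (u u' : (Scheme.pointSmallEtale ζ).fiber.obj U) (h : ptHom u = ptHom u') : u = u' :=
  Over.OverMorphism.ext h

theorem ptHom_map {Z : Scheme.{u}} {ζ : Spec (CommRingCat.of Ω) ⟶ Z} {U U' : Z.Etale}
    (g : U' ⟶ U) (u' : (Scheme.pointSmallEtale ζ).fiber.obj U') :
    ptHom ((Scheme.pointSmallEtale ζ).fiber.map g u') = ptHom u' ≫ g.left := rfl

include hξ in
theorem liftPt_aux {U : Y.Etale} (u : (Scheme.pointSmallEtale η).fiber.obj U) :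
    ptHom u ≫ U.hom = ξ ≫ f := by
  rw [ptHom_comp, hξ]

/-- The geometric point of `U ×_Y X` determined by a geometric point `ξ` of `X` over `η` and a lift
`u` of `η` to `U`. -/
noncomputable def liftPt {U : Y.Etale} (u : (Scheme.pointSmallEtale η).fiber.obj U) :
    (Scheme.pointSmallEtale ξ).fiber.obj ((EtCoh.bc f).obj U) :=
  mkPt ξ ((EtCoh.bc f).obj U) (pullback.lift (ptHom u) ξ (liftPt_aux f ξ hξ u))
    (pullback.lift_snd _ _ _)

theorem ptHom_liftPt_fst {U : Y.Etale} (u : (Scheme.pointSmallEtale η).fiber.obj U) :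
    ptHom (liftPt f ξ hξ u) ≫ pullback.fst U.hom f = ptHom u :=
  pullback.lift_fst _ _ _

theorem ptHom_liftPt_snd {U : Y.Etale} (u : (Scheme.pointSmallEtale η).fiber.obj U) :
    ptHom (liftPt f ξ hξ u) ≫ pullback.snd U.hom f = ξ :=
  pullback.lift_snd _ _ _

theorem liftPt_map {U U' : Y.Etale} (g : U' ⟶ U) (u' : (Scheme.pointSmallEtale η).fiber.obj U') :
    (Scheme.pointSmallEtale ξ).fiber.map ((EtCoh.bc f).map g) (liftPt f ξ hξ u') =
      liftPt f ξ hξ ((Scheme.pointSmallEtale η).fiber.map g u') := by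
  apply pt_ext
  have h1 : ((EtCoh.bc f).map g).left ≫ pullback.fst U.hom f =
      pullback.fst U'.hom f ≫ g.left := (EtCoh.isPullback_bc_map f g).w
  have h2 : ((EtCoh.bc f).map g).left ≫ pullback.snd U.hom f = pullback.snd U'.hom f :=
    MorphismProperty.Over.w ((EtCoh.bc f).map g)
  refine (ptHom_map _ _).trans ?_
  apply pullback.hom_ext
  · exact (Category.assoc _ _ _).trans ((congrArg (ptHom (liftPt f ξ hξ u') ≫ ·) h1).trans
      ((Category.assoc _ _ _).symm.trans
        ((congrArg (· ≫ g.left) (ptHom_liftPt_fst f ξ hξ u')).trans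
          (ptHom_liftPt_fst f ξ hξ ((Scheme.pointSmallEtale η).fiber.map g u')).symm)))
  · exact (Category.assoc _ _ _).trans ((congrArg (ptHom (liftPt f ξ hξ u') ≫ ·) h2).trans
      ((ptHom_liftPt_snd f ξ hξ u').trans
        (ptHom_liftPt_snd f ξ hξ ((Scheme.pointSmallEtale η).fiber.map g u')).symm))

variable {A : Type u'} [Category.{v'} A] [HasColimitsOfSize.{u, u} A]

/-- The comparison map from the stalk of the direct image at `η` to the stalk at a geometric
point `ξ` over `η`. -/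
noncomputable def T (P : X.Etaleᵒᵖ ⥤ A) :
    (Scheme.pointSmallEtale η).presheafFiber.obj ((EtCoh.bc f).op ⋙ P) ⟶
      (Scheme.pointSmallEtale ξ).presheafFiber.obj P :=
  (Scheme.pointSmallEtale η).presheafFiberDesc
    (fun U u => (Scheme.pointSmallEtale ξ).toPresheafFiber ((EtCoh.bc f).obj U)
      (liftPt f ξ hξ u) P) (by
    intro U' U g u'
    dsimp only [Functor.comp_obj, Functor.comp_map, Functor.op_obj, Functor.op_map]
    rw [← liftPt_map]
    exact (Scheme.pointSmallEtale ξ).toPresheafFiber_w ((EtCoh.bc f).map g) _ P)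

@[reassoc]
theorem toPresheafFiber_T (P : X.Etaleᵒᵖ ⥤ A) (U : Y.Etale)
    (u : (Scheme.pointSmallEtale η).fiber.obj U) :
    (Scheme.pointSmallEtale η).toPresheafFiber U u ((EtCoh.bc f).op ⋙ P) ≫ T f ξ hξ P =
      (Scheme.pointSmallEtale ξ).toPresheafFiber ((EtCoh.bc f).obj U) (liftPt f ξ hξ u) P :=
  (Scheme.pointSmallEtale η).toPresheafFiber_presheafFiberDesc _ _ U u

theorem T_naturality {P Q : X.Etaleᵒᵖ ⥤ A} (a : P ⟶ Q) :
    (Scheme.pointSmallEtale η).presheafFiber.map (Functor.whiskerLeft (EtCoh.bc f).op a) ≫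
        T f ξ hξ Q =
      T f ξ hξ P ≫ (Scheme.pointSmallEtale ξ).presheafFiber.map a := by
  apply (Scheme.pointSmallEtale η).presheafFiber_hom_ext
  intro U u
  rw [(Scheme.pointSmallEtale η).toPresheafFiber_naturality_assoc, toPresheafFiber_T,
    toPresheafFiber_T_assoc, (Scheme.pointSmallEtale ξ).toPresheafFiber_naturality]
  rfl

end Groth.Agent.Lib.Helper57.FinStalk
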