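import Groth.Agent.Lib.Helper57.FinStalk1
import Groth.Agent.Lib.Helper57.EtRes4

set_option autoImplicit false
open CategoryTheory CategoryTheory.Limits AlgebraicGeometry Opposite
universe u

/-! Geometric points of fibres. -/

namespace Groth.Agent.Lib.Helper57.FinStalk

/-- Lifting a geometric point with algebraically closed field to a given point of the fibre with
finite residue field extension. -/
theorem exists_geomPt_over {P U : Scheme.{u}} (q : P ⟶ U) (z : P)
    (hfin : (q.residueFieldMap z).hom.Finite)
    {Ω : Type u} [Field Ω] [IsAlgClosed Ω] (u : Spec (CommRingCat.of Ω) ⟶ U)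
    (hz : q z = u default) :
    ∃ ζ : Spec (CommRingCat.of Ω) ⟶ P, ζ ≫ q = u ∧ ζ default = z := by
  obtain ⟨⟨s, a⟩, rfl⟩ := (Scheme.SpecToEquivOfField Ω U).symm.surjective u
  obtain rfl : q z = s := by simp [hz, Scheme.SpecToEquivOfField]
  let m := (q.residueFieldMap z).hom
  dsimp at m
  algebraize [m, a.hom]
  have : Module.Finite (U.residueField (q z)) (P.residueField z) := hfin
  have : Algebra.IsAlgebraic (U.residueField (q z)) (P.residueField z) :=
    Algebra.IsAlgebraic.of_finite _ _
  let b : P.residueField z →ₐ[U.residueField (q z)] Ω := IsAlgClosed.lift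
  have hb : q.residueFieldMap z ≫ CommRingCat.ofHom b.toRingHom = a := by
    ext1; exact b.comp_algebraMap
  refine ⟨Spec.map (CommRingCat.ofHom b.toRingHom) ≫ P.fromSpecResidueField z, ?_, ?_⟩
  · simp [Scheme.SpecToEquivOfField, ← hb]
    rfl
  · exact P.fromSpecResidueField_apply z _

/-- Two geometric points with the same image point, at which the residue field extension is
purely inseparable, agree as soon as their composites with `q` agree. -/
theorem geomPt_ext_of_purelyInseparable {P U : Scheme.{u}} (q : P ⟶ U) (z : P)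
    (hpi : letI := (q.residueFieldMap z).hom.toAlgebra
      IsPurelyInseparable (U.residueField (q z)) (P.residueField z))
    {Ω : Type u} [Field Ω] (ζ ζ' : Spec (CommRingCat.of Ω) ⟶ P)
    (h : ζ ≫ q = ζ' ≫ q) (hz : ζ default = z) (hz' : ζ' default = z) : ζ = ζ' := by
  obtain ⟨⟨z₁, a⟩, rfl⟩ := (Scheme.SpecToEquivOfField Ω P).symm.surjective ζ
  obtain ⟨⟨z₂, a'⟩, rfl⟩ := (Scheme.SpecToEquivOfField Ω P).symm.surjective ζ'
  obtain rfl : z₁ = z := by simpa [Scheme.SpecToEquivOfField] using hz
  obtain rfl : z₂ = z₁ := by simpa [Scheme.SpecToEquivOfField] using hz'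
  have h1 : Spec.map (q.residueFieldMap z₂ ≫ a) ≫ U.fromSpecResidueField (q z₂) =
      Spec.map (q.residueFieldMap z₂ ≫ a') ≫ U.fromSpecResidueField (q z₂) := by
    rw [Spec.map_comp, Spec.map_comp, Category.assoc, Category.assoc,
      Scheme.Hom.SpecMap_residueFieldMap_fromSpecResidueField]
    simpa [Scheme.SpecToEquivOfField] using h
  have h2 : q.residueFieldMap z₂ ≫ a = q.residueFieldMap z₂ ≫ a' :=
    Spec.map_injective ((cancel_mono _).1 h1)
  let _ := (q.residueFieldMap z₂).hom.toAlgebra
  have h3 : a.hom = a'.hom :=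
    IsPurelyInseparable.injective_comp_algebraMap (U.residueField (q z₂)) (P.residueField z₂) Ω
      (congrArg CommRingCat.Hom.hom h2)
  have h4 : a = a' := CommRingCat.hom_ext h3
  rw [h4]

end Groth.Agent.Lib.Helper57.FinStalk
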