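import Groth.Agent.Lib.Helper57.FinStalk3

set_option autoImplicit false
open CategoryTheory CategoryTheory.Limits AlgebraicGeometry Opposite
universe u v' u' w'

/-! Open pieces of objects of the small étale site and geometric points on them. -/

namespace Groth.Agent.Lib.Helper57.FinStalk

open Groth.Agent.Lib.Helper4 Groth.Agent.Lib.Helper79

variable {Z : Scheme.{u}}

theorem openObjHom_aux {V' V : Z.Etale} (k : V' ⟶ V) (O' : V'.left.Opens) (O : V.left.Opens)
    (hle : O' ≤ k.left ⁻¹ᵁ O) : Set.range (O'.ι ≫ k.left).base ⊆ Set.range O.ι.base := by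
  rintro _ ⟨a, rfl⟩
  have h1 : Set.range O.ι.base = (O : Set V.left) := Scheme.Opens.range_ι O
  rw [h1]
  exact hle a.2

/-- The underlying morphism of `openObjHom`. -/
noncomputable def openObjHomLeft {V' V : Z.Etale} (k : V' ⟶ V) (O' : V'.left.Opens)
    (O : V.left.Opens) (hle : O' ≤ k.left ⁻¹ᵁ O) : O'.toScheme ⟶ O.toScheme :=
  IsOpenImmersion.lift O.ι (O'.ι ≫ k.left) (openObjHom_aux k O' O hle)

theorem openObjHomLeft_ι {V' V : Z.Etale} (k : V' ⟶ V) (O' : V'.left.Opens)
    (O : V.left.Opens) (hle : O' ≤ k.left ⁻¹ᵁ O) :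
    openObjHomLeft k O' O hle ≫ O.ι = O'.ι ≫ k.left :=
  IsOpenImmersion.lift_fac _ _ _

/-- The morphism between open pieces induced by a morphism of the small étale site. -/
noncomputable def openObjHom {V' V : Z.Etale} (k : V' ⟶ V) (O' : V'.left.Opens) (O : V.left.Opens)
    (hle : O' ≤ k.left ⁻¹ᵁ O) : EtSiteGlue.openObj V' O' ⟶ EtSiteGlue.openObj V O :=
  MorphismProperty.Over.homMk (openObjHomLeft k O' O hle) (by
    change openObjHomLeft k O' O hle ≫ O.ι ≫ V.hom = O'.ι ≫ V'.hom
    rw [← Category.assoc, openObjHomLeft_ι, Category.assoc, MorphismProperty.Over.w k])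
    trivial

theorem openObjHom_openι {V' V : Z.Etale} (k : V' ⟶ V) (O' : V'.left.Opens) (O : V.left.Opens)
    (hle : O' ≤ k.left ⁻¹ᵁ O) :
    openObjHom k O' O hle ≫ EtSiteGlue.openι V O = EtSiteGlue.openι V' O' ≫ k := by
  apply MorphismProperty.Over.Hom.ext
  exact openObjHomLeft_ι k O' O hle

variable {Ω : Type u} [Field Ω] [IsSepClosed Ω] {ζ : Spec (CommRingCat.of Ω) ⟶ Z}

/-- Shrinking an étale neighbourhood to an open subset containing the point. -/
theorem exists_shrink' {U : Z.Etale} (u : (Scheme.pointSmallEtale ζ).fiber.obj U)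
    (O : U.left.Opens) (hO : ptHom u default ∈ O) :
    ∃ u' : (Scheme.pointSmallEtale ζ).fiber.obj (EtSiteGlue.openObj U O),
      (Scheme.pointSmallEtale ζ).fiber.map (EtSiteGlue.openι U O) u' = u := by
  have hr : Set.range (ptHom u).base ⊆ Set.range O.ι.base := by
    rintro _ ⟨a, rfl⟩
    rw [Scheme.Opens.range_ι, Subsingleton.elim a default]
    exact hO
  let l : Spec (CommRingCat.of Ω) ⟶ O.toScheme := IsOpenImmersion.lift O.ι (ptHom u) hr
  have hl : l ≫ O.ι = ptHom u := IsOpenImmersion.lift_fac _ _ _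
  refine ⟨mkPt ζ (EtSiteGlue.openObj U O) l ?_, ?_⟩
  · change l ≫ O.ι ≫ U.hom = ζ
    rw [← Category.assoc, hl, ptHom_comp]
  · apply pt_ext
    exact hl

theorem fiber_map_openι_injective {U : Z.Etale} (O : U.left.Opens)
    (x x' : (Scheme.pointSmallEtale ζ).fiber.obj (EtSiteGlue.openObj U O))
    (h : (Scheme.pointSmallEtale ζ).fiber.map (EtSiteGlue.openι U O) x =
      (Scheme.pointSmallEtale ζ).fiber.map (EtSiteGlue.openι U O) x') : x = x' := by
  apply pt_ext
  have h1 : ptHom x ≫ O.ι = ptHom x' ≫ O.ι := congrArg ptHom h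
  exact (cancel_mono O.ι).1 h1

theorem ptHom_mem_of_map_openι {U : Z.Etale} (O : U.left.Opens)
    (x : (Scheme.pointSmallEtale ζ).fiber.obj (EtSiteGlue.openObj U O)) :
    ptHom ((Scheme.pointSmallEtale ζ).fiber.map (EtSiteGlue.openι U O) x) default ∈ O :=
  (ptHom x default).2

theorem ptHom_map_apply {U U' : Z.Etale} (g : U' ⟶ U)
    (u' : (Scheme.pointSmallEtale ζ).fiber.obj U') :
    ptHom ((Scheme.pointSmallEtale ζ).fiber.map g u') default = g.left (ptHom u' default) := rfl

end Groth.Agent.Lib.Helper57.FinStalk
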