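import Groth.Agent.Lib.Helper57.FinStalk4

set_option autoImplicit false
open CategoryTheory CategoryTheory.Limits AlgebraicGeometry Opposite
universe u v' u' w'

/-! Local realisation of germs on clopen pieces of base changes. -/

namespace Groth.Agent.Lib.Helper57.FinStalk

open Groth.Agent.Lib.Helper4 Groth.Agent.Lib.Helper79

variable {X Y : Scheme.{u}} (f : X ⟶ Y) {Ω : Type u} [Field Ω] [IsSepClosed Ω]
  {η : Spec (CommRingCat.of Ω) ⟶ Y} (ξ : Spec (CommRingCat.of Ω) ⟶ X) (hξ : ξ ≫ f = η)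

variable {A : Type u'} [Category.{v'} A] [HasColimitsOfSize.{u, u} A]
  {FC : A → A → Type*} {CC : A → Type w'} [∀ (X Y : A), FunLike (FC X Y) (CC X) (CC Y)]
  [ConcreteCategory.{w'} A FC] [PreservesFilteredColimitsOfSize.{u, u} (forget A)]

/-- The germ `c` at `ξ` is realised by a section on a clopen piece of `U ×_Y X` containing the
geometric point attached to `ξ` and `u`. -/
def Real (P : X.Etaleᵒᵖ ⥤ A) (c : ToType ((Scheme.pointSmallEtale ξ).presheafFiber.obj P))
    (U : Y.Etale) (u : (Scheme.pointSmallEtale η).fiber.obj U) : Prop :=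
  ∃ (C : ((EtCoh.bc f).obj U).left.Opens) (_ : IsClopen (C : Set ((EtCoh.bc f).obj U).left))
    (x' : (Scheme.pointSmallEtale ξ).fiber.obj (EtSiteGlue.openObj ((EtCoh.bc f).obj U) C))
    (_ : (Scheme.pointSmallEtale ξ).fiber.map (EtSiteGlue.openι ((EtCoh.bc f).obj U) C) x' =
      liftPt f ξ hξ u)
    (s' : ToType (P.obj (op (EtSiteGlue.openObj ((EtCoh.bc f).obj U) C)))),
    (Scheme.pointSmallEtale ξ).toPresheafFiber _ x' P s' = c

/-- Realisations restrict along morphisms of neighbourhoods and to smaller clopen pieces. -/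
theorem Real.restrict {P : X.Etaleᵒᵖ ⥤ A}
    {c : ToType ((Scheme.pointSmallEtale ξ).presheafFiber.obj P)}
    {U : Y.Etale} {u : (Scheme.pointSmallEtale η).fiber.obj U}
    {C : ((EtCoh.bc f).obj U).left.Opens}
    {x' : (Scheme.pointSmallEtale ξ).fiber.obj (EtSiteGlue.openObj ((EtCoh.bc f).obj U) C)}
    (hx' : (Scheme.pointSmallEtale ξ).fiber.map (EtSiteGlue.openι ((EtCoh.bc f).obj U) C) x' =
      liftPt f ξ hξ u)
    {s' : ToType (P.obj (op (EtSiteGlue.openObj ((EtCoh.bc f).obj U) C)))}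
    (hs' : (Scheme.pointSmallEtale ξ).toPresheafFiber _ x' P s' = c)
    {U' : Y.Etale} (g : U' ⟶ U) (u' : (Scheme.pointSmallEtale η).fiber.obj U')
    (hu' : (Scheme.pointSmallEtale η).fiber.map g u' = u)
    (D : ((EtCoh.bc f).obj U').left.Opens) (hD : D ≤ ((EtCoh.bc f).map g).left ⁻¹ᵁ C)
    (x'' : (Scheme.pointSmallEtale ξ).fiber.obj (EtSiteGlue.openObj ((EtCoh.bc f).obj U') D))
    (hx'' : (Scheme.pointSmallEtale ξ).fiber.map (EtSiteGlue.openι ((EtCoh.bc f).obj U') D) x'' =
      liftPt f ξ hξ u') :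
    (Scheme.pointSmallEtale ξ).toPresheafFiber _ x'' P
      (P.map (openObjHom ((EtCoh.bc f).map g) D C hD).op s') = c := by
  rw [(Scheme.pointSmallEtale ξ).toPresheafFiber_w_apply]
  have : (Scheme.pointSmallEtale ξ).fiber.map (openObjHom ((EtCoh.bc f).map g) D C hD) x'' = x' := by
    apply fiber_map_openι_injective
    rw [hx', ← hu', ← liftPt_map, ← hx'']
    have h1 := openObjHom_openι ((EtCoh.bc f).map g) D C hD
    have h2 := congrArg (fun k => (Scheme.pointSmallEtale ξ).fiber.map k x'') h1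
    simpa only [Functor.map_comp, ConcreteCategory.comp_apply] using h2
  rw [this, hs']

end Groth.Agent.Lib.Helper57.FinStalk
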