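import Groth.Agent.Lib.Helper57.Wt11
import Groth.Prelude.Def_BigSite

set_option autoImplicit false
universe u
open CategoryTheory CategoryTheory.Limits AlgebraicGeometry TopologicalSpace

namespace Groth.Agent.Lib.Helper57.PropA

open Groth.Agent.Lib.Helper57.Wt

/-- Étale-local structure at a single quasi-finite point of a separated morphism: a clopen piece,
finite over the base, containing exactly one point over the marked point of the base. -/
theorem exists_clopen_piece {P V : Scheme.{u}} (q : P ⟶ V) [LocallyOfFiniteType q]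
    [IsSeparated q] (p : P) (hp : q.QuasiFiniteAt p) :
    ∃ (V' : Scheme.{u}) (b : V' ⟶ V) (v' : V'), Etale b ∧ b v' = q p ∧
      ∃ (E : (pullback q b).Opens) (e : ↑(pullback q b)),
        IsClopen (E : Set ↑(pullback q b)) ∧ e ∈ E ∧ IsFinite (E.ι ≫ pullback.snd q b) ∧
        pullback.snd q b e = v' ∧
        (∀ w : ↑(pullback q b), w ∈ E → pullback.snd q b w = v' → w = e) ∧
        deg (pullback.snd q b) e = 1 ∧ pullback.fst q b e = p := by
  obtain ⟨V', b, v', hb, hbv, J, hJ, E, e, hclopen, -, hE, hcov⟩ :=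
    EtRes.exists_etale_nbhd_purelyInseparable q (q p) (ι := Unit) (fun _ => p)
      (fun _ _ _ => rfl) (fun _ => rfl) (fun _ => hp)
  obtain ⟨w, hw1, hw2⟩ := Scheme.Pullback.exists_preimage_pullback (f := q) (g := b) p v' hbv.symm
  obtain ⟨j, hj⟩ := hcov w () hw2 hw1
  obtain ⟨h1, h2, h3, h4, h5, h6⟩ := hE () j
  exact ⟨V', b, v', hb, hbv, E () j, e () j, hclopen () j, h1, h2, h3, h4, deg_eq_one _ _ h5, h6⟩


/-- Residue field surjectivity from separable degree one, for étale morphisms. -/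
theorem residue_surjective_of_deg_eq_one {W V : Scheme.{u}} (h : W ⟶ V) [Etale h] (u₀ : W)
    (hdeg : deg h u₀ = 1) : Function.Surjective (h.residueFieldMap u₀).hom := by
  let _ : Algebra ↑(V.residueField (h u₀)) ↑(W.residueField u₀) :=
    (h.residueFieldMap u₀).hom.toAlgebra
  have h1 : IsPurelyInseparable ↑(V.residueField (h u₀)) ↑(W.residueField u₀) := by
    apply isPurelyInseparable_of_finSepDegree_eq_one
    have := hdeg
    unfold deg at this
    exact_mod_cast this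
  have h2 : Algebra.IsSeparable ↑(V.residueField (h u₀)) ↑(W.residueField u₀) :=
    inferInstance
  exact IsPurelyInseparable.surjective_algebraMap_of_isSeparable _ _

/-- Flexible form of the conclusion of condition (A). -/
theorem propA_flex {X Y U : Scheme.{u}} (f : X ⟶ Y) (g : U ⟶ X) (u : U)
    {V P W₀ : Scheme.{u}} (v : V ⟶ Y) [Etale v] {p : P ⟶ X} {q : P ⟶ V}
    (sq : IsPullback p q f v) (j : W₀ ⟶ P) [IsOpenImmersion j] (hcl : IsClosed (Set.range j))
    (h : W₀ ⟶ U) (hh : h ≫ g = j ≫ p) (hu : u ∈ Set.range h) :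
    ∃ (V : Scheme.{u}) (v : V ⟶ Y) (_ : Etale v) (W : (pullback f v).Opens)
      (_ : IsClosed (W : Set ↥(pullback f v))) (h : (W : Scheme.{u}) ⟶ U),
      h ≫ g = W.ι ≫ pullback.fst f v ∧ u ∈ Set.range h.base := by
  let e := sq.isoPullback
  let k : W₀ ⟶ pullback f v := j ≫ e.hom
  refine ⟨V, v, inferInstance, k.opensRange, ?_, k.isoOpensRange.inv ≫ h, ?_, ?_⟩
  · show IsClosed (Set.range k)
    have : Set.range k = e.hom '' Set.range j := by
      rw [← Set.range_comp]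
      rfl
    rw [this]
    exact e.hom.homeomorph.isClosedMap _ hcl
  · rw [Category.assoc, hh]
    have h1 : k.isoOpensRange.hom ≫ k.opensRange.ι = k := Scheme.Hom.isoOpensRange_hom_ι k
    have h2 : k.opensRange.ι = k.isoOpensRange.inv ≫ k :=
      (Iso.eq_inv_comp _).mpr h1
    have h3 : k ≫ pullback.fst f v = j ≫ p := by
      show (j ≫ e.hom) ≫ pullback.fst f v = j ≫ p
      rw [Category.assoc, IsPullback.isoPullback_hom_fst]
    rw [h2, Category.assoc, h3]
  · obtain ⟨w₀, rfl⟩ := hu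
    refine ⟨k.isoOpensRange.hom w₀, ?_⟩
    show (k.isoOpensRange.inv ≫ h) (k.isoOpensRange.hom w₀) = h w₀
    rw [Scheme.Hom.comp_apply]
    congr 1
    rw [← Scheme.Hom.comp_apply, Iso.hom_inv_id]
    rfl


/-- Condition (A) for separated locally quasi-finite morphisms. -/
theorem propA_of_lqf {X Y : Scheme.{u}} (f : X ⟶ Y) [IsSeparated f] [LocallyQuasiFinite f]
    [LocallyOfFiniteType f] : BigSite.PropA f := by
  intro U g _ u
  -- an affine open neighbourhood of `u`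
  obtain ⟨U₀, hU₀, hu₀⟩ : ∃ U₀ : U.Opens, IsAffineOpen U₀ ∧ u ∈ U₀ := by
    obtain ⟨_, ⟨U₀, hU₀, rfl⟩, hu, -⟩ :=
      U.isBasis_affineOpens.exists_subset_of_mem_open (Set.mem_univ u) isOpen_univ
    exact ⟨U₀, hU₀, hu⟩
  have : IsAffine (U₀ : Scheme.{u}) := hU₀
  let g₀ : (U₀ : Scheme.{u}) ⟶ X := U₀.ι ≫ g
  have hg₀et : Etale g₀ := inferInstance
  have hg₀lqf : LocallyQuasiFinite g₀ := locallyQuasiFinite_of_etale g₀
  have hg₀sep : IsSeparated g₀ := inferInstance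
  let φ : (U₀ : Scheme.{u}) ⟶ Y := g₀ ≫ f
  let u₀ : (U₀ : Scheme.{u}) := ⟨u, hu₀⟩
  -- first localization
  obtain ⟨V, a, v, ha, hav, E, e, hEclopen, heE, hEfin, hev, hEuniq, hEdeg, heu⟩ :=
    exists_clopen_piece φ u₀ (φ.quasiFiniteAt u₀)
  let ψ₀ : pullback φ a ⟶ pullback f a := pbMap g₀ f a
  have hψ₀et : Etale ψ₀ :=
    MorphismProperty.of_isPullback (isPullback_pbMap g₀ f a).flip inferInstance
  let ψ : (E : Scheme.{u}) ⟶ pullback f a := E.ι ≫ ψ₀
  have hψet : Etale ψ := inferInstance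
  have hψsnd : ψ ≫ pullback.snd f a = E.ι ≫ pullback.snd φ a := by
    show (E.ι ≫ pbMap g₀ f a) ≫ pullback.snd f a = _
    rw [Category.assoc, pbMap_snd]
  have hψfst : ψ ≫ pullback.fst f a = E.ι ≫ pullback.fst φ a ≫ g₀ := by
    show (E.ι ≫ pbMap g₀ f a) ≫ pullback.fst f a = _
    rw [Category.assoc, pbMap_fst]
  have hψfin : IsFinite ψ := by
    have : IsFinite (ψ ≫ pullback.snd f a) := by rw [hψsnd]; exact hEfin
    exact IsFinite.of_comp ψ (pullback.snd f a)
  have hψlqf : LocallyQuasiFinite ψ := locallyQuasiFinite_of_etale ψ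
  let p₀ : (E : Scheme.{u}) := ⟨e, heE⟩
  -- the degree of `ψ` at `p₀` is one
  have hdegψ : deg ψ p₀ = 1 := by
    have h1 : deg (ψ ≫ pullback.snd f a) p₀ = 1 := by
      rw [hψsnd, deg_comp_of_isOpenImmersion]
      exact hEdeg
    rw [deg_comp ψ (pullback.snd f a) p₀ (finite_residueFieldMap ψ p₀)] at h1
    have h2 := deg_pos ψ p₀ (finite_residueFieldMap ψ p₀)
    exact Int.eq_one_of_mul_eq_one_right h2.le h1
  have hres := residue_surjective_of_deg_eq_one ψ p₀ hdegψ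
  have huniq : ∀ p' : (E : Scheme.{u}), ψ p' = ψ p₀ → p' = p₀ := by
    intro p' hp'
    have h1 : (ψ ≫ pullback.snd f a) p' = (ψ ≫ pullback.snd f a) p₀ := by
      show pullback.snd f a (ψ p') = pullback.snd f a (ψ p₀)
      rw [hp']
    rw [hψsnd] at h1
    have h2 : pullback.snd φ a p'.1 = v := by
      have : pullback.snd φ a p'.1 = pullback.snd φ a e := h1
      rw [this, hev]
    exact Subtype.ext (hEuniq p'.1 p'.2 h2)
  obtain ⟨N, hN, hiso⟩ := EtUnr.exists_isIso_restrict ψ p₀ huniq hres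
  -- second localization
  let q' : (N : Scheme.{u}) ⟶ V := N.ι ≫ pullback.snd f a
  let n₀ : (N : Scheme.{u}) := ⟨ψ p₀, hN⟩
  obtain ⟨V', b, v', hb, hbv, E', e', hE'clopen, he'E', hE'fin, he'v, -, -, he'n⟩ :=
    exists_clopen_piece q' n₀ (q'.quasiFiniteAt n₀)
  have sq : IsPullback (pullback.fst (pullback.snd f a) b ≫ pullback.fst f a)
      (pullback.snd (pullback.snd f a) b) f (b ≫ a) :=
    (IsPullback.of_hasPullback (pullback.snd f a) b).paste_horiz (IsPullback.of_hasPullback f a)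
  have : Etale (b ≫ a) := inferInstance
  let θ₀ : pullback q' b ⟶ pullback (pullback.snd f a) b := pbMap N.ι (pullback.snd f a) b
  let j : (E' : Scheme.{u}) ⟶ pullback (pullback.snd f a) b := E'.ι ≫ θ₀
  have hjsnd : j ≫ pullback.snd (pullback.snd f a) b = E'.ι ≫ pullback.snd q' b := by
    show (E'.ι ≫ pbMap N.ι (pullback.snd f a) b) ≫ _ = _
    rw [Category.assoc, pbMap_snd]
  have hjfst : j ≫ pullback.fst (pullback.snd f a) b = E'.ι ≫ pullback.fst q' b ≫ N.ι := by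
    show (E'.ι ≫ pbMap N.ι (pullback.snd f a) b) ≫ _ = _
    rw [Category.assoc, pbMap_fst]
  have hjfin : IsFinite j := by
    have : IsFinite (j ≫ pullback.snd (pullback.snd f a) b) := by rw [hjsnd]; exact hE'fin
    exact IsFinite.of_comp j (pullback.snd (pullback.snd f a) b)
  have hjcl : IsClosed (Set.range j) := j.isClosedMap.isClosed_range
  let h : (E' : Scheme.{u}) ⟶ U :=
    E'.ι ≫ pullback.fst q' b ≫ inv (ψ ∣_ N) ≫ (ψ ⁻¹ᵁ N).ι ≫ E.ι ≫ pullback.fst φ a ≫ U₀.ι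
  have hh : h ≫ g = j ≫ pullback.fst (pullback.snd f a) b ≫ pullback.fst f a := by
    rw [← Category.assoc j, hjfst]
    have h1 : (ψ ⁻¹ᵁ N).ι ≫ E.ι ≫ pullback.fst φ a ≫ U₀.ι ≫ g = ψ ∣_ N ≫ N.ι ≫ pullback.fst f a := by
      have : (ψ ⁻¹ᵁ N).ι ≫ ψ = ψ ∣_ N ≫ N.ι := (morphismRestrict_ι ψ N).symm
      rw [← Category.assoc (ψ ∣_ N), ← this, Category.assoc, hψfst]
    simp only [h, Category.assoc]
    rw [h1, IsIso.inv_hom_id_assoc]
  refine propA_flex f g u (b ≫ a) sq j hjcl h hh ⟨⟨e', he'E'⟩, ?_⟩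
  -- the image of `e'` is `u`
  have h1 : (ψ ∣_ N) ⟨p₀, hN⟩ = n₀ := by
    apply Subtype.ext
    show N.ι ((ψ ∣_ N) ⟨p₀, hN⟩) = ψ p₀
    rw [← Scheme.Hom.comp_apply, morphismRestrict_ι]
    rfl
  have h2 : inv (ψ ∣_ N) n₀ = ⟨p₀, hN⟩ := by
    rw [← h1, ← Scheme.Hom.comp_apply, IsIso.hom_inv_id]
    rfl
  show (E'.ι ≫ pullback.fst q' b ≫ inv (ψ ∣_ N) ≫ (ψ ⁻¹ᵁ N).ι ≫ E.ι ≫ pullback.fst φ a ≫ U₀.ι)
    ⟨e', he'E'⟩ = u
  simp only [Scheme.Hom.comp_apply]
  have h3 : E'.ι ⟨e', he'E'⟩ = e' := rfl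
  rw [h3, he'n, h2]
  have h4 : (ψ ⁻¹ᵁ N).ι ⟨p₀, hN⟩ = p₀ := rfl
  have h5 : E.ι p₀ = e := rfl
  rw [h4, h5, heu]
  rfl

end Groth.Agent.Lib.Helper57.PropA
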