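import Groth.Agent.Lib.Helper57.FinStalk5
import Groth.Agent.Lib.Helper57.PropA1

set_option autoImplicit false
open CategoryTheory CategoryTheory.Limits AlgebraicGeometry Opposite
universe u v' u' w'

/-! Existence of local realisations of germs, via condition (A). -/

namespace Groth.Agent.Lib.Helper57.FinStalk

open Groth.Agent.Lib.Helper4 Groth.Agent.Lib.Helper79

variable {X Y : Scheme.{u}} (f : X ⟶ Y) [IsFinite f] {Ω : Type u} [Field Ω] [IsSepClosed Ω]
  {η : Spec (CommRingCat.of Ω) ⟶ Y} (ξ : Spec (CommRingCat.of Ω) ⟶ X) (hξ : ξ ≫ f = η)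

variable {A : Type u'} [Category.{v'} A] [HasColimitsOfSize.{u, u} A]
  {FC : A → A → Type*} {CC : A → Type w'} [∀ (X Y : A), FunLike (FC X Y) (CC X) (CC Y)]
  [ConcreteCategory.{w'} A FC] [PreservesFilteredColimitsOfSize.{u, u} (forget A)]

theorem exists_real (P : X.Etaleᵒᵖ ⥤ A)
    (c : ToType ((Scheme.pointSmallEtale ξ).presheafFiber.obj P)) :
    ∃ (U : Y.Etale) (u : (Scheme.pointSmallEtale η).fiber.obj U), Real f ξ hξ P c U u := by
  obtain ⟨W, w, sW, rfl⟩ :=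
    (Scheme.pointSmallEtale ξ).toPresheafFiber_jointly_surjective (P := P) c
  have hWet : Etale W.hom := W.prop
  obtain ⟨V₁, v₁, hv₁, Wc, hWc, h, hh, ⟨c₀, hc₀⟩⟩ :=
    PropA.propA_of_lqf f W.left W.hom (ptHom w default)
  have : Etale (h ≫ W.hom) := by rw [hh]; infer_instance
  have : Etale h := Etale.of_comp h W.hom
  obtain ⟨l, hl, hl0⟩ := Scheme.exists_fac_of_etale_of_isSepClosed h (ptHom w) c₀ hc₀
  let U : Y.Etale := Scheme.Etale.mk v₁
  let e : pullback v₁ f ≅ pullback f v₁ := pullbackSymmetry v₁ f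
  have he1 : e.inv ≫ pullback.fst v₁ f = pullback.snd f v₁ := pullbackSymmetry_inv_comp_fst v₁ f
  have he2 : e.inv ≫ pullback.snd v₁ f = pullback.fst f v₁ := pullbackSymmetry_inv_comp_snd v₁ f
  have he3 : e.hom ≫ pullback.fst f v₁ = pullback.snd v₁ f := pullbackSymmetry_hom_comp_fst v₁ f
  have hlw : l ≫ Wc.ι ≫ pullback.fst f v₁ = ξ := by
    rw [← hh, ← Category.assoc, hl, ptHom_comp]
  have hu : (l ≫ Wc.ι ≫ pullback.snd f v₁) ≫ v₁ = η := by
    rw [Category.assoc, Category.assoc, ← pullback.condition, ← Category.assoc Wc.ι,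
      ← Category.assoc l, hlw, hξ]
  let u : (Scheme.pointSmallEtale η).fiber.obj U := mkPt η U (l ≫ Wc.ι ≫ pullback.snd f v₁) hu
  have hζ1 : (l ≫ Wc.ι ≫ e.inv) ≫ pullback.fst v₁ f = l ≫ Wc.ι ≫ pullback.snd f v₁ := by
    rw [Category.assoc, Category.assoc, he1]
  have hζ2 : (l ≫ Wc.ι ≫ e.inv) ≫ pullback.snd v₁ f = ξ := by
    rw [Category.assoc, Category.assoc, he2, hlw]
  have hζ : ptHom (liftPt f ξ hξ u) = l ≫ Wc.ι ≫ e.inv := by
    apply pullback.hom_ext
    · exact (ptHom_liftPt_fst f ξ hξ u).trans hζ1.symm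
    · exact (ptHom_liftPt_snd f ξ hξ u).trans hζ2.symm
  let C : (pullback v₁ f).Opens := e.hom ⁻¹ᵁ Wc
  have hCclopen : IsClopen (C : Set ↥(pullback v₁ f)) :=
    ⟨hWc.preimage e.hom.continuous, Wc.2.preimage e.hom.continuous⟩
  have hmem : ptHom (liftPt f ξ hξ u) default ∈ C := by
    change e.hom (ptHom (liftPt f ξ hξ u) default) ∈ Wc
    rw [hζ]
    have : e.hom ((l ≫ Wc.ι ≫ e.inv) default) = (l ≫ Wc.ι) default := by
      have h1 : (l ≫ Wc.ι ≫ e.inv) ≫ e.hom = l ≫ Wc.ι := by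
        rw [Category.assoc, Category.assoc, Iso.inv_hom_id, Category.comp_id]
      exact congrArg (fun φ : Spec (CommRingCat.of Ω) ⟶ pullback f v₁ => φ default) h1
    have h2 : (l ≫ Wc.ι) default ∈ Wc := (l default).2
    exact (congrArg (fun p => p ∈ Wc) this).mpr h2
  obtain ⟨x', hx'⟩ := exists_shrink' (liftPt f ξ hξ u) C hmem
  have hr : Set.range (C.ι ≫ e.hom).base ⊆ Set.range Wc.ι.base := by
    rintro _ ⟨a, rfl⟩
    have h1 : Set.range Wc.ι.base = (Wc : Set ↥(pullback f v₁)) := Scheme.Opens.range_ι Wc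
    rw [h1]
    exact a.2
  let r : C.toScheme ⟶ Wc.toScheme := IsOpenImmersion.lift Wc.ι (C.ι ≫ e.hom) hr
  have hr' : r ≫ Wc.ι = C.ι ≫ e.hom := IsOpenImmersion.lift_fac _ _ _
  have hover : (r ≫ h) ≫ W.hom = C.ι ≫ pullback.snd v₁ f := by
    rw [Category.assoc, hh, ← Category.assoc, hr', Category.assoc, he3]
  let hC : EtSiteGlue.openObj ((EtCoh.bc f).obj U) C ⟶ W :=
    MorphismProperty.Over.homMk (r ≫ h) hover trivial
  refine ⟨U, u, C, hCclopen, x', hx', P.map hC.op sW, ?_⟩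
  rw [(Scheme.pointSmallEtale ξ).toPresheafFiber_w_apply]
  have hxw : (Scheme.pointSmallEtale ξ).fiber.map hC x' = w := by
    apply pt_ext
    change ptHom x' ≫ r ≫ h = ptHom w
    have h1 : ptHom x' ≫ C.ι = l ≫ Wc.ι ≫ e.inv := (congrArg ptHom hx').trans hζ
    have h2' : (l ≫ Wc.ι ≫ e.inv) ≫ e.hom = l ≫ Wc.ι := by
      rw [Category.assoc, Category.assoc, Iso.inv_hom_id, Category.comp_id]
    have h2 : (ptHom x' ≫ r) ≫ Wc.ι = l ≫ Wc.ι :=
      (Category.assoc _ _ _).trans ((congrArg (ptHom x' ≫ ·) hr').trans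
        ((Category.assoc _ _ _).symm.trans ((congrArg (· ≫ e.hom) h1).trans h2')))
    have h3 : ptHom x' ≫ r = l := (cancel_mono Wc.ι).1 h2
    rw [← Category.assoc, h3, hl]
  rw [hxw]

end Groth.Agent.Lib.Helper57.FinStalk
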