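import Groth.Agent.Lib.Helper57.FinStalk6

set_option autoImplicit false
open CategoryTheory CategoryTheory.Limits AlgebraicGeometry Opposite
universe u

/-! Étale neighbourhoods over which the base change of a finite morphism splits into clopen
pieces separating the geometric points of the fibre. -/

namespace Groth.Agent.Lib.Helper57.FinStalk

open Groth.Agent.Lib.Helper4 Groth.Agent.Lib.Helper79

variable {X Y : Scheme.{u}} (f : X ⟶ Y) [IsFinite f] {Ω : Type u} [Field Ω] [IsAlgClosed Ω]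
  (η : Spec (CommRingCat.of Ω) ⟶ Y)

theorem exists_split :
    ∃ (U : Y.Etale) (u : (Scheme.pointSmallEtale η).fiber.obj U) (K : Type) (_ : Finite K)
      (B : K → ((EtCoh.bc f).obj U).left.Opens),
      (∀ k, IsClopen (B k : Set ((EtCoh.bc f).obj U).left)) ∧
      (∀ k k', k ≠ k' → Disjoint (B k) (B k')) ∧
      (∀ (ξ : Spec (CommRingCat.of Ω) ⟶ X) (hξ : ξ ≫ f = η),
        ∃ k, ptHom (liftPt f ξ hξ u) default ∈ B k) ∧
      (∀ (ξ : Spec (CommRingCat.of Ω) ⟶ X) (hξ : ξ ≫ f = η)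
        (ξ' : Spec (CommRingCat.of Ω) ⟶ X) (hξ' : ξ' ≫ f = η) (k : K),
        ptHom (liftPt f ξ hξ u) default ∈ B k → ptHom (liftPt f ξ' hξ' u) default ∈ B k →
          ξ = ξ') := by
  let y : Y := η default
  let S : Set X := f ⁻¹' {y}
  have hS : S.Finite := f.finite_preimage_singleton y
  have : Finite ↥S := hS.to_subtype
  let en : ↥S ≃ Fin (Nat.card ↥S) := Finite.equivFin ↥S
  let x : Fin (Nat.card ↥S) → X := fun i => (en.symm i).1
  have hinj : Function.Injective x := fun i i' h => en.symm.injective (Subtype.ext h)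
  have hs : ∀ i, f (x i) = y := fun i => (en.symm i).2
  have hx : ∀ i, f.QuasiFiniteAt (x i) := fun i => f.quasiFiniteAt _
  obtain ⟨U, g, u', hg, hgu, J, hJ, V, v, hclopen, hdisj, hE, hcov⟩ :=
    EtRes.exists_etale_nbhd_purelyInseparable f y x hinj hs hx
  obtain ⟨l, hl, hl0⟩ := Scheme.exists_fac_of_etale_of_isSepClosed g η u' hgu
  let U₀ : Y.Etale := Scheme.Etale.mk g
  let u₀ : (Scheme.pointSmallEtale η).fiber.obj U₀ := mkPt η U₀ l hl
  let e : pullback g f ≅ pullback f g := pullbackSymmetry g f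
  have he1 : e.hom ≫ pullback.fst f g = pullback.snd g f := pullbackSymmetry_hom_comp_fst g f
  have he2 : e.hom ≫ pullback.snd f g = pullback.fst g f := pullbackSymmetry_hom_comp_snd g f
  let B : (Σ i, J i) → (pullback g f).Opens := fun k => e.hom ⁻¹ᵁ V k.1 k.2
  -- the geometric points of `pullback f g`
  have hζ1 : ∀ (ξ : Spec (CommRingCat.of Ω) ⟶ X) (hξ : ξ ≫ f = η),
      (ptHom (liftPt f ξ hξ u₀) ≫ e.hom) ≫ pullback.snd f g = l := fun ξ hξ =>
    (Category.assoc _ _ _).trans ((congrArg (ptHom (liftPt f ξ hξ u₀) ≫ ·) he2).trans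
      (ptHom_liftPt_fst f ξ hξ u₀))
  have hζ2 : ∀ (ξ : Spec (CommRingCat.of Ω) ⟶ X) (hξ : ξ ≫ f = η),
      (ptHom (liftPt f ξ hξ u₀) ≫ e.hom) ≫ pullback.fst f g = ξ := fun ξ hξ =>
    (Category.assoc _ _ _).trans ((congrArg (ptHom (liftPt f ξ hξ u₀) ≫ ·) he1).trans
      (ptHom_liftPt_snd f ξ hξ u₀))
  have hpt : ∀ (ξ : Spec (CommRingCat.of Ω) ⟶ X) (hξ : ξ ≫ f = η),
      e.hom (ptHom (liftPt f ξ hξ u₀) default) = (ptHom (liftPt f ξ hξ u₀) ≫ e.hom) default :=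
    fun ξ hξ => rfl
  have hsnd : ∀ (ξ : Spec (CommRingCat.of Ω) ⟶ X) (hξ : ξ ≫ f = η),
      pullback.snd f g ((ptHom (liftPt f ξ hξ u₀) ≫ e.hom) default) = u' := fun ξ hξ =>
    (congrArg (fun φ : Spec (CommRingCat.of Ω) ⟶ U => φ default) (hζ1 ξ hξ)).trans hl0
  have hfst : ∀ (ξ : Spec (CommRingCat.of Ω) ⟶ X) (hξ : ξ ≫ f = η),
      pullback.fst f g ((ptHom (liftPt f ξ hξ u₀) ≫ e.hom) default) = ξ default := fun ξ hξ =>
    congrArg (fun φ : Spec (CommRingCat.of Ω) ⟶ X => φ default) (hζ2 ξ hξ)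
  refine ⟨U₀, u₀, Σ i, J i, inferInstance, B, ?_, ?_, ?_, ?_⟩
  · intro k
    exact ⟨(hclopen k.1 k.2).1.preimage e.hom.continuous,
      (hclopen k.1 k.2).2.preimage e.hom.continuous⟩
  · rintro ⟨i, j⟩ ⟨i', j'⟩ hne
    rw [disjoint_iff]
    ext z
    simp only [TopologicalSpace.Opens.coe_bot, Set.mem_empty_iff_false, iff_false]
    rintro ⟨hz, hz'⟩
    obtain ⟨rfl, hj⟩ := hdisj i j i' j' ⟨e.hom z, hz, hz'⟩
    obtain rfl := eq_of_heq hj
    exact hne rfl
  · intro ξ hξ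
    have hξS : ξ default ∈ S := by
      change f (ξ default) = y
      exact congrArg (fun φ : Spec (CommRingCat.of Ω) ⟶ Y => φ default) hξ
    let i := en ⟨ξ default, hξS⟩
    have hxi : x i = ξ default := by
      change (en.symm (en ⟨ξ default, hξS⟩)).1 = ξ default
      rw [Equiv.symm_apply_apply]
    obtain ⟨j, hj⟩ := hcov ((ptHom (liftPt f ξ hξ u₀) ≫ e.hom) default) i (hsnd ξ hξ)
      ((hfst ξ hξ).trans hxi.symm)
    exact ⟨⟨i, j⟩, hj⟩
  · rintro ξ hξ ξ' hξ' ⟨i, j⟩ hk hk'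
    obtain ⟨-, -, -, huniq, hpi, -⟩ := hE i j
    have h1 : (ptHom (liftPt f ξ hξ u₀) ≫ e.hom) default = v i j := huniq _ hk (hsnd ξ hξ)
    have h2 : (ptHom (liftPt f ξ' hξ' u₀) ≫ e.hom) default = v i j := huniq _ hk' (hsnd ξ' hξ')
    have h3 : ptHom (liftPt f ξ hξ u₀) ≫ e.hom = ptHom (liftPt f ξ' hξ' u₀) ≫ e.hom :=
      geomPt_ext_of_purelyInseparable (pullback.snd f g) (v i j) hpi _ _
        ((hζ1 ξ hξ).trans (hζ1 ξ' hξ').symm) h1 h2
    have h4 : ptHom (liftPt f ξ hξ u₀) = ptHom (liftPt f ξ' hξ' u₀) := (cancel_mono e.hom).1 h3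
    exact (ptHom_liftPt_snd f ξ hξ u₀).symm.trans
      ((congrArg (· ≫ pullback.snd g f) h4).trans (ptHom_liftPt_snd f ξ' hξ' u₀))

end Groth.Agent.Lib.Helper57.FinStalk
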