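import Groth.Agent.Lib.Helper57.FinStalk7

set_option autoImplicit false
open CategoryTheory CategoryTheory.Limits AlgebraicGeometry Opposite
universe u v' u' w'

/-! Joint surjectivity of the comparison maps for finite morphisms. -/

namespace Groth.Agent.Lib.Helper57.FinStalk

open Groth.Agent.Lib.Helper4 Groth.Agent.Lib.Helper79

variable {X Y : Scheme.{u}} (f : X ⟶ Y) [IsFinite f] {Ω : Type u} [Field Ω] [IsAlgClosed Ω]
  (η : Spec (CommRingCat.of Ω) ⟶ Y)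

/-- There are finitely many geometric points of `X` over `η`. -/
theorem finite_lifts : Finite {ξ : Spec (CommRingCat.of Ω) ⟶ X // ξ ≫ f = η} := by
  obtain ⟨U₀, u₀, K, hK, B, -, -, hBmem, hBinj⟩ := exists_split f η
  choose kξ hkξ using fun ξ : {ξ : Spec (CommRingCat.of Ω) ⟶ X // ξ ≫ f = η} => hBmem ξ.1 ξ.2
  refine Finite.of_injective kξ ?_
  intro ξ ξ' h
  apply Subtype.ext
  exact hBinj ξ.1 ξ.2 ξ'.1 ξ'.2 (kξ ξ) (hkξ ξ) (h ▸ hkξ ξ')

/-- Common refinements of finitely many étale neighbourhoods of a geometric point. -/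
theorem exists_common_refinement {ι : Type*} [Finite ι] (U₀ : Y.Etale)
    (u₀ : (Scheme.pointSmallEtale η).fiber.obj U₀) (Uξ : ι → Y.Etale)
    (uξ : ∀ i, (Scheme.pointSmallEtale η).fiber.obj (Uξ i)) :
    ∃ (U : Y.Etale) (u : (Scheme.pointSmallEtale η).fiber.obj U) (g₀ : U ⟶ U₀)
      (_ : (Scheme.pointSmallEtale η).fiber.map g₀ u = u₀) (g : ∀ i, U ⟶ Uξ i),
      ∀ i, (Scheme.pointSmallEtale η).fiber.map (g i) u = uξ i := by
  classical
  have := Fintype.ofFinite ι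
  let E := (Scheme.pointSmallEtale η).fiber.Elements
  let e₀ : E := ⟨U₀, u₀⟩
  let eξ : ι → E := fun i => ⟨Uξ i, uξ i⟩
  obtain ⟨S, hS⟩ := IsCofiltered.inf_objs_exists (insert e₀ (Finset.univ.image eξ))
  obtain ⟨m₀⟩ := hS (Finset.mem_insert_self e₀ _)
  have hm : ∀ i, Nonempty (S ⟶ eξ i) := fun i =>
    hS (Finset.mem_insert_of_mem (Finset.mem_image_of_mem eξ (Finset.mem_univ i)))
  choose m _ using fun i => (⟨(hm i).some, trivial⟩ : ∃ _ : S ⟶ eξ i, True)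
  exact ⟨S.1, S.2, m₀.1, m₀.2, fun i => (m i).1, fun i => (m i).2⟩

variable {A : Type u'} [Category.{v'} A] [HasColimitsOfSize.{u, u} A]
  {FC : A → A → Type*} {CC : A → Type w'} [∀ (X Y : A), FunLike (FC X Y) (CC X) (CC Y)]
  [ConcreteCategory.{w'} A FC] [PreservesFilteredColimitsOfSize.{u, u} (forget A)]

theorem liftPt_map_apply {ξ : Spec (CommRingCat.of Ω) ⟶ X} (hξ : ξ ≫ f = η) {U U' : Y.Etale}
    (g : U' ⟶ U) (u' : (Scheme.pointSmallEtale η).fiber.obj U')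
    (u : (Scheme.pointSmallEtale η).fiber.obj U)
    (hu : (Scheme.pointSmallEtale η).fiber.map g u' = u) :
    ((EtCoh.bc f).map g).left (ptHom (liftPt f ξ hξ u') default) =
      ptHom (liftPt f ξ hξ u) default := by
  rw [← hu, ← liftPt_map]
  rfl

/-- The comparison maps to the stalks at the geometric points over `η` are jointly surjective. -/
theorem T_jointly_surjective (P : X.Etaleᵒᵖ ⥤ A)
    (hP : Presieve.IsSheaf X.smallEtaleTopology (P ⋙ forget A))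
    (c : ∀ ξ : {ξ : Spec (CommRingCat.of Ω) ⟶ X // ξ ≫ f = η},
      ToType ((Scheme.pointSmallEtale ξ.1).presheafFiber.obj P)) :
    ∃ a : ToType ((Scheme.pointSmallEtale η).presheafFiber.obj ((EtCoh.bc f).op ⋙ P)),
      ∀ ξ : {ξ : Spec (CommRingCat.of Ω) ⟶ X // ξ ≫ f = η}, T f ξ.1 ξ.2 P a = c ξ := by
  have hfin := finite_lifts f η
  obtain ⟨U₀, u₀, K, hK, B, hBclopen, hBdisj, hBmem, hBinj⟩ := exists_split f η
  choose kξ hkξ using fun ξ : {ξ : Spec (CommRingCat.of Ω) ⟶ X // ξ ≫ f = η} => hBmem ξ.1 ξ.2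
  have hkinj : Function.Injective kξ := by
    intro ξ ξ' h
    apply Subtype.ext
    exact hBinj ξ.1 ξ.2 ξ'.1 ξ'.2 (kξ ξ) (hkξ ξ) (h ▸ hkξ ξ')
  choose Uξ uξ C hCclopen x' hx' s' hs' using
    fun ξ : {ξ : Spec (CommRingCat.of Ω) ⟶ X // ξ ≫ f = η} => exists_real f ξ.1 ξ.2 P (c ξ)
  obtain ⟨U, u, g₀, hg₀, g, hg⟩ := exists_common_refinement η U₀ u₀ Uξ uξ
  -- the points
  let pt : ∀ ξ : {ξ : Spec (CommRingCat.of Ω) ⟶ X // ξ ≫ f = η}, ((EtCoh.bc f).obj U).left :=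
    fun ξ => ptHom (liftPt f ξ.1 ξ.2 u) default
  have hpt₀ : ∀ ξ, ((EtCoh.bc f).map g₀).left (pt ξ) ∈ B (kξ ξ) := fun ξ => by
    have := liftPt_map_apply f η ξ.2 g₀ u u₀ hg₀
    exact (congrArg (fun p => p ∈ B (kξ ξ)) this).mpr (hkξ ξ)
  have hptC : ∀ ξ, ((EtCoh.bc f).map (g ξ)).left (pt ξ) ∈ C ξ := fun ξ => by
    have h1 := liftPt_map_apply f η ξ.2 (g ξ) u (uξ ξ) (hg ξ)
    have h2 : ptHom (liftPt f ξ.1 ξ.2 (uξ ξ)) default ∈ C ξ := by
      rw [← hx' ξ]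
      exact ptHom_mem_of_map_openι (C ξ) (x' ξ)
    exact (congrArg (fun p => p ∈ C ξ) h1).mpr h2
  -- the clopen pieces
  let D : ∀ ξ : {ξ : Spec (CommRingCat.of Ω) ⟶ X // ξ ≫ f = η}, ((EtCoh.bc f).obj U).left.Opens :=
    fun ξ => (((EtCoh.bc f).map g₀).left ⁻¹ᵁ B (kξ ξ)) ⊓ (((EtCoh.bc f).map (g ξ)).left ⁻¹ᵁ C ξ)
  have hDmem : ∀ ξ, pt ξ ∈ D ξ := fun ξ => ⟨hpt₀ ξ, hptC ξ⟩
  have hDclosed : ∀ ξ, IsClosed (D ξ : Set ((EtCoh.bc f).obj U).left) := fun ξ =>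
    ((hBclopen (kξ ξ)).1.preimage ((EtCoh.bc f).map g₀).left.continuous).inter
      ((hCclopen ξ).1.preimage ((EtCoh.bc f).map (g ξ)).left.continuous)
  have hDdisj : ∀ ξ ξ', ξ ≠ ξ' → Disjoint (D ξ) (D ξ') := by
    intro ξ ξ' hne
    rw [disjoint_iff]
    ext z
    simp only [TopologicalSpace.Opens.coe_bot, Set.mem_empty_iff_false, iff_false]
    rintro ⟨⟨hz, -⟩, ⟨hz', -⟩⟩
    have hkne : kξ ξ ≠ kξ ξ' := fun h => hne (hkinj h)
    exact (hBdisj _ _ hkne).le_bot ⟨hz, hz'⟩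
  let q := pullback.fst U.hom f
  let D₀ : Set ((EtCoh.bc f).obj U).left := (⋃ ξ, (D ξ : Set ((EtCoh.bc f).obj U).left))ᶜ
  have hD₀open : IsOpen D₀ᶜ := by
    rw [compl_compl]
    exact isOpen_iUnion fun ξ => (D ξ).2
  have hD₀closed : IsClosed D₀ := ⟨hD₀open⟩
  have hD₀closed' : IsClosed D₀ᶜ := by
    rw [compl_compl]
    exact isClosed_iUnion_of_finite hDclosed
  have hq : IsClosedMap q := q.isClosedMap
  let O' : U.left.Opens := ⟨(q '' D₀)ᶜ, (hq _ hD₀closed).isOpen_compl⟩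
  have hO' : ptHom u default ∈ O' := by
    rintro ⟨z, hz, hzu⟩
    obtain ⟨ξ, hξ, rfl⟩ := exists_liftPt_eq f η u z hzu
    exact hz (Set.mem_iUnion.2 ⟨⟨ξ, hξ⟩, hDmem ⟨ξ, hξ⟩⟩)
  obtain ⟨u', hu'⟩ := exists_shrink' u O' hO'
  let j := EtSiteGlue.openι U O'
  let k := (EtCoh.bc f).map j
  let D' : ∀ ξ : {ξ : Spec (CommRingCat.of Ω) ⟶ X // ξ ≫ f = η},
      ((EtCoh.bc f).obj (EtSiteGlue.openObj U O')).left.Opens := fun ξ => k.left ⁻¹ᵁ D ξ
  have hD'disj : ∀ ξ ξ', ξ ≠ ξ' → Disjoint (D' ξ) (D' ξ') := by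
    intro ξ ξ' hne
    rw [disjoint_iff]
    ext z
    simp only [TopologicalSpace.Opens.coe_bot, Set.mem_empty_iff_false, iff_false]
    rintro ⟨hz, hz'⟩
    exact (hDdisj _ _ hne).le_bot ⟨hz, hz'⟩
  have hD'cover : (⨆ ξ, D' ξ) = ⊤ := by
    rw [eq_top_iff]
    intro x _
    have h3 : q (k.left x) = j.left (pullback.fst (EtSiteGlue.openObj U O').hom f x) := by
      have := (EtCoh.isPullback_bc_map f j).w
      exact congrArg (fun φ : ((EtCoh.bc f).obj (EtSiteGlue.openObj U O')).left ⟶ U.left => φ x) this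
    have h4 : k.left x ∉ D₀ := by
      intro hcon
      have h5 : q (k.left x) ∈ q '' D₀ := ⟨_, hcon, rfl⟩
      rw [h3] at h5
      exact (pullback.fst (EtSiteGlue.openObj U O').hom f x).2 h5
    have h6 : k.left x ∈ ⋃ ξ, (D ξ : Set ((EtCoh.bc f).obj U).left) := not_not.1 h4
    obtain ⟨ξ, hξ⟩ := Set.mem_iUnion.1 h6
    exact TopologicalSpace.Opens.mem_iSup.2 ⟨ξ, hξ⟩
  -- the sections
  have hkk : ∀ ξ, ((EtCoh.bc f).map (j ≫ g ξ)).left = k.left ≫ ((EtCoh.bc f).map (g ξ)).left :=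
    fun ξ => by
      rw [Functor.map_comp]
      rfl
  have hle : ∀ ξ, D' ξ ≤ ((EtCoh.bc f).map (j ≫ g ξ)).left ⁻¹ᵁ C ξ := by
    intro ξ x hx
    change ((EtCoh.bc f).map (j ≫ g ξ)).left x ∈ C ξ
    rw [hkk ξ]
    exact hx.2
  let t : ∀ ξ, ToType (P.obj (op (EtSiteGlue.openObj ((EtCoh.bc f).obj (EtSiteGlue.openObj U O'))
      (D' ξ)))) := fun ξ =>
    P.map (openObjHom ((EtCoh.bc f).map (j ≫ g ξ)) (D' ξ) (C ξ) (hle ξ)).op (s' ξ)
  obtain ⟨s, hs, -⟩ := EtSiteGlue.existsUnique_glue_of_disjoint hP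
    ((EtCoh.bc f).obj (EtSiteGlue.openObj U O')) D' hD'disj hD'cover t
  refine ⟨(Scheme.pointSmallEtale η).toPresheafFiber (EtSiteGlue.openObj U O') u'
    ((EtCoh.bc f).op ⋙ P) s, ?_⟩
  intro ξ
  rw [T_germ]
  have hmem' : ptHom (liftPt f ξ.1 ξ.2 u') default ∈ D' ξ := by
    change k.left (ptHom (liftPt f ξ.1 ξ.2 u') default) ∈ D ξ
    have := liftPt_map_apply f η ξ.2 j u' u hu'
    exact (congrArg (fun p => p ∈ D ξ) this).mpr (hDmem ξ)
  obtain ⟨x'', hx''⟩ := exists_shrink' (liftPt f ξ.1 ξ.2 u') (D' ξ) hmem'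
  have hu'ξ : (Scheme.pointSmallEtale η).fiber.map (j ≫ g ξ) u' = uξ ξ := by
    rw [Functor.map_comp, ConcreteCategory.comp_apply, hu', hg ξ]
  have hfinal := Real.restrict f ξ.1 ξ.2 (hx' ξ) (hs' ξ) (j ≫ g ξ) u' hu'ξ (D' ξ) (hle ξ) x'' hx''
  rw [← hx'', ← (Scheme.pointSmallEtale ξ.1).toPresheafFiber_w_apply]
  have hs' := hs ξ
  exact (congrArg _ hs').trans hfinal

end Groth.Agent.Lib.Helper57.FinStalk
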