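import Groth.Prelude.Def_W4c1tameactTame
import Groth.Agent.Lib.Helper99.TotalIntegral
import Mathlib.LinearAlgebra.Contraction

/-!
# The `(B, A)`-Hopf module `Hom_k(A, B)` (helper57)

For a commutative Hopf algebra `A` over `k`, finite projective as a `k`-module, coacting on a
commutative `k`-algebra `B` by an algebra map, the `B`-module `Hom_k(A, B)` carries an `A`-coaction
`φ ↦ (x ↦ Σ φ(x₁)₀ ⊗ φ(x₁)₁ S(x₂))` making it a `(B, A)`-Hopf module whose invariants are the
comodule maps `A → B`, and evaluation at `1` is a surjective map of Hopf modules onto `B`.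
-/

set_option autoImplicit false
universe u v w w'

open TensorProduct

namespace Groth.Agent.Lib.Helper57.HomComod

section Ev

variable {k : Type u} [CommRing k] {A : Type v} [AddCommGroup A] [Module k A]
  {B : Type w} [AddCommGroup B] [Module k B]
  (Q : Type w') [AddCommGroup Q] [Module k Q]

/-- evaluation at `x`, tensored with `Q` -/
noncomputable def ev (x : A) : (A →ₗ[k] B) ⊗[k] Q →ₗ[k] B ⊗[k] Q :=
  (LinearMap.applyₗ x).rTensor Q

@[simp] theorem ev_tmul (x : A) (φ : A →ₗ[k] B) (q : Q) :
    ev Q x (φ ⊗ₜ[k] q) = φ x ⊗ₜ[k] q := by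
  simp [ev]

variable {Q}

theorem ev_lTensor {Q' : Type*} [AddCommGroup Q'] [Module k Q'] (g : Q →ₗ[k] Q') (x : A)
    (t : (A →ₗ[k] B) ⊗[k] Q) :
    ev Q' x (g.lTensor (A →ₗ[k] B) t) = g.lTensor B (ev Q x t) := by
  induction t using TensorProduct.induction_on with
  | zero => simp
  | tmul φ q => simp
  | add t₁ t₂ e₁ e₂ => simp only [map_add, e₁, e₂]

theorem ev_assoc {Q' : Type*} [AddCommGroup Q'] [Module k Q'] (x : A)
    (t : ((A →ₗ[k] B) ⊗[k] Q) ⊗[k] Q') :
    ev (Q ⊗[k] Q') x (TensorProduct.assoc k (A →ₗ[k] B) Q Q' t) =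
      TensorProduct.assoc k B Q Q' ((ev Q x).rTensor Q' t) := by
  induction t using TensorProduct.induction_on with
  | zero => simp
  | tmul s q' =>
    induction s using TensorProduct.induction_on with
    | zero => simp
    | tmul φ q => simp
    | add s₁ s₂ e₁ e₂ => simp only [TensorProduct.add_tmul, map_add, e₁, e₂]
  | add t₁ t₂ e₁ e₂ => simp only [map_add, e₁, e₂]

variable [Module.Finite k A] [Module.Projective k A]

theorem Phi_apply (t : (A →ₗ[k] B) ⊗[k] Q) (x : A) :
    rTensorHomEquivHomRTensor k A B Q t x = ev Q x t := by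
  rw [rTensorHomEquivHomRTensor_apply]
  induction t using TensorProduct.induction_on with
  | zero => simp
  | tmul φ q => simp [TensorProduct.rTensorHomToHomRTensor_apply]
  | add t₁ t₂ e₁ e₂ => simp only [map_add, LinearMap.add_apply, e₁, e₂]

theorem ev_ext {t t' : (A →ₗ[k] B) ⊗[k] Q} (h : ∀ x, ev Q x t = ev Q x t') : t = t' := by
  apply (rTensorHomEquivHomRTensor k A B Q).injective
  apply LinearMap.ext
  intro x
  rw [Phi_apply, Phi_apply, h]

theorem ev_Phi_symm (T : A →ₗ[k] B ⊗[k] Q) (x : A) :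
    ev Q x ((rTensorHomEquivHomRTensor k A B Q).symm T) = T x := by
  rw [← Phi_apply, LinearEquiv.apply_symm_apply]

end Ev

section Hopf

variable {k : Type u} [CommRing k] {A : Type v} [CommRing A] [HopfAlgebra k A]
  {B : Type w} [CommRing B] [Algebra k B] [HopfRep.Comod k A B] [GLin.IsCoactAlg k A B]

variable (k A B) in
/-- the coaction of `B` -/
abbrev rho : B →ₗ[k] B ⊗[k] A := HopfRep.Comod.coact (k := k) (A := A)

theorem rho_mul (x y : B) : rho k A B (x * y) = rho k A B x * rho k A B y :=
  GLin.IsCoactAlg.coact_mul (k := k) (A := A) x y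

theorem rho_one : rho k A B 1 = 1 := GLin.IsCoactAlg.coact_one (k := k) (A := A)

variable (k A B) in
/-- `b ⊗ a ↦ ρ(b) (1 ⊗ a)` -/
noncomputable def G : B ⊗[k] A →ₗ[k] B ⊗[k] A :=
  LinearMap.mul' k (B ⊗[k] A) ∘ₗ TensorProduct.map (rho k A B)
    (Algebra.TensorProduct.includeRight : A →ₐ[k] B ⊗[k] A).toLinearMap

omit [GLin.IsCoactAlg k A B] in
@[simp] theorem G_tmul (b : B) (a : A) :
    G k A B (b ⊗ₜ[k] a) = rho k A B b * ((1 : B) ⊗ₜ[k] a) := by
  simp [G]

variable (k A B) in
/-- the coaction of `Hom_k(A, B)` before the identification `Hom(A, B) ⊗ A ≃ Hom(A, B ⊗ A)` -/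
noncomputable def rhoT : (A →ₗ[k] B) →ₗ[k] (A →ₗ[k] B ⊗[k] A) where
  toFun φ := G k A B ∘ₗ TensorProduct.map φ (HopfAlgebra.antipode k) ∘ₗ Coalgebra.comul (R := k)
  map_add' φ ψ := by
    ext x
    simp [TensorProduct.map_add_left]
  map_smul' c φ := by
    ext x
    simp [TensorProduct.map_smul_left]

omit [GLin.IsCoactAlg k A B] in
theorem rhoT_apply (φ : A →ₗ[k] B) (x : A) :
    rhoT k A B φ x =
      G k A B (TensorProduct.map φ (HopfAlgebra.antipode k) (Coalgebra.comul (R := k) x)) := rfl

variable [Module.Finite k A] [Module.Projective k A]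

variable (k A B) in
/-- the coaction of `Hom_k(A, B)` -/
noncomputable def coactM : (A →ₗ[k] B) →ₗ[k] (A →ₗ[k] B) ⊗[k] A :=
  (rTensorHomEquivHomRTensor k A B A).symm.toLinearMap ∘ₗ rhoT k A B

omit [GLin.IsCoactAlg k A B] in
theorem ev_coactM (φ : A →ₗ[k] B) (x : A) :
    ev A x (coactM k A B φ) =
      G k A B (TensorProduct.map φ (HopfAlgebra.antipode k) (Coalgebra.comul (R := k) x)) := by
  simp only [coactM, LinearMap.comp_apply, LinearEquiv.coe_coe]
  rw [ev_Phi_symm, rhoT_apply]

/-! ### The counit axiom -/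

omit [HopfRep.Comod k A B] [GLin.IsCoactAlg k A B] [Module.Finite k A] [Module.Projective k A] in
theorem lTensor_counit_mul (u : B ⊗[k] A) (a : A) :
    (Coalgebra.counit (R := k) (A := A)).lTensor B (u * ((1 : B) ⊗ₜ[k] a)) =
      Coalgebra.counit (R := k) a • (Coalgebra.counit (R := k) (A := A)).lTensor B u := by
  induction u using TensorProduct.induction_on with
  | zero => simp
  | tmul b' a' =>
    simp only [Algebra.TensorProduct.tmul_mul_tmul, mul_one, LinearMap.lTensor_tmul,
      Bialgebra.counit_mul]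
    rw [← TensorProduct.tmul_smul, smul_eq_mul, mul_comm]
  | add u₁ u₂ e₁ e₂ => simp only [add_mul, map_add, e₁, e₂, smul_add]

omit [GLin.IsCoactAlg k A B] [Module.Finite k A] [Module.Projective k A] in
theorem lTensor_counit_rho (b : B) :
    (Coalgebra.counit (R := k) (A := A)).lTensor B (rho k A B b) = b ⊗ₜ[k] (1 : k) := by
  have hcu := LinearMap.congr_fun (HopfRep.Comod.counit_comp (k := k) (A := A) (V := B)) b
  simpa using hcu

omit [GLin.IsCoactAlg k A B] [Module.Finite k A] [Module.Projective k A] in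
theorem lTensor_counit_G (z : B ⊗[k] A) :
    (Coalgebra.counit (R := k) (A := A)).lTensor B (G k A B z) =
      (Coalgebra.counit (R := k) (A := A)).lTensor B z := by
  induction z using TensorProduct.induction_on with
  | zero => simp
  | tmul b a =>
    rw [G_tmul, lTensor_counit_mul, lTensor_counit_rho, LinearMap.lTensor_tmul,
      ← TensorProduct.tmul_smul, smul_eq_mul, mul_one]
  | add z₁ z₂ e₁ e₂ => simp only [map_add, e₁, e₂]

omit [HopfRep.Comod k A B] [GLin.IsCoactAlg k A B] [Module.Finite k A] [Module.Projective k A] in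
theorem lTensor_counit_map (φ : A →ₗ[k] B) (w : A ⊗[k] A) :
    (Coalgebra.counit (R := k) (A := A)).lTensor B
        (TensorProduct.map φ (HopfAlgebra.antipode k) w) =
      φ.rTensor k ((Coalgebra.counit (R := k) (A := A)).lTensor A w) := by
  induction w using TensorProduct.induction_on with
  | zero => simp
  | tmul x x' => simp
  | add w₁ w₂ e₁ e₂ => simp only [map_add, e₁, e₂]

omit [GLin.IsCoactAlg k A B] in
theorem counit_axiom :
    (Coalgebra.counit (R := k) (A := A)).lTensor (A →ₗ[k] B) ∘ₗ coactM k A B =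
      (TensorProduct.mk k (A →ₗ[k] B) k).flip 1 := by
  apply LinearMap.ext
  intro φ
  apply ev_ext
  intro x
  rw [LinearMap.comp_apply, ev_lTensor, ev_coactM, lTensor_counit_G, lTensor_counit_map,
    Coalgebra.lTensor_counit_comul]
  simp

/-! ### Compatibility with the `B`-module structure -/

omit [HopfRep.Comod k A B] [GLin.IsCoactAlg k A B] [Module.Finite k A] [Module.Projective k A] in
theorem ev_hmSMul (x : A) (β : B ⊗[k] A) (t : (A →ₗ[k] B) ⊗[k] A) :
    ev A x (TameAct.hmSMul k A B (A →ₗ[k] B) β t) = β * ev A x t := by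
  induction β using TensorProduct.induction_on with
  | zero => simp
  | tmul b a =>
    induction t using TensorProduct.induction_on with
    | zero => simp
    | tmul φ a' => simp [Algebra.TensorProduct.tmul_mul_tmul]
    | add t₁ t₂ e₁ e₂ => simp only [map_add, e₁, e₂, mul_add]
  | add β₁ β₂ e₁ e₂ => simp only [map_add, LinearMap.add_apply, e₁, e₂, add_mul]

omit [Module.Finite k A] [Module.Projective k A] in
theorem G_map_smul (b : B) (φ : A →ₗ[k] B) (w : A ⊗[k] A) :
    G k A B (TensorProduct.map (b • φ) (HopfAlgebra.antipode k) w) =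
      rho k A B b * G k A B (TensorProduct.map φ (HopfAlgebra.antipode k) w) := by
  induction w using TensorProduct.induction_on with
  | zero => simp
  | tmul x x' => simp [rho_mul, mul_assoc]
  | add w₁ w₂ e₁ e₂ => simp only [map_add, e₁, e₂, mul_add]

theorem hopf_axiom (b : B) (φ : A →ₗ[k] B) :
    coactM k A B (b • φ) =
      TameAct.hmSMul k A B (A →ₗ[k] B) (rho k A B b) (coactM k A B φ) := by
  apply ev_ext
  intro x
  rw [ev_coactM, ev_hmSMul, ev_coactM, G_map_smul]

/-! ### Coassociativity -/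

omit [Module.Finite k A] [Module.Projective k A] in
theorem rTensor_rho_mul (u v : B ⊗[k] A) :
    (rho k A B).rTensor A (u * v) = (rho k A B).rTensor A u * (rho k A B).rTensor A v := by
  induction u using TensorProduct.induction_on with
  | zero => simp
  | tmul b a =>
    induction v using TensorProduct.induction_on with
    | zero => simp
    | tmul b' a' => simp [Algebra.TensorProduct.tmul_mul_tmul, rho_mul]
    | add v₁ v₂ e₁ e₂ => simp only [mul_add, map_add, e₁, e₂]
  | add u₁ u₂ e₁ e₂ => simp only [add_mul, map_add, e₁, e₂]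

omit [HopfRep.Comod k A B] [GLin.IsCoactAlg k A B] [Module.Finite k A] [Module.Projective k A] in
theorem lTensor_comul_mul (u v : B ⊗[k] A) :
    (Coalgebra.comul (R := k) (A := A)).lTensor B (u * v) =
      (Coalgebra.comul (R := k) (A := A)).lTensor B u *
        (Coalgebra.comul (R := k) (A := A)).lTensor B v := by
  induction u using TensorProduct.induction_on with
  | zero => simp
  | tmul b a =>
    induction v using TensorProduct.induction_on with
    | zero => simp
    | tmul b' a' => simp [Algebra.TensorProduct.tmul_mul_tmul, Bialgebra.comul_mul]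
    | add v₁ v₂ e₁ e₂ => simp only [mul_add, map_add, e₁, e₂]
  | add u₁ u₂ e₁ e₂ => simp only [add_mul, map_add, e₁, e₂]

omit [HopfAlgebra k A] [HopfRep.Comod k A B] [GLin.IsCoactAlg k A B] [Module.Finite k A]
  [Module.Projective k A] in
theorem assoc_eq [Algebra k A] (u : (B ⊗[k] A) ⊗[k] A) :
    TensorProduct.assoc k B A A u = Algebra.TensorProduct.assoc k k k B A A u := by
  induction u using TensorProduct.induction_on with
  | zero => simp
  | tmul s a' =>
    induction s using TensorProduct.induction_on with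
    | zero => simp
    | tmul b a => simp
    | add s₁ s₂ e₁ e₂ => simp only [TensorProduct.add_tmul, map_add, e₁, e₂]
  | add u₁ u₂ e₁ e₂ => simp only [map_add, e₁, e₂]

omit [HopfAlgebra k A] [HopfRep.Comod k A B] [GLin.IsCoactAlg k A B] [Module.Finite k A]
  [Module.Projective k A] in
theorem assoc_mul [Algebra k A] (u v : (B ⊗[k] A) ⊗[k] A) :
    TensorProduct.assoc k B A A (u * v) =
      TensorProduct.assoc k B A A u * TensorProduct.assoc k B A A v := by
  rw [assoc_eq, assoc_eq, assoc_eq, map_mul]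

variable (k A B) in
/-- `ψ ↦ G((ψ ⊗ S) w)` for a fixed `w ∈ A ⊗ A` -/
noncomputable def r' (w : A ⊗[k] A) : (A →ₗ[k] B) →ₗ[k] B ⊗[k] A where
  toFun ψ := G k A B (TensorProduct.map ψ (HopfAlgebra.antipode k) w)
  map_add' ψ ψ' := by simp [TensorProduct.map_add_left]
  map_smul' c ψ := by simp [TensorProduct.map_smul_left]

omit [GLin.IsCoactAlg k A B] [Module.Finite k A] [Module.Projective k A] in
theorem r'_apply (w : A ⊗[k] A) (ψ : A →ₗ[k] B) :
    r' k A B w ψ = G k A B (TensorProduct.map ψ (HopfAlgebra.antipode k) w) := rfl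

omit [GLin.IsCoactAlg k A B] [Module.Finite k A] [Module.Projective k A] in
theorem r'_add (w₁ w₂ : A ⊗[k] A) : r' k A B (w₁ + w₂) = r' k A B w₁ + r' k A B w₂ := by
  ext ψ
  simp [r'_apply]

omit [GLin.IsCoactAlg k A B] [Module.Finite k A] [Module.Projective k A] in
theorem r'_zero : r' k A B (0 : A ⊗[k] A) = 0 := by
  ext ψ
  simp [r'_apply]

omit [GLin.IsCoactAlg k A B] in
theorem ev_comp_coactM (x : A) :
    ev A x ∘ₗ coactM k A B = r' k A B (Coalgebra.comul (R := k) x) := by
  ext ψ
  rw [LinearMap.comp_apply, ev_coactM, r'_apply]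

variable (k A B) in
/-- `a ↦ (1 ⊗ a) ⊗ 1` -/
noncomputable def jj : A →ₗ[k] (B ⊗[k] A) ⊗[k] A :=
  (Algebra.TensorProduct.includeLeft : B ⊗[k] A →ₐ[k] (B ⊗[k] A) ⊗[k] A).toLinearMap ∘ₗ
    (Algebra.TensorProduct.includeRight : A →ₐ[k] B ⊗[k] A).toLinearMap

omit [HopfRep.Comod k A B] [GLin.IsCoactAlg k A B] [Module.Finite k A]
  [Module.Projective k A] in
@[simp] theorem jj_apply (a : A) :
    jj k A B a = ((1 : B) ⊗ₜ[k] a) ⊗ₜ[k] (1 : A) := rfl

omit [GLin.IsCoactAlg k A B] [Module.Finite k A] [Module.Projective k A] in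
theorem L1 (x' x'' : A) (t : (A →ₗ[k] B) ⊗[k] A) :
    (r' k A B (x' ⊗ₜ[k] x'')).rTensor A t =
      (rho k A B).rTensor A (ev A x' t) * jj k A B (HopfAlgebra.antipode k x'') := by
  induction t using TensorProduct.induction_on with
  | zero => simp
  | tmul ψ a => simp [r'_apply, Algebra.TensorProduct.tmul_mul_tmul]
  | add t₁ t₂ e₁ e₂ => simp only [map_add, e₁, e₂, add_mul]

variable (k A B) in
/-- auxiliary map for the left-hand side of coassociativity -/
noncomputable def F' (φ : A →ₗ[k] B) : (A ⊗[k] A) ⊗[k] A →ₗ[k] (B ⊗[k] A) ⊗[k] A :=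
  LinearMap.mul' k ((B ⊗[k] A) ⊗[k] A) ∘ₗ
    TensorProduct.map ((rho k A B).rTensor A ∘ₗ G k A B ∘ₗ
      TensorProduct.map φ (HopfAlgebra.antipode k)) (jj k A B ∘ₗ HopfAlgebra.antipode k)

variable (k A B) in
/-- auxiliary map for the right-hand side of coassociativity -/
noncomputable def K (φ : A →ₗ[k] B) : A ⊗[k] (A ⊗[k] A) →ₗ[k] B ⊗[k] (A ⊗[k] A) :=
  LinearMap.mul' k (B ⊗[k] (A ⊗[k] A)) ∘ₗ
    TensorProduct.map ((Coalgebra.comul (R := k) (A := A)).lTensor B ∘ₗ rho k A B ∘ₗ φ)
      ((Algebra.TensorProduct.includeRight : A ⊗[k] A →ₐ[k] B ⊗[k] (A ⊗[k] A)).toLinearMap ∘ₗ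
        TensorProduct.map (HopfAlgebra.antipode k) (HopfAlgebra.antipode k) ∘ₗ
          (TensorProduct.comm k A A).toLinearMap)

omit [GLin.IsCoactAlg k A B] in
theorem L2 (φ : A →ₗ[k] B) (w : A ⊗[k] A) :
    (r' k A B w).rTensor A (coactM k A B φ) =
      F' k A B φ ((Coalgebra.comul (R := k) (A := A)).rTensor A w) := by
  induction w using TensorProduct.induction_on with
  | zero => simp [r'_zero]
  | tmul x' x'' =>
    rw [L1, ev_coactM]
    simp [F']
  | add w₁ w₂ e₁ e₂ =>
    rw [r'_add, LinearMap.rTensor_add, LinearMap.add_apply, e₁, e₂, map_add, map_add]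

omit [GLin.IsCoactAlg k A B] [Module.Finite k A] [Module.Projective k A] in
theorem L3 (φ : A →ₗ[k] B) (w : A ⊗[k] A) :
    (Coalgebra.comul (R := k) (A := A)).lTensor B
        (G k A B (TensorProduct.map φ (HopfAlgebra.antipode k) w)) =
      K k A B φ ((Coalgebra.comul (R := k) (A := A)).lTensor A w) := by
  induction w using TensorProduct.induction_on with
  | zero => simp
  | tmul x' x'' =>
    rw [TensorProduct.map_tmul, G_tmul, lTensor_comul_mul, LinearMap.lTensor_tmul,
      Groth.Agent.Lib.Helper99.comul_antipode, LinearMap.lTensor_tmul]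
    simp [K]
  | add w₁ w₂ e₁ e₂ => simp only [map_add, e₁, e₂]

omit [GLin.IsCoactAlg k A B] [Module.Finite k A] [Module.Projective k A] in
theorem assoc_rho_rho (b : B) :
    TensorProduct.assoc k B A A ((rho k A B).rTensor A (rho k A B b)) =
      (Coalgebra.comul (R := k) (A := A)).lTensor B (rho k A B b) := by
  have hco := LinearMap.congr_fun (HopfRep.Comod.coassoc (k := k) (A := A) (V := B)) b
  simpa using hco

omit [Module.Finite k A] [Module.Projective k A] in
theorem L4 (φ : A →ₗ[k] B) (u : (A ⊗[k] A) ⊗[k] A) :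
    TensorProduct.assoc k B A A (F' k A B φ u) =
      K k A B φ (TensorProduct.assoc k A A A u) := by
  induction u using TensorProduct.induction_on with
  | zero => simp
  | tmul s x₃ =>
    induction s using TensorProduct.induction_on with
    | zero => simp
    | tmul x₁ x₂ =>
      simp only [F', K, LinearMap.comp_apply, TensorProduct.map_tmul, LinearMap.mul'_apply,
        G_tmul, TensorProduct.assoc_tmul, LinearEquiv.coe_coe, TensorProduct.comm_tmul,
        jj_apply, AlgHom.toLinearMap_apply, Algebra.TensorProduct.includeRight_apply]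
      rw [rTensor_rho_mul, assoc_mul, assoc_mul, assoc_rho_rho, LinearMap.rTensor_tmul, rho_one,
        Algebra.TensorProduct.one_def]
      simp only [TensorProduct.assoc_tmul]
      rw [mul_assoc, Algebra.TensorProduct.tmul_mul_tmul, Algebra.TensorProduct.tmul_mul_tmul,
        mul_one, mul_one, one_mul]
    | add s₁ s₂ e₁ e₂ => simp only [TensorProduct.add_tmul, map_add, e₁, e₂]
  | add u₁ u₂ e₁ e₂ => simp only [map_add, e₁, e₂]

theorem coassoc_axiom :
    (TensorProduct.assoc k (A →ₗ[k] B) A A).toLinearMap ∘ₗ (coactM k A B).rTensor A ∘ₗ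
        coactM k A B =
      (Coalgebra.comul (R := k) (A := A)).lTensor (A →ₗ[k] B) ∘ₗ coactM k A B := by
  apply LinearMap.ext
  intro φ
  apply ev_ext
  intro x
  simp only [LinearMap.comp_apply, LinearEquiv.coe_coe]
  rw [ev_assoc, ev_lTensor, ev_coactM, L3, ← Coalgebra.coassoc_apply, ← L4, ← L2,
    ← ev_comp_coactM, LinearMap.rTensor_comp, LinearMap.comp_apply]

/-! ### The Hopf module -/

variable (k A B) in
/-- the comodule structure on `Hom_k(A, B)` (a definition, used as a local instance) -/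
@[reducible] noncomputable def homComod : HopfRep.Comod k A (A →ₗ[k] B) where
  coact := coactM k A B
  coassoc := coassoc_axiom
  counit_comp := counit_axiom

attribute [local instance] homComod

theorem coact_eq (φ : A →ₗ[k] B) :
    HopfRep.Comod.coact (k := k) (A := A) φ = coactM k A B φ := rfl

theorem isHopfMod_hom : TameAct.IsHopfMod k A B (A →ₗ[k] B) where
  coact_smul b φ := hopf_axiom b φ

omit [HopfRep.Comod k A B] [GLin.IsCoactAlg k A B] [Module.Finite k A] [Module.Projective k A] in
theorem hmSMul_self (β t : B ⊗[k] A) : TameAct.hmSMul k A B B β t = β * t := by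
  induction β using TensorProduct.induction_on with
  | zero => simp
  | tmul b a =>
    induction t using TensorProduct.induction_on with
    | zero => simp
    | tmul b' a' => simp [Algebra.TensorProduct.tmul_mul_tmul]
    | add t₁ t₂ e₁ e₂ => simp only [map_add, e₁, e₂, mul_add]
  | add β₁ β₂ e₁ e₂ => simp only [map_add, LinearMap.add_apply, e₁, e₂, add_mul]

omit [Module.Finite k A] [Module.Projective k A] in
theorem isHopfMod_self : TameAct.IsHopfMod k A B B where
  coact_smul b m := by
    rw [hmSMul_self, smul_eq_mul]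
    exact rho_mul b m

variable (k A B) in
/-- evaluation at `1`, a `B`-linear map -/
noncomputable def ev1 : (A →ₗ[k] B) →ₗ[B] B where
  toFun φ := φ 1
  map_add' _ _ := rfl
  map_smul' _ _ := rfl

omit [HopfRep.Comod k A B] [GLin.IsCoactAlg k A B] [Module.Finite k A]
  [Module.Projective k A] in
@[simp] theorem ev1_apply (φ : A →ₗ[k] B) : ev1 k A B φ = φ 1 := rfl

omit [HopfRep.Comod k A B] [GLin.IsCoactAlg k A B] [Module.Finite k A] [Module.Projective k A] in
theorem ev1_surjective : Function.Surjective (ev1 k A B) := by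
  intro b
  refine ⟨b • (Algebra.linearMap k B ∘ₗ Coalgebra.counit (R := k) (A := A)), ?_⟩
  simp

theorem ev1_isComodHom : Hoch.IsComodHom A ((ev1 k A B).restrictScalars k) := by
  apply LinearMap.ext
  intro φ
  have h : ((ev1 k A B).restrictScalars k).rTensor A = ev A (1 : A) := rfl
  simp only [LinearMap.comp_apply, LinearMap.coe_restrictScalars, ev1_apply]
  rw [h, coact_eq, ev_coactM, Bialgebra.comul_one, Algebra.TensorProduct.one_def,
    TensorProduct.map_tmul, G_tmul, HopfAlgebra.antipode_one, ← Algebra.TensorProduct.one_def,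
    mul_one]

/-! ### Invariants are comodule maps -/

variable (k A B) in
/-- auxiliary map: `(x₁ ⊗ x₂) ⊗ x₃ ↦ G(φ x₁ ⊗ S x₂) (1 ⊗ x₃)` -/
noncomputable def N' (φ : A →ₗ[k] B) : (A ⊗[k] A) ⊗[k] A →ₗ[k] B ⊗[k] A :=
  LinearMap.mul' k (B ⊗[k] A) ∘ₗ
    TensorProduct.map (G k A B ∘ₗ TensorProduct.map φ (HopfAlgebra.antipode k))
      (Algebra.TensorProduct.includeRight : A →ₐ[k] B ⊗[k] A).toLinearMap

omit [GLin.IsCoactAlg k A B] [Module.Finite k A] [Module.Projective k A] in
theorem N'_way1 (φ : A →ₗ[k] B)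
    (hφ : ∀ x, G k A B (TensorProduct.map φ (HopfAlgebra.antipode k)
      (Coalgebra.comul (R := k) x)) = φ x ⊗ₜ[k] (1 : A)) (w : A ⊗[k] A) :
    N' k A B φ ((Coalgebra.comul (R := k) (A := A)).rTensor A w) = φ.rTensor A w := by
  induction w using TensorProduct.induction_on with
  | zero => simp
  | tmul x' x'' =>
    simp only [N', LinearMap.rTensor_tmul, LinearMap.comp_apply, TensorProduct.map_tmul,
      LinearMap.mul'_apply, AlgHom.toLinearMap_apply, Algebra.TensorProduct.includeRight_apply]
    rw [hφ, Algebra.TensorProduct.tmul_mul_tmul, mul_one, one_mul]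
  | add w₁ w₂ e₁ e₂ => simp only [map_add, e₁, e₂]

omit [GLin.IsCoactAlg k A B] [Module.Finite k A] [Module.Projective k A] in
theorem N'_assoc_symm (φ : A →ₗ[k] B) (x₁ : A) (v : A ⊗[k] A) :
    N' k A B φ ((TensorProduct.assoc k A A A).symm (x₁ ⊗ₜ[k] v)) =
      rho k A B (φ x₁) *
        ((1 : B) ⊗ₜ[k] LinearMap.mul' k A ((HopfAlgebra.antipode k).rTensor A v)) := by
  induction v using TensorProduct.induction_on with
  | zero => simp
  | tmul x₂ x₃ =>
    simp [N', mul_assoc, Algebra.TensorProduct.tmul_mul_tmul]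
  | add v₁ v₂ e₁ e₂ =>
    rw [TensorProduct.tmul_add, map_add, map_add, e₁, e₂, map_add, map_add,
      TensorProduct.tmul_add, mul_add]

omit [GLin.IsCoactAlg k A B] [Module.Finite k A] [Module.Projective k A] in
theorem N'_way2 (φ : A →ₗ[k] B) (w : A ⊗[k] A) :
    N' k A B φ ((TensorProduct.assoc k A A A).symm
        ((Coalgebra.comul (R := k) (A := A)).lTensor A w)) =
      rho k A B (φ (TensorProduct.rid k A ((Coalgebra.counit (R := k) (A := A)).lTensor A w))) := by
  induction w using TensorProduct.induction_on with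
  | zero => simp
  | tmul x' x'' =>
    rw [LinearMap.lTensor_tmul, N'_assoc_symm, HopfAlgebra.mul_antipode_rTensor_comul_apply,
      LinearMap.lTensor_tmul, TensorProduct.rid_tmul, Algebra.algebraMap_eq_smul_one,
      TensorProduct.tmul_smul, ← Algebra.TensorProduct.one_def, mul_smul_comm, mul_one,
      map_smul, map_smul]
  | add w₁ w₂ e₁ e₂ => simp only [map_add, e₁, e₂]

/-- An invariant element of `Hom_k(A, B)` is a comodule map. -/
theorem isComodHom_of_mem_fixedPts (φ : A →ₗ[k] B)
    (hφ : φ ∈ HopfRep.fixedPts k A (A →ₗ[k] B)) : Hoch.IsComodHom A φ := by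
  have h0 : coactM k A B φ = φ ⊗ₜ[k] (1 : A) := hφ
  have h1 : ∀ x, G k A B (TensorProduct.map φ (HopfAlgebra.antipode k)
      (Coalgebra.comul (R := k) x)) = φ x ⊗ₜ[k] (1 : A) := by
    intro x
    rw [← ev_coactM, h0, ev_tmul]
  apply LinearMap.ext
  intro x
  simp only [LinearMap.comp_apply]
  change rho k A B (φ x) = φ.rTensor A (Coalgebra.comul (R := k) x)
  rw [← N'_way1 φ h1, ← Coalgebra.coassoc_symm_apply, N'_way2, Coalgebra.lTensor_counit_comul,
    TensorProduct.rid_tmul, one_smul]

end Hopf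

end Groth.Agent.Lib.Helper57.HomComod
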