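import Groth.Agent.Lib.Helper57.PropC1
import Groth.Agent.Lib.Helper4.ClosedStalk

set_option autoImplicit false
open CategoryTheory CategoryTheory.Limits AlgebraicGeometry Opposite
universe u

/-! Stalks of the direct image along an integral universally injective morphism
(generalising helper4's `ClosedStalk` from closed immersions). -/

namespace Groth.Agent.Lib.Helper57.IntStalk

open Groth.Agent.Lib.Helper4

/-- The data making the comparison of neighbourhood categories initial. -/
structure Good {X Y : Scheme.{u}} (f : X ⟶ Y) : Prop where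
  lift : ∀ (U : X.Etale) (x : U.left), ∃ (V : Y.Etale) (h : pullback V.hom f ⟶ U.left),
    h ≫ U.hom = pullback.snd V.hom f ∧ x ∈ Set.range h.base
  inducing : ∀ V : Y.Etale, Topology.IsInducing (pullback.fst V.hom f).base

theorem good_of_integral {X Y : Scheme.{u}} (f : X ⟶ Y) [IsIntegralHom f]
    [UniversallyInjective f] : Good f where
  lift U x := by
    have : Etale U.hom := U.prop
    have hind : Topology.IsInducing f.base :=
      (Topology.IsClosedEmbedding.of_continuous_injective_isClosedMap f.continuous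
        f.injective f.isClosedMap).isInducing
    obtain ⟨V, v, hv, h, hh, hx⟩ := PropA.propC_local f hind U.left U.hom x
    refine ⟨Scheme.Etale.mk v, (pullbackSymmetry v f).hom ≫ h, ?_, ?_⟩
    · rw [Category.assoc, hh]
      exact pullbackSymmetry_hom_comp_fst v f
    · obtain ⟨z, rfl⟩ := hx
      refine ⟨(pullbackSymmetry v f).inv z, ?_⟩
      have h1 : (pullbackSymmetry v f).inv ≫ (pullbackSymmetry v f).hom ≫ h = h :=
        Iso.inv_hom_id_assoc _ _
      exact congrArg (fun φ : pullback f v ⟶ U.left => φ z) h1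
  inducing V := by
    let q := pullback.fst V.hom f
    have : UniversallyInjective q :=
      MorphismProperty.pullback_fst (P := @UniversallyInjective) V.hom f inferInstance
    exact (Topology.IsClosedEmbedding.of_continuous_injective_isClosedMap q.continuous
      q.injective q.isClosedMap).isInducing

variable {X Y : Scheme.{u}} (f : X ⟶ Y) (hf : Good f) {Ω : Type u} [Field Ω]
  [IsSepClosed Ω] (ζ : Spec (CommRingCat.of Ω) ⟶ X)

include hf in
theorem exists_hom (d : (Scheme.pointSmallEtale ζ).fiber.Elements) :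
    ∃ c, Nonempty ((ClosedStalk.E f ζ).obj c ⟶ d) := by
  obtain ⟨W, w⟩ := d
  let w' : Over.mk ζ ⟶ (Scheme.Etale.forget X).obj W := w
  have hw' : w'.left ≫ W.hom = ζ := Over.w w'
  let pt : ↥(Spec (CommRingCat.of Ω)) := default
  have : Etale W.hom := W.prop
  obtain ⟨V, h, h1, ⟨z, hz⟩⟩ := hf.lift W (w'.left.base pt)
  have : Etale V.hom := V.prop
  have : Etale (h ≫ W.hom) := by rw [h1]; infer_instance
  have : Etale h := Etale.of_comp h W.hom
  obtain ⟨l, hl, -⟩ := Scheme.exists_fac_of_etale_of_isSepClosed h w'.left z hz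
  let g : (EtCoh.bc f).obj V ⟶ W := MorphismProperty.Over.homMk h h1
  let x : (Scheme.pointSmallEtale ζ).fiber.obj ((EtCoh.bc f).obj V) :=
    (Over.homMk l (by
      change l ≫ pullback.snd V.hom f = ζ
      exact ((congrArg (l ≫ ·) h1.symm).trans ((Category.assoc _ _ _).symm.trans
        ((congrArg (· ≫ W.hom) hl).trans hw')))) :
      Over.mk ζ ⟶ (Scheme.Etale.forget X).obj ((EtCoh.bc f).obj V))
  refine ⟨⟨V, x⟩, ⟨⟨g, ?_⟩⟩⟩
  exact Over.OverMorphism.ext hl

include hf in
theorem exists_equalizing {d : (Scheme.pointSmallEtale ζ).fiber.Elements}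
    {c : (EtCoh.bc f ⋙ (Scheme.pointSmallEtale ζ).fiber).Elements}
    (s s' : (ClosedStalk.E f ζ).obj c ⟶ d) :
    ∃ (c' : (EtCoh.bc f ⋙ (Scheme.pointSmallEtale ζ).fiber).Elements) (t : c' ⟶ c),
      (ClosedStalk.E f ζ).map t ≫ s = (ClosedStalk.E f ζ).map t ≫ s' := by
  obtain ⟨W, w⟩ := d
  obtain ⟨V, x⟩ := c
  obtain ⟨s, hs⟩ := s
  obtain ⟨s', hs'⟩ := s'
  dsimp at s s' hs hs' x
  let pt : ↥(Spec (CommRingCat.of Ω)) := default
  let x' : Over.mk ζ ⟶ (Scheme.Etale.forget X).obj ((EtCoh.bc f).obj V) := x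
  have hx' : x'.left ≫ ((EtCoh.bc f).obj V).hom = ζ := Over.w x'
  have : Etale W.hom := W.prop
  -- work in Over X
  let A : Over X := Over.mk ((EtCoh.bc f).obj V).hom
  let B : Over X := Over.mk W.hom
  let f' : A ⟶ B := Over.homMk s.left (MorphismProperty.Over.w s)
  let g' : A ⟶ B := Over.homMk s'.left (MorphismProperty.Over.w s')
  have : IsOpenImmersion (pullback.diagonal B.hom) :=
    inferInstanceAs (IsOpenImmersion (pullback.diagonal W.hom))
  have hopen : IsOpenImmersion (equalizer.ι f' g').left :=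
    Groth.Agent.S0063.isOpenImmersion_equalizer_ι_left f' g'
  let e := (equalizer.ι f' g').left
  have he : e ≫ s.left = e ≫ s'.left :=
    congrArg (fun k => CommaMorphism.left k) (equalizer.condition f' g')
  let K : Over X := Over.mk ζ
  let xk : K ⟶ A := Over.homMk x'.left hx'
  have hxk : xk ≫ f' = xk ≫ g' := by
    ext1
    have h1 := congrArg (fun k : Over.mk ζ ⟶ (Scheme.Etale.forget X).obj W => k.left) hs
    have h2 := congrArg (fun k : Over.mk ζ ⟶ (Scheme.Etale.forget X).obj W => k.left) hs'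
    exact h1.trans h2.symm
  let lk := equalizer.lift xk hxk
  have hlk : lk.left ≫ e = x'.left :=
    congrArg (fun k => CommaMorphism.left k) (equalizer.lift_ι xk hxk)
  have hx₀ : x'.left.base pt ∈ Set.range e.base :=
    ⟨lk.left.base pt, congrArg (fun (k : Spec (CommRingCat.of Ω) ⟶ pullback V.hom f) => k.base pt) hlk⟩
  let q := pullback.fst V.hom f
  obtain ⟨O, hO, hOe⟩ := (hf.inducing V).isOpen_iff.1 e.isOpenEmbedding.isOpen_range
  let O' : V.left.Opens := ⟨O, hO⟩
  have : Etale V.hom := V.prop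
  let V' : Y.Etale := Scheme.Etale.mk (O'.ι ≫ V.hom)
  let t₀ : V' ⟶ V := MorphismProperty.Over.homMk O'.ι rfl
  let m := ((EtCoh.bc f).map t₀).left
  have hpb := EtCoh.isPullback_bc_map f t₀
  have hm_open : IsOpenImmersion m :=
    MorphismProperty.of_isPullback (P := @IsOpenImmersion) hpb.flip
      (inferInstanceAs (IsOpenImmersion O'.ι))
  have hrm : Set.range m.base = Set.range e.base := by
    rw [ClosedStalk.range_fst_of_isPullback hpb, ← hOe]
    congr 1
    exact Scheme.Opens.range_ι O'
  let m' := IsOpenImmersion.lift e m hrm.le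
  have hm' : m' ≫ e = m := IsOpenImmersion.lift_fac _ _ _
  have hms : m ≫ s.left = m ≫ s'.left := by
    rw [← hm', Category.assoc, he, ← Category.assoc]
  have hxm : Set.range x'.left.base ⊆ Set.range m.base := by
    rintro _ ⟨a, rfl⟩
    have ha : a = pt := Subsingleton.elim (α := ↥(Spec (CommRingCat.of Ω))) a pt
    rw [ha]
    exact hrm.symm ▸ hx₀
  let lx := IsOpenImmersion.lift m x'.left hxm
  have hlx : lx ≫ m = x'.left := IsOpenImmersion.lift_fac _ _ _
  have hmw : m ≫ ((EtCoh.bc f).obj V).hom = ((EtCoh.bc f).obj V').hom :=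
    MorphismProperty.Over.w ((EtCoh.bc f).map t₀)
  let x'' : (Scheme.pointSmallEtale ζ).fiber.obj ((EtCoh.bc f).obj V') :=
    (Over.homMk lx (by
      exact ((congrArg (lx ≫ ·) hmw.symm).trans ((Category.assoc _ _ _).symm.trans
        ((congrArg (· ≫ ((EtCoh.bc f).obj V).hom) hlx).trans hx')))) :
      Over.mk ζ ⟶ (Scheme.Etale.forget X).obj ((EtCoh.bc f).obj V'))
  refine ⟨⟨V', x''⟩, ⟨t₀, ?_⟩, ?_⟩
  · exact Over.OverMorphism.ext hlx
  · apply Subtype.ext
    apply MorphismProperty.Over.Hom.ext
    exact hms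

include hf in
theorem initial_E : (ClosedStalk.E f ζ).Initial := by
  have : IsCofiltered (EtCoh.bc f ⋙ (Scheme.pointSmallEtale ζ).fiber).Elements :=
    (EtStalkPull.comapPt f ζ).isCofiltered
  exact Functor.initial_of_exists_of_isCofiltered _ (exists_hom f hf ζ) (exists_equalizing f hf ζ)

include hf in
theorem isIso_stalk_counit (G : EtCoh.Ab X) :
    IsIso ((EtCoh.stalk ζ).map ((EtCoh.pullPushAdj f).counit.app G)) :=
  have := initial_E f hf ζ
  ComapCounit.isIso_sheafFiber_map_counit (Scheme.pointSmallEtale ζ) (EtCoh.bc f)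
    (EtCoh.coverPreserving_bc f) AddCommGrpCat.{u+1} G

include hf in
theorem isIso_counit_app (G : EtCoh.Ab X) : IsIso ((EtCoh.pullPushAdj f).counit.app G) :=
  (EtStalk.isIso_iff_stalk _).2 fun _ _ _ ξ => isIso_stalk_counit f hf ξ G

include hf in
theorem isIso_counit : IsIso (EtCoh.pullPushAdj f).counit :=
  have := isIso_counit_app f hf
  NatIso.isIso_of_isIso_app _

end Groth.Agent.Lib.Helper57.IntStalk
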