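import Groth.Agent.Lib.Helper57.IntRecoll
import Groth.Prelude.Def_SGA4b
import Mathlib.AlgebraicGeometry.Morphisms.Immersion
import Mathlib.CategoryTheory.Abelian.GrothendieckAxioms.Types

set_option autoImplicit false
open CategoryTheory CategoryTheory.Limits AlgebraicGeometry Opposite
universe u

/-! Sheaves of sets: the counit of `f^* ⊣ f_*` is an isomorphism for immersions and for
integral universally injective morphisms. -/

namespace Groth.Agent.Lib.Helper57.IntStalk

open Groth.Agent.Lib.Helper4

/-- Composition of a good morphism with an open immersion is good. -/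
theorem Good.comp_openImmersion {X Z Y : Scheme.{u}} (i : X ⟶ Z) (j : Z ⟶ Y) [IsOpenImmersion j]
    (hi : Good i)
    (hind : ∀ V : Y.Etale, Topology.IsInducing (pullback.fst V.hom (i ≫ j)).base) :
    Good (i ≫ j) where
  inducing := hind
  lift U x := by
    obtain ⟨V₁, h₁, hh₁, z, hz⟩ := hi.lift U x
    have : Etale V₁.hom := V₁.prop
    let V : Y.Etale := Scheme.Etale.mk (V₁.hom ≫ j)
    have hVhom : V.hom = V₁.hom ≫ j := rfl
    let c : pullback (V₁.hom ≫ j) (i ≫ j) ⟶ pullback V₁.hom i :=
      pullback.lift (pullback.fst _ _) (pullback.snd _ _) (by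
        rw [← cancel_mono j, Category.assoc, Category.assoc, pullback.condition])
    let d : pullback V₁.hom i ⟶ pullback (V₁.hom ≫ j) (i ≫ j) :=
      pullback.lift (pullback.fst _ _) (pullback.snd _ _) (by
        rw [← Category.assoc, ← Category.assoc, pullback.condition])
    have hdc : d ≫ c = 𝟙 _ := by
      apply pullback.hom_ext
      · rw [Category.assoc, pullback.lift_fst, pullback.lift_fst, Category.id_comp]
      · rw [Category.assoc, pullback.lift_snd, pullback.lift_snd, Category.id_comp]
    refine ⟨V, c ≫ h₁, ?_, d z, ?_⟩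
    · rw [Category.assoc, hh₁]
      exact pullback.lift_snd _ _ _
    · have : (d ≫ c ≫ h₁) z = x := by
        rw [← Category.assoc, hdc, Category.id_comp]
        exact hz
      exact this

theorem good_of_isImmersion {X Y : Scheme.{u}} (f : X ⟶ Y) [IsImmersion f] : Good f := by
  have h1 : Good f.liftCoborder := good_of_integral f.liftCoborder
  have h2 : Good (f.liftCoborder ≫ f.coborderRange.ι) := by
    refine h1.comp_openImmersion f.liftCoborder f.coborderRange.ι fun V => ?_
    rw [f.liftCoborder_ι]
    have : IsImmersion (pullback.fst V.hom f) :=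
      MorphismProperty.pullback_fst (P := @IsImmersion) V.hom f inferInstance
    exact (pullback.fst V.hom f).isEmbedding.isInducing
  rwa [f.liftCoborder_ι] at h2

variable {X Y : Scheme.{u}} (f : X ⟶ Y) (hf : Good f)

include hf in
theorem isIso_stalk_counitSh {Ω : Type u} [Field Ω] [IsSepClosed Ω]
    (ζ : Spec (CommRingCat.of Ω) ⟶ X) (G : EtDesc.Sh X) :
    IsIso (((Scheme.pointSmallEtale ζ).sheafFiber (A := Type (u + 1))).map
      ((EtDesc.adjSh f).counit.app G)) :=
  have := initial_E f hf ζ
  ComapCounit.isIso_sheafFiber_map_counit (Scheme.pointSmallEtale ζ) (EtCoh.bc f)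
    (EtCoh.coverPreserving_bc f) (Type (u + 1)) G

theorem isIso_iff_stalkSh {X : Scheme.{u}} {F G : EtDesc.Sh X} (a : F ⟶ G) :
    IsIso a ↔ ∀ (Ω : Type u) [Field Ω] [IsSepClosed Ω] (ξ : Spec (CommRingCat.of Ω) ⟶ X),
      IsIso (((Scheme.pointSmallEtale ξ).sheafFiber (A := Type (u + 1))).map a) := by
  constructor
  · intro h Ω _ _ ξ
    infer_instance
  · intro h
    rw [PointULift.isIso_iff_sheafFiber.{u, u + 1} (EtStalk.hfam X) (Type (u + 1)) a]
    rintro ⟨_, ⟨s⟩⟩
    exact h _ _

include hf in
theorem isIso_counitSh_app (G : EtDesc.Sh X) : IsIso ((EtDesc.adjSh f).counit.app G) :=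
  (isIso_iff_stalkSh _).2 fun _ _ _ ξ => isIso_stalk_counitSh f hf ξ G

end Groth.Agent.Lib.Helper57.IntStalk
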