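import Groth.Agent.Lib.Helper57.ModConsACC
import Groth.Agent.Lib.Helper13.ARSysAR

set_option autoImplicit false
open CategoryTheory CategoryTheory.Limits AlgebraicGeometry Opposite
universe u

noncomputable section

namespace Groth.Agent.Lib.Helper57.ModARCons

open Groth.Agent.Lib.Helper57.ModConsACC Groth.Agent.Lib.Helper57.ModSubCons
  Groth.Agent.Lib.Helper13.ARSysARIso Groth.Agent.Lib.Helper13.ARSysBasic
  Groth.Agent.Lib.Helper13.ARSysAR

variable (Λ : Type (u + 1)) [CommRing Λ] [IsNoetherianRing Λ] {X : Scheme.{u}}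

theorem isARIso_id {C : Type*} [Category C] [Abelian C] (F : ARSys.PS C) :
    ARSys.IsARIso (𝟙 F) := by
  constructor
  · rw [isARNull_kernel_iff]
    refine ⟨0, fun n m h T y hy => ?_⟩
    have : y = 0 := by
      rw [NatTrans.id_app, Category.comp_id] at hy
      exact hy
    rw [this, zero_comp]
  · rw [isARNull_cokernel_iff]
    refine ⟨0, fun n m h => ?_⟩
    exact ImLE.of_fac (ARSys.tr F ((Nat.le_add_right n 0).trans h)) (by
      rw [NatTrans.id_app, Category.comp_id])

/-- the terms of an adic system AR-isomorphic to a system with constructible terms are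
constructible -/
theorem cons_of_arIso [IsLocallyNoetherian X] (I : Ideal Λ) {Y Z : ARSys.PS (EtModW.Mod Λ X)}
    (v : Y ⟶ Z) (hY : ARSys.IsAdic I Y) (hv : ARSys.IsARIso v)
    (hZ : ∀ n : ℕ, EtModW.IsConstructible Λ (Z.obj (op n))) (n : ℕ) :
    EtModW.IsConstructible Λ (Y.obj (op n)) := by
  obtain ⟨a, ha⟩ := (isARNull_kernel_iff v).1 hv.1
  let f := v.app (op (n + a))
  let e := ARSys.tr Y ((Nat.le_add_right n a).trans (le_refl (n + a)))
  haveI : Epi e := isStrict_of_isAdic hY n (n + a) _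
  have h0 : kernel.ι f ≫ e = 0 := ha n (n + a) le_rfl (kernel.ι f) (kernel.condition f)
  have hP : EtModW.IsConstructible Λ (Abelian.coimage f) :=
    isConstructible_of_mono Λ (Abelian.factorThruCoimage f) (hZ (n + a))
  let q : Abelian.coimage f ⟶ Y.obj (op n) := cokernel.desc (kernel.ι f) e h0
  have hq : Abelian.coimage.π f ≫ q = e := cokernel.π_desc _ _ _
  haveI : Epi q := epi_of_epi_fac hq
  exact isConstructible_of_epi Λ q hP

theorem cons_kernel [IsLocallyNoetherian X] {F G : ARSys.PS (EtModW.Mod Λ X)} (w : F ⟶ G)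
    (hF : ∀ n : ℕ, EtModW.IsConstructible Λ (F.obj (op n))) (n : ℕ) :
    EtModW.IsConstructible Λ ((kernel w).obj (op n)) := by
  haveI : Mono ((kernel.ι w).app (op n)) := inferInstance
  exact isConstructible_of_mono Λ ((kernel.ι w).app (op n)) (hF n)

theorem cons_cokernel [IsLocallyNoetherian X] {F G : ARSys.PS (EtModW.Mod Λ X)} (w : F ⟶ G)
    (hG : ∀ n : ℕ, EtModW.IsConstructible Λ (G.obj (op n))) (n : ℕ) :
    EtModW.IsConstructible Λ ((cokernel w).obj (op n)) := by
  haveI : Epi ((cokernel.π w).app (op n)) := inferInstance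
  exact isConstructible_of_epi Λ ((cokernel.π w).app (op n)) (hG n)

theorem isARAdicNoeth_of_isAdic [IsNoetherian X] (I : Ideal Λ) (F : ARSys.PS (EtModW.Mod Λ X))
    (hF : ARSys.IsAdic I F) (hFc : ∀ n : ℕ, EtModW.IsConstructible Λ (F.obj (op n))) :
    ARSys.IsARAdicNoeth I F :=
  ⟨⟨hF.1, F, 𝟙 F, hF, isARIso_id F⟩,
    fun n => isNoetherianObject_of_isConstructible Λ _ (hFc n)⟩

theorem isAdicNoeth_of_isAdic [IsNoetherian X] (I : Ideal Λ) (F : ARSys.PS (EtModW.Mod Λ X))
    (hF : ARSys.IsAdic I F) (hFc : ∀ n : ℕ, EtModW.IsConstructible Λ (F.obj (op n))) :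
    ARSys.IsAdicNoeth I F :=
  ⟨hF, fun n => isNoetherianObject_of_isConstructible Λ _ (hFc n)⟩

end Groth.Agent.Lib.Helper57.ModARCons
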