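import Groth.Agent.Lib.Helper57.ModLC
import Groth.Agent.Lib.Helper4.StrataPull
import Groth.Prelude.Def_EtModD2
import Groth.Prelude.Def_SixF2
import Mathlib.Algebra.Homology.DerivedCategory.ExactFunctor

set_option autoImplicit false
open CategoryTheory CategoryTheory.Limits AlgebraicGeometry Opposite Topology
universe u

noncomputable section

namespace Groth.Agent.Lib.Helper57.ModCons
open Groth.Agent.Lib.Helper4 Groth.Agent.Lib.Helper4.CIn Groth.Agent.Lib.Helper57
open Groth.Agent.Lib.Helper4.Strata (restrObj restrι range_restrι_comp cin_preimage_scheme isCompact_preimage_of_affine)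

variable (Λ : Type (u + 1)) [CommRing Λ]

theorem isFTLocConst_of_iso {X : Scheme.{u}} {F G : EtModW.Mod Λ X} (e : F ≅ G)
    (hF : EtModW.IsFTLocConst Λ F) : EtModW.IsFTLocConst Λ G := by
  obtain ⟨ι, U, hU, hM⟩ := hF
  refine ⟨ι, U, hU, fun i => ?_⟩
  obtain ⟨M, iA, iM, iF, ⟨a⟩⟩ := hM i
  exact ⟨M, iA, iM, iF,
    ⟨((X.smallEtaleTopology.overPullback (ModuleCat.{u + 1} Λ) (U i)).mapIso e).symm ≪≫ a⟩⟩


variable {X : Scheme.{u}}

def Strata (F : EtModW.Mod Λ X) (S : Set X) : Prop :=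
  ∃ (κ : Type) (_ : Finite κ) (T : κ → Scheme.{u}) (g : ∀ i, T i ⟶ X),
    (∀ i, IsImmersion (g i)) ∧
    (∀ i, CIn S (Set.range (g i))) ∧
    Pairwise (fun i j => Disjoint (Set.range (g i)) (Set.range (g j))) ∧
    (⋃ i, Set.range (g i)) = S ∧
    ∀ i, EtModW.IsFTLocConst Λ ((EtModW.pull Λ (g i)).obj F)

theorem strata_iff (F : EtModW.Mod Λ X) (S : Set X) : Strata Λ F S ↔ EtModW.AdaptedStrata Λ F S := by
  constructor
  · rintro ⟨κ, hκ, T, g, h1, h2, h3, h4, h5⟩
    obtain ⟨n, ⟨e⟩⟩ := Finite.exists_equiv_fin κ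
    refine ⟨n, fun i => T (e.symm i), fun i => g (e.symm i), fun i => h1 _, fun i => h2 _, ?_, ?_,
      fun i => h5 _⟩
    · intro i j hij
      exact h3 (fun h => hij (e.symm.injective h))
    · rw [← h4]
      ext x
      simp only [Set.mem_iUnion]
      constructor
      · rintro ⟨i, hi⟩
        exact ⟨e.symm i, hi⟩
      · rintro ⟨i, hi⟩
        obtain ⟨k, rfl⟩ := e.symm.surjective i
        exact ⟨k, hi⟩
  · rintro ⟨n, T, g, h1, h2, h3, h4, h5⟩
    exact ⟨Fin n, inferInstance, T, g, h1, h2, h3, h4, fun i => h5 i⟩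

theorem strata_empty (F : EtModW.Mod Λ X) : Strata Λ F ∅ :=
  ⟨Empty, inferInstance, fun i => i.elim, fun i => i.elim, fun i => i.elim, fun i => i.elim,
    fun i => i.elim, by simp, fun i => i.elim⟩



theorem flc_comp (F : EtModW.Mod Λ X) {T T' : Scheme.{u}} (c : T' ⟶ T) (g : T ⟶ X)
    (h : EtModW.IsFTLocConst Λ ((EtModW.pull Λ g).obj F)) :
    EtModW.IsFTLocConst Λ ((EtModW.pull Λ (c ≫ g)).obj F) :=
  isFTLocConst_of_iso Λ ((ModLC.pullComp Λ c g).app F).symm
    (ModLC.isFTLocConst_pull Λ c _ h)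

theorem strata_union (F : EtModW.Mod Λ X) {S₁ S₂ : Set X} (hS₁ : IsOpen S₁) (hS₂ : IsOpen S₂)
    (hc₁ : IsCompact S₁) (hc₂ : IsCompact S₂) (hQ : IsQuasiSeparated (S₁ ∪ S₂))
    (h₁ : Strata Λ F S₁) (h₂ : Strata Λ F S₂) : Strata Λ F (S₁ ∪ S₂) := by
  obtain ⟨κ₁, hκ₁, T₁, g₁, a1, a2, a3, a4, a5⟩ := h₁
  obtain ⟨κ₂, hκ₂, T₂, g₂, b1, b2, b3, b4, b5⟩ := h₂
  have hC : IsClosed S₁ᶜ := hS₁.isClosed_compl
  have hS : IsOpen (S₁ ∪ S₂) := hS₁.union hS₂
  have hr₁ : ∀ i, Set.range (g₁ i) ⊆ S₁ := fun i => by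
    rw [← a4]; exact Set.subset_iUnion (fun i => Set.range (g₁ i)) i
  have hr₂ : ∀ i, Set.range (g₂ i) ⊆ S₂ := fun i => by
    rw [← b4]; exact Set.subset_iUnion (fun i => Set.range (g₂ i)) i
  let T : κ₁ ⊕ κ₂ → Scheme.{u} := Sum.elim T₁ (fun j => restrObj (g₂ j) S₁ᶜ hC)
  let g : ∀ k, T k ⟶ X := fun k => match k with
    | Sum.inl i => g₁ i
    | Sum.inr j => restrι (g₂ j) S₁ᶜ hC ≫ g₂ j
  have hrange_inr : ∀ j, Set.range (g (Sum.inr j)) = Set.range (g₂ j) ∩ S₁ᶜ :=
    fun j => range_restrι_comp (g₂ j) S₁ᶜ hC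
  have hcS₁ : CIn (S₁ ∪ S₂) S₁ :=
    cin_of_isOpen_isCompact hS hQ hS₁ hc₁ Set.subset_union_left
  refine ⟨κ₁ ⊕ κ₂, inferInstance, T, g, ?_, ?_, ?_, ?_, ?_⟩
  · rintro (i | j)
    · exact a1 i
    · have := b1 j
      change IsImmersion (restrι (g₂ j) S₁ᶜ hC ≫ g₂ j)
      infer_instance
  · rintro (i | j)
    · exact cin_mono hS hQ hS₁ hc₁ Set.subset_union_left (hr₁ i) (a2 i)
    · rw [hrange_inr]
      exact (cin_mono hS hQ hS₂ hc₂ Set.subset_union_right (hr₂ j) (b2 j)).inter hcS₁.compl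
  · rintro (i | j) (i' | j') hne
    · exact a3 (fun h => hne (congrArg Sum.inl h))
    · change Disjoint (Set.range (g₁ i)) (Set.range (g (Sum.inr j')))
      rw [hrange_inr]
      exact Set.disjoint_of_subset (hr₁ i) Set.inter_subset_right disjoint_compl_right
    · change Disjoint (Set.range (g (Sum.inr j))) (Set.range (g₁ i'))
      rw [hrange_inr]
      exact Set.disjoint_of_subset Set.inter_subset_right (hr₁ i') disjoint_compl_left
    · change Disjoint (Set.range (g (Sum.inr j))) (Set.range (g (Sum.inr j')))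
      rw [hrange_inr, hrange_inr]
      exact Set.disjoint_of_subset Set.inter_subset_left Set.inter_subset_left
        (b3 (fun h => hne (congrArg Sum.inr h)))
  · ext x
    simp only [Set.mem_iUnion, Sum.exists, Set.mem_union]
    constructor
    · rintro (⟨i, hi⟩ | ⟨j, hj⟩)
      · exact Or.inl (hr₁ i hi)
      · have : x ∈ Set.range (g₂ j) ∩ S₁ᶜ := by rw [← hrange_inr]; exact hj
        exact Or.inr (hr₂ j this.1)
    · intro hx
      by_cases hx₁ : x ∈ S₁
      · rw [← a4] at hx₁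
        obtain ⟨i, hi⟩ := Set.mem_iUnion.1 hx₁
        exact Or.inl ⟨i, hi⟩
      · have hx₂ : x ∈ S₂ := hx.resolve_left hx₁
        rw [← b4] at hx₂
        obtain ⟨j, hj⟩ := Set.mem_iUnion.1 hx₂
        refine Or.inr ⟨j, ?_⟩
        change x ∈ Set.range (g (Sum.inr j))
        rw [hrange_inr]
        exact ⟨hj, hx₁⟩
  · rintro (i | j)
    · exact a5 i
    · exact flc_comp Λ F _ _ (b5 j)

theorem strata_biUnion (F : EtModW.Mod Λ X) {α : Type*} (t : Finset α) (W : α → Set X) (Q : Set X)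
    (hQ : IsQuasiSeparated Q)
    (h : ∀ a ∈ t, IsOpen (W a) ∧ IsCompact (W a) ∧ W a ⊆ Q ∧ Strata Λ F (W a)) :
    Strata Λ F (⋃ a ∈ t, W a) := by
  classical
  induction t using Finset.induction_on with
  | empty =>
    simp only [Finset.notMem_empty, Set.iUnion_of_empty, Set.iUnion_empty]
    exact strata_empty Λ F
  | insert b t hb ih =>
    have ht : ∀ a ∈ t, IsOpen (W a) ∧ IsCompact (W a) ∧ W a ⊆ Q ∧ Strata Λ F (W a) :=
      fun a ha => h a (Finset.mem_insert_of_mem ha)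
    obtain ⟨hb1, hb2, hb3, hb4⟩ := h b (Finset.mem_insert_self b t)
    have hU : (⋃ a ∈ insert b t, W a) = (⋃ a ∈ t, W a) ∪ W b := by
      rw [Finset.set_biUnion_insert, Set.union_comm]
    rw [hU]
    have hopen : IsOpen (⋃ a ∈ t, W a) := isOpen_biUnion fun a ha => (ht a ha).1
    have hcomp : IsCompact (⋃ a ∈ t, W a) := t.isCompact_biUnion fun a ha => (ht a ha).2.1
    have hsub : (⋃ a ∈ t, W a) ∪ W b ⊆ Q :=
      Set.union_subset (Set.iUnion₂_subset fun a ha => (ht a ha).2.2.1) hb3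
    exact strata_union Λ F hopen hb1 hcomp hb2 (hQ.of_subset hsub) (ih ht) hb4

theorem strata_image (F : EtModW.Mod Λ X) {U : Scheme.{u}} (j : U ⟶ X) [IsImmersion j] {S' : Set U}
    (h : Strata Λ ((EtModW.pull Λ j).obj F) S') : Strata Λ F (j '' S') := by
  obtain ⟨κ, hκ, T, g, a1, a2, a3, a4, a5⟩ := h
  have hrange : ∀ i, Set.range (g i ≫ j) = j '' Set.range (g i) := fun i => by
    rw [Scheme.Hom.comp_base, TopCat.coe_comp, Set.range_comp]
  have hemb : Topology.IsEmbedding j := j.isEmbedding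
  refine ⟨κ, hκ, T, fun i => g i ≫ j, fun i => ?_, fun i => ?_, ?_, ?_, fun i => ?_⟩
  · have := a1 i
    infer_instance
  · rw [hrange]
    exact cin_image_of_isEmbedding hemb (a2 i)
  · intro i i' hne
    change Disjoint (Set.range (g i ≫ j)) (Set.range (g i' ≫ j))
    rw [hrange, hrange]
    exact Set.disjoint_image_of_injective hemb.injective (a3 hne)
  · rw [← a4, Set.image_iUnion]
    exact Set.iUnion_congr hrange
  · exact isFTLocConst_of_iso Λ ((ModLC.pullComp Λ (g i) j).app F).symm (a5 i)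




variable {X Y : Scheme.{u}}

theorem strata_of_iso {F G : EtModW.Mod Λ X} (e : F ≅ G) {S : Set X} (h : Strata Λ F S) : Strata Λ G S := by
  obtain ⟨κ, hκ, T, g, a1, a2, a3, a4, a5⟩ := h
  exact ⟨κ, hκ, T, g, a1, a2, a3, a4, fun i =>
    isFTLocConst_of_iso Λ ((EtModW.pull Λ (g i)).mapIso e) (a5 i)⟩

theorem strata_preimage (f : X ⟶ Y) (F : EtModW.Mod Λ Y) {S : Set Y}
    (hc : ∀ A : Set Y, CIn S A → CIn (f ⁻¹' S) (f ⁻¹' A)) (h : Strata Λ F S) :
    Strata Λ ((EtModW.pull Λ f).obj F) (f ⁻¹' S) := by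
  obtain ⟨κ, hκ, T, g, a1, a2, a3, a4, a5⟩ := h
  have hrange : ∀ i, Set.range (pullback.snd (g i) f) = f ⁻¹' Set.range (g i) := fun i =>
    Scheme.Pullback.range_snd (g i) f
  refine ⟨κ, hκ, fun i => pullback (g i) f, fun i => pullback.snd (g i) f, fun i => ?_, fun i => ?_,
    ?_, ?_, fun i => ?_⟩
  · have := a1 i
    infer_instance
  · rw [hrange]
    exact hc _ (a2 i)
  · intro i j hne
    change Disjoint (Set.range (pullback.snd (g i) f)) (Set.range (pullback.snd (g j) f))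
    rw [hrange, hrange]
    exact (a3 hne).preimage _
  · rw [← a4, Set.preimage_iUnion]
    exact Set.iUnion_congr hrange
  · have h1 := flc_comp Λ F (pullback.fst (g i) f) (g i) (a5 i)
    rw [pullback.condition] at h1
    exact isFTLocConst_of_iso Λ ((ModLC.pullComp Λ _ f).app F) h1




theorem strata_pull_affine {X Y : Scheme.{u}} (f : X ⟶ Y) (F : EtModW.Mod Λ Y) (W : Y.Opens)
    (hW : IsAffineOpen W) (hFW : Strata Λ F (W : Set Y)) (V : X.Opens) (hV : IsAffineOpen V)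
    (hVW : V ≤ f ⁻¹ᵁ W) : Strata Λ ((EtModW.pull Λ f).obj F) (V : Set X) := by
  have : IsAffine V.toScheme := hV
  have hrange : Set.range (V.ι ≫ f) ⊆ W := by
    rintro _ ⟨x, rfl⟩
    exact hVW x.2
  have hpre : (V.ι ≫ f) ⁻¹' (W : Set Y) = Set.univ := by
    ext x
    simp only [Set.mem_preimage, Set.mem_univ, iff_true]
    exact hVW x.2
  have h1 : Strata Λ ((EtModW.pull Λ (V.ι ≫ f)).obj F) ((V.ι ≫ f) ⁻¹' (W : Set Y)) :=
    strata_preimage Λ (V.ι ≫ f) F (fun A hA => cin_preimage_scheme (V.ι ≫ f) W.isOpen hW.isCompact hpre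
      (fun K hK1 hK2 hK3 => isCompact_preimage_of_affine (V.ι ≫ f) W hW hrange K hK1 hK2 hK3) hA) hFW
  rw [hpre] at h1
  have h2 : Strata Λ ((EtModW.pull Λ V.ι).obj ((EtModW.pull Λ f).obj F)) Set.univ :=
    strata_of_iso Λ ((ModLC.pullComp Λ V.ι f).app F) h1
  have h3 := strata_image Λ _ V.ι h2
  rwa [Set.image_univ, Scheme.Opens.range_ι] at h3


/-- Abelian case: if F is a constructible abelian sheaf on Y_et and f : X -> Y is any morphism of
schemes, then f^* F is constructible on X_et. -/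
theorem isConstructible_pull {X Y : Scheme.{u}} (f : X ⟶ Y)
    (F : EtModW.Mod Λ Y) (hF : EtModW.IsConstructible Λ F) :
    EtModW.IsConstructible Λ ((EtModW.pull Λ f).obj F) := by
  intro V hV
  rw [← strata_iff Λ]
  have hcov : ∀ x : V, ∃ W : Y.Opens, IsAffineOpen W ∧ f (x : X) ∈ W := by
    intro x
    obtain ⟨W, hW, hxW, -⟩ := TopologicalSpace.Opens.isBasis_iff_nbhd.1 Y.isBasis_affineOpens
      (show f (x : X) ∈ (⊤ : Y.Opens) from trivial)
    exact ⟨W, hW, hxW⟩
  choose W hW hfW using hcov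
  have ha : ∀ x : V, ∃ a : Γ(X, V), X.basicOpen a ≤ f ⁻¹ᵁ (W x) ∧ (x : X) ∈ X.basicOpen a :=
    fun x => hV.exists_basicOpen_le ⟨x, hfW x⟩ x.2
  choose a ha1 ha2 using ha
  obtain ⟨t, ht⟩ := hV.isCompact.elim_finite_subcover (fun x : V => (X.basicOpen (a x) : Set X))
    (fun x => (X.basicOpen (a x)).isOpen) (fun x hx => Set.mem_iUnion.2 ⟨⟨x, hx⟩, ha2 ⟨x, hx⟩⟩)
  have key := strata_biUnion Λ ((EtModW.pull Λ f).obj F) t (fun x : V => (X.basicOpen (a x) : Set X))
    (V : Set X) hV.isQuasiSeparated (fun x _ => ⟨(X.basicOpen (a x)).isOpen,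
      (hV.basicOpen (a x)).isCompact, X.basicOpen_le (a x),
      strata_pull_affine Λ f F (W x) (hW x) ((strata_iff Λ _ _).2 (hF (W x) (hW x))) _
        (hV.basicOpen (a x)) (ha1 x)⟩)
  have heq : (⋃ x ∈ t, (X.basicOpen (a x) : Set X)) = (V : Set X) := by
    apply Set.Subset.antisymm
    · exact Set.iUnion₂_subset fun x _ => X.basicOpen_le (a x)
    · exact ht
  rwa [heq] at key


theorem isConstructible_of_iso {X : Scheme.{u}} {F G : EtModW.Mod Λ X} (e : F ≅ G)
    (h : EtModW.IsConstructible Λ F) : EtModW.IsConstructible Λ G :=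
  fun U hU => (strata_iff Λ _ _).1 (strata_of_iso Λ e ((strata_iff Λ _ _).2 (h U hU)))

section Abstract

variable {C₁ C₂ : Type*} [Category C₁] [Category C₂] [Abelian C₁] [Abelian C₂]
  [HasDerivedCategory C₁] [HasDerivedCategory C₂]
  (F : C₁ ⥤ C₂) [F.Additive] [PreservesFiniteLimits F] [PreservesFiniteColimits F]

/-- homology of the image under the derived functor of an exact functor -/
def homologyMapDerivedIso (K : DerivedCategory C₁) (i : ℤ) :
    (DerivedCategory.homologyFunctor C₂ i).obj (F.mapDerivedCategory.obj K) ≅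
      F.obj ((DerivedCategory.homologyFunctor C₁ i).obj K) := by
  let C := DerivedCategory.Q.objPreimage K
  let e : DerivedCategory.Q.obj C ≅ K := DerivedCategory.Q.objObjPreimageIso K
  exact (DerivedCategory.homologyFunctor C₂ i).mapIso (F.mapDerivedCategory.mapIso e.symm) ≪≫
    (DerivedCategory.homologyFunctor C₂ i).mapIso (F.mapDerivedCategoryFactors.app C) ≪≫
    (DerivedCategory.homologyFunctorFactors C₂ i).app _ ≪≫
    (C.sc i).mapHomologyIso F ≪≫
    F.mapIso ((DerivedCategory.homologyFunctorFactors C₁ i).app C).symm ≪≫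
    F.mapIso ((DerivedCategory.homologyFunctor C₁ i).mapIso e)

end Abstract

attribute [local instance] HasDerivedCategory.standard

theorem isConstructible_HD_pull {X Y : Scheme.{u}} (f : X ⟶ Y)
    [PreservesFiniteLimits (EtModW.pull Λ f)] (K : EtModD.D Λ Y)
    (hK : ∀ i : ℤ, EtModW.IsConstructible Λ (EtModD.HD K i)) (i : ℤ) :
    EtModW.IsConstructible Λ (EtModD.HD ((EtModW.pull Λ f).mapDerivedCategory.obj K) i) :=
  isConstructible_of_iso Λ (homologyMapDerivedIso (EtModW.pull Λ f) K i).symm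
    (isConstructible_pull Λ f _ (hK i))

end Groth.Agent.Lib.Helper57.ModCons
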