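import Groth.Agent.Lib.Helper57.ModSubCons
import Groth.Agent.Lib.Helper57.ARCrit6
import Mathlib.CategoryTheory.Subobject.NoetherianObject

set_option autoImplicit false
open CategoryTheory CategoryTheory.Limits AlgebraicGeometry Opposite Topology TopologicalSpace
universe u

noncomputable section

namespace Groth.Agent.Lib.Helper57.ModConsACC

open Groth.Agent.Lib.Helper4 Groth.Agent.Lib.Helper57.ARCrit Groth.Agent.Lib.Helper57.ARStalk
  Groth.Agent.Lib.Helper57.ModCons Groth.Agent.Lib.Helper57.ModConsClosure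
  Groth.Agent.Lib.Helper57.ModSubCons

variable (Λ : Type (u + 1)) [CommRing Λ] {X : Scheme.{u}}

theorem surjective_iff_isZero {F G : EtModW.Mod Λ X} (φ : F ⟶ G) {Ω : Type u} [Field Ω]
    [IsSepClosed Ω] (ξ : Spec (CommRingCat.of Ω) ⟶ X) :
    Function.Surjective ((EtModW.stalk Λ ξ).map φ).hom ↔
      IsZero ((EtModW.stalk Λ ξ).obj (cokernel φ)) := by
  rw [← ModuleCat.epi_iff_surjective, Preadditive.epi_iff_isZero_cokernel]
  exact (PreservesCokernel.iso (EtModW.stalk Λ ξ) φ).isZero_iff.symm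

section Chain

variable (F : EtModW.Mod Λ X) (c : ℕ →o Subobject F)

/-- transition maps of the chain -/
def tr (k l : ℕ) (h : k ≤ l) : (c k : EtModW.Mod Λ X) ⟶ (c l : EtModW.Mod Λ X) :=
  Subobject.ofLE (c k) (c l) (c.monotone h)

theorem tr_arrow (k l : ℕ) (h : k ≤ l) : tr Λ F c k l h ≫ (c l).arrow = (c k).arrow :=
  Subobject.ofLE_arrow _

theorem tr_tr (k l m : ℕ) (h : k ≤ l) (h' : l ≤ m) :
    tr Λ F c k l h ≫ tr Λ F c l m h' = tr Λ F c k m (h.trans h') := by
  rw [← cancel_mono (c m).arrow, Category.assoc, tr_arrow, tr_arrow, tr_arrow]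

/-- the map from the coproduct of the chain -/
abbrev γ : (∐ fun k : ℕ => (c k : EtModW.Mod Λ X)) ⟶ F := Sigma.desc (fun k => (c k).arrow)

/-- the union of the chain -/
abbrev G : EtModW.Mod Λ X := Limits.image (γ Λ F c)

abbrev ιG : G Λ F c ⟶ F := Limits.image.ι (γ Λ F c)

def j (k : ℕ) : (c k : EtModW.Mod Λ X) ⟶ G Λ F c :=
  Sigma.ι (fun k : ℕ => (c k : EtModW.Mod Λ X)) k ≫ factorThruImage (γ Λ F c)

theorem j_ι (k : ℕ) : j Λ F c k ≫ ιG Λ F c = (c k).arrow := by
  unfold j
  rw [Category.assoc, image.fac, Sigma.ι_desc]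

theorem tr_j (k l : ℕ) (h : k ≤ l) : tr Λ F c k l h ≫ j Λ F c l = j Λ F c k := by
  rw [← cancel_mono (ιG Λ F c), Category.assoc, j_ι, j_ι, tr_arrow]

instance (k : ℕ) : Mono (j Λ F c k) := by
  haveI : Mono (j Λ F c k ≫ ιG Λ F c) := by
    rw [j_ι]
    infer_instance
  exact mono_of_mono (j Λ F c k) (ιG Λ F c)

variable {Ω : Type u} [Field Ω] [IsSepClosed Ω] (ξ : Spec (CommRingCat.of Ω) ⟶ X)

omit F c in
theorem map_comp_hom {A B C : EtModW.Mod Λ X} (f : A ⟶ B) (g : B ⟶ C)
    (z : (EtModW.stalk Λ ξ).obj A) : ((EtModW.stalk Λ ξ).map (f ≫ g)).hom z =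
      ((EtModW.stalk Λ ξ).map g).hom (((EtModW.stalk Λ ξ).map f).hom z) := by
  rw [Functor.map_comp]
  rfl

theorem range_ιG_le (S : Submodule Λ ((EtModW.stalk Λ ξ).obj F))
    (hS : ∀ k (y : (EtModW.stalk Λ ξ).obj (c k : EtModW.Mod Λ X)),
      ((EtModW.stalk Λ ξ).map (c k).arrow).hom y ∈ S)
    (y : (EtModW.stalk Λ ξ).obj (G Λ F c)) : ((EtModW.stalk Λ ξ).map (ιG Λ F c)).hom y ∈ S := by
  let r : (EtModW.stalk Λ ξ).obj F ⟶ ModuleCat.of Λ ((EtModW.stalk Λ ξ).obj F ⧸ S) :=
    ModuleCat.ofHom S.mkQ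
  haveI : PreservesColimitsOfSize.{0, 0} (EtModW.stalk Λ ξ) :=
    (Scheme.pointSmallEtale ξ).skyscraperSheafAdjunction.leftAdjoint_preservesColimits
  have hcol := isColimitOfPreserves (EtModW.stalk Λ ξ)
    (coproductIsCoproduct (fun k : ℕ => (c k : EtModW.Mod Λ X)))
  have h1 : (EtModW.stalk Λ ξ).map (γ Λ F c) ≫ r = 0 := by
    apply hcol.hom_ext
    rintro ⟨k⟩
    change (EtModW.stalk Λ ξ).map (Sigma.ι (fun k : ℕ => (c k : EtModW.Mod Λ X)) k) ≫
      (EtModW.stalk Λ ξ).map (γ Λ F c) ≫ r = _ ≫ 0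
    rw [comp_zero, ← Category.assoc, ← Functor.map_comp]
    have : Sigma.ι (fun k : ℕ => (c k : EtModW.Mod Λ X)) k ≫ γ Λ F c = (c k).arrow := by
      rw [Sigma.ι_desc]
    rw [this]
    ext z
    exact (Submodule.Quotient.mk_eq_zero S).2 (hS k z)
  have h2 : (EtModW.stalk Λ ξ).map (ιG Λ F c) ≫ r = 0 := by
    haveI : Epi ((EtModW.stalk Λ ξ).map (factorThruImage (γ Λ F c))) := inferInstance
    rw [← cancel_epi ((EtModW.stalk Λ ξ).map (factorThruImage (γ Λ F c))), comp_zero,
      ← Category.assoc, ← Functor.map_comp]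
    have : factorThruImage (γ Λ F c) ≫ ιG Λ F c = γ Λ F c := image.fac _
    rw [this, h1]
  have h3 := congrArg (fun k => k.hom y) h2
  exact (Submodule.Quotient.mk_eq_zero S).1 h3

/-- stabilisation of the stalks at a geometric point with finite stalk -/
theorem exists_surjective_j [IsNoetherianRing Λ] [Module.Finite Λ ((EtModW.stalk Λ ξ).obj F)] :
    ∃ N₀ : ℕ, Function.Surjective ((EtModW.stalk Λ ξ).map (j Λ F c N₀)).hom := by
  haveI : IsNoetherian Λ ((EtModW.stalk Λ ξ).obj F) :=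
    isNoetherian_of_isNoetherianRing_of_finite Λ _
  let S : ℕ →o Submodule Λ ((EtModW.stalk Λ ξ).obj F) :=
    { toFun := fun k => LinearMap.range ((EtModW.stalk Λ ξ).map (c k).arrow).hom
      monotone' := by
        rintro k l h _ ⟨y, rfl⟩
        refine ⟨((EtModW.stalk Λ ξ).map (tr Λ F c k l h)).hom y, ?_⟩
        rw [← map_comp_hom, tr_arrow] }
  obtain ⟨N₀, hN₀⟩ := WellFoundedGT.monotone_chain_condition S
  refine ⟨N₀, ?_⟩
  have hS : ∀ k (y : (EtModW.stalk Λ ξ).obj (c k : EtModW.Mod Λ X)),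
      ((EtModW.stalk Λ ξ).map (c k).arrow).hom y ∈ S N₀ := by
    intro k y
    rcases le_total k N₀ with h | h
    · exact S.monotone h ⟨y, rfl⟩
    · rw [hN₀ k h]
      exact ⟨y, rfl⟩
  intro y
  obtain ⟨z, hz⟩ := range_ιG_le Λ F c ξ (S N₀) hS y
  refine ⟨z, ?_⟩
  have hinj : Function.Injective ((EtModW.stalk Λ ξ).map (ιG Λ F c)).hom :=
    (ModuleCat.mono_iff_injective _).1 inferInstance
  apply hinj
  rw [← hz, ← map_comp_hom, j_ι]

/-- if `F_k → G` is surjective on a stalk, so is `F_k → F_l` for `l ≥ k` -/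
theorem surjective_tr_of_surjective_j (k l : ℕ) (h : k ≤ l)
    (hs : Function.Surjective ((EtModW.stalk Λ ξ).map (j Λ F c k)).hom) :
    Function.Surjective ((EtModW.stalk Λ ξ).map (tr Λ F c k l h)).hom := by
  intro y
  obtain ⟨z, hz⟩ := hs (((EtModW.stalk Λ ξ).map (j Λ F c l)).hom y)
  refine ⟨z, ?_⟩
  have hinj : Function.Injective ((EtModW.stalk Λ ξ).map (j Λ F c l)).hom :=
    (ModuleCat.mono_iff_injective _).1 inferInstance
  apply hinj
  rw [← hz, ← map_comp_hom, tr_j]

theorem surjective_tr_of_le (k k' l : ℕ) (h : k ≤ k') (h' : k' ≤ l)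
    (hs : Function.Surjective ((EtModW.stalk Λ ξ).map (tr Λ F c k l (h.trans h'))).hom) :
    Function.Surjective ((EtModW.stalk Λ ξ).map (tr Λ F c k' l h')).hom := by
  intro y
  obtain ⟨z, hz⟩ := hs y
  refine ⟨((EtModW.stalk Λ ξ).map (tr Λ F c k k' h)).hom z, ?_⟩
  rw [← hz, ← map_comp_hom, tr_tr]

end Chain

section Spread

variable [IsNoetherianRing Λ]

/-- a constructible sheaf whose stalk at a geometric point over `η` vanishes has vanishing
stalks on a neighbourhood of `η` in `closure {η}` -/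
theorem exists_open_isZero_stalk (C : EtModW.Mod Λ X) (hC : EtModW.IsConstructible Λ C)
    (η : GeomPt X) (hz : IsZero ((EtModW.stalk Λ η.pt).obj C)) :
    ∃ O : Set X, IsOpen O ∧ η.pt.base default ∈ O ∧ ∀ ξ : GeomPt X,
      ξ.pt.base default ∈ O → ξ.pt.base default ∈ closure {η.pt.base default} →
        IsZero ((EtModW.stalk Λ ξ.pt).obj C) := by
  obtain ⟨V, T, g, hg, hxV, hrange, hflc⟩ := local_of_isConstructible Λ C hC (η.pt.base default)
  haveI := hg
  have hmem : η.pt.base default ∈ Set.range g.base := by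
    rw [hrange]
    exact ⟨hxV, subset_closure rfl⟩
  obtain ⟨η', hη'⟩ := exists_lift_of_immersion g η hmem
  have hb : g.base (η'.base default) = η.pt.base default := by
    rw [← hη', Scheme.Hom.comp_base, TopCat.comp_app]
  have hηc : closure {η'.base default} = Set.univ := by
    rw [g.isEmbedding.closure_eq_preimage_closure_image, Set.image_singleton]
    apply Set.eq_univ_of_forall
    intro t
    have : g.base t ∈ Set.range g.base := ⟨t, rfl⟩
    rw [hrange] at this
    change g.base t ∈ closure {g.base (η'.base default)}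
    rw [hb]
    exact this.2
  haveI : ConnectedSpace T := by
    have hirr : IsIrreducible (closure {η'.base default}) := isIrreducible_singleton.closure
    rw [hηc] at hirr
    exact { isPreconnected_univ := hirr.isPreirreducible.isPreconnected
            toNonempty := ⟨η'.base default⟩ }
  have hz' : IsZero ((EtModW.stalk Λ η').obj ((EtModW.pull Λ g).obj C)) := by
    have h5 : IsZero ((EtModW.stalk Λ (η' ≫ g)).obj C) := by
      rw [hη']
      exact hz
    exact IsZero.of_iso h5 ((stalkPullIso Λ g η').app C)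
  have hzero : IsZero ((EtModW.pull Λ g).obj C) :=
    isZero_of_isFTLocConst_of_stalk Λ _ hflc ⟨η.Ω, η'⟩ hz'
  refine ⟨V, V.isOpen, hxV, ?_⟩
  intro ξ h1 h2
  have hmem' : ξ.pt.base default ∈ Set.range g.base := by
    rw [hrange]
    exact ⟨h1, h2⟩
  obtain ⟨ξ', hξ'⟩ := exists_lift_of_immersion g ξ hmem'
  have h6 : IsZero ((EtModW.stalk Λ ξ').obj ((EtModW.pull Λ g).obj C)) :=
    Functor.map_isZero (EtModW.stalk Λ ξ') hzero
  have h7 : IsZero ((EtModW.stalk Λ (ξ' ≫ g)).obj C) :=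
    IsZero.of_iso h6 ((stalkPullIso Λ g ξ').app C).symm
  rw [hξ'] at h7
  exact h7

end Spread

section Induction

variable [IsNoetherianRing Λ] (F : EtModW.Mod Λ X) (c : ℕ →o Subobject F)

theorem claimA [IsNoetherian X] (hF : EtModW.IsConstructible Λ F) :
    ∀ Z : Closeds X, ∃ N : ℕ, ∀ (l : ℕ) (h : N ≤ l) (ξ : GeomPt X),
      ξ.pt.base default ∈ (Z : Set X) →
        Function.Surjective ((EtModW.stalk Λ ξ.pt).map (tr Λ F c N l h)).hom := by
  intro Z
  apply wellFounded_lt.induction Z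
  clear Z
  intro Z H
  rcases eq_or_ne Z ⊥ with rfl | h₀
  · exact ⟨0, fun l h ξ hx => hx.elim⟩
  · by_cases h₁ : IsPreirreducible (Z : Set X)
    · have hirr : IsIrreducible (Z : Set X) := ⟨Closeds.coe_nonempty.2 h₀, h₁⟩
      obtain ⟨η, hη⟩ := QuasiSober.sober hirr Z.isClosed
      have hη' : closure {η} = (Z : Set X) := hη
      have hb : (EtStalk.geomPtAt X η).base default = η := geomPtAt_base η
      let ηg : GeomPt X := ⟨_, EtStalk.geomPtAt X η⟩
      haveI := finite_stalk_of_isConstructible Λ (EtStalk.geomPtAt X η) F hF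
      obtain ⟨N₀, hN₀⟩ := exists_surjective_j Λ F c (EtStalk.geomPtAt X η)
      have hG : EtModW.IsConstructible Λ (G Λ F c) :=
        isConstructible_of_mono Λ (ιG Λ F c) hF
      have hFN : EtModW.IsConstructible Λ (c N₀ : EtModW.Mod Λ X) :=
        isConstructible_of_mono Λ (c N₀).arrow hF
      have hC : EtModW.IsConstructible Λ (cokernel (j Λ F c N₀)) :=
        isConstructible_cokernel Λ _ hFN hG
      have hz : IsZero ((EtModW.stalk Λ ηg.pt).obj (cokernel (j Λ F c N₀))) :=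
        (surjective_iff_isZero Λ (j Λ F c N₀) (EtStalk.geomPtAt X η)).1 hN₀
      obtain ⟨O, hO, hηO, hsub⟩ := exists_open_isZero_stalk Λ _ hC ηg hz
      have hηO' : η ∈ O := by
        have : ηg.pt.base default = η := hb
        rwa [this] at hηO
      let B : Closeds X := ⟨Oᶜ, hO.isClosed_compl⟩
      have hηZ : η ∈ (Z : Set X) := by
        rw [← hη']
        exact subset_closure rfl
      have hlt : Z ⊓ B < Z := by
        apply inf_lt_left.2
        intro hle
        exact (hle hηZ) hηO'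
      obtain ⟨N₁, hN₁⟩ := H (Z ⊓ B) hlt
      refine ⟨max N₀ N₁, ?_⟩
      intro l h ξ hx
      by_cases hxO : ξ.pt.base default ∈ O
      · have hcl : ξ.pt.base default ∈ closure {ηg.pt.base default} := by
          have : ηg.pt.base default = η := hb
          rw [this, hη']
          exact hx
        have hs : Function.Surjective ((EtModW.stalk Λ ξ.pt).map (j Λ F c N₀)).hom :=
          (surjective_iff_isZero Λ (j Λ F c N₀) ξ.pt).2 (hsub ξ hxO hcl)
        have h1 := surjective_tr_of_surjective_j Λ F c ξ.pt N₀ l ((le_max_left _ _).trans h) hs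
        exact surjective_tr_of_le Λ F c ξ.pt N₀ (max N₀ N₁) l (le_max_left _ _) h h1
      · have hxZ' : ξ.pt.base default ∈ ((Z ⊓ B : Closeds X) : Set X) := ⟨hx, hxO⟩
        have h1 := hN₁ l ((le_max_right _ _).trans h) ξ hxZ'
        exact surjective_tr_of_le Λ F c ξ.pt N₁ (max N₀ N₁) l (le_max_right _ _) h h1
    · simp only [isPreirreducible_iff_isClosed_union_isClosed, not_forall, not_or] at h₁
      obtain ⟨z₁, z₂, hz₁, hz₂, hsub, hz₁', hz₂'⟩ := h₁
      lift z₁ to Closeds X using hz₁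
      lift z₂ to Closeds X using hz₂
      obtain ⟨N₁, hN₁⟩ := H (Z ⊓ z₁) (inf_lt_left.2 hz₁')
      obtain ⟨N₂, hN₂⟩ := H (Z ⊓ z₂) (inf_lt_left.2 hz₂')
      refine ⟨max N₁ N₂, ?_⟩
      intro l h ξ hx
      rcases hsub hx with hx1 | hx2
      · have h1 := hN₁ l ((le_max_left _ _).trans h) ξ ⟨hx, hx1⟩
        exact surjective_tr_of_le Λ F c ξ.pt N₁ (max N₁ N₂) l (le_max_left _ _) h h1
      · have h1 := hN₂ l ((le_max_right _ _).trans h) ξ ⟨hx, hx2⟩
        exact surjective_tr_of_le Λ F c ξ.pt N₂ (max N₁ N₂) l (le_max_right _ _) h h1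

theorem acc [IsNoetherian X] (hF : EtModW.IsConstructible Λ F) :
    ∃ N, ∀ m, N ≤ m → c N = c m := by
  obtain ⟨N, hN⟩ := claimA Λ F c hF ⊤
  refine ⟨N, fun m h => ?_⟩
  haveI : Mono (tr Λ F c N m h) := by
    unfold tr
    infer_instance
  haveI : IsIso (tr Λ F c N m h) := by
    rw [isIso_iff_stalkM Λ]
    intro x
    haveI : Mono ((EtModW.stalk Λ x.pt).map (tr Λ F c N m h)) := inferInstance
    haveI : Epi ((EtModW.stalk Λ x.pt).map (tr Λ F c N m h)) := by
      rw [ModuleCat.epi_iff_surjective]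
      exact hN m h x (Set.mem_univ _)
    exact isIso_of_mono_of_epi _
  exact Subobject.eq_of_comm (asIso (tr Λ F c N m h)) (tr_arrow Λ F c N m h)

theorem isNoetherianObject_of_isConstructible [IsNoetherian X]
    (hF : EtModW.IsConstructible Λ F) : IsNoetherianObject F := by
  rw [isNoetherianObject_iff_monotone_chain_condition]
  intro f
  exact acc Λ F f hF

end Induction

end Groth.Agent.Lib.Helper57.ModConsACC
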