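import Groth.Agent.Lib.Helper4.OverEt
import Groth.Agent.Lib.Helper4.FlcPull
import Groth.Prelude.Def_EtMod2
import Groth.Prelude.Def_EtRestW

set_option autoImplicit false
open CategoryTheory CategoryTheory.Limits AlgebraicGeometry Opposite
universe u

noncomputable section

namespace Groth.Agent.Lib.Helper57.ModLC

open Groth.Agent.Lib.Helper4

variable (Λ : Type (u + 1)) [CommRing Λ]

section Basic

variable {X Y Z : Scheme.{u}}

/-- The adjunction `f⁻¹ ⊣ f_*` for sheaves of modules. -/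
abbrev pullPushAdj (f : X ⟶ Y) : EtModW.pull Λ f ⊣ EtModW.push Λ f :=
  (EtCoh.bc f).sheafAdjunctionContinuous (ModuleCat.{u + 1} Λ) Y.smallEtaleTopology
    X.smallEtaleTopology

set_option backward.isDefEq.respectTransparency.types false in
def pushComp (f : X ⟶ Y) (g : Z ⟶ X) :
    EtModW.push Λ g ⋙ EtModW.push Λ f ≅ EtModW.push Λ (g ≫ f) :=
  Functor.sheafPushforwardContinuousComp' (F := EtCoh.bc f) (G := EtCoh.bc g)
    (FG := EtCoh.bc (g ≫ f))
    ((MorphismProperty.Over.pullbackComp (P := EtCoh.etaleMP) (Q := ⊤) g f).symm :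
      EtCoh.bc f ⋙ EtCoh.bc g ≅ EtCoh.bc (g ≫ f))
    (ModuleCat.{u + 1} Λ) Y.smallEtaleTopology X.smallEtaleTopology Z.smallEtaleTopology

def pullComp (f : X ⟶ Y) (g : Y ⟶ Z) :
    EtModW.pull Λ (f ≫ g) ≅ EtModW.pull Λ g ⋙ EtModW.pull Λ f :=
  Adjunction.leftAdjointUniq (pullPushAdj Λ (f ≫ g))
    (((pullPushAdj Λ g).comp (pullPushAdj Λ f)).ofNatIsoRight (pushComp Λ g f))

def pullCongr {f f' : X ⟶ Y} (h : f = f') : EtModW.pull Λ f ≅ EtModW.pull Λ f' :=
  eqToIso (by rw [h])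

abbrev gsec (X : Scheme.{u}) : EtModW.Mod Λ X ⥤ ModuleCat.{u + 1} Λ :=
  (sheafSections X.smallEtaleTopology (ModuleCat.{u + 1} Λ)).obj (op (EtCoh.top X))

abbrev constAdj (X : Scheme.{u}) :
    constantSheaf X.smallEtaleTopology (ModuleCat.{u + 1} Λ) ⊣ gsec Λ X :=
  constantSheafAdj X.smallEtaleTopology (ModuleCat.{u + 1} Λ) (EtCore.topIsTerminal X)

def pushGsecIso (f : X ⟶ Y) : EtModW.push Λ f ⋙ gsec Λ Y ≅ gsec Λ X :=
  NatIso.ofComponents (fun F => F.obj.mapIso (EtCore.bcTopIso f).op.symm) (fun {F G} φ => by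
    simp only [Functor.comp_map, Functor.mapIso_hom, Iso.symm_hom]
    exact (φ.hom.naturality _).symm)

def pullConstIso (f : X ⟶ Y) :
    constantSheaf Y.smallEtaleTopology (ModuleCat.{u + 1} Λ) ⋙ EtModW.pull Λ f ≅
      constantSheaf X.smallEtaleTopology (ModuleCat.{u + 1} Λ) :=
  Adjunction.leftAdjointUniq
    (((constAdj Λ Y).comp (pullPushAdj Λ f)).ofNatIsoRight (pushGsecIso Λ f)) (constAdj Λ X)

end Basic

section Restr

variable {U X : Scheme.{u}} (j : U ⟶ X) [hj : Etale j]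

abbrev restrAlong : EtModW.Mod Λ X ⥤ EtModW.Mod Λ U :=
  (EtShriek.compEtale j).sheafPushforwardContinuous (ModuleCat.{u + 1} Λ) U.smallEtaleTopology
    X.smallEtaleTopology

def restrPushAdj : restrAlong Λ j ⊣ EtModW.push Λ j :=
  (EtRestr.adjSite j).sheafPushforwardContinuous (E := ModuleCat.{u + 1} Λ) U.smallEtaleTopology
    X.smallEtaleTopology

def restrPullIso : restrAlong Λ j ≅ EtModW.pull Λ j :=
  (restrPushAdj Λ j).leftAdjointUniq (pullPushAdj Λ j)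

end Restr

section Over

variable {X : Scheme.{u}} (V : X.Etale)

instance hasLimits_structuredArrow (Y : (Over V)ᵒᵖ) :
    HasLimitsOfShape (StructuredArrow Y (OverEt.phi V).op) (ModuleCat.{u + 1} Λ) := by
  have : HasLimitsOfSize.{u, u + 1} (ModuleCat.{u + 1} Λ) :=
    hasLimitsOfSizeShrink.{u, u + 1, u + 1, u + 1} _
  infer_instance

def E : Sheaf V.left.smallEtaleTopology (ModuleCat.{u + 1} Λ) ≌
    Sheaf (X.smallEtaleTopology.over V) (ModuleCat.{u + 1} Λ) :=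
  Functor.IsDenseSubsite.sheafEquiv V.left.smallEtaleTopology (X.smallEtaleTopology.over V)
    (OverEt.phi V) (ModuleCat.{u + 1} Λ)

def constComm :
    constantSheaf V.left.smallEtaleTopology (ModuleCat.{u + 1} Λ) ⋙ (E Λ V).functor ≅
      constantSheaf (X.smallEtaleTopology.over V) (ModuleCat.{u + 1} Λ) :=
  equivCommuteConstant V.left.smallEtaleTopology (ModuleCat.{u + 1} Λ)
    (X.smallEtaleTopology.over V) (OverEt.phi V) (EtCore.topIsTerminal V.left)
    (OverEt.isTerminalPhiTop V)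

def invOverIso (F : EtModW.Mod Λ X) :
    (E Λ V).inverse.obj (EtModW.restr Λ F V) ≅ (restrAlong Λ V.hom).obj F :=
  (sheafToPresheaf _ _).preimageIso (Iso.refl _)

def invOverPullIso (F : EtModW.Mod Λ X) :
    (E Λ V).inverse.obj (EtModW.restr Λ F V) ≅ (EtModW.pull Λ V.hom).obj F :=
  invOverIso Λ V F ≪≫ (restrPullIso Λ V.hom).app F

theorem restr_iso_const_iff (F : EtModW.Mod Λ X) (M : ModuleCat.{u + 1} Λ) :
    Nonempty (EtModW.restr Λ F V ≅
      (constantSheaf (X.smallEtaleTopology.over V) (ModuleCat.{u + 1} Λ)).obj M) ↔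
    Nonempty ((EtModW.pull Λ V.hom).obj F ≅
      (constantSheaf V.left.smallEtaleTopology (ModuleCat.{u + 1} Λ)).obj M) := by
  constructor
  · rintro ⟨e⟩
    exact ⟨(invOverPullIso Λ V F).symm ≪≫
      (E Λ V).inverse.mapIso (e ≪≫ ((constComm Λ V).app M).symm) ≪≫
      ((E Λ V).unitIso.app _).symm⟩
  · rintro ⟨e⟩
    exact ⟨((E Λ V).counitIso.app _).symm ≪≫ (E Λ V).functor.mapIso (invOverPullIso Λ V F ≪≫ e) ≪≫
      (constComm Λ V).app M⟩

end Over

section Pull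

variable {X Y : Scheme.{u}} (f : X ⟶ Y)

theorem pull_bc_iso_const (G : EtModW.Mod Λ Y) (U : Y.Etale) (M : ModuleCat.{u + 1} Λ)
    (e : (EtModW.pull Λ U.hom).obj G ≅
      (constantSheaf U.left.smallEtaleTopology (ModuleCat.{u + 1} Λ)).obj M) :
    Nonempty ((EtModW.pull Λ ((EtCoh.bc f).obj U).hom).obj ((EtModW.pull Λ f).obj G) ≅
      (constantSheaf ((EtCoh.bc f).obj U).left.smallEtaleTopology (ModuleCat.{u + 1} Λ)).obj M) := by
  let V := (EtCoh.bc f).obj U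
  let p : V.left ⟶ U.left := pullback.fst U.hom f
  have hV : V.hom = pullback.snd U.hom f := rfl
  have w : V.hom ≫ f = p ≫ U.hom := by
    rw [hV]
    exact pullback.condition.symm
  exact ⟨((pullComp Λ V.hom f).app G).symm ≪≫ (pullCongr Λ w).app G ≪≫
    (pullComp Λ p U.hom).app G ≪≫ (EtModW.pull Λ p).mapIso e ≪≫ (pullConstIso Λ p).app M⟩

theorem isFTLocConst_pull (G : EtModW.Mod Λ Y) (hG : EtModW.IsFTLocConst Λ G) :
    EtModW.IsFTLocConst Λ ((EtModW.pull Λ f).obj G) := by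
  obtain ⟨ι, U, hU, hM⟩ := hG
  refine ⟨ι, fun i => (EtCoh.bc f).obj (U i), FlcPull.covers_bc f U hU, fun i => ?_⟩
  obtain ⟨M, iA, iM, iF, ⟨e⟩⟩ := hM i
  refine ⟨M, iA, iM, iF, ?_⟩
  obtain ⟨e'⟩ := (restr_iso_const_iff Λ (U i) G _).1 ⟨e⟩
  obtain ⟨e''⟩ := pull_bc_iso_const Λ f G (U i) _ e'
  exact (restr_iso_const_iff Λ ((EtCoh.bc f).obj (U i)) _ _).2 ⟨e''⟩

theorem isLocallyConstant_pull (G : EtCoh.Ab Y) (hG : EtRest.IsLocallyConstant G) :
    EtRest.IsLocallyConstant ((EtCoh.pull f).obj G) := by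
  obtain ⟨ι, U, hU, hM⟩ := hG
  refine ⟨ι, fun i => (EtCoh.bc f).obj (U i), FlcPull.covers_bc f U hU, fun i => ?_⟩
  obtain ⟨M, iA, ⟨e⟩⟩ := hM i
  refine ⟨M, iA, ?_⟩
  obtain ⟨e'⟩ := (OverEt.restr_iso_const_iff (U i) G _).1 ⟨e⟩
  obtain ⟨e''⟩ := FlcPull.pull_bc_iso_const f G (U i) _ e'
  exact (OverEt.restr_iso_const_iff ((EtCoh.bc f).obj (U i)) _ _).2 ⟨e''⟩

end Pull

end Groth.Agent.Lib.Helper57.ModLC
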