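import Groth.Agent.Lib.Helper57.ModCons
import Groth.Agent.Lib.Helper4.LocConstExtMod
import Groth.Agent.Lib.Helper4.LocConstKerMod
import Groth.Agent.Lib.Helper13.EtModPullExact
import Groth.Prelude.Def_WeakSerre

set_option autoImplicit false
open CategoryTheory CategoryTheory.Limits AlgebraicGeometry Opposite Topology ZeroObject
universe u

noncomputable section

namespace Groth.Agent.Lib.Helper57.ModCons
open Groth.Agent.Lib.Helper4 Groth.Agent.Lib.Helper4.CIn Groth.Agent.Lib.Helper57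
open Groth.Agent.Lib.Helper13.EtModPullExact

variable (Λ : Type (u + 1)) [CommRing Λ] {X : Scheme.{u}}

def Strata₂ (F G : EtModW.Mod Λ X) (S : Set X) : Prop :=
  ∃ (κ : Type) (_ : Finite κ) (T : κ → Scheme.{u}) (g : ∀ i, T i ⟶ X),
    (∀ i, IsImmersion (g i)) ∧
    (∀ i, CIn S (Set.range (g i))) ∧
    Pairwise (fun i j => Disjoint (Set.range (g i)) (Set.range (g j))) ∧
    (⋃ i, Set.range (g i)) = S ∧
    ∀ i, EtModW.IsFTLocConst Λ ((EtModW.pull Λ (g i)).obj F) ∧
      EtModW.IsFTLocConst Λ ((EtModW.pull Λ (g i)).obj G)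

theorem strata₂_of_strata (F G : EtModW.Mod Λ X) {S : Set X} (hF : Strata Λ F S) (hG : Strata Λ G S) :
    Strata₂ Λ F G S := by
  obtain ⟨κ₁, hκ₁, T₁, g₁, a1, a2, a3, a4, a5⟩ := hF
  obtain ⟨κ₂, hκ₂, T₂, g₂, b1, b2, b3, b4, b5⟩ := hG
  have hrange : ∀ p : κ₁ × κ₂, Set.range (pullback.fst (g₁ p.1) (g₂ p.2) ≫ g₁ p.1) =
      Set.range (g₁ p.1) ∩ Set.range (g₂ p.2) := by
    intro p
    rw [Scheme.Hom.comp_base, TopCat.coe_comp, Set.range_comp, Scheme.Pullback.range_fst,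
      Set.image_preimage_eq_inter_range, Set.inter_comm]
  refine ⟨κ₁ × κ₂, inferInstance, fun p => pullback (g₁ p.1) (g₂ p.2),
    fun p => pullback.fst (g₁ p.1) (g₂ p.2) ≫ g₁ p.1, ?_, ?_, ?_, ?_, ?_⟩
  · intro p
    have := a1 p.1
    have := b1 p.2
    infer_instance
  · intro p
    rw [hrange]
    exact (a2 p.1).inter (b2 p.2)
  · intro p q hpq
    change Disjoint (Set.range (pullback.fst (g₁ p.1) (g₂ p.2) ≫ g₁ p.1))
      (Set.range (pullback.fst (g₁ q.1) (g₂ q.2) ≫ g₁ q.1))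
    rw [hrange, hrange]
    by_cases h1 : p.1 = q.1
    · have h2 : p.2 ≠ q.2 := fun h2 => hpq (Prod.ext h1 h2)
      exact Set.disjoint_of_subset Set.inter_subset_right Set.inter_subset_right (b3 h2)
    · exact Set.disjoint_of_subset Set.inter_subset_left Set.inter_subset_left (a3 h1)
  · ext x
    simp only [Set.mem_iUnion]
    constructor
    · rintro ⟨p, hp⟩
      rw [hrange] at hp
      rw [← a4]
      exact Set.mem_iUnion.2 ⟨p.1, hp.1⟩
    · intro hx
      have hx1 := hx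
      rw [← a4] at hx1
      rw [← b4] at hx
      obtain ⟨i, hi⟩ := Set.mem_iUnion.1 hx1
      obtain ⟨j, hj⟩ := Set.mem_iUnion.1 hx
      refine ⟨(i, j), ?_⟩
      rw [hrange]
      exact ⟨hi, hj⟩
  · intro p
    refine ⟨flc_comp Λ F _ _ (a5 p.1), ?_⟩
    have h := flc_comp Λ G (pullback.snd (g₁ p.1) (g₂ p.2)) (g₂ p.2) (b5 p.2)
    rwa [← pullback.condition] at h

theorem strata_of_strata₂ (F G H : EtModW.Mod Λ X) {S : Set X} (h : Strata₂ Λ F G S)
    (hH : ∀ {T : Scheme.{u}} (g : T ⟶ X), EtModW.IsFTLocConst Λ ((EtModW.pull Λ g).obj F) →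
      EtModW.IsFTLocConst Λ ((EtModW.pull Λ g).obj G) →
      EtModW.IsFTLocConst Λ ((EtModW.pull Λ g).obj H)) : Strata Λ H S := by
  obtain ⟨κ, hκ, T, g, a1, a2, a3, a4, a5⟩ := h
  exact ⟨κ, hκ, T, g, a1, a2, a3, a4, fun i => hH (g i) (a5 i).1 (a5 i).2⟩


theorem isZero_const_punit {C : Type (u + 1)} [Category.{u} C] (J : GrothendieckTopology C) :
    IsZero ((constantSheaf J (ModuleCat.{u + 1} Λ)).obj (ModuleCat.of Λ PUnit.{u + 2})) := by
  have h0 : IsZero (ModuleCat.of Λ PUnit.{u + 2}) := ModuleCat.isZero_of_subsingleton _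
  have h1 : IsZero ((Functor.const Cᵒᵖ).obj (ModuleCat.of Λ PUnit.{u + 2})) := by
    rw [IsZero.iff_id_eq_zero]
    ext V : 2
    exact h0.eq_of_src _ _
  have : PreservesColimitsOfSize.{0, 0} (presheafToSheaf J (ModuleCat.{u + 1} Λ)) :=
    (sheafificationAdjunction J _).leftAdjoint_preservesColimits
  have h2 : IsInitial ((presheafToSheaf J (ModuleCat.{u + 1} Λ)).obj
      ((Functor.const Cᵒᵖ).obj (ModuleCat.of Λ PUnit.{u + 2}))) :=
    IsInitial.isInitialObj _ _ h1.isInitial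
  exact IsZero.of_iso (isZero_zero _) (h2.uniqueUpToIso (isZero_zero _).isInitial)

theorem isZero_over {F : EtModW.Mod Λ X} (hF : IsZero F) (U : X.Etale) :
    IsZero (EtModW.restr Λ F U) := by
  rw [IsZero.iff_id_eq_zero] at hF ⊢
  have h := congrArg (fun φ => (X.smallEtaleTopology.overPullback (ModuleCat.{u + 1} Λ) U).map φ) hF
  simp only [CategoryTheory.Functor.map_id] at h
  rw [h]
  rfl

theorem isFTLocConst_of_isZero {F : EtModW.Mod Λ X} (hF : IsZero F) : EtModW.IsFTLocConst Λ F := by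
  refine ⟨PUnit, fun _ => EtCoh.top X, ?_, fun _ => ?_⟩
  · intro x
    exact ⟨PUnit.unit, x, rfl⟩
  · exact ⟨PUnit.{u + 2}, inferInstance, inferInstance, inferInstance,
      ⟨(isZero_over Λ hF _).iso (isZero_const_punit Λ _)⟩⟩

theorem isConstructible_of_isZero {F : EtModW.Mod Λ X} (hF : IsZero F) :
    EtModW.IsConstructible Λ F := by
  intro U hU
  rw [← strata_iff Λ]
  refine ⟨PUnit, inferInstance, fun _ => (U : Scheme.{u}), fun _ => U.ι, fun _ => inferInstance,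
    fun _ => ?_, ?_, ?_, fun _ => ?_⟩
  · unfold CIn
    rw [Scheme.Opens.range_ι]
    convert Topology.IsConstructible.univ
    ext x
    simp
  · intro i j hij
    exact (hij (Subsingleton.elim i j)).elim
  · rw [Set.iUnion_const, Scheme.Opens.range_ι]
  · exact isFTLocConst_of_isZero Λ ((EtModW.pull Λ U.ι).map_isZero hF)


variable [IsNoetherianRing Λ]

theorem ft_pull_kernel {F G : EtModW.Mod Λ X} (φ : F ⟶ G) {T : Scheme.{u}} (g : T ⟶ X)
    (hF : EtModW.IsFTLocConst Λ ((EtModW.pull Λ g).obj F))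
    (hG : EtModW.IsFTLocConst Λ ((EtModW.pull Λ g).obj G)) :
    EtModW.IsFTLocConst Λ ((EtModW.pull Λ g).obj (kernel φ)) :=
  isFTLocConst_of_iso Λ (PreservesKernel.iso (EtModW.pull Λ g) φ).symm
    (LocConstMod.ft_kernel_cokernel ((EtModW.pull Λ g).map φ) hF hG).1

theorem ft_pull_cokernel {F G : EtModW.Mod Λ X} (φ : F ⟶ G) {T : Scheme.{u}} (g : T ⟶ X)
    (hF : EtModW.IsFTLocConst Λ ((EtModW.pull Λ g).obj F))
    (hG : EtModW.IsFTLocConst Λ ((EtModW.pull Λ g).obj G)) :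
    EtModW.IsFTLocConst Λ ((EtModW.pull Λ g).obj (cokernel φ)) :=
  isFTLocConst_of_iso Λ (PreservesCokernel.iso (EtModW.pull Λ g) φ).symm
    (LocConstMod.ft_kernel_cokernel ((EtModW.pull Λ g).map φ) hF hG).2

theorem ft_pull_ext (S : ShortComplex (EtModW.Mod Λ X)) (hS : S.ShortExact) {T : Scheme.{u}}
    (g : T ⟶ X) (h₁ : EtModW.IsFTLocConst Λ ((EtModW.pull Λ g).obj S.X₁))
    (h₃ : EtModW.IsFTLocConst Λ ((EtModW.pull Λ g).obj S.X₃)) :
    EtModW.IsFTLocConst Λ ((EtModW.pull Λ g).obj S.X₂) :=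
  LocConstMod.ft_ext (S.map (EtModW.pull Λ g)) (hS.map_of_exact (EtModW.pull Λ g)) h₁ h₃

theorem isConstructible_kernel {F G : EtModW.Mod Λ X} (φ : F ⟶ G)
    (hF : EtModW.IsConstructible Λ F) (hG : EtModW.IsConstructible Λ G) :
    EtModW.IsConstructible Λ (kernel φ) := by
  intro U hU
  rw [← strata_iff Λ]
  exact strata_of_strata₂ Λ F G _ (strata₂_of_strata Λ F G ((strata_iff Λ _ _).2 (hF U hU))
    ((strata_iff Λ _ _).2 (hG U hU))) (fun g h1 h2 => ft_pull_kernel Λ φ g h1 h2)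

theorem isConstructible_cokernel {F G : EtModW.Mod Λ X} (φ : F ⟶ G)
    (hF : EtModW.IsConstructible Λ F) (hG : EtModW.IsConstructible Λ G) :
    EtModW.IsConstructible Λ (cokernel φ) := by
  intro U hU
  rw [← strata_iff Λ]
  exact strata_of_strata₂ Λ F G _ (strata₂_of_strata Λ F G ((strata_iff Λ _ _).2 (hF U hU))
    ((strata_iff Λ _ _).2 (hG U hU))) (fun g h1 h2 => ft_pull_cokernel Λ φ g h1 h2)

theorem isConstructible_ext (S : ShortComplex (EtModW.Mod Λ X)) (hS : S.ShortExact)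
    (h1 : EtModW.IsConstructible Λ S.X₁) (h3 : EtModW.IsConstructible Λ S.X₃) :
    EtModW.IsConstructible Λ S.X₂ := by
  intro U hU
  rw [← strata_iff Λ]
  exact strata_of_strata₂ Λ S.X₁ S.X₃ _ (strata₂_of_strata Λ S.X₁ S.X₃
    ((strata_iff Λ _ _).2 (h1 U hU)) ((strata_iff Λ _ _).2 (h3 U hU)))
    (fun g a b => ft_pull_ext Λ S hS g a b)

instance isWeakSerre_isConstructible :
    WSerre.IsWeakSerre (fun F : EtModW.Mod Λ X => EtModW.IsConstructible Λ F) where
  exists_zero := ⟨0, isZero_zero _, isConstructible_of_isZero Λ (isZero_zero _)⟩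
  kernels_le := by
    rintro _ ⟨f, k, hk, h₁, h₂⟩
    exact isConstructible_of_iso Λ
      (IsLimit.conePointUniqueUpToIso (limit.isLimit _) hk) (isConstructible_kernel Λ f h₁ h₂)
  cokernels_le := by
    rintro _ ⟨f, k, hk, h₁, h₂⟩
    exact isConstructible_of_iso Λ
      (IsColimit.coconePointUniqueUpToIso (colimit.isColimit _) hk)
      (isConstructible_cokernel Λ f h₁ h₂)
  prop_X₂_of_shortExact hT h₁ h₃ := isConstructible_ext Λ _ hT h₁ h₃


end Groth.Agent.Lib.Helper57.ModCons
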