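import Groth.Agent.Lib.Helper57.SubConsSheaf
import Groth.Agent.Lib.Helper57.ConsClosure
import Groth.Agent.Lib.Helper4.LocConstKer
import Groth.Agent.Lib.Helper4.OverEt

set_option autoImplicit false
open CategoryTheory CategoryTheory.Limits AlgebraicGeometry Opposite Topology TopologicalSpace
universe u

noncomputable section

namespace Groth.Agent.Lib.Helper57.SubCons

open Groth.Agent.Lib.Helper4 Groth.Agent.Lib.Helper4.LocConst Groth.Agent.Lib.Helper4.Strata
  Groth.Agent.Lib.Helper57.ConsClosure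

theorem exists_etale_const_sub {T : Scheme.{u}} [IsLocallyNoetherian T] (η : T)
    (hη : closure {η} = Set.univ) {F G : EtCoh.Ab T} (ι : G ⟶ F) [Mono ι]
    (hF : EtCoh.IsFiniteLocallyConstant F) :
    ∃ (Z : T.Etale) (z : Z.left) (N : AddCommGrpCat.{u + 1}), Z.hom.base z = η ∧ Finite N ∧
      Nonempty (EtCoh.restr G Z ≅
        (constantSheaf (T.smallEtaleTopology.over Z) AddCommGrpCat.{u + 1}).obj N) := by
  obtain ⟨κ, U, hU, hM⟩ := hF
  obtain ⟨i, y, hy⟩ := hU η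
  obtain ⟨M₀, iM, fM, ⟨α⟩⟩ := hM i
  obtain ⟨a, ha⟩ := exists_isConstAt_of_iso F (U i) _ α
  haveI : Finite (AddCommGrpCat.of (ULift.{u + 1} M₀)) :=
    inferInstanceAs (Finite (ULift.{u + 1} M₀))
  haveI : Etale (U i).hom := (U i).prop
  haveI : IsLocallyNoetherian (U i).left :=
    LocallyOfFiniteType.isLocallyNoetherian (Y := T) (U i).hom
  have hgen := no_generization_of_etale (U i).hom η hη y hy
  obtain ⟨A, hA, hyA⟩ : ∃ A : (U i).left.Opens, IsAffineOpen A ∧ y ∈ A := by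
    obtain ⟨A, hA, hyA, -⟩ := TopologicalSpace.Opens.isBasis_iff_nbhd.1
      (U i).left.isBasis_affineOpens (show y ∈ (⊤ : (U i).left.Opens) from trivial)
    exact ⟨A, hA, hyA⟩
  haveI : IsNoetherianRing Γ((U i).left, A) := IsLocallyNoetherian.component_noetherian ⟨A, hA⟩
  haveI h1 : NoetherianSpace A := noetherianSpace_of_isAffineOpen A hA
  haveI h1' : NoetherianSpace ↥(A : Set (U i).left) := h1
  haveI h2 : QuasiSober ↥(A : Set (U i).left) := A.isOpen.isOpenEmbedding_subtypeVal.quasiSober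
  have hgenA : ∀ c : ↥(A : Set (U i).left), c ⤳ ⟨y, hyA⟩ → c = ⟨y, hyA⟩ := by
    intro c hc
    exact Subtype.ext (hgen c.1 ((subtype_specializes_iff _ _).1 hc))
  obtain ⟨OA, hOA, hyOA, hOAc⟩ :=
    exists_open_subset_closure (⟨y, hyA⟩ : ↥(A : Set (U i).left)) hgenA
  let O : Set (U i).left := Subtype.val '' OA
  have hO : IsOpen O := A.isOpen.isOpenMap_subtype_val OA hOA
  have hyO : y ∈ O := ⟨⟨y, hyA⟩, hyOA, rfl⟩
  have hOc : O ⊆ closure {y} := by
    rintro _ ⟨c, hc, rfl⟩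
    have := hOAc hc
    rw [Topology.IsEmbedding.subtypeVal.closure_eq_preimage_closure_image,
      Set.image_singleton] at this
    exact this
  obtain ⟨Z, h, z, N, b, hz, hN, hb⟩ := exists_isConstAt_sub ι (U i) y a ha O hO hyO hOc
  refine ⟨Z, z, N, ?_, hN, ⟨hb.iso.symm⟩⟩
  have e : h.left ≫ (U i).hom = Z.hom := MorphismProperty.Over.w h
  rw [← e, Scheme.Hom.comp_base]
  change (U i).hom.base (h.left.base z) = η
  rw [hz, hy]

theorem sub_local {X : Scheme.{u}} [IsLocallyNoetherian X] {F G : EtCoh.Ab X} (ι : G ⟶ F)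
    [Mono ι] (hF : EtPBC.IsConstructible F) (x : X) :
    ∃ (V : X.Opens) (T : Scheme.{u}) (g : T ⟶ X), IsImmersion g ∧ x ∈ V ∧
        Set.range g.base = (V : Set X) ∩ closure {x} ∧
        EtCoh.IsFiniteLocallyConstant ((EtCoh.pull g).obj G) := by
  obtain ⟨V₀, T₀, g₀, hg₀, hxV₀, hrange, hflc⟩ := local_of_isConstructible F hF x
  haveI := hg₀
  haveI : IsLocallyNoetherian T₀ := LocallyOfFiniteType.isLocallyNoetherian g₀
  obtain ⟨η, hη⟩ : ∃ η : T₀, g₀.base η = x := by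
    have : x ∈ Set.range g₀.base := by
      rw [hrange]
      exact ⟨hxV₀, subset_closure rfl⟩
    exact this
  have hηc : closure {η} = Set.univ := by
    rw [g₀.isEmbedding.closure_eq_preimage_closure_image, Set.image_singleton]
    apply Set.eq_univ_of_forall
    intro t
    have : g₀.base t ∈ Set.range g₀.base := ⟨t, rfl⟩
    rw [hrange] at this
    change g₀.base t ∈ closure {g₀.base η}
    rw [hη]
    exact this.2
  haveI : PreservesFiniteLimits (EtCoh.pull g₀) := EtStalk.preservesFiniteLimits_pull g₀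
  haveI : Mono ((EtCoh.pull g₀).map ι) := inferInstance
  obtain ⟨Z, z, N, hz, hN, ⟨β⟩⟩ := exists_etale_const_sub η hηc ((EtCoh.pull g₀).map ι) hflc
  haveI : Etale Z.hom := Z.prop
  let W : T₀.Opens := ⟨Set.range Z.hom.base, Z.hom.isOpenMap.isOpen_range⟩
  have hηW : η ∈ W := ⟨z, hz⟩
  have hflcW : EtCoh.IsFiniteLocallyConstant
      ((EtCoh.pull W.ι).obj ((EtCoh.pull g₀).obj G)) := by
    apply LocConst.flc_of_pointwise
    intro w
    obtain ⟨z', hz'⟩ := w.2
    have hsub : Set.range Z.hom.base ⊆ Set.range W.ι.base := by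
      rw [Scheme.Opens.range_ι]
      exact subset_rfl
    let ℓ : Z.left ⟶ W.toScheme := IsOpenImmersion.lift W.ι Z.hom hsub
    have hℓ : ℓ ≫ W.ι = Z.hom := IsOpenImmersion.lift_fac _ _ _
    haveI : Etale ℓ := EtCoh.etaleMP.of_postcomp (W' := EtCoh.etaleMP) ℓ W.ι
      (inferInstance : Etale W.ι) (by rw [hℓ]; exact Z.prop)
    let V' : W.toScheme.Etale := Scheme.Etale.mk ℓ
    refine ⟨V', z', ?_, N, hN, ?_⟩
    · apply W.ι.isEmbedding.injective
      change (ℓ ≫ W.ι).base z' = W.ι.base w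
      rw [hℓ]
      exact hz'
    · apply (OverEt.restr_iso_const_iff V' _ N).2
      obtain ⟨β'⟩ := (OverEt.restr_iso_const_iff Z _ N).1 ⟨β⟩
      have key : Nonempty ((EtCoh.pull (ℓ ≫ W.ι)).obj ((EtCoh.pull g₀).obj G) ≅
          (constantSheaf Z.left.smallEtaleTopology AddCommGrpCat.{u + 1}).obj N) := by
        rw [hℓ]
        exact ⟨β'⟩
      obtain ⟨β''⟩ := key
      exact ⟨((EtCore.pullComp ℓ W.ι).app _).symm ≪≫ β''⟩
  obtain ⟨V₁, hV₁, hV₁eq⟩ := g₀.isEmbedding.isInducing.isOpen_iff.1 W.isOpen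
  let V : X.Opens := ⟨V₁, hV₁⟩ ⊓ V₀
  have hxV₁ : x ∈ V₁ := by
    have : η ∈ g₀.base ⁻¹' V₁ := by
      rw [hV₁eq]
      exact hηW
    rw [← hη]
    exact this
  refine ⟨V, W.toScheme, W.ι ≫ g₀, inferInstance, ⟨hxV₁, hxV₀⟩, ?_,
    FlcPull.isFiniteLocallyConstant_of_iso ((EtCore.pullComp W.ι g₀).app G).symm hflcW⟩
  have h1 : Set.range (W.ι ≫ g₀).base = g₀.base '' (W : Set T₀) := by
    rw [Scheme.Hom.comp_base, TopCat.coe_comp, Set.range_comp, Scheme.Opens.range_ι]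
  rw [h1, ← hV₁eq, Set.image_preimage_eq_inter_range, hrange]
  ext t
  constructor
  · rintro ⟨h1, h2, h3⟩
    exact ⟨⟨h1, h2⟩, h3⟩
  · rintro ⟨⟨h1, h2⟩, h3⟩
    exact ⟨h1, h2, h3⟩

theorem isConstructible_of_mono {X : Scheme.{u}} [IsLocallyNoetherian X] {F G : EtCoh.Ab X}
    (ι : G ⟶ F) [Mono ι] (hF : EtPBC.IsConstructible F) : EtPBC.IsConstructible G :=
  isConstructible_of_local G (fun x => sub_local ι hF x)

end Groth.Agent.Lib.Helper57.SubCons
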