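import Groth.Agent.Lib.Helper37.EtaleFibres
import Mathlib.Topology.NoetherianSpace
import Mathlib.Topology.Sober

set_option autoImplicit false
open CategoryTheory CategoryTheory.Limits AlgebraicGeometry Opposite Topology TopologicalSpace
universe u

namespace Groth.Agent.Lib.Helper57.SubCons

theorem exists_open_subset_closure {A : Type*} [TopologicalSpace A] [NoetherianSpace A]
    [QuasiSober A] (u : A) (hu : ∀ c : A, c ⤳ u → c = u) :
    ∃ O : Set A, IsOpen O ∧ u ∈ O ∧ O ⊆ closure {u} := by
  let B : Set A := ⋃₀ {C | C ∈ irreducibleComponents A ∧ u ∉ C}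
  have hBclosed : IsClosed B := by
    have hfin : {C | C ∈ irreducibleComponents A ∧ u ∉ C}.Finite :=
      NoetherianSpace.finite_irreducibleComponents.subset (fun C hC => hC.1)
    change IsClosed (⋃₀ {C | C ∈ irreducibleComponents A ∧ u ∉ C})
    rw [Set.sUnion_eq_biUnion]
    exact hfin.isClosed_biUnion (fun C hC => isClosed_of_mem_irreducibleComponents C hC.1)
  refine ⟨Bᶜ, hBclosed.isOpen_compl, ?_, ?_⟩
  · rintro ⟨C, ⟨-, huC⟩, huC'⟩
    exact huC huC'
  · intro a ha
    obtain ⟨C, hC, haC⟩ : ∃ C ∈ irreducibleComponents A, a ∈ C := by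
      have h : a ∈ ⋃₀ irreducibleComponents A := by
        rw [sUnion_irreducibleComponents]
        trivial
      exact h
    have huC : u ∈ C := by
      by_contra h
      exact ha ⟨C, ⟨hC, h⟩, haC⟩
    obtain ⟨c, hc⟩ := QuasiSober.sober hC.1 (isClosed_of_mem_irreducibleComponents C hC)
    have hcu : c ⤳ u := by
      rw [specializes_iff_mem_closure, hc.def]
      exact huC
    rw [hu c hcu] at hc
    rw [hc.def]
    exact haC

theorem no_generization_of_etale {U T : Scheme.{u}} (f : U ⟶ T) [Etale f] (η : T)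
    (hη : closure {η} = Set.univ) (x : U) (hx : f.base x = η) : ∀ c : U, c ⤳ x → c = x := by
  intro c hc
  have h1 : f.base c ⤳ η := by
    rw [← hx]
    exact hc.map f.continuous
  have h2 : η ⤳ f.base c := by
    rw [specializes_iff_mem_closure, hη]
    trivial
  have h3 : f.base c = η := (h1.antisymm h2).eq
  haveI := Groth.Agent.Lib.Helper37.EtaleFibres.locallyQuasiFinite_of_etale f
  have hd : _root_.IsDiscrete (f ⁻¹' {η}) := f.isDiscrete_preimage_singleton η
  haveI : DiscreteTopology (f ⁻¹' {η} : Set U) := hd.to_subtype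
  have h4 : (⟨c, h3⟩ : (f ⁻¹' {η} : Set U)) ⤳ ⟨x, hx⟩ := (subtype_specializes_iff _ _).2 hc
  have h5 := h4.eq
  exact congrArg Subtype.val h5

/-- in a nonempty-open-contains-`u` neighbourhood -/
theorem mem_of_open_of_subset_closure {A : Type*} [TopologicalSpace A] {u : A} {O V : Set A}
    (hO : O ⊆ closure {u}) (hV : IsOpen V) (hne : (V ∩ O).Nonempty) : u ∈ V := by
  obtain ⟨a, haV, haO⟩ := hne
  have := hO haO
  obtain ⟨z, hzV, hz⟩ := mem_closure_iff.1 this V hV haV
  rw [Set.mem_singleton_iff] at hz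
  rwa [hz] at hzV

end Groth.Agent.Lib.Helper57.SubCons
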