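import Groth.Agent.Lib.Helper4.LocConstEt
import Groth.Agent.Lib.Helper57.SubConsTop

set_option autoImplicit false
open CategoryTheory CategoryTheory.Limits AlgebraicGeometry Opposite
universe u

noncomputable section

namespace Groth.Agent.Lib.Helper57.SubCons

open Groth.Agent.Lib.Helper4 Groth.Agent.Lib.Helper4.LocConst

variable {T : Scheme.{u}}

theorem etale_left {P Z : T.Etale} (h : Z ⟶ P) : Etale h.left := by
  have e : h.left ≫ P.hom = Z.hom := MorphismProperty.Over.w h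
  have hW : EtCoh.etaleMP (h.left ≫ P.hom) := by
    rw [e]; exact Z.prop
  exact EtCoh.etaleMP.of_postcomp (W' := EtCoh.etaleMP) h.left P.hom P.prop hW

theorem exists_common_refinement_over (P : T.Etale) {Z₁ Z₂ : T.Etale} (h₁ : Z₁ ⟶ P)
    (h₂ : Z₂ ⟶ P) (z₁ : Z₁.left) (z₂ : Z₂.left) (hz : h₁.left.base z₁ = h₂.left.base z₂) :
    ∃ (Z : T.Etale) (g₁ : Z ⟶ Z₁) (g₂ : Z ⟶ Z₂) (z : Z.left),
      g₁ ≫ h₁ = g₂ ≫ h₂ ∧ g₁.left.base z = z₁ ∧ g₂.left.base z = z₂ := by
  haveI : Etale h₂.left := etale_left h₂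
  haveI : Etale Z₁.hom := Z₁.prop
  obtain ⟨z, hz1, hz2⟩ := Scheme.Pullback.exists_preimage_pullback (f := h₁.left) (g := h₂.left)
    z₁ z₂ hz
  have e₁ : h₁.left ≫ P.hom = Z₁.hom := MorphismProperty.Over.w h₁
  have e₂ : h₂.left ≫ P.hom = Z₂.hom := MorphismProperty.Over.w h₂
  refine ⟨Scheme.Etale.mk (pullback.fst h₁.left h₂.left ≫ Z₁.hom),
    MorphismProperty.Over.homMk (pullback.fst h₁.left h₂.left) rfl trivial,
    MorphismProperty.Over.homMk (pullback.snd h₁.left h₂.left) ?_ trivial, z, ?_, hz1, hz2⟩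
  · change pullback.snd h₁.left h₂.left ≫ Z₂.hom = pullback.fst h₁.left h₂.left ≫ Z₁.hom
    rw [← e₁, ← e₂, ← Category.assoc, ← Category.assoc, pullback.condition]
  · apply MorphismProperty.Over.Hom.ext
    exact pullback.condition

variable {F G : EtCoh.Ab T} (ι : G ⟶ F)

/-- a section of `F` comes from `G` -/
def InG (W : T.Etale) (s : F.obj.obj (op W)) : Prop :=
  ∃ t : G.obj.obj (op W), (ι.hom.app (op W)).hom t = s

theorem InG.map {W W' : T.Etale} (g : W' ⟶ W) {s : F.obj.obj (op W)} (h : InG ι W s) :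
    InG ι W' ((F.obj.map g.op).hom s) := by
  obtain ⟨t, rfl⟩ := h
  refine ⟨(G.obj.map g.op).hom t, ?_⟩
  have hnat := congrArg (fun k => k.hom t) (ι.hom.naturality g.op)
  exact hnat

theorem app_injective [Mono ι] (W : T.Etale) : Function.Injective (ι.hom.app (op W)).hom := by
  haveI : Mono ι.hom := by
    have : Mono ((sheafToPresheaf _ _).map ι) := inferInstance
    exact this
  haveI : Mono (ι.hom.app (op W)) := inferInstance
  exact (AddCommGrpCat.mono_iff_injective _).1 inferInstance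

theorem nat_apply {W W' : T.Etale} (g : W' ⟶ W) (t : G.obj.obj (op W)) :
    (ι.hom.app (op W')).hom ((G.obj.map g.op).hom t) =
      (F.obj.map g.op).hom ((ι.hom.app (op W)).hom t) :=
  congrArg (fun k => k.hom t) (ι.hom.naturality g.op)

theorem map_comp_apply (H : EtCoh.Ab T) {A B C : T.Etale} (g : A ⟶ B) (h : B ⟶ C)
    (s : H.obj.obj (op C)) :
    (H.obj.map (g ≫ h).op).hom s = (H.obj.map g.op).hom ((H.obj.map h.op).hom s) := by
  rw [op_comp, H.obj.map_comp]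
  rfl

theorem exists_isConstAt_sub [Mono ι] (P : T.Etale) (p₀ : P.left) {M : AddCommGrpCat.{u + 1}}
    [Finite M] (a : M ⟶ F.obj.obj (op P)) (ha : IsConstAt F P a)
    (O : Set P.left) (hO : IsOpen O) (hpO : p₀ ∈ O) (hOc : O ⊆ closure {p₀}) :
    ∃ (Z : T.Etale) (h : Z ⟶ P) (z : Z.left) (N : AddCommGrpCat.{u + 1})
      (b : N ⟶ G.obj.obj (op Z)), h.left.base z = p₀ ∧ Finite N ∧ IsConstAt G Z b := by
  classical
  let N₀ : Set M := {m | ∃ (W : T.Etale) (w : W ⟶ P) (q : W.left), w.left.base q = p₀ ∧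
    InG ι W ((F.obj.map w.op).hom (a.hom m))}
  have step2 : ∀ s : Finset M, ∃ (Z : T.Etale) (h : Z ⟶ P) (z : Z.left), h.left.base z = p₀ ∧
      ∀ m ∈ s, m ∈ N₀ → InG ι Z ((F.obj.map h.op).hom (a.hom m)) := by
    intro s
    induction s using Finset.induction_on with
    | empty => exact ⟨P, 𝟙 P, p₀, rfl, fun m hm => by simp at hm⟩
    | insert b t hb ih =>
      obtain ⟨Z, h, z, hz, hZ⟩ := ih
      by_cases hbN : b ∈ N₀
      · obtain ⟨W, w, q, hq, hW⟩ := hbN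
        obtain ⟨Z', g₁, g₂, z', hcomm, hz1, hz2⟩ :=
          exists_common_refinement_over P h w z q (hz.trans hq.symm)
        refine ⟨Z', g₁ ≫ h, z', ?_, ?_⟩
        · change h.left.base (g₁.left.base z') = p₀
          rw [hz1, hz]
        · intro m hm hmN
          rcases Finset.mem_insert.1 hm with rfl | hm
          · rw [hcomm, map_comp_apply]
            exact hW.map ι g₂
          · rw [map_comp_apply]
            exact (hZ m hm hmN).map ι g₁
      · refine ⟨Z, h, z, hz, ?_⟩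
        intro m hm hmN
        rcases Finset.mem_insert.1 hm with rfl | hm
        · exact (hbN hmN).elim
        · exact hZ m hm hmN
  haveI := Fintype.ofFinite M
  obtain ⟨Z₁, h₁, z₁, hz₁, hZ₁⟩ := step2 Finset.univ
  haveI : Etale Z₁.hom := Z₁.prop
  let W₀ : Z₁.left.Opens := h₁.left ⁻¹ᵁ ⟨O, hO⟩
  let Z₂ : T.Etale := Scheme.Etale.mk (W₀.ι ≫ Z₁.hom)
  let g : Z₂ ⟶ Z₁ := MorphismProperty.Over.homMk W₀.ι rfl trivial
  have hz₁O : z₁ ∈ W₀ := by
    change h₁.left.base z₁ ∈ O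
    rw [hz₁]
    exact hpO
  let z₂ : Z₂.left := ⟨z₁, hz₁O⟩
  let h₂ : Z₂ ⟶ P := g ≫ h₁
  have hz₂ : h₂.left.base z₂ = p₀ := hz₁
  have hZ₂ : ∀ m ∈ N₀, InG ι Z₂ ((F.obj.map h₂.op).hom (a.hom m)) := by
    intro m hm
    rw [map_comp_apply]
    exact (hZ₁ m (Finset.mem_univ m) hm).map ι g
  have hb : ∀ (W' : T.Etale) (k : W' ⟶ Z₂) (q : W'.left) (m : M),
      InG ι W' ((F.obj.map (k ≫ h₂).op).hom (a.hom m)) → m ∈ N₀ := by
    intro W' k q m hm
    haveI : Etale (k ≫ h₂).left := etale_left (k ≫ h₂)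
    have hV : IsOpen (Set.range (k ≫ h₂).left.base) := (k ≫ h₂).left.isOpenMap.isOpen_range
    have hq : (k ≫ h₂).left.base q ∈ O := (k.left.base q).2
    have hp : p₀ ∈ Set.range (k ≫ h₂).left.base :=
      mem_of_open_of_subset_closure hOc hV ⟨_, ⟨q, rfl⟩, hq⟩
    obtain ⟨q', hq'⟩ := hp
    exact ⟨W', k ≫ h₂, q', hq', hm⟩
  let φ : M →+ F.obj.obj (op Z₂) := (a ≫ F.obj.map h₂.op).hom
  let R : AddSubgroup (F.obj.obj (op Z₂)) := (ι.hom.app (op Z₂)).hom.range
  let Nsub : AddSubgroup M := R.comap φ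
  have hN_iff : ∀ m : M, m ∈ Nsub ↔ m ∈ N₀ := by
    intro m
    constructor
    · rintro ⟨t, ht⟩
      refine hb Z₂ (𝟙 Z₂) z₂ m ?_
      rw [Category.id_comp]
      exact ⟨t, ht⟩
    · intro hm
      obtain ⟨t, ht⟩ := hZ₂ m hm
      exact ⟨t, ht⟩
  have hinj := app_injective ι Z₂
  let e : G.obj.obj (op Z₂) ≃+ R := AddMonoidHom.ofInjective hinj
  let b₀ : Nsub →+ G.obj.obj (op Z₂) :=
    e.symm.toAddMonoidHom.comp ((φ.comp Nsub.subtype).codRestrict R (fun n => n.2))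
  have hb₀ : ∀ n : Nsub, (ι.hom.app (op Z₂)).hom (b₀ n) = φ n := by
    intro n
    exact AddMonoidHom.apply_ofInjective_symm hinj (⟨φ n, n.2⟩ : R)
  have hφ : ∀ m : M, φ m = (F.obj.map h₂.op).hom (a.hom m) := fun m => rfl
  refine ⟨Z₂, h₂, z₂, AddCommGrpCat.of Nsub, AddCommGrpCat.ofHom b₀, hz₂, ?_, ⟨?_, ?_⟩⟩
  · exact Finite.of_injective (fun n : Nsub => (n : M)) Subtype.val_injective
  · intro W k n hn
    have h0 : (F.obj.map (k ≫ h₂).op).hom (a.hom (n : M)) = 0 := by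
      rw [map_comp_apply, ← hφ, ← hb₀, ← nat_apply]
      have : (G.obj.map k.op).hom (b₀ n) = 0 := hn
      rw [this, map_zero]
    rcases ha.inj W (k ≫ h₂) (n : M) h0 with h | h
    · left
      exact Subtype.ext h
    · right
      exact h
  · intro W k s
    obtain ⟨S₀, hS₀, hS₀'⟩ := ha.surj W (k ≫ h₂) ((ι.hom.app (op W)).hom s)
    let S : Sieve W :=
      { arrows := fun Z' l => ∃ n : Nsub,
          (G.obj.map l.op).hom s = (G.obj.map (l ≫ k).op).hom (b₀ n)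
        downward_closed := by
          rintro Y Z' l ⟨n, hn⟩ l'
          refine ⟨n, ?_⟩
          rw [map_comp_apply, hn, Category.assoc, map_comp_apply G l' (l ≫ k)] }
    refine ⟨S, ?_, fun Z' l hl => hl⟩
    rw [OverEt.mem_iff_forall_exists]
    intro x
    obtain ⟨Z', l, t, hl, hlt⟩ := (OverEt.mem_iff_forall_exists W S₀).1 hS₀ x
    obtain ⟨m, hm⟩ := hS₀' Z' l hl
    have hm' : (F.obj.map l.op).hom ((ι.hom.app (op W)).hom s) =
        (F.obj.map (l ≫ k ≫ h₂).op).hom (a.hom m) := hm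
    have hInG : InG ι Z' ((F.obj.map ((l ≫ k) ≫ h₂).op).hom (a.hom m)) := by
      refine ⟨(G.obj.map l.op).hom s, ?_⟩
      rw [nat_apply, hm', Category.assoc]
    have hmN : m ∈ Nsub := (hN_iff m).2 (hb Z' (l ≫ k) t m hInG)
    refine ⟨Z', l, t, ⟨⟨m, hmN⟩, ?_⟩, hlt⟩
    apply app_injective ι Z'
    rw [nat_apply, hm', nat_apply, hb₀, hφ, ← map_comp_apply, Category.assoc]

end Groth.Agent.Lib.Helper57.SubCons
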