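import Groth.Agent.Lib.Helper57.ModTopInv
import Groth.Agent.Lib.Helper4.LocConstKerMod
import Groth.Agent.Lib.Helper57.ModCons

set_option autoImplicit false
open CategoryTheory CategoryTheory.Limits AlgebraicGeometry Opposite
universe u

noncomputable section

namespace Groth.Agent.Lib.Helper57.ModTopInv

open Groth.Agent.Lib.Helper4 Groth.Agent.Lib.Helper57.IntStalk Groth.Agent.Lib.Helper57.ModLC
  Groth.Agent.Lib.Helper57.ARStalk Groth.Agent.Lib.Helper57.ARCrit Groth.Agent.Lib.Helper57.ModCons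

variable (Λ : Type (u + 1)) [CommRing Λ]

/-- Topological invariance for finite type locally constant sheaves. -/
theorem isFTLocConst_of_pull {Z W : Scheme.{u}} (ι : Z ⟶ W) [IsClosedImmersion ι] [Surjective ι]
    (H : EtModW.Mod Λ W) (hH : EtModW.IsFTLocConst Λ ((EtModW.pull Λ ι).obj H)) :
    EtModW.IsFTLocConst Λ H := by
  apply LocConstMod.ft_of_pointwise
  intro w
  obtain ⟨z, rfl⟩ := ι.surjective w
  obtain ⟨κ, U, hU, hM⟩ := hH
  obtain ⟨i, y, hy⟩ := hU z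
  obtain ⟨M, iM, mM, fM, ⟨α⟩⟩ := hM i
  haveI : Etale (U i).hom := (U i).prop
  obtain ⟨V, j, g, hg, hj, hpb⟩ := EtLift.exists_isPullback ι (U i).hom
  haveI := hg
  haveI : IsClosedImmersion j := hj.1
  haveI : Surjective j := hj.2
  refine ⟨Scheme.Etale.mk g, j.base y, ?_, ModuleCat.of Λ M, fM, ?_⟩
  · change (j ≫ g).base y = _
    rw [hpb.w, ← hy]
    rfl
  · apply (ModLC.restr_iso_const_iff Λ (Scheme.Etale.mk g) H _).2
    obtain ⟨β⟩ := (ModLC.restr_iso_const_iff Λ (U i) _ _).1 ⟨α⟩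
    exact const_of_pull_const Λ j ((EtModW.pull Λ g).obj H) _
      (((pullComp Λ j g).app H).symm ≪≫ (pullCongr Λ hpb.w).app H ≪≫
        (pullComp Λ (U i).hom ι).app H ≪≫ β)

/-- Finite type local constancy is Zariski local. -/
theorem isFTLocConst_of_open_cover {X : Scheme.{u}} (H : EtModW.Mod Λ X) (U : X.Opens)
    (hH : ∀ x ∈ U, ∃ W : X.Opens, x ∈ W ∧ W ≤ U ∧
      EtModW.IsFTLocConst Λ ((EtModW.pull Λ W.ι).obj H)) :
    EtModW.IsFTLocConst Λ ((EtModW.pull Λ U.ι).obj H) := by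
  apply LocConstMod.ft_of_pointwise
  intro x
  obtain ⟨W, hxW, hWU, κ, V, hV, hM⟩ := hH x.1 x.2
  obtain ⟨k, y, hy⟩ := hV ⟨x.1, hxW⟩
  obtain ⟨M, iM, mM, fM, ⟨α⟩⟩ := hM k
  haveI : Etale (V k).hom := (V k).prop
  have hsub : Set.range ((V k).hom ≫ W.ι).base ⊆ Set.range U.ι.base := by
    rw [Scheme.Opens.range_ι]
    rintro _ ⟨a, rfl⟩
    exact hWU ((V k).hom.base a).2
  let ℓ : (V k).left ⟶ U.toScheme := IsOpenImmersion.lift U.ι ((V k).hom ≫ W.ι) hsub
  have hℓ : ℓ ≫ U.ι = (V k).hom ≫ W.ι := IsOpenImmersion.lift_fac _ _ _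
  haveI : Etale ℓ := EtCoh.etaleMP.of_postcomp (W' := EtCoh.etaleMP) ℓ U.ι
    (inferInstance : Etale U.ι) (by rw [hℓ]; exact (inferInstance : Etale ((V k).hom ≫ W.ι)))
  refine ⟨Scheme.Etale.mk ℓ, y, ?_, ModuleCat.of Λ M, fM, ?_⟩
  · apply U.ι.isEmbedding.injective
    change (ℓ ≫ U.ι).base y = U.ι.base x
    rw [hℓ]
    change W.ι.base ((V k).hom.base y) = x.1
    rw [hy]
    rfl
  · apply (ModLC.restr_iso_const_iff Λ (Scheme.Etale.mk ℓ) _ _).2
    obtain ⟨β⟩ := (ModLC.restr_iso_const_iff Λ (V k) _ _).1 ⟨α⟩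
    exact ⟨((pullComp Λ ℓ U.ι).app H).symm ≪≫ (pullCongr Λ hℓ).app H ≪≫
      (pullComp Λ (V k).hom W.ι).app H ≪≫ β⟩

/-- If `F` is finite type locally constant along an immersion `g`, it is so on every open
contained in the range of `g`. -/
theorem isFTLocConst_of_immersion {X T : Scheme.{u}} (g : T ⟶ X) [IsImmersion g]
    (F : EtModW.Mod Λ X) (hF : EtModW.IsFTLocConst Λ ((EtModW.pull Λ g).obj F))
    (W : X.Opens) (hW : (W : Set X) ⊆ Set.range g.base) :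
    EtModW.IsFTLocConst Λ ((EtModW.pull Λ W.ι).obj F) := by
  haveI : Surjective (g ∣_ W) := by
    constructor
    intro w
    obtain ⟨t, ht⟩ := hW w.2
    refine ⟨⟨t, ?_⟩, ?_⟩
    · change g.base t ∈ W
      rw [ht]
      exact w.2
    · apply Subtype.ext
      rw [morphismRestrict_base_coe]
      exact ht
  haveI : IsClosedImmersion (g ∣_ W) := by
    apply IsClosedImmersion.of_isPreimmersion
    rw [Set.range_eq_univ.2 (g ∣_ W).surjective]
    exact isClosed_univ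
  apply isFTLocConst_of_pull Λ (g ∣_ W)
  have h1 : EtModW.IsFTLocConst Λ ((EtModW.pull Λ (g ⁻¹ᵁ W).ι).obj ((EtModW.pull Λ g).obj F)) :=
    isFTLocConst_pull Λ _ _ hF
  have w : (g ∣_ W) ≫ W.ι = (g ⁻¹ᵁ W).ι ≫ g := morphismRestrict_ι g W
  exact isFTLocConst_of_iso Λ (((pullComp Λ (g ⁻¹ᵁ W).ι g).app F).symm ≪≫
    (pullCongr Λ w.symm).app F ≪≫ (pullComp Λ (g ∣_ W) W.ι).app F) h1

end Groth.Agent.Lib.Helper57.ModTopInv
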