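import Groth.Agent.Lib.Helper57.AdicUnif4
import Groth.Agent.Lib.Helper57.ModConsACC
import Groth.Agent.Lib.Helper57.AdicStrata

set_option autoImplicit false
open CategoryTheory CategoryTheory.Limits AlgebraicGeometry Opposite
universe u

noncomputable section

namespace Groth.Agent.Lib.Helper57.ModUnifStrata

open Groth.Agent.Lib.Helper4 Groth.Agent.Lib.Helper57.ModCons Groth.Agent.Lib.Helper57.AdicUnif
  Groth.Agent.Lib.Helper57.AdicStrata Groth.Agent.Lib.Helper57.ModConsACC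
open Groth.Agent.Lib.Helper13.EtModPullExact

variable (Λ : Type (u + 1)) [CommRing Λ] [IsNoetherianRing Λ] {X : Scheme.{u}}

/-- sheaves becoming finite type locally constant after pullback form a weak Serre class -/
theorem ws_pull {T : Scheme.{u}} (g : T ⟶ X) :
    WS (fun G : EtModW.Mod Λ X => EtModW.IsFTLocConst Λ ((EtModW.pull Λ g).obj G)) where
  iso e h := isFTLocConst_of_iso Λ ((EtModW.pull Λ g).mapIso e) h
  ker S hS hm h2 h3 := by
    haveI := hm
    have e : S.X₁ ≅ kernel S.g :=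
      IsLimit.conePointUniqueUpToIso hS.fIsKernel (limit.isLimit (parallelPair S.g 0))
    exact isFTLocConst_of_iso Λ ((EtModW.pull Λ g).mapIso e.symm) (ft_pull_kernel Λ S.g g h2 h3)
  coker S hS he h1 h2 := by
    haveI := he
    have e : S.X₃ ≅ cokernel S.f :=
      IsColimit.coconePointUniqueUpToIso hS.gIsCokernel (colimit.isColimit (parallelPair S.f 0))
    exact isFTLocConst_of_iso Λ ((EtModW.pull Λ g).mapIso e.symm)
      (ft_pull_cokernel Λ S.f g h1 h2)
  ext S hS h1 h3 := ft_pull_ext Λ S hS g h1 h3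
  zero G hG := isFTLocConst_of_isZero Λ (Functor.map_isZero (EtModW.pull Λ g) hG)

omit [IsNoetherianRing Λ] in
theorem strata_univ [CompactSpace X] [QuasiSeparatedSpace X] (F : EtModW.Mod Λ X)
    (hF : EtModW.IsConstructible Λ F) : Strata Λ F Set.univ := by
  have hcov : (Set.univ : Set X) ⊆ ⋃ U : X.affineOpens, (U.1 : Set X) := by
    intro x _
    obtain ⟨U, hU, hxU, -⟩ := TopologicalSpace.Opens.isBasis_iff_nbhd.1 X.isBasis_affineOpens
      (show x ∈ (⊤ : X.Opens) from trivial)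
    exact Set.mem_iUnion.2 ⟨⟨U, hU⟩, hxU⟩
  obtain ⟨t, ht⟩ := isCompact_univ.elim_finite_subcover
    (fun U : X.affineOpens => (U.1 : Set X)) (fun U => U.1.isOpen) hcov
  have h := strata_biUnion Λ F t (fun U : X.affineOpens => (U.1 : Set X)) Set.univ
    (isQuasiSeparated_univ_iff.2 inferInstance)
    (fun U _ => ⟨U.1.isOpen, U.2.isCompact, Set.subset_univ _,
      (strata_iff Λ _ _).2 (hF U.1 U.2)⟩)
  have h2 : (⋃ a ∈ t, (a.1 : Set X)) = Set.univ := Set.eq_univ_of_univ_subset ht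
  rwa [h2] at h

omit [IsNoetherianRing Λ] in
theorem pstrata_of_strata (F : EtModW.Mod Λ X) {S : Set X} (h : Strata Λ F S) :
    PStrata (fun T g => EtModW.IsFTLocConst Λ ((EtModW.pull Λ g).obj F)) S := by
  obtain ⟨κ, hκ, T, g, a1, a2, a3, a4, a5⟩ := h
  exact ⟨κ, hκ, T, g, a1, a3, a4, a5⟩

omit [IsNoetherianRing Λ] in
theorem pstrata_family [CompactSpace X] [QuasiSeparatedSpace X] (F : ℕ → EtModW.Mod Λ X)
    (hc : ∀ n, EtModW.IsConstructible Λ (F n)) (M : ℕ) :
    PStrata (fun T g => ∀ k ≤ M, EtModW.IsFTLocConst Λ ((EtModW.pull Λ g).obj (F k)))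
      Set.univ := by
  have base : ∀ k, PStrata (fun T g => EtModW.IsFTLocConst Λ ((EtModW.pull Λ g).obj (F k)))
      Set.univ := fun k => pstrata_of_strata Λ (F k) (strata_univ Λ (F k) (hc k))
  induction M with
  | zero =>
    obtain ⟨κ, hκ, T, g, a1, a3, a4, a5⟩ := base 0
    refine ⟨κ, hκ, T, g, a1, a3, a4, fun i k hk => ?_⟩
    rw [Nat.le_zero.1 hk]
    exact a5 i
  | succ M ih =>
    obtain ⟨κ, hκ, T, g, a1, a3, a4, a5⟩ := pstrata_inter
      (P := fun T g => ∀ k ≤ M, EtModW.IsFTLocConst Λ ((EtModW.pull Λ g).obj (F k)))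
      (Q := fun T g => EtModW.IsFTLocConst Λ ((EtModW.pull Λ g).obj (F (M + 1))))
      (fun c g h k hk => flc_comp Λ (F k) c g (h k hk))
      (fun c g h => flc_comp Λ (F (M + 1)) c g h) ih (base (M + 1))
    refine ⟨κ, hκ, T, g, a1, a3, a4, fun i k hk => ?_⟩
    rcases Nat.lt_or_ge k (M + 1) with h | h
    · exact (a5 i).1 k (Nat.lt_succ_iff.1 h)
    · rw [le_antisymm hk h]
      exact (a5 i).2

/-- uniform strata for an adic system of constructible sheaves of `Λ`-modules -/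
theorem exists_uniform_strata [IsNoetherian X] (I : Ideal Λ) (F : ARSys.PS (EtModW.Mod Λ X))
    (hF : ARSys.IsAdic I F) (hc : ∀ n : ℕ, EtModW.IsConstructible Λ (F.obj (op n))) :
    PStrata (fun T g => ∀ n : ℕ, EtModW.IsFTLocConst Λ ((EtModW.pull Λ g).obj (F.obj (op n))))
      (Set.univ : Set X) := by
  obtain ⟨d, hd⟩ := unif I F hF (fun n => isNoetherianObject_of_isConstructible Λ _ (hc n))
  obtain ⟨κ, hκ, T, g, a1, a3, a4, a5⟩ := pstrata_family Λ (fun n => F.obj (op n)) hc d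
  exact ⟨κ, hκ, T, g, a1, a3, a4, fun i n => hd _ (ws_pull Λ (g i)) (a5 i) n⟩

end Groth.Agent.Lib.Helper57.ModUnifStrata
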