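import Groth.Agent.Lib.Helper57.SepPt
import Groth.Agent.Lib.Helper57.ZarHens3

/-!
# Cohomology of constant sheaves on integral normal schemes with separably closed function field
-/

set_option autoImplicit false
open CategoryTheory CategoryTheory.Limits AlgebraicGeometry Opposite TopologicalSpace
universe u

noncomputable section

namespace Groth.Agent.Lib.Helper57.NormalCoh

open Groth.Agent.Lib.Helper4 Groth.Agent.Lib.Helper69 Groth.Agent.Lib.Helper57.SepPt
  Groth.Agent.Lib.Helper57.ZarHens Groth.Agent.Lib.Helper57.ConstUnit Abelian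

variable {K : Type u} [Field K] [IsSepClosed K]

theorem splitsCovers_sepPt : EtSplit.SplitsCovers (Spec (CommRingCat.of K)) := by
  intro R hR
  have h1 := id_mem_of_mem R hR
  refine ⟨PUnit, fun _ => ⊤, fun i j hij => (hij (Subsingleton.elim _ _)).elim,
    fun x => ⟨PUnit.unit, trivial⟩, fun i => ?_⟩
  have h2 := R.downward_closed h1 (EtSplit.opensHom (⊤ : (Spec (CommRingCat.of K)).Opens))
  rwa [Category.comp_id] at h2

/-- The spectrum of a separably closed field has no higher étale cohomology. -/
theorem subsingleton_H_sepPt (G : EtCoh.Ab (Spec (CommRingCat.of K))) (i : ℕ) (hi : 1 ≤ i) :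
    Subsingleton (EtCoh.H (Spec (CommRingCat.of K)) G i) :=
  EtSplit.H_subsingleton_of_splitsCovers _ splitsCovers_sepPt G i hi

/-- Direct images from the spectrum of a separably closed field have no higher cohomology. -/
theorem subsingleton_H_push_sepPt {Y : Scheme.{u}} (g : Spec (CommRingCat.of K) ⟶ Y)
    (G : EtCoh.Ab (Spec (CommRingCat.of K))) (i : ℕ) (hi : 1 ≤ i) :
    Subsingleton (EtCoh.H Y ((EtCoh.push g).obj G) i) := by
  haveI := EtPushExact.push_preservesFiniteLimits g
  haveI := SepPt.push_preservesFiniteColimits g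
  haveI : PreservesFiniteLimits (EtCoh.pull g) := EtStalk.preservesFiniteLimits_pull g
  have hinj : ∀ I : EtCoh.Ab (Spec (CommRingCat.of K)), Injective I →
      Injective ((EtCoh.push g).obj I) :=
    fun I hI => Injective.injective_of_adjoint (EtCoh.pullPushAdj g) I
  let e2 := ExtAdj.ΘEquiv (EtCoh.pullPushAdj g) hinj (EtCoh.const Y ℤ) G i
  let e1 := extPrecompEquiv (EtCore.pullConst g ℤ) G i
  haveI : Subsingleton (EtCoh.H (Spec (CommRingCat.of K)) G i) := subsingleton_H_sepPt G i hi
  exact (e1.trans e2).symm.toEquiv.subsingleton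

theorem subsingleton_H_of_iso {Y : Scheme.{u}} {F F' : EtCoh.Ab Y} (e : F ≅ F') (i : ℕ)
    (h : Subsingleton (EtCoh.H Y F' i)) : Subsingleton (EtCoh.H Y F i) := by
  have hinj : Function.Injective (Sheaf.H.map e.hom i) := by
    intro x y hxy
    have := congrArg (Sheaf.H.map e.inv i) hxy
    rwa [← Sheaf.H.map_comp_apply, ← Sheaf.H.map_comp_apply, e.hom_inv_id,
      Sheaf.H.map_id_apply, Sheaf.H.map_id_apply] at this
  exact hinj.subsingleton

/-- Constant sheaves on an integral normal scheme with separably closed function field have no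
higher cohomology. -/
theorem subsingleton_H_const {X : Scheme.{u}} [IsIntegral X]
    (hN : ∀ x : X, IsIntegrallyClosed (X.presheaf.stalk x)) [IsSepClosed X.functionField]
    (M : AddCommGrpCat.{u + 1}) (i : ℕ) (hi : 1 ≤ i) :
    Subsingleton (EtCoh.H X (cSh X M) i) := by
  have hg : ∀ s : Spec (X.presheaf.stalk (genericPoint X)),
      X.fromSpecStalk (genericPoint X) s = genericPoint X := by
    intro s
    have h1 : X.fromSpecStalk (genericPoint X) s ∈ Set.range (X.fromSpecStalk (genericPoint X)) :=
      ⟨s, rfl⟩
    rw [Scheme.range_fromSpecStalk] at h1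
    exact (Specializes.antisymm h1 (genericPoint_specializes _)).eq
  have h1 := isIso_unit_of_pointlike hN (X.fromSpecStalk (genericPoint X)) hg M
  haveI : IsIso (φ (X.fromSpecStalk (genericPoint X)) M) := (isIso_unit_iff _ _).1 h1
  have e := asIso (φ (X.fromSpecStalk (genericPoint X)) M)
  exact subsingleton_H_of_iso e i
    (subsingleton_H_push_sepPt (K := X.functionField) (X.fromSpecStalk (genericPoint X))
      (cSh _ M) i hi)

/-- Global sections of a constant sheaf over an irreducible scheme. -/
theorem cs_top_bijective {X : Scheme.{u}} [IrreducibleSpace X] (M : AddCommGrpCat.{u + 1}) :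
    Function.Bijective (cs X M (EtCoh.top X)) := by
  haveI : Nonempty (EtCoh.top X).left := inferInstanceAs (Nonempty X)
  haveI : PreirreducibleSpace (EtCoh.top X).left := inferInstanceAs (PreirreducibleSpace X)
  refine ⟨cs_injective _, fun s => ?_⟩
  obtain ⟨m, hm⟩ := exists_eq_cs_of_preirreducible (EtCoh.top X) s
  exact ⟨m, hm.symm⟩

theorem card_H_zero_const {X : Scheme.{u}} [IrreducibleSpace X] (M : AddCommGrpCat.{u + 1}) :
    Nat.card (EtCoh.H X (cSh X M) 0) = Nat.card M := by
  have e1 := (Sheaf.H.equiv₀ (cSh X M) (EtCore.topIsTerminal X)).toEquiv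
  have e2 := Equiv.ofBijective _ (cs_top_bijective (X := X) M)
  exact (Nat.card_congr e1).trans (Nat.card_congr e2).symm

end Groth.Agent.Lib.Helper57.NormalCoh
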