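import Mathlib
import Groth.Agent.Lib.Helper57.ST3
import Groth.Prelude.Def_EtTens2

set_option autoImplicit false
open CategoryTheory CategoryTheory.Limits AlgebraicGeometry Opposite TensorProduct
universe u

/-! The fibre of a pointwise tensor product of presheaves of abelian groups at a point of the
small étale site is the tensor product of the fibres. -/

namespace Groth.Agent.Lib.Helper57.PF

open Groth.Agent.Lib.Helper57.ST

variable {X : Scheme.{u}} (Φ : GrothendieckTopology.Point.{u} X.smallEtaleTopology)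
  (P Q : X.Etaleᵒᵖ ⥤ AddCommGrpCat.{u + 1})

/-- moving a germ along a morphism of neighbourhoods -/
lemma germ_map (R : X.Etaleᵒᵖ ⥤ AddCommGrpCat.{u + 1}) {U U' : X.Etale} (k : U' ⟶ U)
    (u' : Φ.fiber.obj U') (u : Φ.fiber.obj U) (hk : Φ.fiber.map k u' = u) (r : R.obj (op U)) :
    Φ.toPresheafFiber U' u' R (R.map k.op r) = Φ.toPresheafFiber U u R r := by
  rw [← hk, ← Φ.toPresheafFiber_w_apply]

/-- common refinement of two neighbourhoods -/
lemma exists_refine (U₁ U₂ : X.Etale) (u₁ : Φ.fiber.obj U₁) (u₂ : Φ.fiber.obj U₂) :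
    ∃ (U : X.Etale) (u : Φ.fiber.obj U) (k₁ : U ⟶ U₁) (k₂ : U ⟶ U₂),
      Φ.fiber.map k₁ u = u₁ ∧ Φ.fiber.map k₂ u = u₂ := by
  haveI := Φ.isCofiltered
  let e₁ : Φ.fiber.Elements := ⟨U₁, u₁⟩
  let e₂ : Φ.fiber.Elements := ⟨U₂, u₂⟩
  let m₁ := IsCofiltered.minToLeft e₁ e₂
  let m₂ := IsCofiltered.minToRight e₁ e₂
  exact ⟨(IsCofiltered.min e₁ e₂).1, (IsCofiltered.min e₁ e₂).2, m₁.1, m₂.1, m₁.2, m₂.2⟩

/-- two sections with the same germ agree on a smaller neighbourhood -/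
lemma exists_eq_of_germ_eq (R : X.Etaleᵒᵖ ⥤ AddCommGrpCat.{u + 1}) (U : X.Etale)
    (u : Φ.fiber.obj U) (r r' : R.obj (op U))
    (h : Φ.toPresheafFiber U u R r = Φ.toPresheafFiber U u R r') :
    ∃ (U' : X.Etale) (k : U' ⟶ U) (u' : Φ.fiber.obj U'), Φ.fiber.map k u' = u ∧
      R.map k.op r = R.map k.op r' :=
  (Φ.toPresheafFiber_eq_iff' U u r r').1 h

/-- the germ of a pure tensor -/
noncomputable def gt (U : X.Etale) (u : Φ.fiber.obj U) (p : P.obj (op U)) (q : Q.obj (op U)) :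
    (Φ.presheafFiber.obj (EtTens.tensorObj P Q) : AddCommGrpCat.{u + 1}) :=
  Φ.toPresheafFiber U u (EtTens.tensorObj P Q) (p ⊗ₜ[ℤ] q)

lemma gt_map {U U' : X.Etale} (k : U' ⟶ U) (u' : Φ.fiber.obj U') (u : Φ.fiber.obj U)
    (hk : Φ.fiber.map k u' = u) (p : P.obj (op U)) (q : Q.obj (op U)) :
    gt Φ P Q U' u' (P.map k.op p) (Q.map k.op q) = gt Φ P Q U u p q := by
  unfold gt
  rw [← germ_map Φ (EtTens.tensorObj P Q) k u' u hk (p ⊗ₜ[ℤ] q)]
  rfl

lemma gt_add_left (U : X.Etale) (u : Φ.fiber.obj U) (p p' : P.obj (op U)) (q : Q.obj (op U)) :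
    gt Φ P Q U u (p + p') q = gt Φ P Q U u p q + gt Φ P Q U u p' q := by
  unfold gt
  exact (congrArg (Φ.toPresheafFiber U u (EtTens.tensorObj P Q))
    (TensorProduct.add_tmul p p' q)).trans (map_add _ _ _)

lemma gt_add_right (U : X.Etale) (u : Φ.fiber.obj U) (p : P.obj (op U)) (q q' : Q.obj (op U)) :
    gt Φ P Q U u p (q + q') = gt Φ P Q U u p q + gt Φ P Q U u p q' := by
  unfold gt
  exact (congrArg (Φ.toPresheafFiber U u (EtTens.tensorObj P Q))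
    (TensorProduct.tmul_add p q q')).trans (map_add _ _ _)

/-- `z` is the germ of the tensor of representatives of `a` and `b` -/
def IsPair (a : (Φ.presheafFiber.obj P : AddCommGrpCat.{u + 1}))
    (b : (Φ.presheafFiber.obj Q : AddCommGrpCat.{u + 1}))
    (z : (Φ.presheafFiber.obj (EtTens.tensorObj P Q) : AddCommGrpCat.{u + 1})) : Prop :=
  ∃ (U : X.Etale) (u : Φ.fiber.obj U) (p : P.obj (op U)) (q : Q.obj (op U)),
    Φ.toPresheafFiber U u P p = a ∧ Φ.toPresheafFiber U u Q q = b ∧ gt Φ P Q U u p q = z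

lemma isPair_exists (a : (Φ.presheafFiber.obj P : AddCommGrpCat.{u + 1}))
    (b : (Φ.presheafFiber.obj Q : AddCommGrpCat.{u + 1})) : ∃ z, IsPair Φ P Q a b z := by
  obtain ⟨U₁, u₁, p₁, rfl⟩ := Φ.toPresheafFiber_jointly_surjective (P := P) a
  obtain ⟨U₂, u₂, q₂, rfl⟩ := Φ.toPresheafFiber_jointly_surjective (P := Q) b
  obtain ⟨U, u, k₁, k₂, h₁, h₂⟩ := exists_refine Φ U₁ U₂ u₁ u₂
  exact ⟨_, U, u, P.map k₁.op p₁, Q.map k₂.op q₂, germ_map Φ P k₁ u u₁ h₁ p₁,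
    germ_map Φ Q k₂ u u₂ h₂ q₂, rfl⟩

/-- two representations can be compared on a common neighbourhood -/
lemma isPair_common {a a' : (Φ.presheafFiber.obj P : AddCommGrpCat.{u + 1})}
    {b b' : (Φ.presheafFiber.obj Q : AddCommGrpCat.{u + 1})}
    {z z' : (Φ.presheafFiber.obj (EtTens.tensorObj P Q) : AddCommGrpCat.{u + 1})}
    (h : IsPair Φ P Q a b z) (h' : IsPair Φ P Q a' b' z') :
    ∃ (U : X.Etale) (u : Φ.fiber.obj U) (p p' : P.obj (op U)) (q q' : Q.obj (op U)),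
      Φ.toPresheafFiber U u P p = a ∧ Φ.toPresheafFiber U u Q q = b ∧ gt Φ P Q U u p q = z ∧
      Φ.toPresheafFiber U u P p' = a' ∧ Φ.toPresheafFiber U u Q q' = b' ∧
        gt Φ P Q U u p' q' = z' := by
  obtain ⟨U₁, u₁, p₁, q₁, rfl, rfl, rfl⟩ := h
  obtain ⟨U₂, u₂, p₂, q₂, rfl, rfl, rfl⟩ := h'
  obtain ⟨U, u, k₁, k₂, h₁, h₂⟩ := exists_refine Φ U₁ U₂ u₁ u₂
  exact ⟨U, u, P.map k₁.op p₁, P.map k₂.op p₂, Q.map k₁.op q₁, Q.map k₂.op q₂,
    germ_map Φ P k₁ u u₁ h₁ p₁, germ_map Φ Q k₁ u u₁ h₁ q₁, gt_map Φ P Q k₁ u u₁ h₁ p₁ q₁,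
    germ_map Φ P k₂ u u₂ h₂ p₂, germ_map Φ Q k₂ u u₂ h₂ q₂, gt_map Φ P Q k₂ u u₂ h₂ p₂ q₂⟩

lemma isPair_unique {a : (Φ.presheafFiber.obj P : AddCommGrpCat.{u + 1})}
    {b : (Φ.presheafFiber.obj Q : AddCommGrpCat.{u + 1})}
    {z z' : (Φ.presheafFiber.obj (EtTens.tensorObj P Q) : AddCommGrpCat.{u + 1})}
    (h : IsPair Φ P Q a b z) (h' : IsPair Φ P Q a b z') : z = z' := by
  obtain ⟨U, u, p, p', q, q', hp, hq, hz, hp', hq', hz'⟩ := isPair_common Φ P Q h h'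
  obtain ⟨U₁, k₁, u₁, hk₁, hpp⟩ := exists_eq_of_germ_eq Φ P U u p p' (hp.trans hp'.symm)
  have hq1 : Φ.toPresheafFiber U₁ u₁ Q (Q.map k₁.op q) = Φ.toPresheafFiber U₁ u₁ Q (Q.map k₁.op q') := by
    rw [germ_map Φ Q k₁ u₁ u hk₁ q, germ_map Φ Q k₁ u₁ u hk₁ q', hq, hq']
  obtain ⟨U₂, k₂, u₂, hk₂, hqq⟩ := exists_eq_of_germ_eq Φ Q U₁ u₁ _ _ hq1
  rw [← hz, ← hz', ← gt_map Φ P Q k₁ u₁ u hk₁ p q, ← gt_map Φ P Q k₁ u₁ u hk₁ p' q', hpp,
    ← gt_map Φ P Q k₂ u₂ u₁ hk₂ _ (Q.map k₁.op q), ← gt_map Φ P Q k₂ u₂ u₁ hk₂ _ (Q.map k₁.op q'),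
    hqq]

lemma isPair_add_left {a a' : (Φ.presheafFiber.obj P : AddCommGrpCat.{u + 1})}
    {b : (Φ.presheafFiber.obj Q : AddCommGrpCat.{u + 1})}
    {z z' : (Φ.presheafFiber.obj (EtTens.tensorObj P Q) : AddCommGrpCat.{u + 1})}
    (h : IsPair Φ P Q a b z) (h' : IsPair Φ P Q a' b z') : IsPair Φ P Q (a + a') b (z + z') := by
  obtain ⟨U, u, p, p', q, q', hp, hq, hz, hp', hq', hz'⟩ := isPair_common Φ P Q h h'
  obtain ⟨U₁, k₁, u₁, hk₁, hqq⟩ := exists_eq_of_germ_eq Φ Q U u q q' (hq.trans hq'.symm)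
  refine ⟨U₁, u₁, P.map k₁.op p + P.map k₁.op p', Q.map k₁.op q, ?_, ?_, ?_⟩
  · rw [map_add, germ_map Φ P k₁ u₁ u hk₁ p, germ_map Φ P k₁ u₁ u hk₁ p', hp, hp']
  · rw [germ_map Φ Q k₁ u₁ u hk₁ q, hq]
  · rw [gt_add_left, gt_map Φ P Q k₁ u₁ u hk₁ p q, hz]
    conv_lhs => rw [hqq]
    rw [gt_map Φ P Q k₁ u₁ u hk₁ p' q', hz']

lemma isPair_add_right {a : (Φ.presheafFiber.obj P : AddCommGrpCat.{u + 1})}
    {b b' : (Φ.presheafFiber.obj Q : AddCommGrpCat.{u + 1})}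
    {z z' : (Φ.presheafFiber.obj (EtTens.tensorObj P Q) : AddCommGrpCat.{u + 1})}
    (h : IsPair Φ P Q a b z) (h' : IsPair Φ P Q a b' z') : IsPair Φ P Q a (b + b') (z + z') := by
  obtain ⟨U, u, p, p', q, q', hp, hq, hz, hp', hq', hz'⟩ := isPair_common Φ P Q h h'
  obtain ⟨U₁, k₁, u₁, hk₁, hpp⟩ := exists_eq_of_germ_eq Φ P U u p p' (hp.trans hp'.symm)
  refine ⟨U₁, u₁, P.map k₁.op p, Q.map k₁.op q + Q.map k₁.op q', ?_, ?_, ?_⟩
  · rw [germ_map Φ P k₁ u₁ u hk₁ p, hp]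
  · rw [map_add, germ_map Φ Q k₁ u₁ u hk₁ q, germ_map Φ Q k₁ u₁ u hk₁ q', hq, hq']
  · rw [gt_add_right, gt_map Φ P Q k₁ u₁ u hk₁ p q, hz]
    conv_lhs => rw [hpp]
    rw [gt_map Φ P Q k₁ u₁ u hk₁ p' q', hz']

/-- the pairing of germs -/
noncomputable def pairing (a : (Φ.presheafFiber.obj P : AddCommGrpCat.{u + 1}))
    (b : (Φ.presheafFiber.obj Q : AddCommGrpCat.{u + 1})) :
    (Φ.presheafFiber.obj (EtTens.tensorObj P Q) : AddCommGrpCat.{u + 1}) :=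
  (isPair_exists Φ P Q a b).choose

lemma pairing_spec (a : (Φ.presheafFiber.obj P : AddCommGrpCat.{u + 1}))
    (b : (Φ.presheafFiber.obj Q : AddCommGrpCat.{u + 1})) : IsPair Φ P Q a b (pairing Φ P Q a b) :=
  (isPair_exists Φ P Q a b).choose_spec

lemma pairing_germ (U : X.Etale) (u : Φ.fiber.obj U) (p : P.obj (op U)) (q : Q.obj (op U)) :
    pairing Φ P Q (Φ.toPresheafFiber U u P p) (Φ.toPresheafFiber U u Q q) = gt Φ P Q U u p q :=
  isPair_unique Φ P Q (pairing_spec Φ P Q _ _) ⟨U, u, p, q, rfl, rfl, rfl⟩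

/-- the pairing as a biadditive map -/
noncomputable def pairingHom :
    (Φ.presheafFiber.obj P : AddCommGrpCat.{u + 1}) →+
      (Φ.presheafFiber.obj Q : AddCommGrpCat.{u + 1}) →+
        (Φ.presheafFiber.obj (EtTens.tensorObj P Q) : AddCommGrpCat.{u + 1}) :=
  AddMonoidHom.mk' (fun a => AddMonoidHom.mk' (fun b => pairing Φ P Q a b) (fun b b' =>
    isPair_unique Φ P Q (pairing_spec Φ P Q a (b + b'))
      (isPair_add_right Φ P Q (pairing_spec Φ P Q a b) (pairing_spec Φ P Q a b'))))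
    (fun a a' => by
      ext b
      exact isPair_unique Φ P Q (pairing_spec Φ P Q (a + a') b)
        (isPair_add_left Φ P Q (pairing_spec Φ P Q a b) (pairing_spec Φ P Q a' b)))

/-- the map from the tensor product of the fibres -/
noncomputable def α :
    ((Φ.presheafFiber.obj P : AddCommGrpCat.{u + 1}) ⊗[ℤ]
      (Φ.presheafFiber.obj Q : AddCommGrpCat.{u + 1})) →+
      (Φ.presheafFiber.obj (EtTens.tensorObj P Q) : AddCommGrpCat.{u + 1}) :=
  TensorProduct.liftAddHom (pairingHom Φ P Q) (fun r a b => by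
    rw [map_zsmul, map_zsmul]
    rfl)

lemma α_tmul (a : (Φ.presheafFiber.obj P : AddCommGrpCat.{u + 1}))
    (b : (Φ.presheafFiber.obj Q : AddCommGrpCat.{u + 1})) :
    α Φ P Q (a ⊗ₜ[ℤ] b) = pairing Φ P Q a b := rfl

/-- the map to the tensor product of the fibres -/
noncomputable def β : Φ.presheafFiber.obj (EtTens.tensorObj P Q) ⟶
    AddCommGrpCat.of ((Φ.presheafFiber.obj P : AddCommGrpCat.{u + 1}) ⊗[ℤ]
      (Φ.presheafFiber.obj Q : AddCommGrpCat.{u + 1})) :=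
  Φ.presheafFiberDesc (fun U u => AddCommGrpCat.ofHom
    (TensorProduct.map (Φ.toPresheafFiber U u P).hom.toIntLinearMap
      (Φ.toPresheafFiber U u Q).hom.toIntLinearMap).toAddMonoidHom) (by
    intro U' U k u'
    apply EtTens.hom_ext_tmul
    intro p q
    change (Φ.toPresheafFiber U' u' P (P.map k.op p)) ⊗ₜ[ℤ] (Φ.toPresheafFiber U' u' Q (Q.map k.op q)) =
      (Φ.toPresheafFiber U (Φ.fiber.map k u') P p) ⊗ₜ[ℤ] (Φ.toPresheafFiber U (Φ.fiber.map k u') Q q)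
    rw [germ_map Φ P k u' _ rfl p, germ_map Φ Q k u' _ rfl q])

lemma β_gt (U : X.Etale) (u : Φ.fiber.obj U) (p : P.obj (op U)) (q : Q.obj (op U)) :
    β Φ P Q (gt Φ P Q U u p q) = (Φ.toPresheafFiber U u P p) ⊗ₜ[ℤ] (Φ.toPresheafFiber U u Q q) := by
  have h := Φ.toPresheafFiber_presheafFiberDesc (P := EtTens.tensorObj P Q) (fun U u => AddCommGrpCat.ofHom
    (TensorProduct.map (Φ.toPresheafFiber U u P).hom.toIntLinearMap
      (Φ.toPresheafFiber U u Q).hom.toIntLinearMap).toAddMonoidHom) (by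
    intro U' U k u'
    apply EtTens.hom_ext_tmul
    intro p q
    change (Φ.toPresheafFiber U' u' P (P.map k.op p)) ⊗ₜ[ℤ] (Φ.toPresheafFiber U' u' Q (Q.map k.op q)) =
      (Φ.toPresheafFiber U (Φ.fiber.map k u') P p) ⊗ₜ[ℤ] (Φ.toPresheafFiber U (Φ.fiber.map k u') Q q)
    rw [germ_map Φ P k u' _ rfl p, germ_map Φ Q k u' _ rfl q]) U u
  exact ConcreteCategory.congr_hom h (p ⊗ₜ[ℤ] q)

lemma α_β (z : (Φ.presheafFiber.obj (EtTens.tensorObj P Q) : AddCommGrpCat.{u + 1})) :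
    α Φ P Q (β Φ P Q z) = z := by
  obtain ⟨U, u, t, rfl⟩ := Φ.toPresheafFiber_jointly_surjective (P := EtTens.tensorObj P Q) z
  let g : ((P.obj (op U) : AddCommGrpCat.{u + 1}) ⊗[ℤ] (Q.obj (op U) : AddCommGrpCat.{u + 1})) →+
      (Φ.presheafFiber.obj (EtTens.tensorObj P Q) : AddCommGrpCat.{u + 1}) :=
    (Φ.toPresheafFiber U u (EtTens.tensorObj P Q)).hom
  have key : ∀ t : (P.obj (op U) : AddCommGrpCat.{u + 1}) ⊗[ℤ] (Q.obj (op U) : AddCommGrpCat.{u + 1}),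
      α Φ P Q (β Φ P Q (g t)) = g t := by
    intro t
    induction t using TensorProduct.induction_on with
    | zero => rw [map_zero, map_zero, map_zero]
    | tmul p q =>
      have h1 := β_gt Φ P Q U u p q
      unfold gt at h1
      change α Φ P Q (β Φ P Q (Φ.toPresheafFiber U u (EtTens.tensorObj P Q) (p ⊗ₜ[ℤ] q))) = _
      rw [h1, α_tmul, pairing_germ]
      rfl
    | add t t' ht ht' => rw [map_add, map_add, map_add, ht, ht']
  exact key t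

lemma β_α (t : (Φ.presheafFiber.obj P : AddCommGrpCat.{u + 1}) ⊗[ℤ]
      (Φ.presheafFiber.obj Q : AddCommGrpCat.{u + 1})) :
    β Φ P Q (α Φ P Q t) = t := by
  induction t using TensorProduct.induction_on with
  | zero => rw [map_zero, map_zero]
  | tmul a b =>
    obtain ⟨U, u, p, q, rfl, rfl, hz⟩ := pairing_spec Φ P Q a b
    rw [α_tmul, ← hz, β_gt]
  | add t t' ht ht' => rw [map_add, map_add, ht, ht']

/-- the fibre of the tensor product is the tensor product of the fibres -/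
noncomputable def tensorFiberEquiv :
    (Φ.presheafFiber.obj (EtTens.tensorObj P Q) : AddCommGrpCat.{u + 1}) ≃+
      ((Φ.presheafFiber.obj P : AddCommGrpCat.{u + 1}) ⊗[ℤ]
        (Φ.presheafFiber.obj Q : AddCommGrpCat.{u + 1})) where
  toFun := β Φ P Q
  invFun := α Φ P Q
  left_inv := α_β Φ P Q
  right_inv := β_α Φ P Q
  map_add' := map_add _

lemma tensorFiberEquiv_gt (U : X.Etale) (u : Φ.fiber.obj U) (p : P.obj (op U)) (q : Q.obj (op U)) :
    tensorFiberEquiv Φ P Q (gt Φ P Q U u p q) =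
      (Φ.toPresheafFiber U u P p) ⊗ₜ[ℤ] (Φ.toPresheafFiber U u Q q) :=
  β_gt Φ P Q U u p q

lemma tensorFiberEquiv_symm_tmul (U : X.Etale) (u : Φ.fiber.obj U) (p : P.obj (op U))
    (q : Q.obj (op U)) :
    (tensorFiberEquiv Φ P Q).symm ((Φ.toPresheafFiber U u P p) ⊗ₜ[ℤ] (Φ.toPresheafFiber U u Q q)) =
      gt Φ P Q U u p q := by
  rw [← tensorFiberEquiv_gt, AddEquiv.symm_apply_apply]

end Groth.Agent.Lib.Helper57.PF
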