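import Mathlib
import Groth.Agent.Lib.Helper57.ST3

set_option autoImplicit false
open CategoryTheory CategoryTheory.Limits AlgebraicGeometry Opposite
universe u

/-! The stalk of an inverse image sheaf, computed by the unit of the adjunction. -/

namespace Groth.Agent.Lib.Helper57.PF

open Groth.Agent.Lib.Helper57.ST Groth.Agent.Lib.Helper57.FinStalk

variable {X Y : Scheme.{u}} (f : X ⟶ Y) {Ω : Type u} [Field Ω] [IsSepClosed Ω]
  {η : Spec (CommRingCat.of Ω) ⟶ Y} (ξ : Spec (CommRingCat.of Ω) ⟶ X) (hξ : ξ ≫ f = η)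

include hξ in
lemma prPt_aux (V : Y.Etale) (w : (Scheme.pointSmallEtale ξ).fiber.obj ((EtCoh.bc f).obj V)) :
    (ptHom w ≫ EtShriek.prV f V) ≫ V.hom = η := by
  have h1 : ptHom w ≫ pullback.snd V.hom f = ξ := ptHom_comp w
  have h2 : pullback.fst V.hom f ≫ V.hom = pullback.snd V.hom f ≫ f := pullback.condition
  exact (Category.assoc _ _ _).trans ((congrArg (ptHom w ≫ ·) h2).trans
    ((Category.assoc _ _ _).symm.trans ((congrArg (· ≫ f) h1).trans hξ)))

/-- the image in `V` of a lift of `ξ` to `X_V` -/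
noncomputable def prPt (V : Y.Etale)
    (w : (Scheme.pointSmallEtale ξ).fiber.obj ((EtCoh.bc f).obj V)) :
    (Scheme.pointSmallEtale η).fiber.obj V :=
  mkPt η V (ptHom w ≫ EtShriek.prV f V) (prPt_aux f ξ hξ V w)

lemma prPt_liftPt (V : Y.Etale) (v : (Scheme.pointSmallEtale η).fiber.obj V) :
    prPt f ξ hξ V (liftPt f ξ hξ v) = v := by
  apply pt_ext
  exact ptHom_liftPt_fst f ξ hξ v

lemma liftPt_prPt (V : Y.Etale) (w : (Scheme.pointSmallEtale ξ).fiber.obj ((EtCoh.bc f).obj V)) :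
    liftPt f ξ hξ (prPt f ξ hξ V w) = w := by
  apply pt_ext
  apply pullback.hom_ext
  · exact ptHom_liftPt_fst f ξ hξ _
  · exact (ptHom_liftPt_snd f ξ hξ _).trans (ptHom_comp w).symm

lemma prPt_map {V V' : Y.Etale} (k : V' ⟶ V)
    (w' : (Scheme.pointSmallEtale ξ).fiber.obj ((EtCoh.bc f).obj V')) :
    (Scheme.pointSmallEtale η).fiber.map k (prPt f ξ hξ V' w') =
      prPt f ξ hξ V ((Scheme.pointSmallEtale ξ).fiber.map ((EtCoh.bc f).map k) w') := by
  apply pt_ext
  have h1 : ((EtCoh.bc f).map k).left ≫ EtShriek.prV f V = EtShriek.prV f V' ≫ k.left :=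
    (EtCoh.isPullback_bc_map f k).w
  change (ptHom w' ≫ EtShriek.prV f V') ≫ k.left =
    (ptHom w' ≫ ((EtCoh.bc f).map k).left) ≫ EtShriek.prV f V
  rw [Category.assoc, Category.assoc, h1]

variable (G : EtCoh.Ab Y)

/-- the comparison map from the stalk of `G` at `η` to the stalk of `f⁻¹ G` at `ξ` -/
noncomputable def θ :
    (Scheme.pointSmallEtale η).presheafFiber.obj G.obj ⟶
      (Scheme.pointSmallEtale ξ).presheafFiber.obj ((EtCoh.pull f).obj G).obj :=
  (Scheme.pointSmallEtale η).presheafFiber.map ((EtCoh.pullPushAdj f).unit.app G).hom ≫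
    T f ξ hξ ((EtCoh.pull f).obj G).obj

lemma θ_germ (V : Y.Etale) (v : (Scheme.pointSmallEtale η).fiber.obj V) (g : G.obj.obj (op V)) :
    θ f ξ hξ G ((Scheme.pointSmallEtale η).toPresheafFiber V v G.obj g) =
      (Scheme.pointSmallEtale ξ).toPresheafFiber ((EtCoh.bc f).obj V) (liftPt f ξ hξ v)
        ((EtCoh.pull f).obj G).obj (((EtCoh.pullPushAdj f).unit.app G).hom.app (op V) g) := by
  unfold θ
  have h1 := (Scheme.pointSmallEtale η).toPresheafFiber_naturality_apply
      ((EtCoh.pullPushAdj f).unit.app G).hom V v g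
  have h2 := T_germ' f η hξ ((EtCoh.pull f).obj G).obj V v
    (((EtCoh.pullPushAdj f).unit.app G).hom.app (op V) g)
  exact (congrArg (fun z => T f ξ hξ ((EtCoh.pull f).obj G).obj z) h1).trans h2

/-- the map `G → f_* (skyscraper at ξ with value G_η)` -/
noncomputable def cMap :
    G ⟶ (EtCoh.push f).obj ((Scheme.pointSmallEtale ξ).skyscraperSheaf
      ((Scheme.pointSmallEtale η).presheafFiber.obj G.obj)) :=
  ⟨{ app := fun V => Pi.lift (fun w : (Scheme.pointSmallEtale ξ).fiber.obj ((EtCoh.bc f).obj V.unop) =>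
        (Scheme.pointSmallEtale η).toPresheafFiber V.unop (prPt f ξ hξ V.unop w) G.obj)
     naturality := by
      intro V V' k
      apply Pi.hom_ext
      intro w'
      refine (Category.assoc _ _ _).trans ?_
      refine (congrArg (G.obj.map k ≫ ·) (Pi.lift_π _ _)).trans ?_
      refine Eq.trans ?_ (Category.assoc _ _ _).symm
      have h1 : ((EtCoh.push f).obj ((Scheme.pointSmallEtale ξ).skyscraperSheaf
          ((Scheme.pointSmallEtale η).presheafFiber.obj G.obj))).obj.map k ≫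
          Pi.π (fun _ => (Scheme.pointSmallEtale η).presheafFiber.obj G.obj) w' =
          Pi.π (fun _ => (Scheme.pointSmallEtale η).presheafFiber.obj G.obj)
            ((Scheme.pointSmallEtale ξ).fiber.map ((EtCoh.bc f).map k.unop) w') :=
        (Pi.map'_comp_π _ _ _).trans (Category.comp_id _)
      refine Eq.trans ?_ (congrArg (Pi.lift _ ≫ ·) h1).symm
      have h3 : (Pi.lift fun w => (Scheme.pointSmallEtale η).toPresheafFiber (unop V)
            (prPt f ξ hξ (unop V) w) G.obj) ≫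
          Pi.π (fun _ => (Scheme.pointSmallEtale η).presheafFiber.obj G.obj)
            ((Scheme.pointSmallEtale ξ).fiber.map ((EtCoh.bc f).map k.unop) w') =
          (Scheme.pointSmallEtale η).toPresheafFiber (unop V) (prPt f ξ hξ (unop V)
            ((Scheme.pointSmallEtale ξ).fiber.map ((EtCoh.bc f).map k.unop) w')) G.obj :=
        Pi.lift_π _ _
      refine Eq.trans ?_ h3.symm
      have h2 := (Scheme.pointSmallEtale η).toPresheafFiber_w k.unop (prPt f ξ hξ V'.unop w') G.obj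
      rw [prPt_map] at h2
      exact h2 }⟩

lemma cMap_π (V : Y.Etale) (w : (Scheme.pointSmallEtale ξ).fiber.obj ((EtCoh.bc f).obj V)) :
    (cMap f ξ hξ G).hom.app (op V) ≫ Pi.π _ w =
      (Scheme.pointSmallEtale η).toPresheafFiber V (prPt f ξ hξ V w) G.obj :=
  Pi.lift_π _ _

/-- the adjoint map `f⁻¹ G → skyscraper` -/
noncomputable def κ :
    (EtCoh.pull f).obj G ⟶ (Scheme.pointSmallEtale ξ).skyscraperSheaf
      ((Scheme.pointSmallEtale η).presheafFiber.obj G.obj) :=
  ((EtCoh.pullPushAdj f).homEquiv _ _).symm (cMap f ξ hξ G)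

lemma unit_κ :
    (EtCoh.pullPushAdj f).unit.app G ≫ (EtCoh.push f).map (κ f ξ hξ G) = cMap f ξ hξ G := by
  have h := ((EtCoh.pullPushAdj f).homEquiv _ _).apply_symm_apply (cMap f ξ hξ G)
  rw [Adjunction.homEquiv_unit] at h
  exact h

/-- the inverse of `θ` -/
noncomputable def ρ :
    (Scheme.pointSmallEtale ξ).presheafFiber.obj ((EtCoh.pull f).obj G).obj ⟶
      (Scheme.pointSmallEtale η).presheafFiber.obj G.obj :=
  (Scheme.pointSmallEtale ξ).skyscraperPresheafHomEquiv.symm (κ f ξ hξ G).hom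

lemma germ_ρ (W : X.Etale) (w : (Scheme.pointSmallEtale ξ).fiber.obj W) :
    (Scheme.pointSmallEtale ξ).toPresheafFiber W w ((EtCoh.pull f).obj G).obj ≫ ρ f ξ hξ G =
      (κ f ξ hξ G).hom.app (op W) ≫ Pi.π _ w :=
  (Scheme.pointSmallEtale ξ).toPresheafFiber_skyscraperPresheafHomEquiv_symm _ W w

lemma ρ_unit (V : Y.Etale) (w : (Scheme.pointSmallEtale ξ).fiber.obj ((EtCoh.bc f).obj V)) :
    ((EtCoh.pullPushAdj f).unit.app G).hom.app (op V) ≫
      (Scheme.pointSmallEtale ξ).toPresheafFiber ((EtCoh.bc f).obj V) w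
        ((EtCoh.pull f).obj G).obj ≫ ρ f ξ hξ G =
      (Scheme.pointSmallEtale η).toPresheafFiber V (prPt f ξ hξ V w) G.obj := by
  have h : ((EtCoh.pullPushAdj f).unit.app G).hom.app (op V) ≫
      (κ f ξ hξ G).hom.app (op ((EtCoh.bc f).obj V)) = (cMap f ξ hξ G).hom.app (op V) :=
    congrArg (fun m => m.hom.app (op V)) (unit_κ f ξ hξ G)
  refine (congrArg (((EtCoh.pullPushAdj f).unit.app G).hom.app (op V) ≫ ·)
    (germ_ρ f ξ hξ G ((EtCoh.bc f).obj V) w)).trans ?_
  refine (Category.assoc _ _ _).symm.trans ?_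
  exact (congrArg (· ≫ Pi.π _ w) h).trans (cMap_π f ξ hξ G V w)

lemma θ_ρ_aux : θ f ξ hξ G ≫ ρ f ξ hξ G = 𝟙 _ := by
  apply (Scheme.pointSmallEtale η).presheafFiber_hom_ext
  intro V v
  rw [Category.comp_id]
  unfold θ
  rw [← Category.assoc, ← Category.assoc,
    (Scheme.pointSmallEtale η).toPresheafFiber_naturality, Category.assoc, Category.assoc]
  have h1 : (Scheme.pointSmallEtale η).toPresheafFiber V v
      ((EtCoh.bc f).op ⋙ ((EtCoh.pull f).obj G).obj) ≫ T f ξ hξ ((EtCoh.pull f).obj G).obj =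
      (Scheme.pointSmallEtale ξ).toPresheafFiber ((EtCoh.bc f).obj V) (liftPt f ξ hξ v)
        ((EtCoh.pull f).obj G).obj := toPresheafFiber_T f ξ hξ _ V v
  rw [← Category.assoc ((Scheme.pointSmallEtale η).toPresheafFiber V v _)]
  erw [h1]
  rw [ρ_unit, prPt_liftPt]

lemma θ_germ_hom (V : Y.Etale) (v : (Scheme.pointSmallEtale η).fiber.obj V) :
    (Scheme.pointSmallEtale η).toPresheafFiber V v G.obj ≫ θ f ξ hξ G =
      ((EtCoh.pullPushAdj f).unit.app G).hom.app (op V) ≫
        (Scheme.pointSmallEtale ξ).toPresheafFiber ((EtCoh.bc f).obj V) (liftPt f ξ hξ v)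
          ((EtCoh.pull f).obj G).obj := by
  ext g
  exact θ_germ f ξ hξ G V v g

lemma ρ_θ_aux : ρ f ξ hξ G ≫ θ f ξ hξ G = 𝟙 _ := by
  apply (Scheme.pointSmallEtale ξ).skyscraperPresheafHomEquiv.injective
  let M := (Scheme.pointSmallEtale ξ).presheafFiber.obj ((EtCoh.pull f).obj G).obj
  let a₁ : (EtCoh.pull f).obj G ⟶ (Scheme.pointSmallEtale ξ).skyscraperSheaf M :=
    ⟨(Scheme.pointSmallEtale ξ).skyscraperPresheafHomEquiv (ρ f ξ hξ G ≫ θ f ξ hξ G)⟩
  let a₂ : (EtCoh.pull f).obj G ⟶ (Scheme.pointSmallEtale ξ).skyscraperSheaf M :=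
    ⟨(Scheme.pointSmallEtale ξ).skyscraperPresheafHomEquiv (𝟙 M)⟩
  have key : a₁ = a₂ := by
    apply ((EtCoh.pullPushAdj f).homEquiv _ _).injective
    rw [Adjunction.homEquiv_unit, Adjunction.homEquiv_unit]
    apply Sheaf.hom_ext
    apply NatTrans.ext
    funext V
    apply Pi.hom_ext
    intro w
    have e₁ : a₁.hom.app (op ((EtCoh.bc f).obj V.unop)) ≫ Pi.π (fun _ => M) w =
        (Scheme.pointSmallEtale ξ).toPresheafFiber ((EtCoh.bc f).obj V.unop) w _ ≫
          (ρ f ξ hξ G ≫ θ f ξ hξ G) :=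
      (Scheme.pointSmallEtale ξ).skyscraperPresheafHomEquiv_app_π _ _ w
    have e₂ : a₂.hom.app (op ((EtCoh.bc f).obj V.unop)) ≫ Pi.π (fun _ => M) w =
        (Scheme.pointSmallEtale ξ).toPresheafFiber ((EtCoh.bc f).obj V.unop) w _ ≫ 𝟙 M :=
      (Scheme.pointSmallEtale ξ).skyscraperPresheafHomEquiv_app_π _ _ w
    change (((EtCoh.pullPushAdj f).unit.app G).hom.app V ≫
        a₁.hom.app (op ((EtCoh.bc f).obj V.unop))) ≫ Pi.π (fun _ => M) w =
      (((EtCoh.pullPushAdj f).unit.app G).hom.app V ≫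
        a₂.hom.app (op ((EtCoh.bc f).obj V.unop))) ≫ Pi.π (fun _ => M) w
    refine (Category.assoc _ _ _).trans ?_
    refine Eq.trans ?_ (Category.assoc _ _ _).symm
    refine (congrArg (((EtCoh.pullPushAdj f).unit.app G).hom.app V ≫ ·) e₁).trans ?_
    refine Eq.trans ?_ (congrArg (((EtCoh.pullPushAdj f).unit.app G).hom.app V ≫ ·) e₂).symm
    refine Eq.trans ?_ (congrArg (((EtCoh.pullPushAdj f).unit.app G).hom.app V ≫ ·)
      (Category.comp_id _)).symm
    have h1 := ρ_unit f ξ hξ G V.unop w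
    have h2 := θ_germ_hom f ξ hξ G V.unop (prPt f ξ hξ V.unop w)
    rw [liftPt_prPt] at h2
    refine Eq.trans ?_ h2
    refine Eq.trans ?_ (congrArg (· ≫ θ f ξ hξ G) h1)
    simp only [Category.assoc]
    rfl
  exact congrArg (fun m => m.hom) key

/-- the stalk of the inverse image is the stalk at the image point -/
noncomputable def θIso :
    (Scheme.pointSmallEtale η).presheafFiber.obj G.obj ≅
      (Scheme.pointSmallEtale ξ).presheafFiber.obj ((EtCoh.pull f).obj G).obj where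
  hom := θ f ξ hξ G
  inv := ρ f ξ hξ G
  hom_inv_id := θ_ρ_aux f ξ hξ G
  inv_hom_id := ρ_θ_aux f ξ hξ G

lemma θ_bijective : Function.Bijective (θ f ξ hξ G) := by
  constructor
  · intro a b hab
    have h := congrArg (ρ f ξ hξ G) hab
    have e := θ_ρ_aux f ξ hξ G
    have ea : ρ f ξ hξ G (θ f ξ hξ G a) = a := congrArg (fun m => m a) e
    have eb : ρ f ξ hξ G (θ f ξ hξ G b) = b := congrArg (fun m => m b) e
    rw [← ea, ← eb]
    exact h
  · intro c
    refine ⟨ρ f ξ hξ G c, ?_⟩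
    exact congrArg (fun m => m c) (ρ_θ_aux f ξ hξ G)

end Groth.Agent.Lib.Helper57.PF
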