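import Mathlib

set_option autoImplicit false
universe u v

/-! Recognising direct sums of abelian groups, and tensoring them. -/

namespace Groth.Agent.Lib.Helper57.PF

open DirectSum TensorProduct

theorem exists_addEquiv_directSum {I : Type u} [DecidableEq I] (G : I → Type v)
    [∀ i, AddCommGroup (G i)] (S : Type v) [AddCommGroup S] (t : ∀ i, S →+ G i)
    (hfin : ∀ a : S, {i | t i a ≠ 0}.Finite)
    (hinj : ∀ a : S, (∀ i, t i a = 0) → a = 0)
    (hsingle : ∀ (i : I) (c : G i), ∃ a : S, t i a = c ∧ ∀ j, j ≠ i → t j a = 0) :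
    ∃ Ψ : S ≃+ ⨁ i, G i, ∀ a i, (Ψ a) i = t i a := by
  classical
  let Ψ₀ : S → ⨁ i, G i := fun a =>
    DirectSum.mk (fun i => G i) (hfin a).toFinset (fun i => t i.1 a)
  have hΨ₀ : ∀ (a : S) (i : I), (Ψ₀ a) i = t i a := by
    intro a i
    by_cases hi : i ∈ (hfin a).toFinset
    · exact DirectSum.mk_apply_of_mem hi
    · have h1 : (Ψ₀ a) i = 0 := DirectSum.mk_apply_of_notMem hi
      rw [h1]
      have h2 : ¬ (t i a ≠ 0) := fun h => hi ((hfin a).mem_toFinset.2 h)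
      exact (not_not.1 h2).symm
  let Ψ : S →+ ⨁ i, G i :=
    { toFun := Ψ₀
      map_zero' := by
        apply DFinsupp.ext
        intro i
        rw [hΨ₀, map_zero]
        rfl
      map_add' := by
        intro a b
        apply DFinsupp.ext
        intro i
        rw [DirectSum.add_apply, hΨ₀, hΨ₀, hΨ₀, map_add] }
  have hΨ : ∀ (a : S) (i : I), (Ψ a) i = t i a := hΨ₀
  have hbij : Function.Bijective Ψ := by
    constructor
    · rw [injective_iff_map_eq_zero]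
      intro a ha
      apply hinj
      intro i
      rw [← hΨ, ha]
      rfl
    · intro x
      induction x using DirectSum.induction_on with
      | zero => exact ⟨0, map_zero _⟩
      | of i c =>
        obtain ⟨a, ha1, ha2⟩ := hsingle i c
        refine ⟨a, ?_⟩
        apply DFinsupp.ext
        intro j
        rw [hΨ]
        by_cases hj : j = i
        · subst hj
          rw [ha1]
          exact (DirectSum.of_eq_same (β := fun i => G i) j c).symm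
        · rw [ha2 j hj]
          exact (DirectSum.of_eq_of_ne (β := fun i => G i) i j c hj).symm
      | add x y hx hy =>
        obtain ⟨a, rfl⟩ := hx
        obtain ⟨b, rfl⟩ := hy
        exact ⟨a + b, map_add _ _ _⟩
  exact ⟨AddEquiv.ofBijective Ψ hbij, hΨ⟩

theorem bijective_of_compat {I : Type u} [DecidableEq I]
    (F T : I → Type v) [∀ i, AddCommGroup (F i)] [∀ i, AddCommGroup (T i)]
    (SA SB Gg : Type v) [AddCommGroup SA] [AddCommGroup SB] [AddCommGroup Gg]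
    (tA : ∀ i, SA →+ F i) (tB : ∀ i, SB →+ T i)
    (hfinA : ∀ a : SA, {i | tA i a ≠ 0}.Finite)
    (hinjA : ∀ a : SA, (∀ i, tA i a = 0) → a = 0)
    (hsingleA : ∀ (i : I) (c : F i), ∃ a : SA, tA i a = c ∧ ∀ j, j ≠ i → tA j a = 0)
    (hfinB : ∀ a : SB, {i | tB i a ≠ 0}.Finite)
    (hinjB : ∀ a : SB, (∀ i, tB i a = 0) → a = 0)
    (hsingleB : ∀ (i : I) (c : T i), ∃ a : SB, tB i a = c ∧ ∀ j, j ≠ i → tB j a = 0)
    (μ : ∀ i, (F i ⊗[ℤ] Gg) ≃+ T i)
    (φ : SA ⊗[ℤ] Gg →+ SB)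
    (hφ : ∀ x y i, tB i (φ (x ⊗ₜ[ℤ] y)) = μ i (tA i x ⊗ₜ[ℤ] y)) :
    Function.Bijective φ := by
  obtain ⟨ΨA, hΨA⟩ := exists_addEquiv_directSum F SA tA hfinA hinjA hsingleA
  obtain ⟨ΨB, hΨB⟩ := exists_addEquiv_directSum T SB tB hfinB hinjB hsingleB
  let e1 : SA ⊗[ℤ] Gg ≃ₗ[ℤ] (⨁ i, F i) ⊗[ℤ] Gg :=
    TensorProduct.congr ΨA.toIntLinearEquiv (LinearEquiv.refl ℤ Gg)
  let e2 : (⨁ i, F i) ⊗[ℤ] Gg ≃ₗ[ℤ] ⨁ i, (F i ⊗[ℤ] Gg) := TensorProduct.directSumLeft ℤ ℤ F Gg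
  let e3 : (⨁ i, (F i ⊗[ℤ] Gg)) ≃+ ⨁ i, T i := DFinsupp.mapRange.addEquiv μ
  let chain : SA ⊗[ℤ] Gg ≃+ SB :=
    e1.toAddEquiv.trans (e2.toAddEquiv.trans (e3.trans ΨB.symm))
  have key : ∀ z, ΨB (φ z) = e3 (e2 (e1 z)) := by
    intro z
    induction z using TensorProduct.induction_on with
    | zero => simp only [map_zero]
    | tmul x y =>
      apply DFinsupp.ext
      intro i
      rw [hΨB, hφ]
      have h1 : e1 (x ⊗ₜ[ℤ] y) = (ΨA x) ⊗ₜ[ℤ] y := rfl
      rw [h1]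
      have h2 : (e3 (e2 ((ΨA x) ⊗ₜ[ℤ] y))) i = μ i ((e2 ((ΨA x) ⊗ₜ[ℤ] y)) i) :=
        DFinsupp.mapRange_apply (fun i => (μ i : F i ⊗[ℤ] Gg → T i)) (fun i => map_zero (μ i)) _ i
      rw [h2]
      have h3 : (e2 ((ΨA x) ⊗ₜ[ℤ] y)) i = ((ΨA x) i) ⊗ₜ[ℤ] y :=
        TensorProduct.directSumLeft_tmul (R := ℤ) (S := ℤ) (ΨA x) y i
      rw [h3, hΨA]
    | add a b ha hb => simp only [map_add, ha, hb]
  have hφ' : (φ : SA ⊗[ℤ] Gg → SB) = chain := by
    funext z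
    apply ΨB.injective
    rw [key]
    change _ = ΨB (ΨB.symm (e3 (e2 (e1 z))))
    rw [AddEquiv.apply_symm_apply]
  rw [hφ']
  exact chain.bijective

end Groth.Agent.Lib.Helper57.PF
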