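import Mathlib
import Groth.Agent.Lib.Helper57.PF1
import Groth.Agent.Lib.Helper57.PF2

set_option autoImplicit false
open CategoryTheory CategoryTheory.Limits AlgebraicGeometry Opposite TensorProduct
universe u

/-! The projection formula map `f_! F ⊗ G ⟶ f_! (F ⊗ f⁻¹ G)` on the level of presheaves. -/

namespace Groth.Agent.Lib.Helper57.PF

open Groth.Agent.Lib.Helper4 Groth.Agent.Lib.Helper79 Groth.Agent.Lib.Helper57.FinStalk
open Groth.Agent.Lib.Helper21.ProperOver Groth.Agent.Lib.Helper57.EZ Groth.Agent.Lib.Helper57.CS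
open Groth.Agent.Lib.Helper57.RE Groth.Agent.Lib.Helper79.EtSiteGlue Groth.Agent.Lib.Helper57.ST

variable {X Y : Scheme.{u}} (f : X ⟶ Y) [LocallyOfFiniteType f] (F : EtCoh.Ab X) (G : EtCoh.Ab Y)

/-- the presheaf tensor product `F ⊗ f⁻¹ G` on `X` -/
noncomputable abbrev Ppre : X.Etaleᵒᵖ ⥤ AddCommGrpCat.{u + 1} :=
  EtTens.tensorObj F.obj ((EtCoh.pull f).obj G).obj

/-- the sheaf `F ⊗ f⁻¹ G` -/
noncomputable abbrev TT : EtCoh.Ab X := (EtTens.tensorBi.obj F).obj ((EtCoh.pull f).obj G)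

/-- the sheafification map -/
noncomputable def ts : Ppre f F G ⟶ (TT f F G).obj :=
  toSheafify X.smallEtaleTopology (Ppre f F G)

/-- the unit on sections -/
noncomputable def unitV (V : Y.Etale) : (G.obj.obj (op V) : AddCommGrpCat.{u + 1}) →+
    (((EtCoh.pull f).obj G).obj.obj (op ((EtCoh.bc f).obj V)) : AddCommGrpCat.{u + 1}) :=
  (((EtCoh.pullPushAdj f).unit.app G).hom.app (op V)).hom

lemma unitV_map {V V' : Y.Etale} (k : V' ⟶ V) (g : G.obj.obj (op V)) :
    unitV f G V' (G.obj.map k.op g) =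
      ((EtCoh.pull f).obj G).obj.map ((EtCoh.bc f).map k).op (unitV f G V g) := by
  have h := congrArg (fun m => m g) (congrArg AddCommGrpCat.Hom.hom
    (((EtCoh.pullPushAdj f).unit.app G).hom.naturality k.op))
  exact h

/-- the map on sections -/
noncomputable def mV (V : Y.Etale) :
    ((((LS f).obj F).obj.obj (op V) : AddCommGrpCat.{u + 1}) ⊗[ℤ]
      (G.obj.obj (op V) : AddCommGrpCat.{u + 1})) →+
      ((TT f F G).obj.obj (op ((EtCoh.bc f).obj V)) : AddCommGrpCat.{u + 1}) :=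
  ((ts f F G).app (op ((EtCoh.bc f).obj V))).hom.comp
    (TensorProduct.map (und f F V).toIntLinearMap (unitV f G V).toIntLinearMap).toAddMonoidHom

lemma mV_tmul (V : Y.Etale) (a : ((LS f).obj F).obj.obj (op V)) (g : G.obj.obj (op V)) :
    mV f F G V (a ⊗ₜ[ℤ] g) =
      (ts f F G).app (op ((EtCoh.bc f).obj V)) ((und f F V a) ⊗ₜ[ℤ] (unitV f G V g)) := rfl

lemma ts_map {W W' : X.Etale} (k : W' ⟶ W) (x : F.obj.obj (op W))
    (y : ((EtCoh.pull f).obj G).obj.obj (op W)) :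
    (TT f F G).obj.map k.op ((ts f F G).app (op W) (x ⊗ₜ[ℤ] y)) =
      (ts f F G).app (op W') ((F.obj.map k.op x) ⊗ₜ[ℤ] (((EtCoh.pull f).obj G).obj.map k.op y)) := by
  have h := congrArg (fun m => m (x ⊗ₜ[ℤ] y)) (congrArg AddCommGrpCat.Hom.hom
    ((ts f F G).naturality k.op))
  exact h.symm

lemma hasPS_ts_tmul (V : Y.Etale) (x : F.obj.obj (op ((EtCoh.bc f).obj V)))
    (hx : HasPS f F V x) (y : ((EtCoh.pull f).obj G).obj.obj (op ((EtCoh.bc f).obj V))) :
    HasPS f (TT f F G) V ((ts f F G).app (op ((EtCoh.bc f).obj V)) (x ⊗ₜ[ℤ] y)) := by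
  obtain ⟨Z, hZ, hv⟩ := hx
  refine ⟨Z, hZ, fun Y' k hk => ?_⟩
  rw [ts_map, hv Y' k hk, TensorProduct.zero_tmul]
  exact map_zero ((ts f F G).app (op Y')).hom

lemma mV_mem (V : Y.Etale) (z : (((LS f).obj F).obj.obj (op V) : AddCommGrpCat.{u + 1}) ⊗[ℤ]
      (G.obj.obj (op V) : AddCommGrpCat.{u + 1})) :
    mV f F G V z ∈ EtShriek.shriekSubgroup f (TT f F G) V := by
  induction z using TensorProduct.induction_on with
  | zero =>
    rw [map_zero]
    exact zero_mem _
  | tmul a g =>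
    rw [mV_tmul]
    exact (mem_shriekSubgroup_iff f (TT f F G) V _).2
      (hasPS_ts_tmul f F G V _ (und_hasPS f F V a) _)
  | add a b ha hb =>
    rw [map_add]
    exact add_mem ha hb

/-- the projection formula map on presheaves -/
noncomputable def ΦPre :
    EtTens.tensorObj ((LS f).obj F).obj G.obj ⟶ ((LS f).obj (TT f F G)).obj where
  app V := AddCommGrpCat.ofHom
    ((mV f F G V.unop).codRestrict (EtShriek.shriekSubgroup f (TT f F G) V.unop)
      (mV_mem f F G V.unop))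
  naturality := by
    intro V V' k
    apply EtTens.hom_ext_tmul
    intro a g
    apply Subtype.ext
    change mV f F G V'.unop ((((LS f).obj F).obj.map k a) ⊗ₜ[ℤ] (G.obj.map k g)) =
      (TT f F G).obj.map ((EtCoh.bc f).map k.unop).op (mV f F G V.unop (a ⊗ₜ[ℤ] g))
    rw [mV_tmul, mV_tmul, ts_map]
    have h1 : und f F V'.unop (((LS f).obj F).obj.map k a) =
      F.obj.map ((EtCoh.bc f).map k.unop).op (und f F V.unop a) := rfl
    have h2 := unitV_map f G k.unop g
    rw [h1]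
    exact congrArg (fun t => (ts f F G).app (op ((EtCoh.bc f).obj V'.unop))
      ((F.obj.map ((EtCoh.bc f).map k.unop).op (und f F V.unop a)) ⊗ₜ[ℤ] t)) h2

lemma und_ΦPre (V : Y.Etale) (a : ((LS f).obj F).obj.obj (op V)) (g : G.obj.obj (op V)) :
    und f (TT f F G) V ((ΦPre f F G).app (op V) (a ⊗ₜ[ℤ] g)) =
      (ts f F G).app (op ((EtCoh.bc f).obj V)) ((und f F V a) ⊗ₜ[ℤ] (unitV f G V g)) := rfl

end Groth.Agent.Lib.Helper57.PF
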