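import Mathlib
import Groth.Agent.Lib.Helper57.PF3
import Groth.Agent.Lib.Helper57.PF4
import Groth.Agent.Lib.Helper57.IntRecoll

set_option autoImplicit false
open CategoryTheory CategoryTheory.Limits AlgebraicGeometry Opposite TensorProduct
universe u

/-! The projection formula for `f_!`, `f` separated and locally quasi-finite. -/

namespace Groth.Agent.Lib.Helper57.PF

open Groth.Agent.Lib.Helper4 Groth.Agent.Lib.Helper79 Groth.Agent.Lib.Helper57.FinStalk
open Groth.Agent.Lib.Helper21.ProperOver Groth.Agent.Lib.Helper57.EZ Groth.Agent.Lib.Helper57.CS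
open Groth.Agent.Lib.Helper57.RE Groth.Agent.Lib.Helper79.EtSiteGlue Groth.Agent.Lib.Helper57.ST

section General

variable {X : Scheme.{u}} (Φ : GrothendieckTopology.Point.{u} X.smallEtaleTopology)
  (P Q : X.Etaleᵒᵖ ⥤ AddCommGrpCat.{u + 1})

lemma exists_common (x : (Φ.presheafFiber.obj P : AddCommGrpCat.{u + 1}))
    (y : (Φ.presheafFiber.obj Q : AddCommGrpCat.{u + 1})) :
    ∃ (U : X.Etale) (u : Φ.fiber.obj U) (p : P.obj (op U)) (q : Q.obj (op U)),
      Φ.toPresheafFiber U u P p = x ∧ Φ.toPresheafFiber U u Q q = y := by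
  obtain ⟨U₁, u₁, p₁, rfl⟩ := Φ.toPresheafFiber_jointly_surjective (P := P) x
  obtain ⟨U₂, u₂, q₂, rfl⟩ := Φ.toPresheafFiber_jointly_surjective (P := Q) y
  obtain ⟨U, u, k₁, k₂, h₁, h₂⟩ := exists_refine Φ U₁ U₂ u₁ u₂
  exact ⟨U, u, P.map k₁.op p₁, Q.map k₂.op q₂, germ_map Φ P k₁ u u₁ h₁ p₁,
    germ_map Φ Q k₂ u u₂ h₂ q₂⟩

end General

variable {X Y : Scheme.{u}} (f : X ⟶ Y) [IsSeparated f] [LocallyOfFiniteType f]
  [LocallyQuasiFinite f] (F : EtCoh.Ab X) (G : EtCoh.Ab Y) {Ω : Type u} [Field Ω] [IsAlgClosed Ω]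
  (η : Spec (CommRingCat.of Ω) ⟶ Y)

/-- the stalk of the sheafification map, as an equivalence -/
noncomputable def σEquiv (ξ : Spec (CommRingCat.of Ω) ⟶ X) :
    ((Scheme.pointSmallEtale ξ).presheafFiber.obj (Ppre f F G) : AddCommGrpCat.{u + 1}) ≃+
      ((Scheme.pointSmallEtale ξ).presheafFiber.obj (TT f F G).obj : AddCommGrpCat.{u + 1}) :=
  AddEquiv.ofBijective ((Scheme.pointSmallEtale ξ).presheafFiber.map (ts f F G)).hom
    ((Scheme.pointSmallEtale ξ).toPresheafFiber_map_bijective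
      (toSheafify X.smallEtaleTopology (Ppre f F G)))

/-- `θ` as an equivalence -/
noncomputable def θEquiv (ξ : Spec (CommRingCat.of Ω) ⟶ X) (hξ : ξ ≫ f = η) :
    ((Scheme.pointSmallEtale η).presheafFiber.obj G.obj : AddCommGrpCat.{u + 1}) ≃+
      ((Scheme.pointSmallEtale ξ).presheafFiber.obj ((EtCoh.pull f).obj G).obj :
        AddCommGrpCat.{u + 1}) :=
  AddEquiv.ofBijective (θ f ξ hξ G).hom (θ_bijective f ξ hξ G)

/-- the identification of the stalks of the two sides at a point of the fibre -/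
noncomputable def μ (ξ : Spec (CommRingCat.of Ω) ⟶ X) (hξ : ξ ≫ f = η) :
    (((Scheme.pointSmallEtale ξ).presheafFiber.obj F.obj : AddCommGrpCat.{u + 1}) ⊗[ℤ]
      ((Scheme.pointSmallEtale η).presheafFiber.obj G.obj : AddCommGrpCat.{u + 1})) ≃+
      ((Scheme.pointSmallEtale ξ).presheafFiber.obj (TT f F G).obj : AddCommGrpCat.{u + 1}) :=
  (TensorProduct.congr (AddEquiv.refl _).toIntLinearEquiv
    (θEquiv f G η ξ hξ).toIntLinearEquiv).toAddEquiv.trans
    ((tensorFiberEquiv (Scheme.pointSmallEtale ξ) F.obj ((EtCoh.pull f).obj G).obj).symm.trans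
      (σEquiv f F G ξ))

lemma μ_tmul (ξ : Spec (CommRingCat.of Ω) ⟶ X) (hξ : ξ ≫ f = η) (W : X.Etale)
    (w : (Scheme.pointSmallEtale ξ).fiber.obj W) (p : F.obj.obj (op W))
    (y : ((Scheme.pointSmallEtale η).presheafFiber.obj G.obj : AddCommGrpCat.{u + 1}))
    (q : ((EtCoh.pull f).obj G).obj.obj (op W))
    (hq : θ f ξ hξ G y =
      (Scheme.pointSmallEtale ξ).toPresheafFiber W w ((EtCoh.pull f).obj G).obj q) :
    μ f F G η ξ hξ (((Scheme.pointSmallEtale ξ).toPresheafFiber W w F.obj p) ⊗ₜ[ℤ] y) =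
      (Scheme.pointSmallEtale ξ).toPresheafFiber W w (TT f F G).obj
        ((ts f F G).app (op W) (p ⊗ₜ[ℤ] q)) := by
  have h1 : μ f F G η ξ hξ (((Scheme.pointSmallEtale ξ).toPresheafFiber W w F.obj p) ⊗ₜ[ℤ] y) =
      σEquiv f F G ξ
        ((tensorFiberEquiv (Scheme.pointSmallEtale ξ) F.obj ((EtCoh.pull f).obj G).obj).symm
          (((Scheme.pointSmallEtale ξ).toPresheafFiber W w F.obj p) ⊗ₜ[ℤ] (θ f ξ hξ G y))) := rfl
  rw [h1, hq, tensorFiberEquiv_symm_tmul]
  exact (Scheme.pointSmallEtale ξ).toPresheafFiber_naturality_apply (ts f F G) W w (p ⊗ₜ[ℤ] q)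

/-- the stalk of the presheaf-level projection formula map is bijective -/
theorem stalk_ΦPre_bijective :
    Function.Bijective ((Scheme.pointSmallEtale η).presheafFiber.map (ΦPre f F G)) := by
  classical
  let e := tensorFiberEquiv (Scheme.pointSmallEtale η) ((LS f).obj F).obj G.obj
  let φ' : (((Scheme.pointSmallEtale η).presheafFiber.obj ((LS f).obj F).obj :
      AddCommGrpCat.{u + 1}) ⊗[ℤ]
      ((Scheme.pointSmallEtale η).presheafFiber.obj G.obj : AddCommGrpCat.{u + 1})) →+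
      ((Scheme.pointSmallEtale η).presheafFiber.obj ((LS f).obj (TT f F G)).obj :
        AddCommGrpCat.{u + 1}) :=
    ((Scheme.pointSmallEtale η).presheafFiber.map (ΦPre f F G)).hom.comp e.symm.toAddMonoidHom
  have hφ' : Function.Bijective φ' := by
    apply bijective_of_compat (I := {ξ : Spec (CommRingCat.of Ω) ⟶ X // ξ ≫ f = η})
      (fun i => ((Scheme.pointSmallEtale i.1).presheafFiber.obj F.obj : AddCommGrpCat.{u + 1}))
      (fun i => ((Scheme.pointSmallEtale i.1).presheafFiber.obj (TT f F G).obj :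
        AddCommGrpCat.{u + 1}))
      _ _ _
      (fun i => (τ f F η i.1 i.2).hom) (fun i => (τ f (TT f F G) η i.1 i.2).hom)
      (finite_support f F η)
      (fun a h => τ_jointly_injective f F η a (fun ξ hξ => h ⟨ξ, hξ⟩))
      (fun i c => by
        obtain ⟨a, h1, h2⟩ := exists_single f F η i.1 i.2 c
        exact ⟨a, h1, fun j hj => h2 j.1 j.2 (fun h => hj (Subtype.ext h))⟩)
      (finite_support f (TT f F G) η)
      (fun a h => τ_jointly_injective f (TT f F G) η a (fun ξ hξ => h ⟨ξ, hξ⟩))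
      (fun i c => by
        obtain ⟨a, h1, h2⟩ := exists_single f (TT f F G) η i.1 i.2 c
        exact ⟨a, h1, fun j hj => h2 j.1 j.2 (fun h => hj (Subtype.ext h))⟩)
      (fun i => μ f F G η i.1 i.2) φ'
    intro x y i
    obtain ⟨V, v, a, g, rfl, rfl⟩ := exists_common (Scheme.pointSmallEtale η)
      ((LS f).obj F).obj G.obj x y
    have h1 : φ' (((Scheme.pointSmallEtale η).toPresheafFiber V v ((LS f).obj F).obj a) ⊗ₜ[ℤ]
        ((Scheme.pointSmallEtale η).toPresheafFiber V v G.obj g)) =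
        (Scheme.pointSmallEtale η).presheafFiber.map (ΦPre f F G)
          (e.symm (((Scheme.pointSmallEtale η).toPresheafFiber V v ((LS f).obj F).obj a) ⊗ₜ[ℤ]
            ((Scheme.pointSmallEtale η).toPresheafFiber V v G.obj g))) := rfl
    rw [h1, tensorFiberEquiv_symm_tmul]
    have h2 : (Scheme.pointSmallEtale η).presheafFiber.map (ΦPre f F G)
        (gt (Scheme.pointSmallEtale η) ((LS f).obj F).obj G.obj V v a g) =
        (Scheme.pointSmallEtale η).toPresheafFiber V v ((LS f).obj (TT f F G)).obj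
          ((ΦPre f F G).app (op V) (a ⊗ₜ[ℤ] g)) :=
      (Scheme.pointSmallEtale η).toPresheafFiber_naturality_apply (ΦPre f F G) V v (a ⊗ₜ[ℤ] g)
    rw [h2]
    have h3 := τ_germ f (TT f F G) η i.1 i.2 V v ((ΦPre f F G).app (op V) (a ⊗ₜ[ℤ] g))
    have h4 := τ_germ f F η i.1 i.2 V v a
    have h5 := θ_germ f i.1 i.2 G V v g
    refine h3.trans ?_
    rw [und_ΦPre]
    change _ = μ f F G η i.1 i.2 ((τ f F η i.1 i.2 _) ⊗ₜ[ℤ] _)
    rw [h4]
    exact (μ_tmul f F G η i.1 i.2 _ _ _ _ _ h5).symm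
  have h6 : ((Scheme.pointSmallEtale η).presheafFiber.map (ΦPre f F G) : _ → _) = φ' ∘ e := by
    funext z
    change _ = (Scheme.pointSmallEtale η).presheafFiber.map (ΦPre f F G) (e.symm (e z))
    rw [AddEquiv.symm_apply_apply]
  rw [h6]
  exact hφ'.comp e.bijective

end Groth.Agent.Lib.Helper57.PF
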