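import Mathlib
import Groth.Agent.Lib.Helper57.PF5

set_option autoImplicit false
open CategoryTheory CategoryTheory.Limits AlgebraicGeometry Opposite TensorProduct
universe u

/-! The projection formula for `f_!`, `f` separated and locally quasi-finite: conclusion. -/

namespace Groth.Agent.Lib.Helper57.PF

open Groth.Agent.Lib.Helper4 Groth.Agent.Lib.Helper79 Groth.Agent.Lib.Helper57.FinStalk
open Groth.Agent.Lib.Helper21.ProperOver Groth.Agent.Lib.Helper57.EZ Groth.Agent.Lib.Helper57.CS
open Groth.Agent.Lib.Helper57.RE Groth.Agent.Lib.Helper79.EtSiteGlue Groth.Agent.Lib.Helper57.ST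
open Groth.Agent.Lib.Helper57.IntStalk

variable {X Y : Scheme.{u}} (f : X ⟶ Y) [IsSeparated f] [LocallyOfFiniteType f]
  [LocallyQuasiFinite f] (F : EtCoh.Ab X) (G : EtCoh.Ab Y)

/-- the projection formula map -/
noncomputable def ΦSh :
    (EtTens.tensorBi.obj ((LS f).obj F)).obj G ⟶ (LS f).obj (TT f F G) :=
  ⟨sheafifyLift Y.smallEtaleTopology (ΦPre f F G) ((LS f).obj (TT f F G)).2⟩

lemma toSheafify_ΦSh :
    toSheafify Y.smallEtaleTopology (EtTens.tensorObj ((LS f).obj F).obj G.obj) ≫
      (ΦSh f F G).hom = ΦPre f F G :=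
  toSheafify_sheafifyLift _ _ _

instance isIso_ΦSh : IsIso (ΦSh f F G) := by
  rw [PointULift.isIso_iff_sheafFiber.{u, u + 1} (hfamAlg Y) AddCommGrpCat.{u + 1} _]
  rintro ⟨_, ⟨s⟩⟩
  change IsIso ((Scheme.pointSmallEtale (geomPtAlg Y s)).presheafFiber.map (ΦSh f F G).hom)
  have h1 : Function.Bijective ((Scheme.pointSmallEtale (geomPtAlg Y s)).presheafFiber.map
      (toSheafify Y.smallEtaleTopology (EtTens.tensorObj ((LS f).obj F).obj G.obj))) :=
    (Scheme.pointSmallEtale (geomPtAlg Y s)).toPresheafFiber_map_bijective _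
  have h2 := stalk_ΦPre_bijective f F G (geomPtAlg Y s)
  have h3 : (Scheme.pointSmallEtale (geomPtAlg Y s)).presheafFiber.map
      (toSheafify Y.smallEtaleTopology (EtTens.tensorObj ((LS f).obj F).obj G.obj)) ≫
      (Scheme.pointSmallEtale (geomPtAlg Y s)).presheafFiber.map (ΦSh f F G).hom =
      (Scheme.pointSmallEtale (geomPtAlg Y s)).presheafFiber.map (ΦPre f F G) := by
    rw [← Functor.map_comp, toSheafify_ΦSh]
  have h4 : Function.Bijective
      ((Scheme.pointSmallEtale (geomPtAlg Y s)).presheafFiber.map (ΦSh f F G).hom) := by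
    have h5 : ((Scheme.pointSmallEtale (geomPtAlg Y s)).presheafFiber.map (ΦPre f F G) : _ → _) =
        ((Scheme.pointSmallEtale (geomPtAlg Y s)).presheafFiber.map (ΦSh f F G).hom) ∘
          ((Scheme.pointSmallEtale (geomPtAlg Y s)).presheafFiber.map
            (toSheafify Y.smallEtaleTopology (EtTens.tensorObj ((LS f).obj F).obj G.obj))) := by
      rw [← h3]
      rfl
    rw [h5] at h2
    exact (Function.Bijective.of_comp_iff _ h1).1 h2
  exact (ConcreteCategory.isIso_iff_bijective _).2 h4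

theorem projection_formula :
    Nonempty ((EtTens.tensorBi.obj ((EtShriek.lowerShriek f).obj F)).obj G ≅
      (EtShriek.lowerShriek f).obj ((EtTens.tensorBi.obj F).obj ((EtCoh.pull f).obj G))) :=
  ⟨(EtTens.tensorBi.mapIso ((lowerShriekIsoLS f).app F)).app G ≪≫ asIso (ΦSh f F G) ≪≫
    ((lowerShriekIsoLS f).app (TT f F G)).symm⟩

end Groth.Agent.Lib.Helper57.PF
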