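import Mathlib.CategoryTheory.EquivalenceRelation
import Mathlib.CategoryTheory.Functor.RegularEpi
import Mathlib.CategoryTheory.Types.Epimorphisms
import Mathlib.CategoryTheory.Limits.Types.Pullbacks
import Mathlib.CategoryTheory.Limits.FunctorCategory.EpiMono
import Groth.Agent.Lib.Helper57.UnivEffEpi

set_option autoImplicit false
set_option backward.isDefEq.respectTransparency false
open CategoryTheory CategoryTheory.Limits Opposite
universe w v₁ u₁

namespace Groth.Agent.Lib.Helper57

variable {D : Type u₁} [Category.{v₁} D] {R X : D ⥤ Type w} (p₁ p₂ : R ⟶ X)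

/-- The kernel of `(p₁, p₂)` as a functor: pairs of sections of `R` with the same images. -/
def kerFunctor : D ⥤ Type w where
  obj U := {q : R.obj U × R.obj U // p₁.app U q.1 = p₁.app U q.2 ∧ p₂.app U q.1 = p₂.app U q.2}
  map {U V} f := ↾(fun q => ⟨(R.map f q.1.1, R.map f q.1.2), by
    refine ⟨?_, ?_⟩
    · rw [NatTrans.naturality_apply, NatTrans.naturality_apply, q.2.1]
    · rw [NatTrans.naturality_apply, NatTrans.naturality_apply, q.2.2]⟩)
  map_id U := by
    ext q <;> simp
  map_comp f g := by
    ext q <;> simp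

/-- First projection of the kernel functor. -/
def kerFst : kerFunctor p₁ p₂ ⟶ R where
  app U := ↾(fun q => q.1.1)
  naturality U V f := by ext q; rfl

/-- Second projection of the kernel functor. -/
def kerSnd : kerFunctor p₁ p₂ ⟶ R where
  app U := ↾(fun q => q.1.2)
  naturality U V f := by ext q; rfl

variable {p₁ p₂}

theorem jointly_injective_app [JointlyMono₂ p₁ p₂] (U : D) (r r' : R.obj U)
    (h₁ : p₁.app U r = p₁.app U r') (h₂ : p₂.app U r = p₂.app U r') : r = r' := by
  have h : kerFst p₁ p₂ = kerSnd p₁ p₂ := by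
    apply JointlyMono₂.right_cancellation (p₁ := p₁) (p₂ := p₂)
    · ext V q; exact q.2.1
    · ext V q; exact q.2.2
  have := congrArg (fun t => t.app U ⟨(r, r'), h₁, h₂⟩) h
  exact this

theorem jointlyMono₂_app [JointlyMono₂ p₁ p₂] (U : D) :
    JointlyMono₂ (p₁.app U) (p₂.app U) where
  right_cancellation Y f g h₁ h₂ := by
    ext y
    exact jointly_injective_app U _ _ (congr($h₁ y)) (congr($h₂ y))

theorem equivalence_app (e : EquivalenceRelation p₁ p₂) (U : D) :
    Equivalence (TypeCat.Rel.ofPair (p₁.app U) (p₂.app U)) := by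
  have : JointlyMono₂ p₁ p₂ := e.toReflexiveRelation.toJointlyMono₂
  have : JointlyMono₂ (((evaluation D (Type w)).obj U).map p₁)
      (((evaluation D (Type w)).obj U).map p₂) := jointlyMono₂_app U
  exact
  { refl := (TypeCat.refl_of_reflexiveRelation
      (e.toReflexiveRelation.map ((evaluation D (Type w)).obj U))).refl
    symm := (TypeCat.symm_of_symmetricRelation
      (e.toSymmetricRelation.map ((evaluation D (Type w)).obj U))).symm _ _
    trans := (TypeCat.isTrans_of_transitiveRelation
      (e.toTransitiveRelation.map ((evaluation D (Type w)).obj U))).trans _ _ _ }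

variable (p₁ p₂)

/-- The relation on sections of `X` induced by the pair `(p₁, p₂)`. -/
def secRel (U : D) : X.obj U → X.obj U → Prop := TypeCat.Rel.ofPair (p₁.app U) (p₂.app U)

theorem secRel_map {U V : D} (f : U ⟶ V) {x x' : X.obj U} (h : secRel p₁ p₂ U x x') :
    secRel p₁ p₂ V (X.map f x) (X.map f x') := by
  obtain ⟨r, h1, h2⟩ := h
  exact ⟨R.map f r, by rw [NatTrans.naturality_apply, h1], by rw [NatTrans.naturality_apply, h2]⟩

/-- The sectionwise quotient of `X` by the relation `(p₁, p₂)`. -/
def quotFunctor : D ⥤ Type w where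
  obj U := Quot (secRel p₁ p₂ U)
  map {U V} f := ↾(Quot.map (X.map f) (fun _ _ h => secRel_map p₁ p₂ f h))
  map_id U := by
    ext q
    induction q using Quot.ind
    simp [Quot.map]
  map_comp f g := by
    ext q
    induction q using Quot.ind
    simp [Quot.map]

/-- The quotient map. -/
def quotπ : X ⟶ quotFunctor p₁ p₂ where
  app U := ↾(Quot.mk _)
  naturality U V f := by ext x; rfl

theorem quotπ_app_surjective (U : D) : Function.Surjective ((quotπ p₁ p₂).app U) :=
  fun q => Quot.exists_rep q

theorem quotπ_condition : p₁ ≫ quotπ p₁ p₂ = p₂ ≫ quotπ p₁ p₂ := by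
  ext U r
  exact Quot.sound ⟨r, rfl, rfl⟩

instance epi_quotπ : Epi (quotπ p₁ p₂) := by
  have : ∀ U, Epi ((quotπ p₁ p₂).app U) := fun U =>
    (epi_iff_surjective _).2 (quotπ_app_surjective p₁ p₂ U)
  exact NatTrans.epi_of_epi_app _

variable {p₁ p₂}

theorem isKernelPair_quotπ (e : EquivalenceRelation p₁ p₂) :
    IsKernelPair (quotπ p₁ p₂) p₁ p₂ := by
  have : JointlyMono₂ p₁ p₂ := e.toReflexiveRelation.toJointlyMono₂
  refine IsPullback.of_forall_isPullback_app fun U => ?_
  rw [Types.isPullback_iff]
  refine ⟨congr_app (quotπ_condition p₁ p₂) U, ?_, ?_⟩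
  · rintro r r' ⟨h₁, h₂⟩
    exact jointly_injective_app U r r' h₁ h₂
  · intro x x' h
    have h' : Quot.mk (secRel p₁ p₂ U) x = Quot.mk (secRel p₁ p₂ U) x' := h
    have := (equivalence_app e U).eqvGen_iff.1 (Quot.eqvGen_exact h')
    obtain ⟨r, h1, h2⟩ := this
    exact ⟨r, h1, h2⟩

theorem isPushout_quotπ (e : ReflexiveRelation p₁ p₂) :
    IsPushout p₁ p₂ (quotπ p₁ p₂) (quotπ p₁ p₂) := by
  refine ⟨⟨quotπ_condition p₁ p₂⟩, ⟨PushoutCocone.IsColimit.mk _ (fun s =>
    { app := fun U => ↾(Quot.lift (s.inl.app U) ?_)
      naturality := ?_ }) ?_ ?_ ?_⟩⟩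
  · rintro x x' ⟨r, rfl, rfl⟩
    have h1 : s.inl = s.inr := by
      have := e.r ≫= s.condition
      simpa using this
    have h2 := congrArg (fun t => t.app U r) s.condition
    simp only [NatTrans.comp_app, types_comp_apply] at h2
    rw [h2, h1]
  · intro U V f
    ext q
    induction q using Quot.ind
    exact NatTrans.naturality_apply s.inl f _
  · intro s
    ext U x
    rfl
  · intro s
    have h1 : s.inl = s.inr := by
      have := e.r ≫= s.condition
      simpa using this
    ext U x
    exact (congrArg (fun t => (t.app U) x) h1 : s.inl.app U x = s.inr.app U x)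
  · intro s m hm₁ hm₂
    ext U q
    induction q using Quot.ind with
    | mk a => exact (congrArg (fun t => (t.app U) a) hm₁ : _)

/-- In a category of functors to types, every epimorphism is universally effective. -/
theorem ue_of_epi_functorToType {F G : D ⥤ Type w} (f : F ⟶ G) [Epi f] : UE f := by
  intro F' G' i₁ i₂ f' H
  have hf : ∀ U, Epi (f.app U) := fun U => inferInstance
  have : ∀ U, Epi (f'.app U) := fun U =>
    MorphismProperty.of_isPullback (P := MorphismProperty.epimorphisms (Type w))
      (H.app U).flip (hf U)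
  have : Epi f' := NatTrans.epi_of_epi_app _
  have : IsRegularEpi f' := IsRegularEpiCategory.regularEpiOfEpi f'
  infer_instance

/-- Every equivalence relation on a functor to types is universally effective. -/
noncomputable def ueerOfEquivalenceRelation (e : EquivalenceRelation p₁ p₂) :
    UniversallyEffectiveEquivalenceRelation p₁ p₂ where
  toEquivalenceRelation := e
  B := quotFunctor p₁ p₂
  π := quotπ p₁ p₂
  isKernelPair := isKernelPair_quotπ e
  isPushout := isPushout_quotπ e.toReflexiveRelation
  universally_effectiveEpi_π := ue_of_epi_functorToType _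

end Groth.Agent.Lib.Helper57
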