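import Groth.Agent.Lib.Helper82.EpsMod
import Groth.Agent.Lib.Helper57.ARPull
import Groth.Agent.Lib.Helper57.ModLC

set_option autoImplicit false
open CategoryTheory CategoryTheory.Limits AlgebraicGeometry Opposite
universe u v₁ v₂ u₁ u₂ w

noncomputable section

namespace Groth.Agent.Lib.Helper57.ProEtLisse

open ARSys

section Abstract

variable {R : Type w} [CommRing R] {C : Type u₁} [Category.{v₁} C] {D : Type u₂} [Category.{v₂} D]
  [Preadditive C] [Preadditive D] [Linear R C] [Linear R D]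

theorem homKilledBy_of_src {I : Ideal R} {Q Y : C} (hQ : KilledBy I Q) (φ : Q ⟶ Y) :
    HomKilledBy I φ := by
  intro a ha
  have : a • φ = (a • 𝟙 Q) ≫ φ := by rw [Linear.smul_comp, Category.id_comp]
  rw [this, hQ a ha, zero_comp]

theorem epi_of_isQuot {I : Ideal R} {X Q : C} {p : X ⟶ Q} (h : IsQuot I p) : Epi p := by
  constructor
  intro Y a b hab
  have hk : HomKilledBy I (p ≫ a) := by
    intro c hc
    rw [← Linear.comp_smul, homKilledBy_of_src h.1 a c hc, comp_zero]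
  obtain ⟨ψ, -, huniq⟩ := h.2 Y (p ≫ a) hk
  rw [huniq a rfl, huniq b hab.symm]

theorem isQuot_cancel {I J : Ideal R} {X Q Q' : C} {p : X ⟶ Q} {p' : X ⟶ Q'}
    {t : Q ⟶ Q'} (hp : IsQuot J p) (hp' : IsQuot I p') (ht : p ≫ t = p') : IsQuot I t := by
  haveI := epi_of_isQuot hp
  refine ⟨hp'.1, fun Y φ hφ => ?_⟩
  have hk : HomKilledBy I (p ≫ φ) := by
    intro c hc
    rw [← Linear.comp_smul, hφ c hc, comp_zero]
  obtain ⟨ψ, hψ, huniq⟩ := hp'.2 Y (p ≫ φ) hk
  refine ⟨ψ, ?_, ?_⟩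
  · change t ≫ ψ = φ
    rw [← cancel_epi p, ← Category.assoc, ht, hψ]
  · intro ψ' hψ'
    apply huniq
    rw [← ht, Category.assoc]
    exact congrArg (p ≫ ·) hψ'

theorem killedBy_of_iso {I : Ideal R} {Q Q' : C} (e : Q ≅ Q') (h : KilledBy I Q) :
    KilledBy I Q' := by
  intro a ha
  have : a • 𝟙 Q' = e.inv ≫ (a • 𝟙 Q) ≫ e.hom := by
    rw [Linear.smul_comp, Linear.comp_smul, Category.id_comp, e.inv_hom_id]
  rw [this, h a ha, zero_comp, comp_zero]

theorem isQuot_of_iso {I : Ideal R} {X Q X' Q' : C} (e : X' ≅ X) (e' : Q ≅ Q') {q : X ⟶ Q}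
    (h : IsQuot I q) : IsQuot I (e.hom ≫ q ≫ e'.hom) := by
  refine ⟨killedBy_of_iso e' h.1, fun Y φ hφ => ?_⟩
  have hk : HomKilledBy I (e.inv ≫ φ) := by
    intro a ha
    rw [← Linear.comp_smul, hφ a ha, comp_zero]
  obtain ⟨ψ, hψ, huniq⟩ := h.2 Y (e.inv ≫ φ) hk
  refine ⟨e'.inv ≫ ψ, ?_, ?_⟩
  · change (e.hom ≫ q ≫ e'.hom) ≫ e'.inv ≫ ψ = φ
    rw [Category.assoc, Category.assoc, e'.hom_inv_id_assoc, hψ, e.hom_inv_id_assoc]
  · intro ψ' hψ'
    have hψ'' : (e.hom ≫ q ≫ e'.hom) ≫ ψ' = φ := hψ'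
    have : ψ = e'.hom ≫ ψ' := by
      symm
      apply huniq
      rw [← hψ'']
      simp
    rw [this, e'.inv_hom_id_assoc]

theorem killedBy_reflect (L : C ⥤ D) [L.Additive] [L.Linear R] (hL : L.FullyFaithful)
    {I : Ideal R} {Q : C} (h : KilledBy I (L.obj Q)) : KilledBy I Q := by
  intro a ha
  apply hL.map_injective
  rw [Functor.map_smul, L.map_id, L.map_zero]
  exact h a ha

theorem isQuot_reflect (L : C ⥤ D) [L.Additive] [L.Linear R] (hL : L.FullyFaithful)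
    {I : Ideal R} {X Q : C} (t : X ⟶ Q) (h : IsQuot I (L.map t)) : IsQuot I t := by
  refine ⟨killedBy_reflect L hL h.1, fun Y φ hφ => ?_⟩
  have hk : HomKilledBy I (L.map φ) := by
    intro a ha
    rw [← Functor.map_smul, hφ a ha, L.map_zero]
  obtain ⟨ψ, hψ, huniq⟩ := h.2 (L.obj Y) (L.map φ) hk
  refine ⟨hL.preimage ψ, ?_, ?_⟩
  · change t ≫ hL.preimage ψ = φ
    apply hL.map_injective
    rw [L.map_comp, hL.map_preimage]
    exact hψ
  · intro ψ' hψ'
    have hψ'' : t ≫ ψ' = φ := hψ'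
    apply hL.map_injective
    rw [hL.map_preimage]
    apply huniq
    rw [← L.map_comp, hψ'']

/-- Descend a projective system along a fully faithful functor. -/
theorem exists_descend (L : C ⥤ D) (hL : L.FullyFaithful) (Q : PS D)
    (E : ℕ → C) (e : ∀ n, L.obj (E n) ≅ Q.obj (op n)) :
    ∃ (F : PS C) (α : F ⋙ L ≅ Q), (∀ n, F.obj (op n) = E n) := by
  let t : ∀ n, E (n + 1) ⟶ E n := fun n =>
    hL.preimage ((e (n + 1)).hom ≫ Q.map (homOfLE (Nat.le_add_right n 1)).op ≫ (e n).inv)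
  let F : PS C := Functor.ofOpSequence t
  have hnat : ∀ n : ℕ, (F ⋙ L).map (homOfLE (n.le_add_right 1)).op ≫ (e n).hom =
      (e (n + 1)).hom ≫ Q.map (homOfLE (n.le_add_right 1)).op := by
    intro n
    have h1 : F.map (homOfLE (n.le_add_right 1)).op = t n :=
      Functor.ofOpSequence_map_homOfLE_succ t n
    have h2 : L.map (t n) =
        (e (n + 1)).hom ≫ Q.map (homOfLE (Nat.le_add_right n 1)).op ≫ (e n).inv :=
      hL.map_preimage _
    rw [Functor.comp_map, h1]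
    refine (congrArg (fun z => z ≫ (e n).hom) h2).trans ?_
    simp
  let α : F ⋙ L ⟶ Q := NatTrans.ofOpSequence (fun n => (e n).hom) hnat
  haveI : ∀ k : ℕᵒᵖ, IsIso (α.app k) := by
    intro k
    change IsIso (e k.unop).hom
    infer_instance
  haveI : IsIso α := NatIso.isIso_of_isIso_app α
  exact ⟨F, asIso α, fun n => rfl⟩

end Abstract

end Groth.Agent.Lib.Helper57.ProEtLisse

namespace Groth.Agent.Lib.Helper57.ProEtLisse

open ProEtS Groth.Agent.Lib.Helper82.EpsMod Groth.Agent.Lib.Helper57.ARPull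
  Groth.Agent.Lib.Helper57.ModLC

variable (Λ : Type (u + 1)) [CommRing Λ]

instance pushM_linear (X : Scheme.{u}) [EpsCont X] : (pushM X Λ).Linear Λ where
  map_smul {F G} φ a := by
    ext : 1
    rfl

instance epsPullMod_linear (X : Scheme.{u}) [EpsCont X] : (EtModW.epsPullMod Λ X).Linear Λ :=
  leftAdjoint_linear (adjM X Λ)

def epsFF (X : Scheme.{u}) [EpsCont X] : (EtModW.epsPullMod Λ X).FullyFaithful :=
  (adjM X Λ).fullyFaithfulLOfIsIsoUnit

def bcEps {X Y : Scheme.{u}} (f : X ⟶ Y) : eps Y ⋙ bcP f ≅ EtCoh.bc f ⋙ eps X :=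
  NatIso.ofComponents (fun V => Iso.refl _) (by
    intro V W g
    refine (Category.comp_id _).trans (Eq.trans ?_ (Category.id_comp _).symm)
    rfl)

section BC

variable {X Y : Scheme.{u}} (f : X ⟶ Y) [EpsCont X] [EpsCont Y] [PCont f]

abbrev pushPM : EtModW.ModP Λ X ⥤ EtModW.ModP Λ Y :=
  (bcP f).sheafPushforwardContinuous (ModuleCat.{u + 1} Λ) (Scheme.ProEt.topology Y)
    (Scheme.ProEt.topology X)

abbrev pullPM : EtModW.ModP Λ Y ⥤ EtModW.ModP Λ X :=
  (bcP f).sheafPullback (ModuleCat.{u + 1} Λ) (Scheme.ProEt.topology Y)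
    (Scheme.ProEt.topology X)

abbrev adjPM : pullPM Λ f ⊣ pushPM Λ f :=
  (bcP f).sheafAdjunctionContinuous (ModuleCat.{u + 1} Λ) (Scheme.ProEt.topology Y)
    (Scheme.ProEt.topology X)

instance contFG : (EtCoh.bc f ⋙ eps X).IsContinuous Y.smallEtaleTopology
    (Scheme.ProEt.topology X) :=
  Functor.isContinuous_comp (EtCoh.bc f) (eps X) Y.smallEtaleTopology X.smallEtaleTopology
    (Scheme.ProEt.topology X)

set_option backward.isDefEq.respectTransparency.types false in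
def pushA : pushM X Λ ⋙ EtModW.push Λ f ≅
    (EtCoh.bc f ⋙ eps X).sheafPushforwardContinuous (ModuleCat.{u + 1} Λ) Y.smallEtaleTopology
      (Scheme.ProEt.topology X) :=
  Functor.sheafPushforwardContinuousComp' (F := EtCoh.bc f) (G := eps X)
    (FG := EtCoh.bc f ⋙ eps X) (Iso.refl _) (ModuleCat.{u + 1} Λ) Y.smallEtaleTopology
    X.smallEtaleTopology (Scheme.ProEt.topology X)

set_option backward.isDefEq.respectTransparency.types false in
def pushB : pushPM Λ f ⋙ pushM Y Λ ≅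
    (EtCoh.bc f ⋙ eps X).sheafPushforwardContinuous (ModuleCat.{u + 1} Λ) Y.smallEtaleTopology
      (Scheme.ProEt.topology X) :=
  Functor.sheafPushforwardContinuousComp' (F := eps Y) (G := bcP f)
    (FG := EtCoh.bc f ⋙ eps X) (bcEps f) (ModuleCat.{u + 1} Λ) Y.smallEtaleTopology
    (Scheme.ProEt.topology Y) (Scheme.ProEt.topology X)

/-- `ε_X⁻¹ ∘ f⁻¹ ≅ f_proet⁻¹ ∘ ε_Y⁻¹`. -/
def pullEpsIso : EtModW.pull Λ f ⋙ EtModW.epsPullMod Λ X ≅
    EtModW.epsPullMod Λ Y ⋙ pullPM Λ f :=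
  Adjunction.leftAdjointUniq ((pullPushAdj Λ f).comp (adjM X Λ))
    (((adjM Y Λ).comp (adjPM Λ f)).ofNatIsoRight (pushB Λ f ≪≫ (pushA Λ f).symm))

end BC

end Groth.Agent.Lib.Helper57.ProEtLisse
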