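import Groth.Agent.Lib.Helper57.ProEtLisse

set_option autoImplicit false
open CategoryTheory CategoryTheory.Limits AlgebraicGeometry Opposite
universe u

noncomputable section

namespace Groth.Agent.Lib.Helper57.ProEtLisse

open ProEtS Groth.Agent.Lib.Helper82.EpsMod

/-- An `I`-adic tower of pro-étale sheaves with constructible terms descends to an `I`-adic
system of constructible étale sheaves. -/
theorem descend_adic (Λ : Type (u + 1)) [CommRing Λ] (I : Ideal Λ)
    (X : Scheme.{u}) [ProEtS.EpsCont X]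
    (F : EtModW.ModP Λ X) (Q : ℕᵒᵖ ⥤ EtModW.ModP Λ X) (p : (Functor.const ℕᵒᵖ).obj F ⟶ Q)
    (hQ : ∀ n : ℕ, ARSys.IsQuot (I ^ (n + 1)) (p.app (op n)))
    (hc : ∀ n : ℕ, ∃ E : EtModW.Mod Λ X, EtModW.IsConstructible Λ E ∧
      Nonempty ((EtModW.epsPullMod Λ X).obj E ≅ Q.obj (op n))) :
    ∃ (Fs : ARSys.PS (EtModW.Mod Λ X)) (_ : Fs ⋙ EtModW.epsPullMod Λ X ≅ Q),
      ARSys.IsAdic I Fs ∧ ∀ n, EtModW.IsConstructible Λ (Fs.obj (op n)) := by
  classical
  choose E hEc hEe using hc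
  let e : ∀ n, (EtModW.epsPullMod Λ X).obj (E n) ≅ Q.obj (op n) := fun n => (hEe n).some
  obtain ⟨Fs, α, hFs⟩ := exists_descend (EtModW.epsPullMod Λ X) (epsFF Λ X) Q E e
  have hcons : ∀ n, EtModW.IsConstructible Λ (Fs.obj (op n)) := fun n => by
    rw [hFs n]
    exact hEc n
  refine ⟨Fs, α, ⟨fun n => ?_, fun n m h => ?_⟩, hcons⟩
  · apply killedBy_reflect (EtModW.epsPullMod Λ X) (epsFF Λ X)
    exact killedBy_of_iso (α.app (op n)).symm (hQ n).1
  · apply isQuot_reflect (EtModW.epsPullMod Λ X) (epsFF Λ X)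
    have hq : ARSys.IsQuot (I ^ (n + 1)) (Q.map (homOfLE h).op) :=
      isQuot_cancel (hQ m) (hQ n)
        ((p.naturality (homOfLE h).op).symm.trans (Category.id_comp _))
    have hnat := α.hom.naturality (homOfLE h).op
    have key : (EtModW.epsPullMod Λ X).map (ARSys.tr Fs h) =
        (α.app (op m)).hom ≫ Q.map (homOfLE h).op ≫ (α.app (op n)).symm.hom := by
      rw [Iso.symm_hom, ← Category.assoc, Iso.eq_comp_inv]
      exact hnat
    rw [key]
    exact isQuot_of_iso (α.app (op m)) (α.app (op n)).symm hq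

end Groth.Agent.Lib.Helper57.ProEtLisse
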