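import Groth.Agent.Lib.Helper57.PropA1
import Mathlib.RingTheory.Smooth.NoetherianDescent

set_option autoImplicit false
universe u
open CategoryTheory CategoryTheory.Limits AlgebraicGeometry TopologicalSpace TensorProduct

namespace Groth.Agent.Lib.Helper57.PropA

open Groth.Agent.Lib.Helper57.Wt

/-- Descent of an étale algebra over an integral algebra to a finite subalgebra. -/
theorem exists_finite_model_ring (A B C : Type u) [CommRing A] [CommRing B] [CommRing C]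
    [Algebra A B] [Algebra B C] [Algebra.IsIntegral A B] [Algebra.Etale B C] :
    ∃ (B₀ : Subalgebra A B) (C₀ : Type u) (_ : CommRing C₀) (_ : Algebra B₀ C₀) (σ : C₀ →+* C),
      Module.Finite A B₀ ∧ Algebra.Etale B₀ C₀ ∧
      IsPushout (CommRingCat.ofHom (algebraMap B₀ C₀)) (CommRingCat.ofHom (algebraMap B₀ B))
        (CommRingCat.ofHom σ) (CommRingCat.ofHom (algebraMap B C)) := by
  obtain ⟨B₀, C₀, _, _, hfg, het, ⟨e⟩⟩ := Algebra.Etale.exists_subalgebra_fg A B C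
  have hint : Algebra.IsIntegral A B₀ := by
    constructor
    intro x
    have := Algebra.IsIntegral.isIntegral (R := A) (x : B)
    exact (isIntegral_algHom_iff B₀.val Subtype.val_injective).mp this
  have hfin : Module.Finite A B₀ := by
    have : Algebra.FiniteType A B₀ := (Subalgebra.fg_iff_finiteType B₀).mp hfg
    exact Algebra.IsIntegral.finite
  let σ : C₀ →+* C := (e.symm : B ⊗[B₀] C₀ →+* C).comp
    (Algebra.TensorProduct.includeRight (R := B₀) (A := B) (B := C₀)).toRingHom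
  refine ⟨B₀, C₀, inferInstance, inferInstance, σ, hfin, het, ?_⟩
  have h0 := (CommRingCat.isPushout_tensorProduct B₀ B C₀).flip
  refine h0.of_iso (Iso.refl _) (Iso.refl _) (Iso.refl _) e.symm.toRingEquiv.toCommRingCatIso
    (by simp) (by simp) ?_ ?_
  · ext x
    simp [σ]
  · ext x
    simp only [Iso.refl_hom, Category.id_comp, CommRingCat.hom_comp, CommRingCat.hom_ofHom,
      RingEquiv.toCommRingCatIso_hom, RingHom.coe_comp, Function.comp_apply]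
    show e.symm (x ⊗ₜ[↥B₀] 1) = (algebraMap B C) x
    have : (x ⊗ₜ[↥B₀] (1 : C₀)) = algebraMap B (B ⊗[↥B₀] C₀) x := rfl
    rw [this, AlgEquiv.commutes]


/-- Scheme form of the descent to a finite model. -/
theorem exists_finite_model {X Y U₁ : Scheme.{u}} [IsAffine Y] [IsAffine U₁] (f : X ⟶ Y)
    [IsIntegralHom f] (g₁ : U₁ ⟶ X) [Etale g₁] :
    ∃ (X₀ U₀ : Scheme.{u}) (r : X ⟶ X₀) (f₀ : X₀ ⟶ Y) (g₀ : U₀ ⟶ X₀) (s : U₁ ⟶ U₀),
      IsFinite f₀ ∧ Etale g₀ ∧ r ≫ f₀ = f ∧ IsPullback s g₁ g₀ r := by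
  obtain ⟨hX, hfint⟩ := (HasAffineProperty.iff_of_isAffine (P := @IsIntegralHom)).mp
    (inferInstance : IsIntegralHom f)
  have hget : (g₁.appTop).hom.Etale :=
    (HasRingHomProperty.iff_of_isAffine (P := @Etale)).mp (inferInstance : Etale g₁)
  let A : Type u := Γ(Y, ⊤)
  let B : Type u := Γ(X, ⊤)
  let C : Type u := Γ(U₁, ⊤)
  let _ : Algebra A B := (f.appTop).hom.toAlgebra
  let _ : Algebra B C := (g₁.appTop).hom.toAlgebra
  have : Algebra.IsIntegral A B := ⟨hfint⟩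
  have : Algebra.Etale B C := hget
  obtain ⟨B₀, C₀, _, _, σ, hfin, het, hpo⟩ := exists_finite_model_ring A B C
  have hpb := isPullback_SpecMap_of_isPushout _ _ _ _ hpo
  let r : X ⟶ Spec (.of B₀) := X.isoSpec.hom ≫ Spec.map (CommRingCat.ofHom (algebraMap B₀ B))
  let f₀ : Spec (.of B₀) ⟶ Y := Spec.map (CommRingCat.ofHom (algebraMap A B₀)) ≫ Y.isoSpec.inv
  let g₀ : Spec (.of C₀) ⟶ Spec (.of B₀) := Spec.map (CommRingCat.ofHom (algebraMap B₀ C₀))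
  let s : U₁ ⟶ Spec (.of C₀) := U₁.isoSpec.hom ≫ Spec.map (CommRingCat.ofHom σ)
  refine ⟨Spec (.of B₀), Spec (.of C₀), r, f₀, g₀, s, ?_, ?_, ?_, ?_⟩
  · have : IsFinite (Spec.map (CommRingCat.ofHom (algebraMap A B₀))) := by
      rw [IsFinite.SpecMap_iff]
      exact RingHom.finite_algebraMap.mpr hfin
    infer_instance
  · exact (HasRingHomProperty.Spec_iff (P := @Etale)).mpr
      (RingHom.etale_algebraMap.mpr het)
  · have h1 : CommRingCat.ofHom (algebraMap A B₀) ≫ CommRingCat.ofHom (algebraMap B₀ B) =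
        f.appTop := by
      ext x
      rfl
    show (X.isoSpec.hom ≫ Spec.map _) ≫ Spec.map _ ≫ Y.isoSpec.inv = f
    rw [Category.assoc, ← Spec.map_comp_assoc, h1, Scheme.isoSpec_inv_naturality,
      Iso.hom_inv_id_assoc]
  · have h2 : CommRingCat.ofHom (algebraMap B C) = g₁.appTop := rfl
    rw [h2] at hpb
    refine hpb.of_iso U₁.isoSpec.symm (Iso.refl _) X.isoSpec.symm (Iso.refl _) ?_ ?_ ?_ ?_
    · simp [s]
    · simp [Scheme.isoSpec_inv_naturality]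
    · simp [g₀]
    · simp [r]


/-- Pulling back condition-(A) data from a model. -/
theorem propA_data_of_model {X' Y' X₀ U₁ U₀ : Scheme.{u}} (r : X' ⟶ X₀) (f₀ : X₀ ⟶ Y')
    (g₁ : U₁ ⟶ X') (g₀ : U₀ ⟶ X₀) (s : U₁ ⟶ U₀) (sqU : IsPullback s g₁ g₀ r) (u₁ : U₁)
    {V : Scheme.{u}} (v : V ⟶ Y') (W : (pullback f₀ v).Opens)
    (hWcl : IsClosed (W : Set ↥(pullback f₀ v))) (h₀ : (W : Scheme.{u}) ⟶ U₀)
    (hh₀ : h₀ ≫ g₀ = W.ι ≫ pullback.fst f₀ v) (hu₀ : s u₁ ∈ Set.range h₀) :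
    ∃ (W₀ : Scheme.{u}) (j : W₀ ⟶ pullback (r ≫ f₀) v) (_ : IsOpenImmersion j)
      (h : W₀ ⟶ U₁), IsClosed (Set.range j) ∧ h ≫ g₁ = j ≫ pullback.fst (r ≫ f₀) v ∧
        u₁ ∈ Set.range h := by
  let m : pullback (r ≫ f₀) v ⟶ pullback f₀ v := pbMap r f₀ v
  let W' : (pullback (r ≫ f₀) v).Opens := m ⁻¹ᵁ W
  have hcond : (m ∣_ W ≫ h₀) ≫ g₀ = (W'.ι ≫ pullback.fst (r ≫ f₀) v) ≫ r := by
    rw [Category.assoc, hh₀, ← Category.assoc, morphismRestrict_ι, Category.assoc, Category.assoc]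
    congr 1
    exact pbMap_fst r f₀ v
  let h : (W' : Scheme.{u}) ⟶ U₁ := sqU.lift (m ∣_ W ≫ h₀) (W'.ι ≫ pullback.fst (r ≫ f₀) v) hcond
  have hh1 : h ≫ s = m ∣_ W ≫ h₀ := sqU.lift_fst _ _ _
  have hh2 : h ≫ g₁ = W'.ι ≫ pullback.fst (r ≫ f₀) v := sqU.lift_snd _ _ _
  refine ⟨W', W'.ι, inferInstance, h, ?_, hh2, ?_⟩
  · rw [Scheme.Opens.range_ι]
    exact hWcl.preimage m.continuous
  · -- the left square is a pullback
    have houter : IsPullback (W'.ι ≫ pullback.fst (r ≫ f₀) v) (m ∣_ W) r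
        (W.ι ≫ pullback.fst f₀ v) :=
      (isPullback_morphismRestrict m W).flip.paste_horiz (isPullback_pbMap r f₀ v).flip
    rw [← hh2, ← hh₀] at houter
    have hleft : IsPullback h (m ∣_ W) s h₀ := IsPullback.of_right houter hh1 sqU.flip
    obtain ⟨w₀, hw₀⟩ := hu₀
    obtain ⟨z, hz1, -⟩ := Scheme.exists_preimage_of_isPullback hleft u₁ w₀ hw₀.symm
    exact ⟨z, hz1⟩

/-- Condition (A) for integral morphisms. -/
theorem propA_of_isIntegralHom {X Y : Scheme.{u}} (f : X ⟶ Y) [IsIntegralHom f] :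
    BigSite.PropA f := by
  intro U g _ u
  obtain ⟨Y₀, hY₀, hy⟩ : ∃ Y₀ : Y.Opens, IsAffineOpen Y₀ ∧ f (g u) ∈ Y₀ := by
    obtain ⟨_, ⟨Y₀, hY₀, rfl⟩, hy, -⟩ :=
      Y.isBasis_affineOpens.exists_subset_of_mem_open (Set.mem_univ (f (g u))) isOpen_univ
    exact ⟨Y₀, hY₀, hy⟩
  have : IsAffine (Y₀ : Scheme.{u}) := hY₀
  let X' : X.Opens := f ⁻¹ᵁ Y₀
  let f' : (X' : Scheme.{u}) ⟶ Y₀ := f ∣_ Y₀
  let U' : U.Opens := g ⁻¹ᵁ X'
  let g' : (U' : Scheme.{u}) ⟶ X' := g ∣_ X'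
  let u' : (U' : Scheme.{u}) := ⟨u, hy⟩
  obtain ⟨U₁, hU₁, hu₁⟩ : ∃ U₁ : (U' : Scheme.{u}).Opens, IsAffineOpen U₁ ∧ u' ∈ U₁ := by
    obtain ⟨_, ⟨U₁, hU₁, rfl⟩, hu, -⟩ :=
      (U' : Scheme.{u}).isBasis_affineOpens.exists_subset_of_mem_open (Set.mem_univ u')
        isOpen_univ
    exact ⟨U₁, hU₁, hu⟩
  have : IsAffine (U₁ : Scheme.{u}) := hU₁
  let g₁ : (U₁ : Scheme.{u}) ⟶ X' := U₁.ι ≫ g'
  let u₁ : (U₁ : Scheme.{u}) := ⟨u', hu₁⟩
  obtain ⟨X₀, U₀, r, f₀, g₀, s, hf₀, hg₀, hrf, sqU⟩ := exists_finite_model f' g₁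
  obtain ⟨V, v, hv, W, hWcl, h₀, hh₀, hu₀⟩ := propA_of_lqf f₀ U₀ g₀ (s u₁)
  obtain ⟨W₀, j, hj, h, hjcl, hh, hu⟩ :=
    propA_data_of_model r f₀ g₁ g₀ s sqU u₁ v W hWcl h₀ hh₀ hu₀
  have sq : IsPullback (pullback.fst (r ≫ f₀) v ≫ X'.ι) (pullback.snd (r ≫ f₀) v) f
      (v ≫ Y₀.ι) := by
    have h0 : IsPullback (pullback.fst (r ≫ f₀) v) (pullback.snd (r ≫ f₀) v) f' v := by
      rw [← hrf]
      exact IsPullback.of_hasPullback (r ≫ f₀) v
    exact h0.paste_horiz (isPullback_morphismRestrict f Y₀).flip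
  have : Etale (v ≫ Y₀.ι) := inferInstance
  refine propA_flex f g u (v ≫ Y₀.ι) sq j hjcl (h ≫ U₁.ι ≫ U'.ι) ?_ ?_
  · have h1 : U'.ι ≫ g = g' ≫ X'.ι := (morphismRestrict_ι g X').symm
    rw [Category.assoc, Category.assoc, h1, ← Category.assoc U₁.ι, ← Category.assoc h,
      ← Category.assoc j]
    show (h ≫ g₁) ≫ X'.ι = _
    rw [hh]
  · obtain ⟨z, hz⟩ := hu
    refine ⟨z, ?_⟩
    show (U'.ι (U₁.ι (h z))) = u
    rw [hz]
    rfl

end Groth.Agent.Lib.Helper57.PropA
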