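import Groth.Agent.Lib.Helper57.PropA2

set_option autoImplicit false
universe u
open CategoryTheory CategoryTheory.Limits AlgebraicGeometry TopologicalSpace

namespace Groth.Agent.Lib.Helper57.PropA

open Groth.Agent.Lib.Helper57.Wt

/-- A finite piece of the base change of an étale `U₀ ⟶ X₀` with a single purely inseparable point
over the marked point maps isomorphically onto an open of the base change of `X₀`. -/
theorem exists_isIso_piece {X₀ V U₀ V₁ : Scheme.{u}} (F₀ : X₀ ⟶ V) [IsSeparated F₀]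
    (g₀ : U₀ ⟶ X₀) [Etale g₀] (a : V₁ ⟶ V) (v : V₁)
    (E : (pullback (g₀ ≫ F₀) a).Opens) (e : ↑(pullback (g₀ ≫ F₀) a)) (heE : e ∈ E)
    (hEfin : IsFinite (E.ι ≫ pullback.snd (g₀ ≫ F₀) a))
    (hev : pullback.snd (g₀ ≫ F₀) a e = v)
    (hEuniq : ∀ w : ↑(pullback (g₀ ≫ F₀) a), w ∈ E → pullback.snd (g₀ ≫ F₀) a w = v → w = e)
    (hEdeg : deg (pullback.snd (g₀ ≫ F₀) a) e = 1) :
    ∃ N : (pullback F₀ a).Opens, pbMap g₀ F₀ a e ∈ N ∧ IsIso ((E.ι ≫ pbMap g₀ F₀ a) ∣_ N) := by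
  let φ := g₀ ≫ F₀
  let ψ₀ : pullback φ a ⟶ pullback F₀ a := pbMap g₀ F₀ a
  have hψ₀et : Etale ψ₀ :=
    MorphismProperty.of_isPullback (isPullback_pbMap g₀ F₀ a).flip inferInstance
  let ψ : (E : Scheme.{u}) ⟶ pullback F₀ a := E.ι ≫ ψ₀
  have hψet : Etale ψ := inferInstance
  have hψsnd : ψ ≫ pullback.snd F₀ a = E.ι ≫ pullback.snd φ a := by
    show (E.ι ≫ pbMap g₀ F₀ a) ≫ pullback.snd F₀ a = _
    rw [Category.assoc, pbMap_snd]
  have hψfin : IsFinite ψ := by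
    have : IsFinite (ψ ≫ pullback.snd F₀ a) := by rw [hψsnd]; exact hEfin
    exact IsFinite.of_comp ψ (pullback.snd F₀ a)
  have hψlqf : LocallyQuasiFinite ψ := locallyQuasiFinite_of_etale ψ
  let p₀ : (E : Scheme.{u}) := ⟨e, heE⟩
  have hdegψ : deg ψ p₀ = 1 := by
    have h1 : deg (ψ ≫ pullback.snd F₀ a) p₀ = 1 := by
      rw [hψsnd, deg_comp_of_isOpenImmersion]
      exact hEdeg
    rw [deg_comp ψ (pullback.snd F₀ a) p₀ (finite_residueFieldMap ψ p₀)] at h1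
    have h2 := deg_pos ψ p₀ (finite_residueFieldMap ψ p₀)
    exact Int.eq_one_of_mul_eq_one_right h2.le h1
  have hres := residue_surjective_of_deg_eq_one ψ p₀ hdegψ
  have huniq : ∀ p' : (E : Scheme.{u}), ψ p' = ψ p₀ → p' = p₀ := by
    intro p' hp'
    have h1 : (ψ ≫ pullback.snd F₀ a) p' = (ψ ≫ pullback.snd F₀ a) p₀ := by
      show pullback.snd F₀ a (ψ p') = pullback.snd F₀ a (ψ p₀)
      rw [hp']
    rw [hψsnd] at h1
    have h2 : pullback.snd φ a p'.1 = v := by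
      have : pullback.snd φ a p'.1 = pullback.snd φ a e := h1
      rw [this, hev]
    exact Subtype.ext (hEuniq p'.1 p'.2 h2)
  obtain ⟨N, hN, hiso⟩ := EtUnr.exists_isIso_restrict ψ p₀ huniq hres
  exact ⟨N, hN, hiso⟩


/-- Local form of condition (B) for a finite morphism and a single étale map covering the fibre. -/
theorem propB_local_finite {X₀ V U₀ : Scheme.{u}} (F₀ : X₀ ⟶ V) [IsFinite F₀] (t : V)
    (g₀ : U₀ ⟶ X₀) [Etale g₀] [IsSeparated (g₀ ≫ F₀)]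
    (hcov : ∀ x : X₀, F₀ x = t → x ∈ Set.range g₀) :
    ∃ (V' : Scheme.{u}) (b : V' ⟶ V) (t' : V'), Etale b ∧ b t' = t ∧
      ∃ (P : Scheme.{u}) (p : P ⟶ X₀) (q : P ⟶ V') (_ : IsPullback p q F₀ b)
        (K : Type) (_ : Finite K) (W : K → P.Opens),
        (∀ k k', k ≠ k' → Disjoint (W k) (W k')) ∧ (∀ z : P, ∃ k, z ∈ W k) ∧
        ∀ k, ∃ h : (W k : Scheme.{u}) ⟶ U₀, h ≫ g₀ = (W k).ι ≫ p := by
  classical
  have hfib : (F₀ ⁻¹' {t}).Finite := Scheme.Hom.finite_preimage_singleton F₀ t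
  have : Finite ↥(F₀ ⁻¹' {t}) := hfib.to_subtype
  obtain ⟨n, ⟨eS⟩⟩ := Finite.exists_equiv_fin ↥(F₀ ⁻¹' {t})
  let x : Fin n → ↑X₀ := fun i => (eS.symm i).1
  have hx : ∀ i, F₀ (x i) = t := fun i => (eS.symm i).2
  have hxinj : Function.Injective x := fun i i' h => eS.symm.injective (Subtype.ext h)
  have hxall : ∀ z : X₀, F₀ z = t → ∃ i, x i = z := fun z hz =>
    ⟨eS ⟨z, hz⟩, by simp [x]⟩
  choose u hu using fun i => hcov (x i) (hx i)
  have huinj : Function.Injective u := fun i i' h => hxinj (by rw [← hu i, ← hu i', h])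
  let φ : U₀ ⟶ V := g₀ ≫ F₀
  have hg₀lqf : LocallyQuasiFinite g₀ := locallyQuasiFinite_of_etale g₀
  have hφu : ∀ i, φ (u i) = t := fun i => by
    show F₀ (g₀ (u i)) = t
    rw [hu, hx]
  obtain ⟨V₁, a₁, v₁, ha₁, ha₁v, J, hJ, P, pp, hclopen, -, hP, hPcov⟩ :=
    EtRes.exists_etale_nbhd_purelyInseparable φ t u huinj hφu (fun i => φ.quasiFiniteAt (u i))
  -- the pieces map isomorphically onto opens
  have hpiece : ∀ i j, ∃ N : (pullback F₀ a₁).Opens, pbMap g₀ F₀ a₁ (pp i j) ∈ N ∧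
      IsIso (((P i j).ι ≫ pbMap g₀ F₀ a₁) ∣_ N) := by
    intro i j
    obtain ⟨h1, h2, h3, h4, h5, h6⟩ := hP i j
    exact exists_isIso_piece F₀ g₀ a₁ v₁ (P i j) (pp i j) h1 h2 h3 h4 (deg_eq_one _ _ h5)
  choose N hN hNiso using hpiece
  -- every point over `v₁` is the image of a marked point
  have hall : ∀ z : ↑(pullback F₀ a₁), pullback.snd F₀ a₁ z = v₁ →
      ∃ i j, pbMap g₀ F₀ a₁ (pp i j) = z := by
    intro z hz
    have h1 : F₀ (pullback.fst F₀ a₁ z) = t := by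
      have : (pullback.fst F₀ a₁ ≫ F₀) z = (pullback.snd F₀ a₁ ≫ a₁) z := by
        rw [pullback.condition]
      rw [Scheme.Hom.comp_apply, Scheme.Hom.comp_apply, hz, ha₁v] at this
      exact this
    obtain ⟨i, hi⟩ := hxall _ h1
    obtain ⟨p', hp'1, hp'2⟩ := Scheme.exists_preimage_of_isPullback (isPullback_pbMap g₀ F₀ a₁)
      z (u i) (by rw [hu, hi])
    have h2 : pullback.snd φ a₁ p' = v₁ := by
      have : (pbMap g₀ F₀ a₁ ≫ pullback.snd F₀ a₁) p' = pullback.snd φ a₁ p' := by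
        rw [pbMap_snd]
      rw [Scheme.Hom.comp_apply, hp'1, hz] at this
      exact this.symm
    obtain ⟨j, hj⟩ := hPcov p' i h2 hp'2
    obtain ⟨-, -, -, h4, -, -⟩ := hP i j
    refine ⟨i, j, ?_⟩
    rw [← h4 p' hj h2, hp'1]
  -- decomposition of the finite morphism
  obtain ⟨V₂, a₂, v₂, ha₂, ha₂v, K, hK, E, pt, hEfin, hEpt, N₂, hN₂, hcov₂, hdisj₂⟩ :=
    exists_decomp (pullback.snd F₀ a₁) v₁
  let Q := pullback (pullback.snd F₀ a₁) a₂
  let q₂ : Q ⟶ V₂ := pullback.snd (pullback.snd F₀ a₁) a₂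
  let c₂ : Q ⟶ pullback F₀ a₁ := pullback.fst (pullback.snd F₀ a₁) a₂
  have hzk : ∀ k, pullback.snd F₀ a₁ (c₂ (pt k)) = v₁ := by
    intro k
    have : (c₂ ≫ pullback.snd F₀ a₁) (pt k) = (q₂ ≫ a₂) (pt k) := by
      rw [pullback.condition]
    rw [Scheme.Hom.comp_apply, Scheme.Hom.comp_apply, (hEpt k).2.1, ha₂v] at this
    exact this
  choose si sj hsij using fun k => hall (c₂ (pt k)) (hzk k)
  -- shrink
  have hshrink : ∀ k, ∃ M : V₂.Opens, v₂ ∈ M ∧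
      ∀ w : (E k : Scheme.{u}), q₂ ((E k).ι w) ∈ M → c₂ ((E k).ι w) ∈ N (si k) (sj k) := by
    intro k
    have := hEfin k
    obtain ⟨M, hM1, hM2⟩ := exists_nbhd_subset (E k).ι q₂ ((E k).ι ≫ q₂).isClosedMap
      (c₂ ⁻¹ᵁ N (si k) (sj k)) v₂ (by
        intro w hw
        have : (E k).ι w = pt k := (hEpt k).2.2.1 _ w.2 hw
        show c₂ ((E k).ι w) ∈ N (si k) (sj k)
        rw [this, ← hsij k]
        exact hN _ _)
    exact ⟨M, hM1, hM2⟩
  choose M hM1 hM2 using hshrink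
  let M₀ : V₂.Opens := ⟨(N₂ : Set V₂) ∩ ⋂ k, (M k : Set V₂),
    N₂.2.inter (isOpen_iInter_of_finite fun k => (M k).2)⟩
  have hM₀v : v₂ ∈ M₀ := ⟨hN₂, Set.mem_iInter.mpr hM1⟩
  have hM₀N : ∀ y, y ∈ M₀ → y ∈ N₂ := fun y hy => hy.1
  have hM₀M : ∀ y, y ∈ M₀ → ∀ k, y ∈ M k := fun y hy k => Set.mem_iInter.mp hy.2 k
  let b : (M₀ : Scheme.{u}) ⟶ V := M₀.ι ≫ a₂ ≫ a₁
  have hb : Etale b := inferInstance
  let P₀ : Q.Opens := q₂ ⁻¹ᵁ M₀
  let p : (P₀ : Scheme.{u}) ⟶ X₀ := P₀.ι ≫ c₂ ≫ pullback.fst F₀ a₁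
  have sq : IsPullback p (q₂ ∣_ M₀) F₀ b :=
    (isPullback_morphismRestrict q₂ M₀).flip.paste_horiz
      ((IsPullback.of_hasPullback (pullback.snd F₀ a₁) a₂).paste_horiz
        (IsPullback.of_hasPullback F₀ a₁))
  let W : K → (P₀ : Scheme.{u}).Opens := fun k => P₀.ι ⁻¹ᵁ E k
  refine ⟨M₀, b, ⟨v₂, hM₀v⟩, hb, ?_, P₀, p, q₂ ∣_ M₀, sq, K, hK, W, ?_, ?_, ?_⟩
  · show a₁ (a₂ v₂) = t
    rw [ha₂v, ha₁v]
  · intro k k' hkk'
    rw [disjoint_iff]
    ext w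
    simp only [Opens.coe_inf, Set.mem_inter_iff, SetLike.mem_coe, Opens.coe_bot,
      Set.mem_empty_iff_false, iff_false, not_and]
    intro h1 h2
    exact hkk' (hdisj₂ (P₀.ι w) k k' h1 h2)
  · intro w
    exact hcov₂ (P₀.ι w) (hM₀N _ w.2)
  · intro k
    let ψ : (P (si k) (sj k) : Scheme.{u}) ⟶ pullback F₀ a₁ :=
      (P (si k) (sj k)).ι ≫ pbMap g₀ F₀ a₁
    have hiso : IsIso (ψ ∣_ N (si k) (sj k)) := hNiso (si k) (sj k)
    let c : (W k : Scheme.{u}) ⟶ pullback F₀ a₁ := (W k).ι ≫ P₀.ι ≫ c₂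
    have hrange : Set.range c ⊆ Set.range (N (si k) (sj k)).ι := by
      rintro _ ⟨w, rfl⟩
      rw [Scheme.Opens.range_ι]
      have hwE : P₀.ι ((W k).ι w) ∈ E k := w.2
      have h1 := hM2 k ⟨P₀.ι ((W k).ι w), hwE⟩ (hM₀M _ ((W k).ι w).2 k)
      exact h1
    let l : (W k : Scheme.{u}) ⟶ (N (si k) (sj k) : Scheme.{u}) :=
      IsOpenImmersion.lift (N (si k) (sj k)).ι c hrange
    have hl : l ≫ (N (si k) (sj k)).ι = c := IsOpenImmersion.lift_fac _ _ _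
    refine ⟨l ≫ inv (ψ ∣_ N (si k) (sj k)) ≫ (ψ ⁻¹ᵁ N (si k) (sj k)).ι ≫
      (P (si k) (sj k)).ι ≫ pullback.fst φ a₁, ?_⟩
    have h1 : (ψ ⁻¹ᵁ N (si k) (sj k)).ι ≫ (P (si k) (sj k)).ι ≫ pullback.fst φ a₁ ≫ g₀ =
        ψ ∣_ N (si k) (sj k) ≫ (N (si k) (sj k)).ι ≫ pullback.fst F₀ a₁ := by
      have h2 : (ψ ⁻¹ᵁ N (si k) (sj k)).ι ≫ ψ = ψ ∣_ N (si k) (sj k) ≫ (N (si k) (sj k)).ι :=
        (morphismRestrict_ι ψ _).symm
      have h3 : ψ ≫ pullback.fst F₀ a₁ = (P (si k) (sj k)).ι ≫ pullback.fst φ a₁ ≫ g₀ := by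
        show ((P (si k) (sj k)).ι ≫ pbMap g₀ F₀ a₁) ≫ pullback.fst F₀ a₁ = _
        rw [Category.assoc, pbMap_fst]
      rw [← Category.assoc (ψ ∣_ N (si k) (sj k)), ← h2, Category.assoc, h3]
    simp only [Category.assoc]
    rw [h1, IsIso.inv_hom_id_assoc, ← Category.assoc l, hl]
    simp only [c, p, Category.assoc]


/-- Scheme form of the descent to a finite model, keeping track of affineness of the model of the
étale scheme and surjectivity of the map to the model. -/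
theorem exists_finite_model' {X Y U₁ : Scheme.{u}} [IsAffine Y] [IsAffine U₁] (f : X ⟶ Y)
    [IsIntegralHom f] (g₁ : U₁ ⟶ X) [Etale g₁] :
    ∃ (X₀ U₀ : Scheme.{u}) (r : X ⟶ X₀) (f₀ : X₀ ⟶ Y) (g₀ : U₀ ⟶ X₀) (s : U₁ ⟶ U₀),
      IsFinite f₀ ∧ Etale g₀ ∧ r ≫ f₀ = f ∧ IsPullback s g₁ g₀ r ∧ IsAffine U₀ ∧
        Function.Surjective r := by
  obtain ⟨hX, hfint⟩ := (HasAffineProperty.iff_of_isAffine (P := @IsIntegralHom)).mp
    (inferInstance : IsIntegralHom f)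
  have hget : (g₁.appTop).hom.Etale :=
    (HasRingHomProperty.iff_of_isAffine (P := @Etale)).mp (inferInstance : Etale g₁)
  let A : Type u := Γ(Y, ⊤)
  let B : Type u := Γ(X, ⊤)
  let C : Type u := Γ(U₁, ⊤)
  let _ : Algebra A B := (f.appTop).hom.toAlgebra
  let _ : Algebra B C := (g₁.appTop).hom.toAlgebra
  have : Algebra.IsIntegral A B := ⟨hfint⟩
  have : Algebra.Etale B C := hget
  obtain ⟨B₀, C₀, _, _, σ, hfin, het, hpo⟩ := exists_finite_model_ring A B C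
  have hpb := isPullback_SpecMap_of_isPushout _ _ _ _ hpo
  let r : X ⟶ Spec (.of B₀) := X.isoSpec.hom ≫ Spec.map (CommRingCat.ofHom (algebraMap B₀ B))
  let f₀ : Spec (.of B₀) ⟶ Y := Spec.map (CommRingCat.ofHom (algebraMap A B₀)) ≫ Y.isoSpec.inv
  let g₀ : Spec (.of C₀) ⟶ Spec (.of B₀) := Spec.map (CommRingCat.ofHom (algebraMap B₀ C₀))
  let s : U₁ ⟶ Spec (.of C₀) := U₁.isoSpec.hom ≫ Spec.map (CommRingCat.ofHom σ)
  refine ⟨Spec (.of B₀), Spec (.of C₀), r, f₀, g₀, s, ?_, ?_, ?_, ?_, inferInstance, ?_⟩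
  · have : IsFinite (Spec.map (CommRingCat.ofHom (algebraMap A B₀))) := by
      rw [IsFinite.SpecMap_iff]
      exact RingHom.finite_algebraMap.mpr hfin
    infer_instance
  · exact (HasRingHomProperty.Spec_iff (P := @Etale)).mpr
      (RingHom.etale_algebraMap.mpr het)
  · have h1 : CommRingCat.ofHom (algebraMap A B₀) ≫ CommRingCat.ofHom (algebraMap B₀ B) =
        f.appTop := by
      ext x
      rfl
    show (X.isoSpec.hom ≫ Spec.map _) ≫ Spec.map _ ≫ Y.isoSpec.inv = f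
    rw [Category.assoc, ← Spec.map_comp_assoc, h1, Scheme.isoSpec_inv_naturality,
      Iso.hom_inv_id_assoc]
  · have h2 : CommRingCat.ofHom (algebraMap B C) = g₁.appTop := rfl
    rw [h2] at hpb
    refine hpb.of_iso U₁.isoSpec.symm (Iso.refl _) X.isoSpec.symm (Iso.refl _) ?_ ?_ ?_ ?_
    · simp [s]
    · simp [Scheme.isoSpec_inv_naturality]
    · simp [g₀]
    · simp [r]
  · have hint : (algebraMap B₀ B).IsIntegral := by
      intro b
      have h1 : IsIntegral A b := Algebra.IsIntegral.isIntegral b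
      exact h1.tower_top
    have hsurj : Function.Surjective (PrimeSpectrum.comap (algebraMap B₀ B)) :=
      hint.comap_surjective Subtype.val_injective
    intro z
    obtain ⟨w, hw⟩ := hsurj z
    refine ⟨X.isoSpec.inv w, ?_⟩
    show (Spec.map (CommRingCat.ofHom (algebraMap B₀ B))) (X.isoSpec.hom (X.isoSpec.inv w)) = z
    rw [← Scheme.Hom.comp_apply X.isoSpec.inv, Iso.inv_hom_id]
    exact hw


/-- Local form of condition (B) for an integral morphism to an affine scheme and a single affine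
étale surjective map. -/
theorem propB_local_integral_single {X' V U₁ : Scheme.{u}} [IsAffine V] [IsAffine U₁]
    (F : X' ⟶ V) [IsIntegralHom F] (t : V) (g₁ : U₁ ⟶ X') [Etale g₁]
    (hsurj : Function.Surjective g₁) :
    ∃ (V' : Scheme.{u}) (b : V' ⟶ V) (t' : V'), Etale b ∧ b t' = t ∧
      ∃ (P : Scheme.{u}) (p : P ⟶ X') (q : P ⟶ V') (_ : IsPullback p q F b)
        (K : Type) (_ : Finite K) (W : K → P.Opens),
        (∀ k k', k ≠ k' → Disjoint (W k) (W k')) ∧ (∀ z : P, ∃ k, z ∈ W k) ∧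
        ∀ k, ∃ h : (W k : Scheme.{u}) ⟶ U₁, h ≫ g₁ = (W k).ι ≫ p := by
  obtain ⟨X₀, U₀, r, f₀, g₀, s, hf₀, hg₀, hrf, sqU, hU₀, hr⟩ := exists_finite_model' F g₁
  subst hrf
  have hcov : ∀ x : X₀, f₀ x = t → x ∈ Set.range g₀ := by
    intro x₀ _
    obtain ⟨x', rfl⟩ := hr x₀
    obtain ⟨u₁, rfl⟩ := hsurj x'
    refine ⟨s u₁, ?_⟩
    rw [← Scheme.Hom.comp_apply, sqU.w]
    rfl
  obtain ⟨V', b, t', hb, hbt, P₀, p₀, q₀, sq₀, K, hK, W₀, hdisj, hcover, hh⟩ :=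
    propB_local_finite f₀ t g₀ hcov
  choose h₀ hh₀ using hh
  let m : pullback (r ≫ f₀) b ⟶ P₀ :=
    sq₀.lift (pullback.fst (r ≫ f₀) b ≫ r) (pullback.snd (r ≫ f₀) b)
      (by rw [Category.assoc, pullback.condition])
  have hm1 : m ≫ p₀ = pullback.fst (r ≫ f₀) b ≫ r := sq₀.lift_fst _ _ _
  have hm2 : m ≫ q₀ = pullback.snd (r ≫ f₀) b := sq₀.lift_snd _ _ _
  refine ⟨V', b, t', hb, hbt, pullback (r ≫ f₀) b, pullback.fst _ _, pullback.snd _ _,
    IsPullback.of_hasPullback _ _, K, hK, fun k => m ⁻¹ᵁ W₀ k, ?_, ?_, ?_⟩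
  · intro k k' hkk'
    have := hdisj k k' hkk'
    rw [disjoint_iff] at this ⊢
    ext w
    simp only [Opens.coe_inf, Set.mem_inter_iff, SetLike.mem_coe, Opens.coe_bot,
      Set.mem_empty_iff_false, iff_false, not_and]
    intro h1 h2
    have h3 : m w ∈ W₀ k ⊓ W₀ k' := ⟨h1, h2⟩
    rw [this] at h3
    exact h3
  · intro z
    exact hcover (m z)
  · intro k
    have hcond : (m ∣_ W₀ k ≫ h₀ k) ≫ g₀ =
        ((m ⁻¹ᵁ W₀ k).ι ≫ pullback.fst (r ≫ f₀) b) ≫ r := by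
      rw [Category.assoc, hh₀ k, ← Category.assoc, morphismRestrict_ι, Category.assoc,
        Category.assoc, hm1]
    exact ⟨sqU.lift (m ∣_ W₀ k ≫ h₀ k) ((m ⁻¹ᵁ W₀ k).ι ≫ pullback.fst (r ≫ f₀) b) hcond,
      sqU.lift_snd _ _ _⟩

end Groth.Agent.Lib.Helper57.PropA
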