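import Groth.Agent.Lib.Helper57.PropB1

set_option autoImplicit false
universe u
open CategoryTheory CategoryTheory.Limits AlgebraicGeometry TopologicalSpace

namespace Groth.Agent.Lib.Helper57.PropA

open Groth.Agent.Lib.Helper57.Wt

/-- Local form of condition (B) for an integral morphism and an étale covering family. -/
theorem propB_local_integral {X' V : Scheme.{u}} (F : X' ⟶ V) [IsIntegralHom F] (t : V)
    {ι : Type u} (U : ι → Scheme.{u}) (g : ∀ i, U i ⟶ X') (hg : ∀ i, Etale (g i))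
    (hcov : ∀ x : X', ∃ i, x ∈ Set.range (g i)) :
    ∃ (V' : Scheme.{u}) (b : V' ⟶ V) (t' : V'), Etale b ∧ b t' = t ∧
      ∃ (P : Scheme.{u}) (p : P ⟶ X') (q : P ⟶ V') (_ : IsPullback p q F b)
        (K : Type u) (W : K → P.Opens),
        (∀ k k', k ≠ k' → Disjoint (W k) (W k')) ∧ (∀ z : P, ∃ k, z ∈ W k) ∧
        ∀ k, ∃ (i : ι) (h : (W k : Scheme.{u}) ⟶ U i), h ≫ g i = (W k).ι ≫ p := by
  classical
  -- an affine open neighbourhood of `t`
  obtain ⟨V₀, hV₀, htV₀⟩ : ∃ V₀ : V.Opens, IsAffineOpen V₀ ∧ t ∈ V₀ := by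
    obtain ⟨_, ⟨V₀, hV₀, rfl⟩, ht, -⟩ :=
      V.isBasis_affineOpens.exists_subset_of_mem_open (Set.mem_univ t) isOpen_univ
    exact ⟨V₀, hV₀, ht⟩
  have : IsAffine (V₀ : Scheme.{u}) := hV₀
  let X'' : X'.Opens := F ⁻¹ᵁ V₀
  let F' : (X'' : Scheme.{u}) ⟶ V₀ := F ∣_ V₀
  have hX''aff : IsAffine (X'' : Scheme.{u}) := isAffine_of_isAffineHom F'
  have hcpt : CompactSpace ↥(X'' : Scheme.{u}) := inferInstance
  -- local affine étale charts
  have hloc : ∀ x : (X'' : Scheme.{u}), ∃ (i : ι) (A : ((g i) ⁻¹ᵁ X'' : Scheme.{u}).Opens),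
      IsAffineOpen A ∧ x ∈ Set.range (Scheme.Opens.ι A ≫ (g i) ∣_ X'') := by
    intro x
    obtain ⟨i, u, hu⟩ := hcov x.1
    have huX : u ∈ (g i) ⁻¹ᵁ X'' := by
      show g i u ∈ X''
      rw [hu]
      exact x.2
    let u' : ((g i) ⁻¹ᵁ X'' : Scheme.{u}) := ⟨u, huX⟩
    obtain ⟨_, ⟨A, hA, rfl⟩, huA, -⟩ :=
      ((g i) ⁻¹ᵁ X'' : Scheme.{u}).isBasis_affineOpens.exists_subset_of_mem_open
        (Set.mem_univ u') isOpen_univ
    refine ⟨i, A, hA, ⟨u', huA⟩, ?_⟩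
    apply Subtype.ext
    show X''.ι ((Scheme.Opens.ι A ≫ (g i) ∣_ X'') ⟨u', huA⟩) = x.1
    rw [← Scheme.Hom.comp_apply, Category.assoc, morphismRestrict_ι, ← hu]
    rfl
  choose ix A hA hxA using hloc
  let e : ∀ x : (X'' : Scheme.{u}), (A x : Scheme.{u}) ⟶ X'' := fun x => (A x).ι ≫ (g (ix x)) ∣_ X''
  have he : ∀ x, Etale (e x) := fun x => by
    have := hg (ix x)
    infer_instance
  -- finite subcover
  obtain ⟨s, hs⟩ := isCompact_univ.elim_finite_subcover (fun x => Set.range (e x))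
    (fun x => (e x).isOpenMap.isOpen_range) (fun x _ => Set.mem_iUnion.mpr ⟨x, hxA x⟩)
  let S : Type u := ↥s
  let AS : S → Scheme.{u} := fun x => (A x.1 : Scheme.{u})
  have hASaff : ∀ x : S, IsAffine (AS x) := fun x => hA x.1
  let U₁ : Scheme.{u} := ∐ AS
  let g₁ : U₁ ⟶ X'' := Sigma.desc (fun x : S => e x.1)
  have hg₁ : Etale g₁ := IsZariskiLocalAtSource.sigmaDesc (fun x => he x.1)
  have hg₁surj : Function.Surjective g₁ := by
    intro z
    have hz := hs (Set.mem_univ z)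
    simp only [Set.mem_iUnion, exists_prop] at hz
    obtain ⟨x, hxs, w, hw⟩ := hz
    refine ⟨Sigma.ι AS ⟨x, hxs⟩ w, ?_⟩
    rw [← Scheme.Hom.comp_apply, Sigma.ι_desc]
    exact hw
  obtain ⟨V', b, t', hb, hbt, P, p, q, sq, K, hK, W, hdisj, hcover, hh⟩ :=
    propB_local_integral_single F' ⟨t, htV₀⟩ g₁ hg₁surj
  choose h hh using hh
  -- refine the pieces
  let T : K × S → P.Opens := fun kx =>
    (W kx.1).ι ''ᵁ ((h kx.1) ⁻¹ᵁ (Sigma.ι AS kx.2).opensRange)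
  have hTmem : ∀ (kx : K × S) (z : P), z ∈ T kx ↔
      ∃ hz : z ∈ W kx.1, h kx.1 ⟨z, hz⟩ ∈ Set.range (Sigma.ι AS kx.2) := by
    intro kx z
    constructor
    · rintro ⟨w, hw, rfl⟩
      exact ⟨w.2, hw⟩
    · rintro ⟨hz, hz'⟩
      exact ⟨⟨z, hz⟩, hz', rfl⟩
  have sq' : IsPullback (p ≫ X''.ι) q F (b ≫ V₀.ι) :=
    sq.paste_horiz (isPullback_morphismRestrict F V₀).flip
  have : Etale (b ≫ V₀.ι) := inferInstance
  refine ⟨V', b ≫ V₀.ι, t', inferInstance, ?_, P, p ≫ X''.ι, q, sq', K × S, T, ?_, ?_, ?_⟩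
  · show V₀.ι (b t') = t
    rw [hbt]
    rfl
  · rintro ⟨k, x⟩ ⟨k', x'⟩ hne
    rw [disjoint_iff]
    ext z
    simp only [Opens.coe_inf, Set.mem_inter_iff, SetLike.mem_coe, Opens.coe_bot,
      Set.mem_empty_iff_false, iff_false, not_and]
    intro h1 h2
    obtain ⟨hz, y, hy⟩ := (hTmem _ z).mp h1
    obtain ⟨hz', y', hy'⟩ := (hTmem _ z).mp h2
    have hk : k = k' := by
      by_contra hkk
      have := hdisj k k' hkk
      rw [disjoint_iff] at this
      have h3 : z ∈ W k ⊓ W k' := ⟨hz, hz'⟩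
      rw [this] at h3
      exact h3
    subst hk
    have hx : x = x' := by
      by_contra hxx
      have := disjoint_opensRange_sigmaι AS x x' hxx
      rw [disjoint_iff] at this
      have h3 : h k ⟨z, hz⟩ ∈ (Sigma.ι AS x).opensRange ⊓ (Sigma.ι AS x').opensRange :=
        ⟨⟨y, hy⟩, ⟨y', hy'⟩⟩
      rw [this] at h3
      exact h3
    exact hne (by rw [hx])
  · intro z
    obtain ⟨k, hk⟩ := hcover z
    obtain ⟨⟨x, y⟩, hxy⟩ := (sigmaMk AS).surjective (h k ⟨z, hk⟩)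
    rw [sigmaMk_mk] at hxy
    exact ⟨(k, x), (hTmem _ z).mpr ⟨hk, y, hxy⟩⟩
  · rintro ⟨k, x⟩
    -- the piece maps into `W k`
    have hr1 : Set.range (T (k, x)).ι ⊆ Set.range (W k).ι := by
      rintro _ ⟨w, rfl⟩
      rw [Scheme.Opens.range_ι]
      exact ((hTmem _ _).mp w.2).1
    let l1 : (T (k, x) : Scheme.{u}) ⟶ W k := IsOpenImmersion.lift (W k).ι (T (k, x)).ι hr1
    have hl1 : l1 ≫ (W k).ι = (T (k, x)).ι := IsOpenImmersion.lift_fac _ _ _
    have hr2 : Set.range (l1 ≫ h k) ⊆ Set.range (Sigma.ι AS x) := by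
      rintro _ ⟨w, rfl⟩
      obtain ⟨hz, hz'⟩ := (hTmem _ _).mp w.2
      have : l1 w = ⟨(T (k, x)).ι w, hz⟩ := by
        apply Subtype.ext
        show (W k).ι (l1 w) = _
        rw [← Scheme.Hom.comp_apply, hl1]
      rw [Scheme.Hom.comp_apply, this]
      exact hz'
    let l2 : (T (k, x) : Scheme.{u}) ⟶ AS x := IsOpenImmersion.lift (Sigma.ι AS x) (l1 ≫ h k) hr2
    have hl2 : l2 ≫ Sigma.ι AS x = l1 ≫ h k := IsOpenImmersion.lift_fac _ _ _
    refine ⟨ix x.1, l2 ≫ (A x.1).ι ≫ ((g (ix x.1)) ⁻¹ᵁ X'').ι, ?_⟩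
    have h1 : ((g (ix x.1)) ⁻¹ᵁ X'').ι ≫ g (ix x.1) = (g (ix x.1)) ∣_ X'' ≫ X''.ι :=
      (morphismRestrict_ι _ _).symm
    have h2 : Sigma.ι AS x ≫ g₁ = e x.1 := Sigma.ι_desc _ _
    have key1 : (A x.1).ι ≫ ((g (ix x.1)) ⁻¹ᵁ X'').ι ≫ g (ix x.1) = e x.1 ≫ X''.ι := by
      rw [h1]
      simp only [e, Category.assoc]
    have key2 : l2 ≫ e x.1 = l1 ≫ h k ≫ g₁ := by
      rw [← h2, ← Category.assoc, hl2, Category.assoc]
    have key3 : l1 ≫ h k ≫ g₁ = (T (k, x)).ι ≫ p := by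
      rw [hh k, ← Category.assoc, hl1]
    rw [Category.assoc, Category.assoc, key1, ← Category.assoc, key2, key3, Category.assoc]


/-- Condition (B) for integral morphisms. -/
theorem propB_of_isIntegralHom {X Y : Scheme.{u}} (f : X ⟶ Y) [IsIntegralHom f] :
    BigSite.PropB f := by
  intro V v _ ι U g hg hcov
  have hloc := fun y : V => propB_local_integral (pullback.snd f v) y U g hg hcov
  choose V' b t' hb hbt P p q sq K W hdisj hcover hh using hloc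
  refine ⟨↥V, V', b, hb, fun y => ⟨y, t' y, hbt y⟩, fun y => ?_⟩
  have sq' : IsPullback (p y ≫ pullback.fst f v) (q y) f (b y ≫ v) :=
    ((sq y).flip.paste_vert (IsPullback.of_hasPullback f v).flip).flip
  let e := sq'.isoPullback
  have he1 : e.hom ≫ pullback.fst f (b y ≫ v) = p y ≫ pullback.fst f v :=
    sq'.isoPullback_hom_fst
  have he2 : e.hom ≫ pullback.snd f (b y ≫ v) = q y := sq'.isoPullback_hom_snd
  have hmap : e.inv ≫ p y =
      pullback.map f (b y ≫ v) f v (𝟙 X) (b y) (𝟙 Y) (by simp) (by simp) := by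
    apply pullback.hom_ext
    · rw [Category.assoc, ← he1, Iso.inv_hom_id_assoc, pullback.lift_fst, Category.comp_id]
    · rw [Category.assoc, (sq y).w, ← Category.assoc, ← he2, Iso.inv_hom_id_assoc,
        pullback.lift_snd]
  refine ⟨K y, fun a => e.inv ⁻¹ᵁ W y a, ?_, ?_, ?_⟩
  · intro a a' haa'
    have := hdisj y a a' haa'
    rw [disjoint_iff] at this ⊢
    ext w
    simp only [Opens.coe_inf, Set.mem_inter_iff, SetLike.mem_coe, Opens.coe_bot,
      Set.mem_empty_iff_false, iff_false, not_and]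
    intro h1 h2
    have h3 : e.inv w ∈ W y a ⊓ W y a' := ⟨h1, h2⟩
    rw [this] at h3
    exact h3
  · rw [eq_top_iff]
    intro w _
    obtain ⟨a, ha⟩ := hcover y (e.inv w)
    exact Opens.mem_iSup.mpr ⟨a, ha⟩
  · intro a
    obtain ⟨i, h, hhi⟩ := hh y a
    refine ⟨i, e.inv ∣_ W y a ≫ h, ?_⟩
    rw [Category.assoc, hhi, ← Category.assoc, morphismRestrict_ι, Category.assoc, hmap]

end Groth.Agent.Lib.Helper57.PropA
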