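import Groth.Agent.Lib.Helper57.PropB2

set_option autoImplicit false
universe u
open CategoryTheory CategoryTheory.Limits AlgebraicGeometry TopologicalSpace

namespace Groth.Agent.Lib.Helper57.PropA

/-- Glue morphisms along a cover whose members are pairwise disjoint. -/
theorem exists_glue_of_disjoint {X Y : Scheme.{u}} (𝒰 : X.OpenCover) (f : ∀ i, 𝒰.X i ⟶ Y)
    (hdisj : ∀ i j, i ≠ j → IsEmpty ↥(pullback (𝒰.f i) (𝒰.f j))) :
    ∃ F : X ⟶ Y, ∀ i, 𝒰.f i ≫ F = f i := by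
  refine ⟨𝒰.glueMorphisms f ?_, fun i => 𝒰.ι_glueMorphisms f _ i⟩
  intro i j
  by_cases hij : i = j
  · subst hij
    have : pullback.fst (𝒰.f i) (𝒰.f i) = pullback.snd (𝒰.f i) (𝒰.f i) :=
      (cancel_mono (𝒰.f i)).mp pullback.condition
    rw [this]
  · have := hdisj i j hij
    exact (isInitialOfIsEmpty (X := pullback (𝒰.f i) (𝒰.f j))).hom_ext _ _

/-- Glue morphisms along a jointly surjective family of pairwise disjoint open immersions. -/
theorem exists_glue_of_disjoint' {X Y : Scheme.{u}} {J : Type u} (P : J → Scheme.{u})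
    (j : ∀ i, P i ⟶ X) [∀ i, IsOpenImmersion (j i)] (hcov : ∀ x, ∃ i y, j i y = x)
    (f : ∀ i, P i ⟶ Y) (hdisj : ∀ a b, a ≠ b → IsEmpty ↥(pullback (j a) (j b))) :
    ∃ F : X ⟶ Y, ∀ i, j i ≫ F = f i :=
  exists_glue_of_disjoint (Scheme.Cover.mkOfCovers J P j hcov) f hdisj

/-- Morphisms agreeing on a jointly surjective family of open immersions are equal. -/
theorem hom_ext_of_cover {X Y : Scheme.{u}} {J : Type u} (P : J → Scheme.{u})
    (j : ∀ i, P i ⟶ X) [∀ i, IsOpenImmersion (j i)] (hcov : ∀ x, ∃ i y, j i y = x)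
    (F G : X ⟶ Y) (h : ∀ i, j i ≫ F = j i ≫ G) : F = G :=
  (Scheme.Cover.mkOfCovers J P j hcov (P := @IsOpenImmersion)).hom_ext F G h

/-- Glue morphisms along a disjoint open cover. -/
theorem exists_glue_of_disjoint_opens {X Y : Scheme.{u}} {μ : Type u} (W : μ → X.Opens)
    (hdisj : ∀ a b, a ≠ b → Disjoint (W a) (W b)) (hcov : (⨆ a, W a) = ⊤)
    (f : ∀ a, (W a : Scheme.{u}) ⟶ Y) :
    ∃ F : X ⟶ Y, ∀ a, (W a).ι ≫ F = f a := by
  refine exists_glue_of_disjoint (X.openCoverOfIsOpenCover W hcov) f ?_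
  intro a b hab
  refine ⟨fun z => ?_⟩
  have h1 : (pullback.fst (W a).ι (W b).ι ≫ (W a).ι) z ∈ W a := by
    rw [Scheme.Hom.comp_apply]
    exact (pullback.fst (W a).ι (W b).ι z).2
  have h2 : (pullback.fst (W a).ι (W b).ι ≫ (W a).ι) z ∈ W b := by
    rw [pullback.condition, Scheme.Hom.comp_apply]
    exact (pullback.snd (W a).ι (W b).ι z).2
  have := (hdisj a b hab).le_bot ⟨h1, h2⟩
  exact this

/-- Local form of condition (C) for an integral topological embedding. -/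
theorem propC_local {X Y : Scheme.{u}} (f : X ⟶ Y) [IsIntegralHom f]
    (hf : Topology.IsInducing f.base) (U : Scheme.{u}) (g : U ⟶ X) [Etale g] (u : U) :
    ∃ (V : Scheme.{u}) (v : V ⟶ Y) (_ : Etale v) (h : pullback f v ⟶ U),
      h ≫ g = pullback.fst f v ∧ u ∈ Set.range h.base := by
  have : LocallyQuasiFinite g := Wt.locallyQuasiFinite_of_etale g
  -- isolate `u` in its fibre
  have hdisc : _root_.IsDiscrete (g ⁻¹' {g u}) := g.isDiscrete_preimage_singleton (g u)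
  obtain ⟨U', hU'⟩ : ∃ U' : U.Opens, u ∈ U' ∧ ∀ u' ∈ U', g u' = g u → u' = u := by
    have hmem : u ∈ g ⁻¹' {g u} := rfl
    have := hdisc.to_subtype
    have hopen : IsOpen ({⟨u, hmem⟩} : Set (g ⁻¹' {g u})) := isOpen_discrete _
    obtain ⟨O, hO, hOeq⟩ := isOpen_induced_iff.mp hopen
    refine ⟨⟨O, hO⟩, ?_, ?_⟩
    · have : (⟨u, hmem⟩ : g ⁻¹' {g u}) ∈ Subtype.val ⁻¹' O := by rw [hOeq]; rfl
      exact this
    · intro u' hu' hgu'
      have : (⟨u', hgu'⟩ : g ⁻¹' {g u}) ∈ Subtype.val ⁻¹' O := hu'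
      rw [hOeq] at this
      exact congrArg Subtype.val this
  obtain ⟨huU', hiso⟩ := hU'
  -- the image of `U'` in `X` is open, hence the preimage of an open of `Y`
  have hopen : IsOpen (g '' (U' : Set U)) := g.isOpenMap _ U'.2
  obtain ⟨V₀, hV₀, hV₀eq⟩ := hf.isOpen_iff.mp hopen
  let V : Y.Opens := ⟨V₀, hV₀⟩
  have hmemV : ∀ x : X, f x ∈ V ↔ x ∈ g '' (U' : Set U) := fun x => by
    rw [← hV₀eq]; rfl
  -- the lift
  have hrange : Set.range (U'.ι ≫ g ≫ f).base ⊆ Set.range V.ι.base := by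
    rintro _ ⟨z, rfl⟩
    rw [Scheme.Opens.range_ι]
    show f (g (U'.ι z)) ∈ V
    rw [hmemV]
    exact ⟨z.1, z.2, rfl⟩
  let l : (U' : Scheme.{u}) ⟶ V := IsOpenImmersion.lift V.ι (U'.ι ≫ g ≫ f) hrange
  have hl : l ≫ V.ι = U'.ι ≫ g ≫ f := IsOpenImmersion.lift_fac _ _ _
  let g₀ : (U' : Scheme.{u}) ⟶ pullback f V.ι :=
    pullback.lift (U'.ι ≫ g) l (by rw [hl, Category.assoc])
  have hg₀1 : g₀ ≫ pullback.fst f V.ι = U'.ι ≫ g := pullback.lift_fst _ _ _
  have : Etale (g₀ ≫ pullback.fst f V.ι) := by rw [hg₀1]; infer_instance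
  have hg₀ : Etale g₀ := Etale.of_comp g₀ (pullback.fst f V.ι)
  have hsurj : ∀ x : ↥(pullback f V.ι), ∃ i : PUnit.{u+1}, x ∈ Set.range g₀.base := by
    intro x
    refine ⟨PUnit.unit, ?_⟩
    have h1 : f (pullback.fst f V.ι x) ∈ V := by
      rw [← Scheme.Hom.comp_apply, pullback.condition, Scheme.Hom.comp_apply]
      exact (pullback.snd f V.ι x).2
    rw [hmemV] at h1
    obtain ⟨u', hu', hu'x⟩ := h1
    refine ⟨⟨u', hu'⟩, ?_⟩
    apply (pullback.fst f V.ι).isOpenEmbedding.injective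
    rw [← Scheme.Hom.comp_apply, hg₀1, Scheme.Hom.comp_apply]
    exact hu'x
  obtain ⟨κ, V', v', hv', hcov, hB⟩ := propB_of_isIntegralHom f V V.ι PUnit.{u+1}
    (fun _ => U') (fun _ => g₀) (fun _ => hg₀) hsurj
  -- choose the member of the covering hitting `f (g u)`
  have hfgu : f (g u) ∈ V := by rw [hmemV]; exact ⟨u, huU', rfl⟩
  obtain ⟨j, t, ht⟩ := hcov ⟨f (g u), hfgu⟩
  obtain ⟨μ, W, hdisj, hcovW, hh⟩ := hB j
  choose i h hhi using hh
  obtain ⟨H, hH⟩ := exists_glue_of_disjoint_opens W hdisj hcovW h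
  have := hv' j
  refine ⟨V' j, v' j ≫ V.ι, inferInstance, H ≫ U'.ι, ?_, ?_⟩
  · have key : ∀ a, h a ≫ U'.ι ≫ g = (W a).ι ≫ pullback.fst f (v' j ≫ V.ι) := by
      intro a
      have h1 := hhi a
      rw [← hg₀1, ← Category.assoc, h1, Category.assoc, pullback.lift_fst, Category.comp_id]
    refine ((pullback f (v' j ≫ V.ι)).openCoverOfIsOpenCover W hcovW).hom_ext _ _ fun a => ?_
    show (W a).ι ≫ (H ≫ U'.ι) ≫ g = (W a).ι ≫ pullback.fst f (v' j ≫ V.ι)
    rw [Category.assoc, ← Category.assoc, hH a, key a]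
  · have key : ∀ a, h a ≫ U'.ι ≫ g = (W a).ι ≫ pullback.fst f (v' j ≫ V.ι) := by
      intro a
      have h1 := hhi a
      rw [← hg₀1, ← Category.assoc, h1, Category.assoc, pullback.lift_fst, Category.comp_id]
    have hvt : (v' j ≫ V.ι) t = f (g u) := by
      rw [Scheme.Hom.comp_apply, ht]
      rfl
    obtain ⟨z, hz1, hz2⟩ := Scheme.Pullback.exists_preimage_pullback (f := f) (g := v' j ≫ V.ι)
      (g u) t hvt.symm
    have hz : z ∈ ⨆ a, W a := by rw [hcovW]; trivial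
    obtain ⟨a, ha⟩ := Opens.mem_iSup.mp hz
    let w : (W a : Scheme.{u}) := ⟨z, ha⟩
    have hw : (W a).ι w = z := rfl
    have h2 : g (U'.ι (h a w)) = g u := by
      have := congrArg (fun φ : (W a : Scheme.{u}) ⟶ X => φ w) (key a)
      simp only [Scheme.Hom.comp_apply] at this
      rw [this, hw, hz1]
    have h3 : U'.ι (h a w) = u := hiso _ (h a w).2 h2
    refine ⟨z, ?_⟩
    show (H ≫ U'.ι) z = u
    rw [← hw, ← Scheme.Hom.comp_apply, ← Category.assoc, hH a, Scheme.Hom.comp_apply, h3]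

/-- Assemble pointwise data for condition (C) into a surjective morphism from one pullback. -/
theorem propC_of_local {X Y : Scheme.{u}} (f : X ⟶ Y) (U : Scheme.{u}) (g : U ⟶ X)
    (hloc : ∀ u : U, ∃ (V : Scheme.{u}) (v : V ⟶ Y) (_ : Etale v) (h : pullback f v ⟶ U),
      h ≫ g = pullback.fst f v ∧ u ∈ Set.range h.base) :
    ∃ (V : Scheme.{u}) (v : V ⟶ Y) (_ : Etale v) (h : pullback f v ⟶ U),
      h ≫ g = pullback.fst f v ∧ Surjective h := by
  choose V v hv h hh hu using hloc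
  let v₀ : (∐ V) ⟶ Y := Sigma.desc v
  have hv₀ : Etale v₀ := IsZariskiLocalAtSource.sigmaDesc (P := @Etale) hv
  let 𝒰 := Scheme.Pullback.openCoverOfRight (sigmaOpenCover V) f v₀
  let P : U → Scheme.{u} := fun i => pullback f (Sigma.ι V i ≫ v₀)
  let ι' : ∀ i : U, P i ⟶ pullback f v₀ := fun i =>
    pullback.map f (Sigma.ι V i ≫ v₀) f v₀ (𝟙 X) (Sigma.ι V i) (𝟙 Y) (by simp) (by simp)
  have hι' : ∀ i : U, IsOpenImmersion (ι' i) := fun i => 𝒰.map_prop i
  have hcov : ∀ x : ↥(pullback f v₀), ∃ (i : U) (y : P i), ι' i y = x := by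
    intro x
    obtain ⟨y, hy⟩ := 𝒰.covers x
    exact ⟨𝒰.idx x, y, hy⟩
  let c : ∀ i : U, P i ⟶ pullback f (v i) := fun i =>
    pullback.map f (Sigma.ι V i ≫ v₀) f (v i) (𝟙 X) (𝟙 _) (𝟙 Y) (by simp) (by simp [v₀])
  have hc : ∀ i, Function.Surjective (c i) := by
    intro i
    have : IsIso (c i) := by
      dsimp only [c]
      infer_instance
    exact (ConcreteCategory.bijective_of_isIso (c i).base).2
  have h1 : ∀ k : U, ι' k ≫ pullback.snd f v₀ =
      pullback.snd f (Sigma.ι V k ≫ v₀) ≫ Sigma.ι V k := by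
    intro k
    exact pullback.lift_snd _ _ _
  have h2 : ∀ k : U, ι' k ≫ pullback.fst f v₀ = pullback.fst f (Sigma.ι V k ≫ v₀) := by
    intro k
    exact (pullback.lift_fst _ _ _).trans (Category.comp_id _)
  have h3 : ∀ k : U, c k ≫ pullback.fst f (v k) = pullback.fst f (Sigma.ι V k ≫ v₀) := by
    intro k
    exact (pullback.lift_fst _ _ _).trans (Category.comp_id _)
  have hdisj : ∀ i j : U, i ≠ j → IsEmpty ↥(pullback (ι' i) (ι' j)) := by
    intro i j hij
    refine isEmpty_of_commSq_sigmaι_of_ne (g := V) (i := i) (j := j)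
      (a := pullback.fst (ι' i) (ι' j) ≫ pullback.snd f (Sigma.ι V i ≫ v₀))
      (b := pullback.snd (ι' i) (ι' j) ≫ pullback.snd f (Sigma.ι V j ≫ v₀)) ⟨?_⟩ hij
    rw [Category.assoc, Category.assoc, ← h1 i, ← h1 j, pullback.condition_assoc]
  obtain ⟨H, hH⟩ := exists_glue_of_disjoint' P ι' hcov (fun i : U => c i ≫ h i) hdisj
  refine ⟨∐ V, v₀, hv₀, H, ?_, ⟨fun u => ?_⟩⟩
  · refine hom_ext_of_cover P ι' hcov _ _ fun i => ?_
    rw [← Category.assoc, hH i, Category.assoc, hh i, h2, h3]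
  · obtain ⟨z, hz⟩ := hu u
    obtain ⟨z', rfl⟩ := hc u z
    refine ⟨ι' u z', ?_⟩
    rw [← Scheme.Hom.comp_apply, hH u, Scheme.Hom.comp_apply]
    exact hz

/-- Condition (C) for integral morphisms which are topological embeddings. -/
theorem propC_of_isIntegralHom {X Y : Scheme.{u}} (f : X ⟶ Y) [IsIntegralHom f]
    (hf : Topology.IsInducing f.base) : BigSite.PropC f := by
  intro U g _
  exact propC_of_local f U g fun u => propC_local f hf U g u

end Groth.Agent.Lib.Helper57.PropA
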