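import Mathlib
import Groth.Agent.Lib.Helper57.RE2

set_option autoImplicit false
universe u

open CategoryTheory Limits AlgebraicGeometry Opposite

namespace Groth.Agent.Lib.Helper57.RE

open Groth.Agent.Lib.Helper79.EtSiteGlue Groth.Agent.Lib.Helper21.ProperOver
open Groth.Agent.Lib.Helper57.EZ Groth.Agent.Lib.Helper57.LS

lemma nat_apply {X : Scheme.{u}} {A B : EtCoh.Ab X} (φ : A ⟶ B) {U V : X.Etale} (k : V ⟶ U)
    (x : A.obj.obj (op U)) :
    φ.hom.app (op V) (A.obj.map k.op x) = B.obj.map k.op (φ.hom.app (op U) x) := by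
  have := congrArg (fun ψ => ψ x) (congrArg AddCommGrpCat.Hom.hom (φ.hom.naturality k.op))
  simp only [AddCommGrpCat.hom_comp, AddMonoidHom.coe_comp, Function.comp_apply] at this
  exact this

variable {X Y : Scheme.{u}} (f : X ⟶ Y) [IsSeparated f] [LocallyOfFiniteType f]
  [LocallyQuasiFinite f] {B C : EtCoh.Ab X} (β : B ⟶ C) [Epi β]
  {Ω : Type u} [Field Ω] [IsAlgClosed Ω]

theorem key (n : ℕ) : ∀ (V : Y.Etale) (vbar : Spec (CommRingCat.of Ω) ⟶ V.left)
    (Z : Set ((EtCoh.bc f).obj V).left) (_ : ClSub.IsProperOver (EtShriek.prV f V) Z)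
    (t : C.obj.obj (op ((EtCoh.bc f).obj V))) (_ : VanishOff C _ t Z),
    (GP f V vbar Z).ncard ≤ n →
    ∃ (V' : Y.Etale) (k : V' ⟶ V) (vbar' : Spec (CommRingCat.of Ω) ⟶ V'.left),
      vbar' ≫ k.left = vbar ∧
      ∃ b : B.obj.obj (op ((EtCoh.bc f).obj V')), HasPS f B V' b ∧
        β.hom.app _ b = C.obj.map ((EtCoh.bc f).map k).op t := by
  have base : ∀ (V : Y.Etale) (vbar : Spec (CommRingCat.of Ω) ⟶ V.left)
      (Z : Set ((EtCoh.bc f).obj V).left) (_ : ClSub.IsProperOver (EtShriek.prV f V) Z)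
      (t : C.obj.obj (op ((EtCoh.bc f).obj V))) (_ : VanishOff C _ t Z),
      GP f V vbar Z = ∅ →
      ∃ (V' : Y.Etale) (k : V' ⟶ V) (vbar' : Spec (CommRingCat.of Ω) ⟶ V'.left),
        vbar' ≫ k.left = vbar ∧
        ∃ b : B.obj.obj (op ((EtCoh.bc f).obj V')), HasPS f B V' b ∧
          β.hom.app _ b = C.obj.map ((EtCoh.bc f).map k).op t := by
    intro V vbar Z hZ t ht hemp
    obtain ⟨V', k, vbar', hv, h0⟩ := exists_of_GP_empty f C V vbar Z hZ t ht hemp
    exact ⟨V', k, vbar', hv, 0, hasPS_zero f B V', by rw [map_zero, h0]⟩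
  induction n with
  | zero =>
    intro V vbar Z hZ t ht hn
    exact base V vbar Z hZ t ht
      ((Set.ncard_eq_zero (GP_finite f V vbar Z hZ)).1 (Nat.le_zero.1 hn))
  | succ n ih =>
    intro V vbar Z hZ t ht hn
    by_cases hemp : GP f V vbar Z = ∅
    · exact base V vbar Z hZ t ht hemp
    obtain ⟨ξ₀, hξ₀⟩ := Set.nonempty_iff_ne_empty.2 hemp
    obtain ⟨W, gW, bW, w₀, hw₀, hbW⟩ := exists_lift_nbhd β _ t (ξ₀ default)
    obtain ⟨V', k, Q', hQ'cl, m, q', hm, hq'Q, hq'p, hQ'prop⟩ := exists_clopen_lift f V W gW w₀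
    have hpv : EtShriek.prV f V (ξ₀ default) = vbar default := by
      rw [← hξ₀.1]; rfl
    have hs' : k.left (EtShriek.prV f V' q') = vbar default := by
      rw [← prV_bc_map, hq'p, hw₀, hpv]
    have hkw : k.left ≫ V.hom = V'.hom := MorphismProperty.Over.w k
    haveI : Etale V.hom := V.prop
    haveI : Etale (k.left ≫ V.hom) := by rw [hkw]; exact V'.prop
    haveI : Etale k.left := Etale.of_comp k.left V.hom
    obtain ⟨vbar', hv', hv'0⟩ := Scheme.exists_fac_of_etale_of_isSepClosed k.left vbar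
      (EtShriek.prV f V' q') hs'
    obtain ⟨b₁, hb₁Q, hb₁c⟩ :=
      exists_extZero_clopen B ((EtCoh.bc f).obj V') Q' hQ'cl (B.obj.map m.op bW)
    have hb₁v : VanishOff B _ b₁ (Q' : Set ((EtCoh.bc f).obj V').left) :=
      vanishOff_of_map_compl B _ _ hQ'cl b₁ hb₁c
    have hb₁PS : HasPS f B V' b₁ := ⟨_, hQ'prop, hb₁v⟩
    have hZ' : ClSub.IsProperOver (EtShriek.prV f V') (((EtCoh.bc f).map k).left ⁻¹' Z) :=
      isProperOver_preimage_of_isPullback (EtShriek.prV f V) k.left ((EtCoh.bc f).map k).left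
        (EtShriek.prV f V') (EtCoh.isPullback_bc_map f k) Z hZ
    have ht' : VanishOff C _ (C.obj.map ((EtCoh.bc f).map k).op t)
        (((EtCoh.bc f).map k).left ⁻¹' Z) := vanishOff_map C _ t Z ht
    have hRcl : IsClosed ((((EtCoh.bc f).map k).left ⁻¹' Z) ∩
        (Q' : Set ((EtCoh.bc f).obj V').left)ᶜ) := hZ'.1.inter Q'.2.isClosed_compl
    have hR : ClSub.IsProperOver (EtShriek.prV f V')
        ((((EtCoh.bc f).map k).left ⁻¹' Z) ∩ (Q' : Set ((EtCoh.bc f).obj V').left)ᶜ) :=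
      isProperOver_of_subset _ hZ' hRcl Set.inter_subset_left
    have h1 : C.obj.map (openι _ Q').op (C.obj.map ((EtCoh.bc f).map k).op t) =
        C.obj.map (openι _ Q').op (β.hom.app _ b₁) := by
      rw [map_map, ← hm, ← map_map, ← hbW, ← nat_apply, ← nat_apply, hb₁Q]
    have h2 : C.obj.map (openι _ ⟨(Q' : Set ((EtCoh.bc f).obj V').left)ᶜ,
        hQ'cl.isOpen_compl⟩).op (β.hom.app _ b₁) = 0 := by
      rw [← nat_apply, hb₁c, map_zero]
    have ht₂ := vanishOff_sub C _ Q' hQ'cl _ _ (β.hom.app _ b₁) ht' h1 h2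
    -- the geometric point through `q'`
    obtain ⟨ζ, hζ1, hζ2⟩ := FinStalk.exists_geomPt_over (EtShriek.prV f V') q'
      (Wt.finite_residueFieldMap (EtShriek.prV f V') q') vbar' hv'0.symm
    have hq'Z : q' ∈ ((EtCoh.bc f).map k).left ⁻¹' Z := by
      show ((EtCoh.bc f).map k).left q' ∈ Z
      rw [hq'p, hw₀]; exact hξ₀.2
    have hζmem : ζ ∈ GP f V' vbar' (((EtCoh.bc f).map k).left ⁻¹' Z) := ⟨hζ1, hζ2 ▸ hq'Z⟩
    have hΨζ := GP_map_mem f k vbar vbar' hv' Z ζ hζmem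
    have hcard : (GP f V' vbar' ((((EtCoh.bc f).map k).left ⁻¹' Z) ∩
        (Q' : Set ((EtCoh.bc f).obj V').left)ᶜ)).ncard ≤ n := by
      have hfinZ := GP_finite f V vbar Z hZ
      have hle := Set.ncard_le_ncard_of_injOn
        (s := GP f V' vbar' ((((EtCoh.bc f).map k).left ⁻¹' Z) ∩
          (Q' : Set ((EtCoh.bc f).obj V').left)ᶜ))
        (t := GP f V vbar Z \ {ζ ≫ ((EtCoh.bc f).map k).left})
        (fun ξ' => ξ' ≫ ((EtCoh.bc f).map k).left)
        (by
          intro ξ' hξ'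
          have hξ'Z : ξ' ∈ GP f V' vbar' (((EtCoh.bc f).map k).left ⁻¹' Z) :=
            ⟨hξ'.1, hξ'.2.1⟩
          refine ⟨GP_map_mem f k vbar vbar' hv' Z ξ' hξ'Z, ?_⟩
          intro heq
          have := GP_map_injOn f k vbar' _ hξ'Z hζmem heq
          apply hξ'.2.2
          rw [this, hζ2]
          exact hq'Q)
        (GP_map_injOn f k vbar' _)
        (hfinZ.subset Set.diff_subset)
      rw [Set.ncard_diff_singleton_of_mem hΨζ] at hle
      omega
    obtain ⟨V'', k', vbar'', hv'', b₂, hb₂PS, hb₂⟩ := ih V' vbar' _ hR _ ht₂ hcard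
    refine ⟨V'', k' ≫ k, vbar'', ?_, B.obj.map ((EtCoh.bc f).map k').op b₁ + b₂,
      hasPS_add f B V'' _ _ (hasPS_map f B k' b₁ hb₁PS) hb₂PS, ?_⟩
    · show vbar'' ≫ k'.left ≫ k.left = vbar
      rw [← Category.assoc, hv'', hv']
    · rw [map_add, hb₂, nat_apply, map_sub, add_sub_cancel, map_map, ← Functor.map_comp]

end Groth.Agent.Lib.Helper57.RE
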