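import Mathlib
import Groth.Agent.Lib.Helper57.RE3
import Groth.Agent.Lib.Helper57.CS4

set_option autoImplicit false
universe u

open CategoryTheory Limits AlgebraicGeometry Opposite

namespace Groth.Agent.Lib.Helper57.RE

open Groth.Agent.Lib.Helper79.EtSiteGlue Groth.Agent.Lib.Helper21.ProperOver
open Groth.Agent.Lib.Helper57.EZ Groth.Agent.Lib.Helper57.LS Groth.Agent.Lib.Helper57.CS

section Sections

variable {X : Scheme.{u}}

/-- sections functor -/
noncomputable abbrev Γs (U : X.Etale) : EtCoh.Ab X ⥤ AddCommGrpCat.{u + 1} :=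
  sheafToPresheaf X.smallEtaleTopology AddCommGrpCat.{u + 1} ⋙
    (evaluation X.Etaleᵒᵖ AddCommGrpCat.{u + 1}).obj (op U)

instance (U : X.Etale) : (Γs U).Additive where
  map_add := rfl

instance (U : X.Etale) : PreservesFiniteLimits (Γs (X := X) U) := by
  haveI : PreservesLimitsOfSize.{0, 0} (sheafToPresheaf X.smallEtaleTopology
      AddCommGrpCat.{u + 1}) :=
    (sheafificationAdjunction X.smallEtaleTopology
      AddCommGrpCat.{u + 1}).rightAdjoint_preservesLimits
  haveI : PreservesFiniteLimits (sheafToPresheaf X.smallEtaleTopology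
      AddCommGrpCat.{u + 1}) := PreservesLimitsOfSize.preservesFiniteLimits _
  haveI : PreservesFiniteLimits ((evaluation X.Etaleᵒᵖ AddCommGrpCat.{u + 1}).obj (op U)) :=
    ⟨fun J _ _ => inferInstance⟩
  exact comp_preservesFiniteLimits _ _

theorem sections_exact (S : ShortComplex (EtCoh.Ab X)) (hS : S.ShortExact) (U : X.Etale) :
    Function.Injective (S.f.hom.app (op U)) ∧
      ∀ x : S.X₂.obj.obj (op U), S.g.hom.app (op U) x = 0 → ∃ a, S.f.hom.app (op U) a = x := by
  have hpl : PreservesFiniteLimits (Γs (X := X) U) := inferInstance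
  have h := (Functor.preservesFiniteLimits_iff_forall_exact_map_and_mono (Γs (X := X) U)).1 hpl S hS
  refine ⟨?_, ?_⟩
  · exact (AddCommGrpCat.mono_iff_injective _).1 h.2
  · exact (ShortComplex.ab_exact_iff _).1 h.1

end Sections

variable {X Y : Scheme.{u}} (f : X ⟶ Y) [LocallyOfFiniteType f]

/-- sections with proper support over `V` -/
noncomputable abbrev Γc (V : Y.Etale) : EtCoh.Ab X ⥤ AddCommGrpCat.{u + 1} :=
  EtShriek.lowerShriekPreFunctor f ⋙
    (evaluation Y.Etaleᵒᵖ AddCommGrpCat.{u + 1}).obj (op V)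

instance (V : Y.Etale) : (Γc f V).Additive where
  map_add := by
    intro A B α α'
    ext ⟨s, hs⟩
    rfl

theorem Γc_leftExact (V : Y.Etale) : PreservesFiniteLimits (Γc f V) := by
  refine ((Functor.preservesFiniteLimits_tfae (Γc f V)).out 0 3).1 ?_
  intro S hS
  have hW := sections_exact S hS ((EtCoh.bc f).obj V)
  refine ⟨?_, ?_⟩
  · rw [ShortComplex.ab_exact_iff]
    rintro ⟨s, hs⟩ h0
    have h0' : S.g.hom.app (op ((EtCoh.bc f).obj V)) s = 0 := congrArg Subtype.val h0
    obtain ⟨a, ha⟩ := hW.2 s h0'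
    have hamem : a ∈ EtShriek.shriekSubgroup f S.X₁ V := by
      rw [mem_shriekSubgroup_iff]
      obtain ⟨Z, hZ, hv⟩ := (mem_shriekSubgroup_iff f S.X₂ V s).1 hs
      refine ⟨Z, hZ, fun Y' k hk => ?_⟩
      apply (sections_exact S hS Y').1
      rw [nat_apply, ha, hv Y' k hk, map_zero]
    refine ⟨⟨a, hamem⟩, ?_⟩
    apply Subtype.ext
    exact ha
  · rw [AddCommGrpCat.mono_iff_injective]
    rintro ⟨s, hs⟩ ⟨s', hs'⟩ h
    apply Subtype.ext
    apply hW.1
    exact congrArg Subtype.val h

theorem lowerShriek_leftExact : PreservesFiniteLimits (EtShriek.lowerShriek f) := by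
  haveI : PreservesFiniteLimits (EtShriek.lowerShriekPreFunctor f) :=
    preservesFiniteLimits_of_evaluation _ (fun V => Γc_leftExact f V.unop)
  exact comp_preservesFiniteLimits _ _

end Groth.Agent.Lib.Helper57.RE
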