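import Mathlib
import Groth.Agent.Lib.Helper57.RE4

set_option autoImplicit false
universe u

open CategoryTheory Limits AlgebraicGeometry Opposite

namespace Groth.Agent.Lib.Helper57.RE

open Groth.Agent.Lib.Helper79.EtSiteGlue Groth.Agent.Lib.Helper21.ProperOver
open Groth.Agent.Lib.Helper57.EZ Groth.Agent.Lib.Helper57.LS Groth.Agent.Lib.Helper57.CS

variable {X Y : Scheme.{u}} (f : X ⟶ Y) [IsSeparated f] [LocallyOfFiniteType f]
  [LocallyQuasiFinite f]

instance isLocallySurjective_LS_map {B C : EtCoh.Ab X} (β : B ⟶ C) [Epi β] :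
    Presheaf.IsLocallySurjective Y.smallEtaleTopology ((LS f).map β).hom where
  imageSieve_mem {V} s := by
    apply mem_of_forall_exists
    intro v₀
    let Ω := AlgebraicClosure (V.left.residueField v₀)
    let vbar : Spec (CommRingCat.of Ω) ⟶ V.left :=
      Spec.map (CommRingCat.ofHom (algebraMap (V.left.residueField v₀) Ω)) ≫
        V.left.fromSpecResidueField v₀
    have hv₀ : vbar default = v₀ := by
      show (V.left.fromSpecResidueField v₀) _ = v₀
      exact Scheme.fromSpecResidueField_apply _ _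
    obtain ⟨Z, hZ, hv⟩ := und_hasPS f C V s
    obtain ⟨V', k, vbar', hvk, b, hbPS, hb⟩ :=
      key f β _ V vbar Z hZ (und f C V s) hv le_rfl
    refine ⟨V', k, ⟨toLS f B V' ⟨b, (mem_shriekSubgroup_iff f B V' b).2 hbPS⟩, ?_⟩,
      ⟨vbar' default, ?_⟩⟩
    · apply und_injective f C V'
      exact hb
    · have h1 : k.left (vbar' default) = (vbar' ≫ k.left) default := rfl
      rw [h1, hvk, hv₀]

theorem epi_LS_map {B C : EtCoh.Ab X} (β : B ⟶ C) [Epi β] : Epi ((LS f).map β) :=
  Sheaf.epi_of_isLocallySurjective ((LS f).map β)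

theorem epi_lowerShriek_map {B C : EtCoh.Ab X} (β : B ⟶ C) [Epi β] :
    Epi ((EtShriek.lowerShriek f).map β) := by
  haveI := epi_LS_map f β
  have h : (EtShriek.lowerShriek f).map β =
      (lowerShriekIsoLS f).hom.app B ≫ (LS f).map β ≫ (lowerShriekIsoLS f).inv.app C := by
    rw [← Category.assoc, ← (lowerShriekIsoLS f).hom.naturality β, Category.assoc,
      Iso.hom_inv_id_app, Category.comp_id]
  rw [h]
  infer_instance

instance : (EtShriek.lowerShriekPreFunctor f).Additive where
  map_add := by
    intro A B α α'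
    ext V ⟨s, hs⟩
    rfl

theorem lowerShriek_rightExact : PreservesFiniteColimits (EtShriek.lowerShriek f) := by
  have hlim := lowerShriek_leftExact f
  refine ((Functor.preservesFiniteColimits_tfae (EtShriek.lowerShriek f)).out 0 3).1 ?_
  intro S hS
  refine ⟨((Functor.preservesFiniteLimits_iff_forall_exact_map_and_mono
    (EtShriek.lowerShriek f)).1 hlim S hS).1, ?_⟩
  haveI := hS.epi_g
  exact epi_lowerShriek_map f S.g

end Groth.Agent.Lib.Helper57.RE
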