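import Mathlib
import Groth.Agent.Lib.Helper57.RE5

set_option autoImplicit false
universe u

open CategoryTheory Limits AlgebraicGeometry Opposite

namespace Groth.Agent.Lib.Helper57.RE

open Groth.Agent.Lib.Helper57.EZ Groth.Agent.Lib.Helper57.CS

instance essentiallySmall_etale (X : Scheme.{u}) : EssentiallySmall.{u + 1} X.Etale := by
  rw [essentiallySmall_iff]
  constructor
  · infer_instance
  · infer_instance

theorem isGrothendieckAbelian_ab (X : Scheme.{u}) : IsGrothendieckAbelian.{u + 1} (EtCoh.Ab X) :=
  Sheaf.isGrothendieckAbelian_of_essentiallySmall _ _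

variable {X Y : Scheme.{u}} (f : X ⟶ Y) [IsSeparated f] [LocallyOfFiniteType f]
  [LocallyQuasiFinite f]

theorem lowerShriek_preservesColimits :
    PreservesColimitsOfSize.{u + 1, u + 1} (EtShriek.lowerShriek f) := by
  haveI := lowerShriek_rightExact f
  haveI : PreservesColimitsOfShape WalkingParallelPair (EtShriek.lowerShriek f) :=
    PreservesFiniteColimits.preservesFiniteColimits _
  haveI : ∀ J : Type (u + 1), PreservesColimitsOfShape (Discrete J) (EtShriek.lowerShriek f) := by
    intro J
    haveI := preservesCoproducts_LS f J
    exact preservesColimitsOfShape_of_natIso (lowerShriekIsoLS f).symm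
  exact preservesColimits_of_preservesCoequalizers_and_coproducts _

theorem lowerShriek_isLeftAdjoint : (EtShriek.lowerShriek f).IsLeftAdjoint := by
  haveI := isGrothendieckAbelian_ab X
  haveI := lowerShriek_preservesColimits f
  haveI : WellPowered.{u + 1} (EtCoh.Ab X)ᵒᵖ := CategoryTheory.Abelian.wellPowered_opposite
  exact isLeftAdjoint_of_preservesColimits_of_isSeparating
    (isSeparator_separator (EtCoh.Ab X)) _

end Groth.Agent.Lib.Helper57.RE
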