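import Mathlib

set_option autoImplicit false
open CategoryTheory CategoryTheory.Limits
universe u

/-! Recognising infinite coproducts of abelian groups. -/

namespace Groth.Agent.Lib.Helper57.ST

open DirectSum

section

variable {I : Type u} [DecidableEq I] (G : I → AddCommGrpCat.{u + 1})

/-- the direct sum as a cofan -/
noncomputable def dsCofan : Cofan G :=
  Cofan.mk (AddCommGrpCat.of (⨁ i, G i))
    (fun i => AddCommGrpCat.ofHom (DirectSum.of (fun i => G i) i))

/-- the direct sum is a coproduct -/
noncomputable def dsIsColimit : IsColimit (dsCofan G) :=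
  Cofan.IsColimit.mk _
    (fun s => AddCommGrpCat.ofHom (DirectSum.toAddMonoid (fun i => (s.inj i).hom)))
    (fun s i => by
      ext x
      exact DirectSum.toAddMonoid_of (fun i => (s.inj i).hom) i x)
    (fun s m hm => by
      ext : 1
      apply DirectSum.addHom_ext
      intro i x
      have h1 := congrArg (fun φ => φ x) (congrArg AddCommGrpCat.Hom.hom (hm i))
      refine Eq.trans h1 ?_
      exact (DirectSum.toAddMonoid_of (fun i => (s.inj i).hom) i x).symm)

end

theorem nonempty_iso_coproduct {I : Type u} (G : I → AddCommGrpCat.{u + 1}) [HasCoproduct G]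
    (S : AddCommGrpCat.{u + 1}) (t : ∀ i, S ⟶ G i)
    (hfin : ∀ a : S, {i | t i a ≠ 0}.Finite)
    (hinj : ∀ a : S, (∀ i, t i a = 0) → a = 0)
    (hsingle : ∀ (i : I) (c : G i), ∃ a : S, t i a = c ∧ ∀ j, j ≠ i → t j a = 0) :
    Nonempty (S ≅ ∐ G) := by
  classical
  let Ψ₀ : S → ⨁ i, G i := fun a =>
    DirectSum.mk (fun i => G i) (hfin a).toFinset (fun i => t i.1 a)
  have hΨ₀ : ∀ (a : S) (i : I), (Ψ₀ a) i = t i a := by
    intro a i
    by_cases hi : i ∈ (hfin a).toFinset
    · exact DirectSum.mk_apply_of_mem hi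
    · have h1 : (Ψ₀ a) i = 0 := DirectSum.mk_apply_of_notMem hi
      rw [h1]
      have h2 : ¬ (t i a ≠ 0) := fun h => hi ((hfin a).mem_toFinset.2 h)
      exact (not_not.1 h2).symm
  let Ψ : S →+ ⨁ i, G i :=
    { toFun := Ψ₀
      map_zero' := by
        apply DFinsupp.ext
        intro i
        rw [hΨ₀, map_zero]
        rfl
      map_add' := by
        intro a b
        apply DFinsupp.ext
        intro i
        rw [DirectSum.add_apply, hΨ₀, hΨ₀, hΨ₀, map_add] }
  have hΨ : ∀ (a : S) (i : I), (Ψ a) i = t i a := hΨ₀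
  have hbij : Function.Bijective Ψ := by
    constructor
    · rw [injective_iff_map_eq_zero]
      intro a ha
      apply hinj
      intro i
      rw [← hΨ, ha]
      rfl
    · intro x
      induction x using DirectSum.induction_on with
      | zero => exact ⟨0, map_zero _⟩
      | of i c =>
        obtain ⟨a, ha1, ha2⟩ := hsingle i c
        refine ⟨a, ?_⟩
        apply DFinsupp.ext
        intro j
        rw [hΨ]
        by_cases hj : j = i
        · subst hj
          rw [ha1]
          exact (DirectSum.of_eq_same (β := fun i => G i) j c).symm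
        · rw [ha2 j hj]
          exact (DirectSum.of_eq_of_ne (β := fun i => G i) i j c hj).symm
      | add x y hx hy =>
        obtain ⟨a, rfl⟩ := hx
        obtain ⟨b, rfl⟩ := hy
        exact ⟨a + b, map_add _ _ _⟩
  let e : S ≅ AddCommGrpCat.of (⨁ i, G i) :=
    AddEquiv.toAddCommGrpIso (X := S) (Y := AddCommGrpCat.of (⨁ i, G i)) (AddEquiv.ofBijective Ψ hbij)
  exact ⟨e ≪≫ (dsIsColimit G).coconePointUniqueUpToIso (colimit.isColimit _)⟩

end Groth.Agent.Lib.Helper57.ST
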