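import Mathlib.GroupTheory.CosetCover
import Mathlib.RingTheory.LocalRing.ResidueField.Basic
import Mathlib.RingTheory.Nakayama
import Mathlib.RingTheory.Spectrum.Maximal.Basic
import Mathlib.LinearAlgebra.Dimension.OrzechProperty
import Mathlib.LinearAlgebra.FiniteDimensional.Lemmas
import Mathlib.Algebra.Module.SpanRankOperations

set_option autoImplicit false
open scoped Pointwise

namespace Groth.Agent.Lib.Helper57

section Avoid

variable {B N : Type*} [CommRing B] [IsLocalRing B] [Infinite (IsLocalRing.ResidueField B)]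
  [AddCommGroup N] [Module B N]

/-- A submodule of finite index over a local ring with infinite residue field is everything. -/
theorem eq_top_of_finiteIndex (p : Submodule B N) (h : p.toAddSubgroup.FiniteIndex) : p = ⊤ := by
  by_contra hne
  obtain ⟨y, hy⟩ : ∃ y, y ∉ p := by
    by_contra hcon
    simp only [not_exists, not_not] at hcon
    exact hne (eq_top_iff.2 fun y _ => hcon y)
  have hfin : Finite (N ⧸ p.toAddSubgroup) := AddSubgroup.finite_quotient_of_finiteIndex
  let g : IsLocalRing.ResidueField B → N ⧸ p.toAddSubgroup := fun c =>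
    QuotientAddGroup.mk ((Function.surjInv IsLocalRing.residue_surjective c) • y)
  obtain ⟨c, c', hcc, hg⟩ := Finite.exists_ne_map_eq_of_infinite g
  have hmem : (Function.surjInv IsLocalRing.residue_surjective c -
      Function.surjInv IsLocalRing.residue_surjective c') • y ∈ p := by
    have := QuotientAddGroup.eq.1 hg.symm
    rw [sub_smul, sub_eq_neg_add]
    exact this
  have hunit : IsUnit (Function.surjInv IsLocalRing.residue_surjective c -
      Function.surjInv IsLocalRing.residue_surjective c') := by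
    by_contra hnu
    have : IsLocalRing.residue B (Function.surjInv IsLocalRing.residue_surjective c -
      Function.surjInv IsLocalRing.residue_surjective c') = 0 := by
      rw [IsLocalRing.residue_eq_zero_iff]
      exact hnu
    rw [map_sub, Function.surjInv_eq IsLocalRing.residue_surjective c,
      Function.surjInv_eq IsLocalRing.residue_surjective c', sub_eq_zero] at this
    exact hcc this
  obtain ⟨u, hu⟩ := hunit
  apply hy
  have := p.smul_mem (↑u⁻¹ : B) hmem
  rwa [← hu, smul_smul, Units.inv_mul, one_smul] at this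

/-- A module over a local ring with infinite residue field is not a finite union of proper
submodules. -/
theorem exists_forall_notMem_of_ne_top {ι : Type*} [Finite ι] (p : ι → Submodule B N)
    (hp : ∀ i, p i ≠ ⊤) : ∃ y : N, ∀ i, y ∉ p i := by
  by_contra hcon
  simp only [not_exists, not_forall, not_not] at hcon
  have := Fintype.ofFinite ι
  have hcov : ⋃ i ∈ (Finset.univ : Finset ι), (p i : Set N) = Set.univ := by
    ext y
    simp only [Finset.mem_univ, Set.iUnion_true, Set.mem_iUnion, SetLike.mem_coe, Set.mem_univ,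
      iff_true]
    exact hcon y
  obtain ⟨i, -, hi⟩ := Submodule.exists_finiteIndex_of_cover hcov
  exact hp i (eq_top_of_finiteIndex (p i) hi)

end Avoid

section Max

open TensorProduct

variable {A M : Type*} [CommRing A] [AddCommGroup M] [Module A M]
  (𝔪 : Ideal A) [h𝔪 : 𝔪.IsMaximal]

/-- The quotient of `A` by a maximal ideal, as a field (local instance). -/
noncomputable local instance quotField : Field (A ⧸ 𝔪) := Ideal.Quotient.field 𝔪

/-- The fibre `κ ⊗ M ≃ M ⧸ 𝔪 M` as a `κ`-linear equivalence. -/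
noncomputable def fibreEquiv :
    ((A ⧸ 𝔪) ⊗[A] M) ≃ₗ[A ⧸ 𝔪] (M ⧸ (𝔪 • ⊤ : Submodule A M)) :=
  (quotTensorEquivQuotSMul M 𝔪).extendScalarsOfSurjective Ideal.Quotient.mk_surjective

include h𝔪 in
theorem nontrivial_of_isMaximal : Nontrivial A :=
  nontrivial_of_ne (0 : A) 1 fun h =>
    h𝔪.ne_top (by rw [Ideal.eq_top_iff_one, ← h]; exact zero_mem _)

theorem finite_fibre [Module.Finite A M] :
    Module.Finite (A ⧸ 𝔪) (M ⧸ (𝔪 • ⊤ : Submodule A M)) :=
  Module.Finite.equiv (fibreEquiv (M := M) 𝔪)

theorem finrank_fibre [Module.Free A M] [Module.Finite A M] :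
    Module.finrank (A ⧸ 𝔪) (M ⧸ (𝔪 • ⊤ : Submodule A M)) = Module.finrank A M := by
  have := nontrivial_of_isMaximal 𝔪
  rw [← (fibreEquiv (M := M) 𝔪).finrank_eq, Module.finrank_baseChange]

/-- The family `x` is linearly independent modulo the maximal ideal `𝔪`. -/
def IndepMod {ι : Type*} (x : ι → M) : Prop :=
  LinearIndependent (A ⧸ 𝔪)
    (fun t => (Submodule.Quotient.mk (x t) : M ⧸ (𝔪 • ⊤ : Submodule A M)))

theorem span_quot_eq {ι : Type*} (x : ι → M) :
    ((Submodule.span (A ⧸ 𝔪) (Set.range
      (fun t => (Submodule.Quotient.mk (x t) : M ⧸ (𝔪 • ⊤ : Submodule A M))))).restrictScalars A)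
    = Submodule.map (𝔪 • ⊤ : Submodule A M).mkQ (Submodule.span A (Set.range x)) := by
  rw [Submodule.restrictScalars_span A (A ⧸ 𝔪) Ideal.Quotient.mk_surjective, Submodule.map_span,
    ← Set.range_comp]
  rfl

theorem mem_sup_of_mk_mem_span {ι : Type*} (x : ι → M) (y : M)
    (h : (Submodule.Quotient.mk y : M ⧸ (𝔪 • ⊤ : Submodule A M)) ∈
      Submodule.span (A ⧸ 𝔪) (Set.range
        (fun t => (Submodule.Quotient.mk (x t) : M ⧸ (𝔪 • ⊤ : Submodule A M))))) :
    y ∈ Submodule.span A (Set.range x) ⊔ (𝔪 • ⊤ : Submodule A M) := by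
  have h' : (𝔪 • ⊤ : Submodule A M).mkQ y ∈
      Submodule.map (𝔪 • ⊤ : Submodule A M).mkQ (Submodule.span A (Set.range x)) := by
    rw [← span_quot_eq]
    exact h
  have := Submodule.mem_comap.2 h'
  rwa [Submodule.comap_map_mkQ, sup_comm] at this

theorem indepMod_empty : IndepMod 𝔪 (Fin.elim0 : Fin 0 → M) :=
  linearIndependent_empty_type

theorem indepMod_cons {j : ℕ} {x : Fin j → M} (hx : IndepMod 𝔪 x) {y : M}
    (hy : y ∉ Submodule.span A (Set.range x) ⊔ (𝔪 • ⊤ : Submodule A M)) :
    IndepMod 𝔪 (Fin.cons y x : Fin (j + 1) → M) := by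
  unfold IndepMod
  have : (fun t => (Submodule.Quotient.mk ((Fin.cons y x : Fin (j + 1) → M) t) :
      M ⧸ (𝔪 • ⊤ : Submodule A M))) =
      Fin.cons (Submodule.Quotient.mk y)
        (fun t => (Submodule.Quotient.mk (x t) : M ⧸ (𝔪 • ⊤ : Submodule A M))) := by
    ext t
    refine Fin.cases ?_ (fun t => ?_) t <;> simp
  rw [this, linearIndependent_finCons]
  exact ⟨hx, fun h => hy (mem_sup_of_mk_mem_span 𝔪 x y h)⟩

theorem sup_ne_top_of_indepMod [Module.Free A M] [Module.Finite A M] {j : ℕ} {x : Fin j → M}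
    (hj : j < Module.finrank A M) :
    Submodule.span A (Set.range x) ⊔ (𝔪 • ⊤ : Submodule A M) ≠ ⊤ := by
  intro h
  rw [sup_comm, ← Submodule.map_mkQ_eq_top, ← span_quot_eq] at h
  have h2 : Submodule.span (A ⧸ 𝔪) (Set.range
      (fun t => (Submodule.Quotient.mk (x t) : M ⧸ (𝔪 • ⊤ : Submodule A M)))) = ⊤ := by
    rw [eq_top_iff]
    intro v _
    have : v ∈ (⊤ : Submodule A (M ⧸ (𝔪 • ⊤ : Submodule A M))) := trivial
    rw [← h] at this
    exact this
  have h3 := finrank_range_le_card (R := A ⧸ 𝔪)
    (fun t => (Submodule.Quotient.mk (x t) : M ⧸ (𝔪 • ⊤ : Submodule A M)))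
  rw [Set.finrank, h2, finrank_top, finrank_fibre, Fintype.card_fin] at h3
  omega

theorem sup_eq_top_of_indepMod [Module.Free A M] [Module.Finite A M] {j : ℕ} {x : Fin j → M}
    (hx : IndepMod 𝔪 x) (hj : j = Module.finrank A M) :
    Submodule.span A (Set.range x) ⊔ (𝔪 • ⊤ : Submodule A M) = ⊤ := by
  have := finite_fibre (M := M) 𝔪
  have h2 := LinearIndependent.span_eq_top_of_card_eq_finrank' hx
    (by rw [Fintype.card_fin, finrank_fibre, hj])
  rw [sup_comm, ← Submodule.map_mkQ_eq_top, ← span_quot_eq, h2]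
  rfl

end Max

section Main

variable {A M : Type*} [CommRing A] [AddCommGroup M] [Module A M]

theorem eq_top_of_forall_sup_smul_top [Finite (MaximalSpectrum A)] [Module.Finite A M]
    (P : Submodule A M)
    (h : ∀ i : MaximalSpectrum A, P ⊔ (i.asIdeal • ⊤ : Submodule A M) = ⊤) : P = ⊤ := by
  classical
  have := Fintype.ofFinite (MaximalSpectrum A)
  have key : ∀ S : Finset (MaximalSpectrum A),
      P ⊔ ((∏ i ∈ S, i.asIdeal) • ⊤ : Submodule A M) = ⊤ := by
    intro S
    induction S using Finset.induction_on with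
    | empty => simp [Ideal.one_eq_top]
    | insert i S hi ih =>
      rw [Finset.prod_insert hi, Submodule.mul_smul, eq_top_iff]
      calc (⊤ : Submodule A M) = P ⊔ i.asIdeal • (⊤ : Submodule A M) := (h i).symm
        _ = P ⊔ i.asIdeal • (P ⊔ ((∏ i ∈ S, i.asIdeal) • ⊤ : Submodule A M)) := by rw [ih]
        _ = P ⊔ (i.asIdeal • P ⊔ i.asIdeal • ((∏ i ∈ S, i.asIdeal) • ⊤ : Submodule A M)) := by
            rw [Submodule.smul_sup]
        _ ≤ P ⊔ i.asIdeal • ((∏ i ∈ S, i.asIdeal) • ⊤ : Submodule A M) :=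
            sup_le le_sup_left
              (sup_le (le_trans Submodule.smul_le_right le_sup_left) le_sup_right)
  have hJ : (∏ i ∈ (Finset.univ : Finset (MaximalSpectrum A)), i.asIdeal) ≤
      Ideal.jacobson ⊥ := by
    refine le_sInf ?_
    rintro J ⟨-, hJmax⟩
    exact Ideal.prod_le_inf.trans (Finset.inf_le (Finset.mem_univ (⟨J, hJmax⟩ : MaximalSpectrum A)))
  rw [eq_top_iff]
  exact Submodule.le_of_le_smul_of_le_jacobson_bot Module.Finite.fg_top hJ
    (by rw [key Finset.univ])

theorem exists_basis_mem_of_span_eq_top {B A M : Type*} [CommRing B] [CommRing A]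
    [IsLocalRing B] [Infinite (IsLocalRing.ResidueField B)] [Algebra B A]
    [Finite (MaximalSpectrum A)]
    [AddCommGroup M] [Module A M] [Module B M] [IsScalarTower B A M]
    [Module.Free A M] [Module.Finite A M]
    (N : Submodule B M) (hN : Submodule.span A (N : Set M) = ⊤) :
    ∃ b : Module.Basis (Fin (Module.finrank A M)) A M, ∀ i, b i ∈ N := by
  have key : ∀ j ≤ Module.finrank A M, ∃ x : Fin j → M, (∀ t, x t ∈ N) ∧
      ∀ i : MaximalSpectrum A, IndepMod i.asIdeal x := by
    intro j
    induction j with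
    | zero => exact fun _ => ⟨Fin.elim0, fun t => t.elim0, fun i => indepMod_empty _⟩
    | succ j ih =>
      intro hj
      obtain ⟨x, hxN, hx⟩ := ih (by omega)
      let p : MaximalSpectrum A → Submodule B N := fun i =>
        Submodule.comap N.subtype
          ((Submodule.span A (Set.range x) ⊔
            (i.asIdeal • ⊤ : Submodule A M)).restrictScalars B)
      have hp : ∀ i, p i ≠ ⊤ := by
        intro i h
        apply sup_ne_top_of_indepMod i.asIdeal (x := x) (by omega)
        refine eq_top_iff.2 (hN.symm.le.trans (Submodule.span_le.2 ?_))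
        intro y hy
        have : (⟨y, hy⟩ : N) ∈ p i := by rw [h]; trivial
        exact this
      obtain ⟨y, hy⟩ := exists_forall_notMem_of_ne_top p hp
      refine ⟨Fin.cons y.1 x, ?_, fun i => indepMod_cons _ (hx i) (hy i)⟩
      intro t
      refine Fin.cases ?_ (fun t => ?_) t
      · simp
      · simpa using hxN t
  obtain ⟨x, hxN, hx⟩ := key _ le_rfl
  have hspan : Submodule.span A (Set.range x) = ⊤ :=
    eq_top_of_forall_sup_smul_top _ fun i => sup_eq_top_of_indepMod i.asIdeal (hx i) rfl
  refine ⟨basisOfTopLeSpanOfCardEqFinrank x hspan.ge (by simp), fun i => ?_⟩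
  rw [coe_basisOfTopLeSpanOfCardEqFinrank]
  exact hxN i

end Main

end Groth.Agent.Lib.Helper57
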