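import Groth.Agent.Lib.Helper57.ConstUnit3
import Groth.Agent.Lib.Helper57.EtPushExact
import Groth.Agent.Lib.Helper42.RDerComm

/-!
# Direct images from the spectrum of a separably closed field are exact
-/

set_option autoImplicit false
open CategoryTheory CategoryTheory.Limits AlgebraicGeometry Opposite TopologicalSpace
universe u

noncomputable section

namespace Groth.Agent.Lib.Helper57.SepPt

open Groth.Agent.Lib.Helper4 Groth.Agent.Lib.Helper79

variable {K : Type u} [Field K] [IsSepClosed K]

instance : Unique (EtCoh.top (Spec (CommRingCat.of K))).left :=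
  inferInstanceAs (Unique (Spec (CommRingCat.of K)))

/-- Every point of an étale scheme over a separably closed field is the image of a section. -/
theorem exists_section (W : (Spec (CommRingCat.of K)).Etale) (w : W.left) :
    ∃ σ : EtCoh.top (Spec (CommRingCat.of K)) ⟶ W, σ.left default = w := by
  let f : W.left ⟶ Spec (CommRingCat.of K) := W.hom
  have : Etale f := W.prop
  obtain ⟨l, hl, hlw⟩ := Scheme.exists_fac_of_etale_of_isSepClosed f (𝟙 _) w
    (Subsingleton.elim _ _)
  exact ⟨MorphismProperty.Over.homMk l hl trivial, hlw⟩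

/-- Every covering sieve of the terminal object is the maximal sieve. -/
theorem id_mem_of_mem (R : Sieve (EtCoh.top (Spec (CommRingCat.of K))))
    (hR : R ∈ (Spec (CommRingCat.of K)).smallEtaleTopology (EtCoh.top _)) : R (𝟙 _) := by
  obtain ⟨W', g, w', hg, -⟩ := (OverEt.mem_iff_forall_exists _ R).1 hR default
  obtain ⟨σ, -⟩ := exists_section W' w'
  have h1 : R (σ ≫ g) := R.downward_closed hg σ
  have h2 : σ ≫ g = 𝟙 _ := (EtCore.topIsTerminal _).hom_ext _ _
  rwa [h2] at h1

theorem sections_surjective_top {G G'' : EtCoh.Ab (Spec (CommRingCat.of K))} (e : G ⟶ G'')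
    [Epi e] : Function.Surjective (e.hom.app (op (EtCoh.top _))) := by
  intro s
  have hls : Sheaf.IsLocallySurjective e := (Sheaf.isLocallySurjective_iff_epi' _ e).2 inferInstance
  have hmem := Presheaf.imageSieve_mem (Spec (CommRingCat.of K)).smallEtaleTopology e.hom s
  obtain ⟨t, ht⟩ := id_mem_of_mem _ hmem
  refine ⟨t, ht.trans ?_⟩
  change G''.obj.map (𝟙 _) s = s
  rw [CategoryTheory.Functor.map_id]
  rfl

theorem range_section (W : (Spec (CommRingCat.of K)).Etale)
    (σ : EtCoh.top (Spec (CommRingCat.of K)) ⟶ W) :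
    Set.range σ.left = {σ.left default} := by
  ext x
  constructor
  · rintro ⟨p, rfl⟩
    rw [Subsingleton.elim p default]
    rfl
  · rintro rfl
    exact ⟨default, rfl⟩

theorem sections_surjective {G G'' : EtCoh.Ab (Spec (CommRingCat.of K))} (e : G ⟶ G'')
    [Epi e] (W : (Spec (CommRingCat.of K)).Etale) :
    Function.Surjective (e.hom.app (op W)) := by
  intro s
  choose σ hσ using exists_section W
  have hsurjT := sections_surjective_top e
  choose t ht using fun w => hsurjT (G''.obj.map (σ w).op s)
  have hG : Presieve.IsSheaf (Spec (CommRingCat.of K)).smallEtaleTopology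
      (G.obj ⋙ forget AddCommGrpCat.{u + 1}) :=
    (isSheaf_iff_isSheaf_of_type _ _).1
      ((Presheaf.isSheaf_iff_isSheaf_forget _ G.obj (forget AddCommGrpCat.{u + 1})).1 G.property)
  have hG'' : Presieve.IsSheaf (Spec (CommRingCat.of K)).smallEtaleTopology
      (G''.obj ⋙ forget AddCommGrpCat.{u + 1}) :=
    (isSheaf_iff_isSheaf_of_type _ _).1
      ((Presheaf.isSheaf_iff_isSheaf_forget _ G''.obj (forget AddCommGrpCat.{u + 1})).1
        G''.property)
  have hmono : ∀ w, Mono (σ w).left := by
    intro w
    have h1 : (σ w).left ≫ W.hom = 𝟙 _ := MorphismProperty.Over.w (σ w)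
    haveI : IsSplitMono (σ w).left := IsSplitMono.mk' ⟨W.hom, h1⟩
    infer_instance
  have hd : ∀ a b, a ≠ b → Disjoint (Set.range (σ a).left) (Set.range (σ b).left) := by
    intro a b hab
    rw [range_section, range_section, hσ a, hσ b]
    exact Set.disjoint_singleton.mpr hab
  have hsurj : ∀ x : W.left, ∃ a, x ∈ Set.range (σ a).left := by
    intro x
    exact ⟨x, default, hσ x⟩
  obtain ⟨t₀, ht₀, -⟩ := EtSiteGlue.existsUnique_glue_of_disjoint' hG W
    (fun _ => EtCoh.top _) σ hmono hd hsurj t
  refine ⟨t₀, ?_⟩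
  apply EtSiteGlue.eq_of_forall_map_eq hG'' W (fun _ => EtCoh.top _) σ hsurj
  intro w
  change G''.obj.map (σ w).op (e.hom.app (op W) t₀) = G''.obj.map (σ w).op s
  rw [← ht w]
  have h1 := NatTrans.naturality_apply e.hom (σ w).op t₀
  rw [← h1]
  congr 1
  exact ht₀ w

/-- Direct image from the spectrum of a separably closed field preserves epimorphisms. -/
theorem push_preservesEpimorphisms {Y : Scheme.{u}} (h : Spec (CommRingCat.of K) ⟶ Y) :
    (EtCoh.push h).PreservesEpimorphisms := by
  refine ⟨fun {G G''} e he => ?_⟩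
  rw [← Sheaf.isLocallySurjective_iff_epi' AddCommGrpCat.{u + 1}]
  apply Presheaf.isLocallySurjective_of_surjective
  intro V
  exact sections_surjective e ((EtCoh.bc h).obj (unop V))

theorem push_preservesFiniteColimits {Y : Scheme.{u}} (h : Spec (CommRingCat.of K) ⟶ Y) :
    PreservesFiniteColimits (EtCoh.push h) := by
  have hepi : (EtCoh.push h).PreservesEpimorphisms := push_preservesEpimorphisms h
  have hlim := EtPushExact.push_preservesFiniteLimits h
  have h1 := ((Functor.preservesFiniteLimits_tfae (EtCoh.push h)).out 3 0).mp hlim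
  refine ((Functor.preservesFiniteColimits_tfae (EtCoh.push h)).out 0 3).mp ?_
  intro S hS
  have := hS.epi_g
  exact ⟨(h1 S hS).1, inferInstance⟩

/-- Higher direct images of a direct image from the spectrum of a separably closed field
vanish. -/
theorem isZero_Rpush_push {X Y : Scheme.{u}} (g : Spec (CommRingCat.of K) ⟶ X) (f : X ⟶ Y)
    (G : EtCoh.Ab (Spec (CommRingCat.of K))) (q : ℕ) (hq : 1 ≤ q) :
    IsZero ((EtCoh.Rpush f q).obj ((EtCoh.push g).obj G)) := by
  obtain ⟨n, rfl⟩ : ∃ n, q = n + 1 := ⟨q - 1, by omega⟩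
  haveI := EtPushExact.push_preservesFiniteLimits g
  haveI := push_preservesFiniteColimits g
  haveI := EtPushExact.push_preservesFiniteLimits (g ≫ f)
  haveI := push_preservesFiniteColimits (g ≫ f)
  haveI : PreservesFiniteLimits (EtCoh.pull g) := EtStalk.preservesFiniteLimits_pull g
  haveI : (EtCoh.push g).PreservesInjectiveObjects :=
    Functor.preservesInjectiveObjects_of_adjunction_of_preservesMonomorphisms
      (EtCoh.pullPushAdj g)
  have e1 := (Groth.Agent.Lib.Helper42.RDerComm.preCompIso (EtCoh.push g) (EtCoh.push f)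
    (n + 1)).app G
  have e2 := (Groth.Agent.Lib.Helper42.RDerComm.mapIso (EtCoh.pushComp f g) (n + 1)).app G
  have hz : IsZero (((EtCoh.push (g ≫ f)).rightDerived (n + 1)).obj G) :=
    EtPushExact.isZero_rightDerived_of_exact (EtCoh.push (g ≫ f)) n G
  exact (hz.of_iso e2).of_iso e1.symm

end Groth.Agent.Lib.Helper57.SepPt
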