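import Mathlib.CategoryTheory.Sites.RegularEpi
import Mathlib.CategoryTheory.Sites.LocallySurjective
import Mathlib.CategoryTheory.Sites.Limits
import Mathlib.CategoryTheory.Limits.Types.Pullbacks
import Groth.Agent.Lib.Helper57.UnivEffEpi

set_option autoImplicit false
set_option backward.isDefEq.respectTransparency false
open CategoryTheory CategoryTheory.Limits Opposite
universe w v₁ u₁

namespace Groth.Agent.Lib.Helper57

variable {C : Type u₁} [Category.{v₁} C] (J : GrothendieckTopology C)

/-- A pullback square of sheaves of sets is a pullback square of sets on sections. -/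
theorem isPullback_sections [HasSheafify J (Type w)]
    {P X Y Z : Sheaf J (Type w)} {fst : P ⟶ X} {snd : P ⟶ Y} {f : X ⟶ Z} {g : Y ⟶ Z}
    (H : IsPullback fst snd f g) (V : Cᵒᵖ) :
    IsPullback (fst.hom.app V) (snd.hom.app V) (f.hom.app V) (g.hom.app V) :=
  (H.map (sheafToPresheaf J (Type w))).map ((evaluation _ _).obj V)

/-- Epimorphisms of sheaves of sets are stable under base change. -/
theorem epi_of_isPullback_sheaf [HasSheafify J (Type w)]
    {X Y X' Y' : Sheaf J (Type w)} {f : X ⟶ Y} [Epi f]
    {i₁ : X' ⟶ X} {i₂ : Y' ⟶ Y} {f' : X' ⟶ Y'} (H : IsPullback f' i₁ i₂ f) : Epi f' := by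
  rw [← Sheaf.isLocallySurjective_iff_epi]
  have hf : Sheaf.IsLocallySurjective f := (Sheaf.isLocallySurjective_iff_epi f).2 inferInstance
  constructor
  intro U s
  refine J.superset_covering ?_ (Presheaf.imageSieve_mem J f.hom (i₂.hom.app _ s))
  rintro V g ⟨t, ht⟩
  have HP := isPullback_sections J H (op V)
  have hnat : i₂.hom.app (op V) (Y'.obj.map g.op s) = Y.obj.map g.op (i₂.hom.app (op U) s) :=
    NatTrans.naturality_apply i₂.hom g.op s
  obtain ⟨x, hx1, -⟩ := Types.exists_of_isPullback HP (Y'.obj.map g.op s) t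
    (by rw [hnat]; exact ht.symm)
  exact ⟨x, hx1⟩

/-- In sheaves of sets, every epimorphism is a universally effective epimorphism. -/
theorem ue_of_epi_sheaf [HasSheafify J (Type w)]
    {X Y : Sheaf J (Type w)} (f : X ⟶ Y) [Epi f] : UE f := by
  intro X' Y' i₁ i₂ f' H
  have : Epi f' := epi_of_isPullback_sheaf J H
  have : IsRegularEpi f' := IsRegularEpiCategory.regularEpiOfEpi f'
  infer_instance

end Groth.Agent.Lib.Helper57
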