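import Groth.Agent.Lib.Helper57.PresheafQuot
import Groth.Agent.Lib.Helper57.SheafSets

set_option autoImplicit false
set_option backward.isDefEq.respectTransparency false
open CategoryTheory CategoryTheory.Limits Opposite
universe w v₁ u₁ v₂ u₂

namespace Groth.Agent.Lib.Helper57

section Adj

variable {A : Type u₁} [Category.{v₁} A] {B : Type u₂} [Category.{v₂} B]

/-- Right adjoints preserve jointly monic pairs. -/
theorem jointlyMono₂_map_of_adj {L : B ⥤ A} {G : A ⥤ B} (adj : L ⊣ G) {R X : A} {p₁ p₂ : R ⟶ X}
    [JointlyMono₂ p₁ p₂] : JointlyMono₂ (G.map p₁) (G.map p₂) where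
  right_cancellation Y a b h₁ h₂ := by
    apply (adj.homEquiv Y R).symm.injective
    apply JointlyMono₂.right_cancellation (p₁ := p₁) (p₂ := p₂)
    · rw [← Adjunction.homEquiv_naturality_right_symm, ← Adjunction.homEquiv_naturality_right_symm,
        h₁]
    · rw [← Adjunction.homEquiv_naturality_right_symm, ← Adjunction.homEquiv_naturality_right_symm,
        h₂]

/-- Equivalence relations are preserved by right adjoints preserving pullbacks. -/
noncomputable def equivalenceRelationMapOfAdj {L : B ⥤ A} {G : A ⥤ B} (adj : L ⊣ G)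
    [PreservesLimitsOfShape WalkingCospan G] {R X : A} {p₁ p₂ : R ⟶ X}
    (e : EquivalenceRelation p₁ p₂) : EquivalenceRelation (G.map p₁) (G.map p₂) :=
  haveI : JointlyMono₂ p₁ p₂ := e.toReflexiveRelation.toJointlyMono₂
  haveI : JointlyMono₂ (G.map p₁) (G.map p₂) := jointlyMono₂_map_of_adj adj
  { e.toReflexiveRelation.map G, e.toSymmetricRelation.map G, e.toTransitiveRelation.map G with }

end Adj

section Sheaf

variable {C : Type u₁} [Category.{v₁} C] (J : GrothendieckTopology C) [HasSheafify J (Type w)]
  {R X : Sheaf J (Type w)}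

/-- The equivalence relation induced on the underlying presheaves. -/
noncomputable def presheafEquivalenceRelation {p₁ p₂ : R ⟶ X} (e : EquivalenceRelation p₁ p₂) :
    EquivalenceRelation p₁.hom p₂.hom :=
  equivalenceRelationMapOfAdj (sheafificationAdjunction J (Type w)) e

/-- The quotient sheaf. -/
noncomputable def sheafQuot (p₁ p₂ : R ⟶ X) : Sheaf J (Type w) :=
  (presheafToSheaf J (Type w)).obj (quotFunctor p₁.hom p₂.hom)

/-- The quotient map to the quotient sheaf. -/
noncomputable def sheafQuotπ (p₁ p₂ : R ⟶ X) : X ⟶ sheafQuot J p₁ p₂ :=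
  inv ((sheafificationAdjunction J (Type w)).counit.app X) ≫
    (presheafToSheaf J (Type w)).map (quotπ p₁.hom p₂.hom)

theorem counit_comm {F G : Sheaf J (Type w)} (f : F ⟶ G) :
    (presheafToSheaf J (Type w)).map f.hom ≫
      (sheafificationAdjunction J (Type w)).counit.app G =
    (sheafificationAdjunction J (Type w)).counit.app F ≫ f :=
  (sheafificationAdjunction J (Type w)).counit.naturality f

theorem isKernelPair_sheafQuotπ {p₁ p₂ : R ⟶ X} (e : EquivalenceRelation p₁ p₂) :
    IsKernelPair (sheafQuotπ J p₁ p₂) p₁ p₂ := by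
  have hK : IsPullback p₁.hom p₂.hom (quotπ p₁.hom p₂.hom) (quotπ p₁.hom p₂.hom) :=
    isKernelPair_quotπ (presheafEquivalenceRelation J e)
  refine (hK.map (presheafToSheaf J (Type w))).of_iso
    (asIso ((sheafificationAdjunction J (Type w)).counit.app R))
    (asIso ((sheafificationAdjunction J (Type w)).counit.app X))
    (asIso ((sheafificationAdjunction J (Type w)).counit.app X))
    (Iso.refl _) ?_ ?_ ?_ ?_
  · exact counit_comm J p₁
  · exact counit_comm J p₂
  · simp [sheafQuotπ]
  · simp [sheafQuotπ]

theorem isPushout_sheafQuotπ {p₁ p₂ : R ⟶ X} (e : EquivalenceRelation p₁ p₂) :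
    IsPushout p₁ p₂ (sheafQuotπ J p₁ p₂) (sheafQuotπ J p₁ p₂) := by
  have hK : IsPushout p₁.hom p₂.hom (quotπ p₁.hom p₂.hom) (quotπ p₁.hom p₂.hom) :=
    isPushout_quotπ (presheafEquivalenceRelation J e).toReflexiveRelation
  refine (hK.map (presheafToSheaf J (Type w))).of_iso
    (asIso ((sheafificationAdjunction J (Type w)).counit.app R))
    (asIso ((sheafificationAdjunction J (Type w)).counit.app X))
    (asIso ((sheafificationAdjunction J (Type w)).counit.app X))
    (Iso.refl _) ?_ ?_ ?_ ?_
  · exact counit_comm J p₁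
  · exact counit_comm J p₂
  · simp [sheafQuotπ]
  · simp [sheafQuotπ]

instance epi_sheafQuotπ (p₁ p₂ : R ⟶ X) : Epi (sheafQuotπ J p₁ p₂) := by
  unfold sheafQuotπ
  infer_instance

/-- Every equivalence relation on a sheaf of sets is universally effective. -/
noncomputable def sheafUeerOfEquivalenceRelation {p₁ p₂ : R ⟶ X}
    (e : EquivalenceRelation p₁ p₂) : UniversallyEffectiveEquivalenceRelation p₁ p₂ where
  toEquivalenceRelation := e
  B := sheafQuot J p₁ p₂
  π := sheafQuotπ J p₁ p₂
  isKernelPair := isKernelPair_sheafQuotπ J e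
  isPushout := isPushout_sheafQuotπ J e
  universally_effectiveEpi_π := ue_of_epi_sheaf J _

end Sheaf

end Groth.Agent.Lib.Helper57
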