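import Mathlib

/-!
# Assembling a disjoint union of open subschemes from a pairwise disjoint open cover

If `φ : V ⟶ Z` and `V` is covered by pairwise disjoint opens `P k` such that each `(P k).ι ≫ φ` is
an open immersion, then `V` is (over `Z`) the disjoint union of open subschemes of `Z`.
-/

set_option autoImplicit false
open CategoryTheory CategoryTheory.Limits AlgebraicGeometry Opposite TopologicalSpace
universe u

namespace Groth.Agent.Lib.Helper57.SigmaOpens

theorem exists_sigma_of_cover {V Z : Scheme.{u}} (φ : V ⟶ Z) {ι : Type u} (P : ι → V.Opens)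
    (hdisj : Pairwise (Function.onFun Disjoint P)) (hcov : ⨆ k, P k = ⊤)
    (hopen : ∀ k, IsOpenImmersion ((P k).ι ≫ φ)) :
    ∃ (W : ι → Z.Opens) (e : (∐ fun k => (W k : Scheme.{u})) ≅ V),
      ∀ k, Sigma.ι (fun k => (W k : Scheme.{u})) k ≫ e.hom ≫ φ = (W k).ι := by
  classical
  let W : ι → Z.Opens := fun k =>
    haveI := hopen k
    ((P k).ι ≫ φ).opensRange
  let iso : ∀ k, (W k).toScheme ≅ (P k).toScheme := fun k =>
    haveI := hopen k
    IsOpenImmersion.isoOfRangeEq (W k).ι ((P k).ι ≫ φ) (by simp [W])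
  have hiso : ∀ k, (iso k).hom ≫ (P k).ι ≫ φ = (W k).ι := fun k => by
    haveI := hopen k
    exact IsOpenImmersion.isoOfRangeEq_hom_fac _ _ _
  let f : ∀ k, (W k).toScheme ⟶ V := fun k => (iso k).hom ≫ (P k).ι
  have hfr : ∀ k, (f k).opensRange = P k := fun k => by
    simp only [f]
    rw [Scheme.Hom.opensRange_comp_of_isIso, Scheme.Opens.opensRange_ι]
  obtain ⟨hc'⟩ : Nonempty (IsColimit (Cofan.mk V f)) := by
    apply nonempty_isColimit_cofanMk_of
    · simp only [hfr]; exact hcov
    · simpa only [hfr] using hdisj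
  refine ⟨W, (coproductIsCoproduct _).coconePointUniqueUpToIso hc', fun k => ?_⟩
  rw [← Category.assoc]
  have h1 : Sigma.ι (fun k => (W k : Scheme.{u})) k ≫
      ((coproductIsCoproduct _).coconePointUniqueUpToIso hc').hom = f k :=
    IsColimit.comp_coconePointUniqueUpToIso_hom (coproductIsCoproduct _) hc' ⟨k⟩
  rw [h1]
  simp only [f, Category.assoc]
  exact hiso k

/-- On a quasi-compact scheme, a pairwise disjoint open cover has only finitely many nonempty
members. -/
theorem finite_nonempty_of_disjoint_cover {V : Type*} [TopologicalSpace V] [CompactSpace V]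
    {ι : Type*} (P : ι → Opens V)
    (hdisj : Pairwise (Function.onFun Disjoint P)) (hcov : ⨆ k, P k = ⊤) :
    Finite {k : ι // P k ≠ ⊥} := by
  classical
  have hcov' : (Set.univ : Set V) ⊆ ⋃ k, ((P k : Opens V) : Set V) := by
    intro x _
    have : x ∈ (⨆ k, P k : Opens V) := by rw [hcov]; trivial
    simpa [Opens.mem_iSup] using this
  obtain ⟨t, ht⟩ := isCompact_univ.elim_finite_subcover (fun k => ((P k : Opens V) : Set V))
    (fun k => (P k).isOpen) hcov'
  have hsub : {k : ι | P k ≠ ⊥} ⊆ (t : Set ι) := by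
    intro k hk
    obtain ⟨x, hx⟩ : ∃ x, x ∈ P k := by
      by_contra hcon
      push_neg at hcon
      apply hk
      ext x
      simp only [Opens.coe_bot, Set.mem_empty_iff_false, iff_false]
      exact hcon x
    have hx' := ht (Set.mem_univ x)
    simp only [Set.mem_iUnion, exists_prop] at hx'
    obtain ⟨j, hj, hxj⟩ := hx'
    by_cases hjk : j = k
    · rw [← hjk]; exact hj
    · exfalso
      have := hdisj hjk
      simp only [Function.onFun] at this
      exact (this.le_bot (show x ∈ P j ⊓ P k from ⟨hxj, hx⟩)).elim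
  exact (Set.Finite.subset t.finite_toSet hsub).to_subtype

theorem exists_finite_sigma_of_cover {V Z : Scheme.{u}} [CompactSpace V] (φ : V ⟶ Z) {ι : Type u}
    (P : ι → V.Opens)
    (hdisj : Pairwise (Function.onFun Disjoint P)) (hcov : ⨆ k, P k = ⊤)
    (hopen : ∀ k, IsOpenImmersion ((P k).ι ≫ φ)) :
    ∃ (ι' : Type u) (_ : Finite ι') (W : ι' → Z.Opens)
      (e : (∐ fun k => (W k : Scheme.{u})) ≅ V),
      ∀ k, Sigma.ι (fun k => (W k : Scheme.{u})) k ≫ e.hom ≫ φ = (W k).ι := by
  classical
  have hfin := finite_nonempty_of_disjoint_cover P hdisj hcov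
  obtain ⟨W, e, he⟩ := exists_sigma_of_cover φ (ι := {k : ι // P k ≠ ⊥}) (fun k => P k.1)
    (fun a b hab => hdisj (fun h => hab (Subtype.ext h)))
    (by
      rw [eq_top_iff]
      intro x _
      have : x ∈ (⨆ k, P k : V.Opens) := by rw [hcov]; trivial
      obtain ⟨k, hk⟩ := Opens.mem_iSup.mp this
      refine Opens.mem_iSup.mpr ⟨⟨k, ?_⟩, hk⟩
      intro h0
      rw [h0] at hk
      exact hk.elim)
    (fun k => hopen k.1)
  exact ⟨_, hfin, W, e, he⟩

end Groth.Agent.Lib.Helper57.SigmaOpens
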