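import Mathlib
import Groth.Agent.Lib.Helper57.SigmaOpens
import Groth.Agent.Lib.Helper57.EtLiftClosed

/-!
# Restricting a decomposition into opens along a closed immersion
-/

set_option autoImplicit false
open CategoryTheory CategoryTheory.Limits AlgebraicGeometry Opposite TopologicalSpace
universe u

namespace Groth.Agent.Lib.Helper57.SigmaOpens

/-- If `g : U ⟶ X` is a disjoint union of opens of `X`, `φ : V ⟶ Z` is étale with `V`
quasi-compact, and `ψ : V ⟶ U` is a monomorphism covering `i : Z ⟶ X`, then `φ` is a finite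
disjoint union of opens of `Z`. -/
theorem core {V Z X U : Scheme.{u}} (i : Z ⟶ X) (φ : V ⟶ Z) [Etale φ] [CompactSpace V]
    (g : U ⟶ X) (ψ : V ⟶ U) [Mono ψ] (hψ : ψ ≫ g = φ ≫ i)
    (ι : Type u) (V' : ι → X.Opens) (e : (∐ fun k => (V' k : Scheme.{u})) ≅ U)
    (he : ∀ k, Sigma.ι (fun k => (V' k : Scheme.{u})) k ≫ e.hom ≫ g = (V' k).ι) :
    ∃ (ι' : Type u) (_ : Finite ι') (W : ι' → Z.Opens)
      (e : (∐ fun k => (W k : Scheme.{u})) ≅ V),
      ∀ k, Sigma.ι (fun k => (W k : Scheme.{u})) k ≫ e.hom ≫ φ = (W k).ι := by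
  classical
  let α : ∀ k, (V' k : Scheme.{u}) ⟶ U := fun k => Sigma.ι (fun k => (V' k : Scheme.{u})) k ≫ e.hom
  have hα : ∀ k, α k ≫ g = (V' k).ι := fun k => by
    simp only [α, Category.assoc]; exact he k
  let Uk : ι → U.Opens := fun k => (α k).opensRange
  let P : ι → V.Opens := fun k => ψ ⁻¹ᵁ (Uk k)
  have hUdisj : ∀ k l, k ≠ l → Disjoint (Uk k) (Uk l) := by
    intro k l hkl
    rw [disjoint_iff]
    ext x
    simp only [Opens.coe_inf, Set.mem_inter_iff, Opens.coe_bot, Set.mem_empty_iff_false,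
      iff_false, not_and]
    rintro ⟨a, ha⟩ ⟨b, hb⟩
    have h1 : e.hom (Sigma.ι (fun k => (V' k : Scheme.{u})) k a) =
        e.hom (Sigma.ι (fun k => (V' k : Scheme.{u})) l b) := by
      have ha' : e.hom (Sigma.ι (fun k => (V' k : Scheme.{u})) k a) = x := by
        rw [← Scheme.Hom.comp_apply]; exact ha
      have hb' : e.hom (Sigma.ι (fun k => (V' k : Scheme.{u})) l b) = x := by
        rw [← Scheme.Hom.comp_apply]; exact hb
      rw [ha', hb']
    have h2 := e.hom.homeomorph.injective h1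
    have h3 := (sigmaι_eq_iff _ _ _ _ _).mp h2
    exact hkl (congrArg Sigma.fst h3)
  have hUcov : ∀ x : U, ∃ k, x ∈ Uk k := by
    intro x
    obtain ⟨k, a, ha⟩ := (sigmaOpenCover (fun k => (V' k : Scheme.{u}))).exists_eq (e.inv x)
    refine ⟨k, a, ?_⟩
    change (Sigma.ι (fun k => (V' k : Scheme.{u})) k ≫ e.hom) a = x
    rw [Scheme.Hom.comp_apply]
    have : Sigma.ι (fun k => (V' k : Scheme.{u})) k a = e.inv x := ha
    rw [this, ← Scheme.Hom.comp_apply, e.inv_hom_id]
    rfl
  have hdisj : Pairwise (Function.onFun Disjoint P) := by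
    intro k l hkl
    simp only [Function.onFun, P]
    rw [disjoint_iff]
    ext x
    simp only [Opens.coe_inf, Set.mem_inter_iff, Opens.coe_bot, Set.mem_empty_iff_false,
      iff_false, not_and]
    intro hk hl
    exact ((hUdisj k l hkl).le_bot (show ψ x ∈ Uk k ⊓ Uk l from ⟨hk, hl⟩)).elim
  have hcov : ⨆ k, P k = ⊤ := by
    rw [eq_top_iff]
    intro x _
    obtain ⟨k, hk⟩ := hUcov (ψ x)
    exact Opens.mem_iSup.mpr ⟨k, hk⟩
  have hopen : ∀ k, IsOpenImmersion ((P k).ι ≫ φ) := by
    intro k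
    have hoi : IsOpenImmersion ((Uk k).ι ≫ g) := by
      have : (Uk k).ι ≫ g = (α k).isoOpensRange.inv ≫ (V' k).ι := by
        rw [← hα k, Scheme.Hom.isoOpensRange_inv_comp_assoc]
      rw [this]
      infer_instance
    haveI : Mono (ψ ∣_ (Uk k)) := mono_of_mono_fac (morphismRestrict_ι ψ (Uk k))
    haveI : Mono ((ψ ∣_ (Uk k)) ≫ (Uk k).ι ≫ g) := mono_comp _ _
    haveI : Mono ((P k).ι ≫ φ) := by
      refine mono_of_mono_fac (f := i) (h := (ψ ∣_ (Uk k)) ≫ (Uk k).ι ≫ g) ?_
      rw [Category.assoc, ← hψ, ← Category.assoc, ← Category.assoc]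
      congr 1
      exact (morphismRestrict_ι ψ (Uk k)).symm
    exact IsOpenImmersion.of_flat_of_mono _
  exact exists_finite_sigma_of_cover φ P hdisj hcov hopen

open Groth.Agent.Lib.Helper57.EtLiftClosed in
/-- Geometric form of lifting an affine étale scheme along a closed immersion of affine schemes. -/
theorem exists_etale_lift_closedImmersion {V Z X : Scheme.{u}} [IsAffine X]
    (i : Z ⟶ X) [IsClosedImmersion i] (φ : V ⟶ Z) [Etale φ] [IsAffine V] :
    ∃ (U : Scheme.{u}) (_ : IsAffine U) (g : U ⟶ X) (ψ : V ⟶ U), Etale g ∧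
      IsClosedImmersion ψ ∧ ψ ≫ g = φ ≫ i := by
  haveI : IsAffine Z := isAffine_of_isAffineHom i
  have hsurj : Function.Surjective i.appTop.hom :=
    (IsClosedImmersion.isAffine_surjective_of_isAffine i).2
  have het : φ.appTop.hom.Etale := (HasRingHomProperty.iff_of_isAffine (P := @Etale)).mp ‹_›
  obtain ⟨E, _, a, π, ha, hπ, hcomp⟩ :=
    exists_etale_lift_closed i.appTop.hom hsurj φ.appTop.hom het
  refine ⟨Spec (CommRingCat.of E), inferInstance,
    Spec.map (CommRingCat.ofHom a) ≫ X.isoSpec.inv,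
    V.isoSpec.hom ≫ Spec.map (CommRingCat.ofHom π), ?_, ?_, ?_⟩
  · haveI : Etale (Spec.map (CommRingCat.ofHom a)) :=
      (HasRingHomProperty.Spec_iff (P := @Etale)).mpr ha
    infer_instance
  · haveI : IsClosedImmersion (Spec.map (CommRingCat.ofHom π)) :=
      IsClosedImmersion.spec_of_surjective _ hπ
    infer_instance
  · have h1 : CommRingCat.ofHom a ≫ CommRingCat.ofHom π = (φ ≫ i).appTop := by
      ext x
      simp only [Scheme.Hom.comp_appTop, CommRingCat.hom_comp, CommRingCat.hom_ofHom]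
      exact congrArg (fun f => f x) hcomp
    rw [Category.assoc, ← Category.assoc (Spec.map _), ← Spec.map_comp, h1,
      Scheme.isoSpec_inv_naturality, Iso.hom_inv_id_assoc]

end Groth.Agent.Lib.Helper57.SigmaOpens
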