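import Mathlib

/-!
# Sections from finite clopen covers
-/

set_option autoImplicit false
open CategoryTheory CategoryTheory.Limits AlgebraicGeometry Opposite TopologicalSpace
universe u

namespace Groth.Agent.Lib.Helper57.SigmaOpens

/-- A finite clopen cover has a pairwise disjoint open refinement (indexed by the same set). -/
theorem exists_disjoint_refinement {Z : Type*} [TopologicalSpace Z] {ι : Type*} [Finite ι]
    (W : ι → Opens Z) (hclosed : ∀ k, IsClosed ((W k : Opens Z) : Set Z)) (hcov : ⨆ k, W k = ⊤) :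
    ∃ D : ι → Opens Z, (∀ k, D k ≤ W k) ∧ Pairwise (Function.onFun Disjoint D) ∧
      ⨆ k, D k = ⊤ := by
  classical
  let r : ι → ℕ := fun k => (Finite.equivFin ι k : ℕ)
  have hr : Function.Injective r := fun a b h =>
    (Finite.equivFin ι).injective (Fin.ext h)
  have hcl : ∀ k, IsClosed (⋃ l ∈ {l : ι | r l < r k}, ((W l : Opens Z) : Set Z)) := fun k =>
    (Set.toFinite {l : ι | r l < r k}).isClosed_biUnion (fun l _ => hclosed l)
  let D : ι → Opens Z := fun k =>
    ⟨((W k : Opens Z) : Set Z) \ ⋃ l ∈ {l : ι | r l < r k}, ((W l : Opens Z) : Set Z),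
      (W k).isOpen.sdiff (hcl k)⟩
  have hDmem : ∀ k x, x ∈ D k ↔ x ∈ W k ∧ ∀ l, r l < r k → x ∉ W l := by
    intro k x
    change x ∈ ((W k : Opens Z) : Set Z) \ ⋃ l ∈ {l : ι | r l < r k}, ((W l : Opens Z) : Set Z) ↔ _
    simp only [Set.mem_sdiff, SetLike.mem_coe, Set.mem_iUnion, Set.mem_ofPred_eq, exists_prop,
      not_exists, not_and]
  refine ⟨D, fun k x hx => ((hDmem k x).mp hx).1, ?_, ?_⟩
  · intro k l hkl
    simp only [Function.onFun]
    rw [disjoint_iff]
    ext x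
    simp only [Opens.coe_inf, Set.mem_inter_iff, SetLike.mem_coe, Opens.coe_bot,
      Set.mem_empty_iff_false, iff_false, not_and]
    intro hk hl
    rw [hDmem] at hk hl
    rcases lt_trichotomy (r k) (r l) with h | h | h
    · exact hl.2 k h hk.1
    · exact hkl (hr h)
    · exact hk.2 l h hl.1
  · rw [eq_top_iff]
    intro x _
    have hx : x ∈ (⨆ k, W k : Opens Z) := by rw [hcov]; trivial
    obtain ⟨k0, hk0⟩ := Opens.mem_iSup.mp hx
    have hex : ∃ n, ∃ k, x ∈ W k ∧ r k = n := ⟨r k0, k0, hk0, rfl⟩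
    obtain ⟨k, hk, hkn⟩ := Nat.find_spec hex
    refine Opens.mem_iSup.mpr ⟨k, (hDmem k x).mpr ⟨hk, fun l hl hxl => ?_⟩⟩
    exact Nat.find_min hex (hkn ▸ hl) ⟨l, hxl, rfl⟩

/-- Local sections over a finite clopen cover glue (after refining) to a global section. -/
theorem exists_section_of_clopen_cover {V Z : Scheme.{u}} (φ : V ⟶ Z) {ι : Type u} [Finite ι]
    (W : ι → Z.Opens) (hclosed : ∀ k, IsClosed ((W k : Z.Opens) : Set Z))
    (hcov : ⨆ k, W k = ⊤) (s : ∀ k, (W k : Scheme.{u}) ⟶ V) (hs : ∀ k, s k ≫ φ = (W k).ι) :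
    ∃ t : Z ⟶ V, t ≫ φ = 𝟙 Z := by
  classical
  obtain ⟨D, hDW, hdisj, hDcov⟩ : ∃ D : ι → Z.Opens, (∀ k, D k ≤ W k) ∧
      Pairwise (Function.onFun Disjoint D) ∧ ⨆ k, D k = ⊤ :=
    exists_disjoint_refinement W hclosed hcov
  obtain ⟨hc⟩ : Nonempty (IsColimit (Cofan.mk Z (fun k => (D k).ι))) := by
    apply nonempty_isColimit_cofanMk_of
    · simp only [Scheme.Opens.opensRange_ι]; exact hDcov
    · simpa only [Scheme.Opens.opensRange_ι] using hdisj
  refine ⟨Cofan.IsColimit.desc hc (fun k => Z.homOfLE (hDW k) ≫ s k), ?_⟩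
  refine Cofan.IsColimit.hom_ext hc _ _ (fun k => ?_)
  have h1 : (Cofan.mk Z (fun k => (D k).ι)).inj k = (D k).ι := rfl
  rw [← Category.assoc, Cofan.IsColimit.fac, h1, Category.assoc, hs k, Scheme.homOfLE_ι]
  exact (Category.comp_id _).symm

end Groth.Agent.Lib.Helper57.SigmaOpens

namespace Groth.Agent.Lib.Helper57.SigmaOpens

theorem sigma_iso_cover {ι : Type u} (W : ι → Scheme.{u}) {V : Scheme.{u}} (e : (∐ W) ≅ V)
    (v : V) : ∃ k, ∃ a : W k, (Sigma.ι W k ≫ e.hom) a = v := by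
  obtain ⟨k, a, ha⟩ := (sigmaOpenCover W).exists_eq (e.inv v)
  refine ⟨k, a, ?_⟩
  rw [Scheme.Hom.comp_apply]
  have : Sigma.ι W k a = e.inv v := ha
  rw [this, ← Scheme.Hom.comp_apply, e.inv_hom_id]
  rfl

theorem sigma_iso_disj {ι : Type u} (W : ι → Scheme.{u}) {V : Scheme.{u}} (e : (∐ W) ≅ V)
    {k l : ι} (a : W k) (b : W l)
    (h : (Sigma.ι W k ≫ e.hom) a = (Sigma.ι W l ≫ e.hom) b) : k = l := by
  rw [Scheme.Hom.comp_apply, Scheme.Hom.comp_apply] at h
  have h2 := e.hom.homeomorph.injective h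
  have h3 := (sigmaι_eq_iff _ _ _ _ _).mp h2
  exact congrArg Sigma.fst h3

theorem sigma_iso_isClosed_range {ι : Type u} (W : ι → Scheme.{u}) {V : Scheme.{u}}
    (e : (∐ W) ≅ V) (k : ι) : IsClosed (Set.range (Sigma.ι W k ≫ e.hom)) := by
  have : (Set.range (Sigma.ι W k ≫ e.hom))ᶜ =
      ⋃ l ∈ {l : ι | l ≠ k}, Set.range (Sigma.ι W l ≫ e.hom) := by
    ext v
    simp only [Set.mem_compl_iff, Set.mem_range, not_exists, Set.mem_iUnion, exists_prop]
    constructor
    · intro hv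
      obtain ⟨l, b, hb⟩ := sigma_iso_cover W e v
      refine ⟨l, ?_, b, hb⟩
      intro hlk
      change l = k at hlk
      subst hlk
      exact hv b hb
    · rintro ⟨l, hlk, b, hb⟩ a ha
      exact hlk (sigma_iso_disj W e b a (hb.trans ha.symm))
  rw [← isOpen_compl_iff, this]
  exact isOpen_biUnion (fun l _ => (Sigma.ι W l ≫ e.hom).isOpenEmbedding.isOpen_range)

end Groth.Agent.Lib.Helper57.SigmaOpens
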