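import Mathlib

set_option autoImplicit false
universe u

open Polynomial

namespace Groth.Agent.Lib.Helper57.SplitAlg

lemma adjoinRoot_of_injective {R : Type*} [CommRing R] {f : R[X]} (hf : f.Monic)
    (hd : 0 < f.natDegree) : Function.Injective (AdjoinRoot.of f) := by
  rw [injective_iff_map_eq_zero]
  intro r hr
  have h1 : f ∣ C r := by
    have : AdjoinRoot.mk f (C r) = 0 := hr
    rwa [AdjoinRoot.mk_eq_zero] at this
  by_contra hne
  exact hf.not_dvd_of_natDegree_lt (by simpa using hne) (by simpa using hd) h1

/-- A finite free extension over which a given monic polynomial splits into linear factors. -/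
theorem exists_splitting : ∀ (d : ℕ) (R : Type u) [CommRing R] (f : R[X]), f.Monic →
    f.natDegree ≤ d →
    ∃ (R' : Type u) (_ : CommRing R') (_ : Algebra R R') (m : Multiset R'),
      Module.Free R R' ∧ Module.Finite R R' ∧ Function.Injective (algebraMap R R') ∧
      f.map (algebraMap R R') = (m.map (fun r => X - C r)).prod := by
  intro d
  induction d with
  | zero =>
    intro R _ f hf hd
    refine ⟨R, inferInstance, inferInstance, 0, inferInstance, inferInstance,
      fun _ _ h => h, ?_⟩
    have : f = 1 := hf.natDegree_eq_zero.mp (Nat.le_zero.mp hd)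
    simp [this]
  | succ d ih =>
    intro R _ f hf hd
    by_cases hlt : f.natDegree ≤ d
    · exact ih R f hf hlt
    have hd' : f.natDegree = d + 1 := le_antisymm hd (by omega)
    let R₁ := AdjoinRoot f
    let ρ : R₁ := AdjoinRoot.root f
    have hroot : (f.map (algebraMap R R₁)).IsRoot ρ := by
      rw [IsRoot, eval_map_algebraMap]
      exact AdjoinRoot.aeval_eq f ▸ AdjoinRoot.mk_self
    let f₁ : R₁[X] := (f.map (algebraMap R R₁)) /ₘ (X - C ρ)
    have hfac : (X - C ρ) * f₁ = f.map (algebraMap R R₁) := mul_divByMonic_eq_iff_isRoot.mpr hroot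
    have hfm : (f.map (algebraMap R R₁)).Monic := hf.map _
    have hf₁m : f₁.Monic := (monic_X_sub_C ρ).of_mul_monic_left (hfac ▸ hfm)
    have hf₁d : f₁.natDegree ≤ d := by
      rcases subsingleton_or_nontrivial R₁ with h | h
      · rw [Subsingleton.elim f₁ 0, natDegree_zero]; exact Nat.zero_le _
      · have := natDegree_divByMonic (f.map (algebraMap R R₁)) (monic_X_sub_C ρ)
        rw [hf.natDegree_map, natDegree_X_sub_C, hd'] at this
        show ((f.map (algebraMap R R₁)) /ₘ (X - C ρ)).natDegree ≤ d
        rw [this]; simp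
    obtain ⟨R', _, _, m', hfree, hfin, hinj, hprod⟩ := ih R₁ f₁ hf₁m hf₁d
    letI : Algebra R R' := ((algebraMap R₁ R').comp (algebraMap R R₁)).toAlgebra
    haveI : IsScalarTower R R₁ R' := IsScalarTower.of_algebraMap_eq (fun _ => rfl)
    haveI : Module.Free R R₁ := hf.free_adjoinRoot
    haveI : Module.Finite R R₁ := hf.finite_adjoinRoot
    refine ⟨R', inferInstance, inferInstance, (algebraMap R₁ R' ρ) ::ₘ m',
      Module.Free.trans (R := R) (S := R₁) (M := R'), Module.Finite.trans R₁ R', ?_, ?_⟩
    · exact hinj.comp (adjoinRoot_of_injective hf (by omega))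
    · rw [Multiset.map_cons, Multiset.prod_cons, ← hprod]
      have : f.map (algebraMap R R') = (f.map (algebraMap R R₁)).map (algebraMap R₁ R') := by
        rw [Polynomial.map_map]; rfl
      rw [this, ← hfac, Polynomial.map_mul]
      simp

end Groth.Agent.Lib.Helper57.SplitAlg
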