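import Mathlib

/-!
# Lifting standard étale algebras along maps which are surjective on stalks (ring level)
-/

set_option autoImplicit false
universe u

open Polynomial

namespace Groth.Agent.Lib.Helper57.StdEtLift

section NormalForm

variable {R S T : Type*} [CommRing R] [CommRing S] [CommRing T] [Algebra R S] [Algebra R T]

lemma hasMap_iff_of_g_eq_pow (P P' : StandardEtalePair R) (hf : P'.f = P.f) (n : ℕ)
    (hg : P'.g = P.g ^ (n + 1)) {S' : Type*} [CommRing S'] [Algebra R S'] (y : S') :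
    P'.HasMap y ↔ P.HasMap y := by
  simp only [StandardEtalePair.HasMap]
  rw [hf, hg, map_pow]
  exact and_congr Iff.rfl (isUnit_pow_iff (Nat.succ_ne_zero n))

/-- Every standard étale algebra has a presentation whose pair `(f, g)` satisfies
`f' p₁ + f p₂ = g` on the nose. -/
lemma exists_presentation_normal [Algebra.IsStandardEtale R S] :
    ∃ (PP : StandardEtalePresentation R S) (p₁ p₂ : R[X]),
      derivative PP.f * p₁ + PP.f * p₂ = PP.g := by
  obtain ⟨PP0⟩ := Algebra.IsStandardEtale.nonempty_standardEtalePresentation (R := R) (S := S)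
  obtain ⟨p₁, p₂, n, hn⟩ := PP0.cond
  let P : StandardEtalePair R := PP0.P
  let g' : R[X] := derivative P.f * (p₁ * P.g) + P.f * (p₂ * P.g)
  have hg' : g' = P.g ^ (n + 1) := by
    have : g' = (derivative P.f * p₁ + P.f * p₂) * P.g := by simp only [g']; ring
    rw [this, hn]; ring
  let P' : StandardEtalePair R := ⟨P.f, P.monic_f, g', ⟨p₁ * P.g, p₂ * P.g, 1, by simp [g']⟩⟩
  have h1 : P'.HasMap PP0.x := (hasMap_iff_of_g_eq_pow P P' rfl n hg' _).mpr PP0.hasMap
  have h2 : P'.HasMap P.X := (hasMap_iff_of_g_eq_pow P P' rfl n hg' _).mpr P.hasMap_X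
  have h3 : P.HasMap P'.X := (hasMap_iff_of_g_eq_pow P P' rfl n hg' _).mp P'.hasMap_X
  let α : P'.Ring →ₐ[R] P.Ring := P'.lift P.X h2
  let β : P.Ring →ₐ[R] P'.Ring := P.lift P'.X h3
  have hαβ : α.comp β = AlgHom.id R _ := P.hom_ext (by simp [α, β])
  have hβα : β.comp α = AlgHom.id R _ := P'.hom_ext (by simp [α, β])
  have hα : Function.Bijective α := by
    refine ⟨?_, ?_⟩
    · intro a b hab
      have := congrArg β hab
      have e1 : ∀ t, β (α t) = t := fun t => by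
        have := congrArg (fun h : P'.Ring →ₐ[R] P'.Ring => h t) hβα
        simpa using this
      rw [e1, e1] at this; exact this
    · intro b
      refine ⟨β b, ?_⟩
      have := congrArg (fun h : P.Ring →ₐ[R] P.Ring => h b) hαβ
      simpa using this
  have hcomp : P'.lift PP0.x h1 = (P.lift PP0.x PP0.hasMap).comp α := P'.hom_ext (by simp [α])
  refine ⟨⟨P', PP0.x, h1, ?_⟩, p₁ * P.g, p₂ * P.g, rfl⟩
  rw [hcomp]
  exact PP0.lift_bijective.comp hα

/-- Two algebras with standard étale presentations having the same pair are isomorphic. -/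
lemma nonempty_algEquiv_of_pair_eq (PP1 : StandardEtalePresentation R S)
    (PP2 : StandardEtalePresentation R T)
    (h : PP1.P = PP2.P) : Nonempty (S ≃ₐ[R] T) := by
  obtain ⟨P1, x1, h1, b1⟩ := PP1
  obtain ⟨P2, x2, h2, b2⟩ := PP2
  dsimp only at h
  subst h
  exact ⟨(AlgEquiv.ofBijective _ b1).symm.trans (AlgEquiv.ofBijective _ b2)⟩

end NormalForm

section Lift

variable {A Ab : Type*} [CommRing A] [CommRing Ab] (φ : A →+* Ab)

/-- `y` becomes a fraction with numerator from `A` and denominator a power of `φ a`. -/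
def Q (a : A) (y : Ab) : Prop := ∃ (b : A) (m : ℕ), φ a ^ m * y = φ b

lemma Q.mul_right {a : A} {y : Ab} (h : Q φ a y) (a' : A) : Q φ (a * a') y := by
  obtain ⟨b, m, hb⟩ := h
  refine ⟨a' ^ m * b, m, ?_⟩
  rw [map_mul, mul_pow, map_mul, map_pow, ← hb]; ring

lemma Q.mul_left {a : A} {y : Ab} (h : Q φ a y) (a' : A) : Q φ (a' * a) y := by
  rw [mul_comm]; exact h.mul_right φ a'

lemma Q_zero (a : A) : Q φ a 0 := ⟨0, 0, by simp⟩

variable {φ}

/-- Local lifting of a single element. -/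
lemma exists_Q (hφ : φ.SurjectiveOnStalks) (hemb : Topology.IsEmbedding (PrimeSpectrum.comap φ))
    (𝔭 : Ideal Ab) [𝔭.IsPrime] (y : Ab) : ∃ a : A, φ a ∉ 𝔭 ∧ Q φ a y := by
  obtain ⟨x, r, c, hc, hr, e⟩ := (RingHom.surjective_localRingHom_iff (f := φ) 𝔭).mp (hφ 𝔭 ‹_›) y
  -- `D(c)` is the preimage of an open of `Spec A`
  obtain ⟨W, hW, hWc⟩ := hemb.isOpen_iff.mp (PrimeSpectrum.basicOpen c).isOpen
  have hmem : PrimeSpectrum.comap φ ⟨𝔭, ‹_›⟩ ∈ W := by
    have : (⟨𝔭, ‹_›⟩ : PrimeSpectrum Ab) ∈ (PrimeSpectrum.basicOpen c : Set _) := hc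
    rw [← hWc] at this; exact this
  obtain ⟨_, ⟨a₀, rfl⟩, ha₀, ha₀W⟩ :=
    PrimeSpectrum.isTopologicalBasis_basic_opens.exists_subset_of_mem_open hmem hW
  have hle : PrimeSpectrum.basicOpen (φ a₀) ≤ PrimeSpectrum.basicOpen c := by
    intro 𝔮 h𝔮
    have : PrimeSpectrum.comap φ 𝔮 ∈ W := ha₀W (by simpa using h𝔮)
    have : 𝔮 ∈ PrimeSpectrum.comap φ ⁻¹' W := this
    rw [hWc] at this; exact this
  rw [PrimeSpectrum.basicOpen_le_basicOpen_iff] at hle
  obtain ⟨k, hk⟩ := hle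
  obtain ⟨c', hc'⟩ := Ideal.mem_span_singleton'.mp hk
  refine ⟨a₀ * r, ?_, a₀ * r ^ k * a₀ ^ k * x, k + 1, ?_⟩
  · rw [map_mul]
    exact ‹𝔭.IsPrime›.mul_notMem (by simpa using ha₀) hr
  · have e' : φ a₀ ^ k * φ r * y = φ a₀ ^ k * φ x := by
      rw [← hc']
      calc c' * c * φ r * y = c' * (c * φ r * y) := by ring
        _ = c' * (c * φ x) := by rw [e]
        _ = c' * c * φ x := by ring
    calc φ (a₀ * r) ^ (k + 1) * y = φ a₀ * φ r ^ k * (φ a₀ ^ k * φ r * y) := by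
          rw [map_mul]; ring
      _ = φ a₀ * φ r ^ k * (φ a₀ ^ k * φ x) := by rw [e']
      _ = φ (a₀ * r ^ k * a₀ ^ k * x) := by simp only [map_mul, map_pow]; ring

/-- Local lifting of a finite set of elements. -/
lemma exists_Q_finset (hφ : φ.SurjectiveOnStalks)
    (hemb : Topology.IsEmbedding (PrimeSpectrum.comap φ))
    (𝔭 : Ideal Ab) [𝔭.IsPrime] (F : Finset Ab) : ∃ a : A, φ a ∉ 𝔭 ∧ ∀ y ∈ F, Q φ a y := by
  classical
  induction F using Finset.induction_on with
  | empty => exact ⟨1, by simpa using ‹𝔭.IsPrime›.one_notMem, by simp⟩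
  | insert y F _ ih =>
    obtain ⟨a₁, h₁, H₁⟩ := ih
    obtain ⟨a₂, h₂, H₂⟩ := exists_Q hφ hemb 𝔭 y
    refine ⟨a₁ * a₂, by rw [map_mul]; exact ‹𝔭.IsPrime›.mul_notMem h₁ h₂, ?_⟩
    intro z hz
    rcases Finset.mem_insert.mp hz with rfl | hz
    · exact H₂.mul_left φ a₁
    · exact (H₁ z hz).mul_right φ a₂

/-- From `Q` to membership in the range of the localized map. -/
lemma mem_range_of_Q {a : A} {y : Ab} (h : Q φ a y)
    {A' Ab' : Type*} [CommRing A'] [CommRing Ab'] [Algebra A A'] [Algebra Ab Ab']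
    [IsLocalization.Away a A'] (φ' : A' →+* Ab')
    (hφ' : φ'.comp (algebraMap A A') = (algebraMap Ab Ab').comp φ)
    (hu : IsUnit (algebraMap Ab Ab' (φ a))) :
    algebraMap Ab Ab' y ∈ φ'.range := by
  obtain ⟨b, m, hb⟩ := h
  have hu' : IsUnit (algebraMap A A' a) := IsLocalization.Away.algebraMap_isUnit a
  obtain ⟨w, hw⟩ := (hu'.pow m)
  refine ⟨↑w⁻¹ * algebraMap A A' b, ?_⟩
  have e1 : ∀ t : A, φ' (algebraMap A A' t) = algebraMap Ab Ab' (φ t) := fun t =>
    congrArg (fun h : A →+* Ab' => h t) hφ'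
  have e2 : φ' (↑w) = algebraMap Ab Ab' (φ a) ^ m := by rw [hw, map_pow, e1]
  have e3 : φ' (↑w) * φ' (↑w⁻¹ * algebraMap A A' b) = φ' (↑w) * algebraMap Ab Ab' y := by
    rw [← map_mul, ← mul_assoc, Units.mul_inv, one_mul, e1, e2, ← hb, map_mul, map_pow]
  have hu2 : IsUnit (φ' (↑w)) := by rw [e2]; exact hu.pow m
  exact hu2.mul_left_cancel e3

/-- Lifting a polynomial whose coefficients satisfy `Q`. -/
lemma map_mem_lifts_of_Q {a : A} (p : Ab[X]) (h : ∀ y ∈ p.coeffs, Q φ a y)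
    {A' Ab' : Type*} [CommRing A'] [CommRing Ab'] [Algebra A A'] [Algebra Ab Ab']
    [IsLocalization.Away a A'] (φ' : A' →+* Ab')
    (hφ' : φ'.comp (algebraMap A A') = (algebraMap Ab Ab').comp φ)
    (hu : IsUnit (algebraMap Ab Ab' (φ a))) :
    p.map (algebraMap Ab Ab') ∈ Polynomial.lifts φ' := by
  rw [Polynomial.lifts_iff_coeff_lifts]
  intro n
  rw [Polynomial.coeff_map]
  by_cases h0 : p.coeff n = 0
  · rw [h0, map_zero]; exact ⟨0, map_zero _⟩
  · exact mem_range_of_Q (h _ (Polynomial.coeff_mem_coeffs h0)) φ' hφ' hu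

end Lift

end Groth.Agent.Lib.Helper57.StdEtLift
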