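import Mathlib
import Groth.Agent.Lib.Helper57.StdEtLift1

set_option autoImplicit false
universe u

open Polynomial CategoryTheory Limits AlgebraicGeometry TensorProduct

namespace Groth.Agent.Lib.Helper57.StdEtLift

lemma pair_ext {R : Type*} [CommRing R] {P Q : StandardEtalePair R} (hf : P.f = Q.f)
    (hg : P.g = Q.g) : P = Q := by
  cases P; cases Q; simp only at hf hg; subst hf hg; rfl

/-- Ring-level core: lift a standard étale algebra over `Ab` (near a prime) to a standard étale
algebra over a localization of `A`. -/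
theorem ring_core {A Ab C₁ : Type u} [CommRing A] [CommRing Ab] [CommRing C₁] (φ : A →+* Ab)
    (hφ : φ.SurjectiveOnStalks) (hemb : Topology.IsEmbedding (PrimeSpectrum.comap φ))
    [Algebra Ab C₁] [Algebra.IsStandardEtale Ab C₁] (𝔭 : Ideal Ab) [𝔭.IsPrime] :
    ∃ a : A, φ a ∉ 𝔭 ∧ ∃ (B : Type u) (_ : CommRing B) (_ : Algebra (Localization.Away a) B),
      Algebra.IsStandardEtale (Localization.Away a) B ∧
      letI : Algebra (Localization.Away a) (Localization.Away (φ a)) :=
        (Localization.awayMap φ a).toAlgebra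
      Nonempty ((Localization.Away (φ a) ⊗[Localization.Away a] B) ≃ₐ[Localization.Away (φ a)]
        (Localization.Away (φ a) ⊗[Ab] C₁)) := by
  classical
  obtain ⟨PP, p₁, p₂, hnorm⟩ := exists_presentation_normal (R := Ab) (S := C₁)
  obtain ⟨a, ha, hQ⟩ := exists_Q_finset hφ hemb 𝔭 (PP.f.coeffs ∪ p₁.coeffs ∪ p₂.coeffs)
  refine ⟨a, ha, ?_⟩
  let A' := Localization.Away a
  let Ab' := Localization.Away (φ a)
  let φ' : A' →+* Ab' := Localization.awayMap φ a
  have hφ' : φ'.comp (algebraMap A A') = (algebraMap Ab Ab').comp φ := IsLocalization.map_comp _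
  have hu : IsUnit (algebraMap Ab Ab' (φ a)) := IsLocalization.Away.algebraMap_isUnit _
  have hnt : Nontrivial Ab' := by
    have hunit : IsUnit (algebraMap Ab (Localization.AtPrime 𝔭) (φ a)) :=
      IsLocalization.map_units (M := 𝔭.primeCompl) _ ⟨φ a, ha⟩
    exact (IsLocalization.Away.lift (φ a) (g := algebraMap Ab (Localization.AtPrime 𝔭))
      hunit).domain_nontrivial
  have hl0 := map_mem_lifts_of_Q (φ := φ) (a := a) PP.f
    (fun y hy => hQ y (by simp [hy])) φ' hφ' hu
  have hl1 := map_mem_lifts_of_Q (φ := φ) (a := a) p₁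
    (fun y hy => hQ y (by simp [hy])) φ' hφ' hu
  have hl2 := map_mem_lifts_of_Q (φ := φ) (a := a) p₂
    (fun y hy => hQ y (by simp [hy])) φ' hφ' hu
  obtain ⟨f, hf, -, hfmonic⟩ :=
    Polynomial.lifts_and_degree_eq_and_monic hl0 (PP.monic_f.map _)
  obtain ⟨q₁, hq₁⟩ := (Polynomial.mem_lifts _).mp hl1
  obtain ⟨q₂, hq₂⟩ := (Polynomial.mem_lifts _).mp hl2
  let P : StandardEtalePair A' := ⟨f, hfmonic, derivative f * q₁ + f * q₂, ⟨q₁, q₂, 1, by simp⟩⟩
  letI : Algebra A' Ab' := φ'.toAlgebra
  have hPmap : P.map (algebraMap A' Ab') = PP.P.map (algebraMap Ab Ab') := by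
    apply pair_ext
    · exact hf
    · show (derivative f * q₁ + f * q₂).map φ' = PP.g.map (algebraMap Ab Ab')
      rw [← hnorm, Polynomial.map_add, Polynomial.map_mul, Polynomial.map_mul,
        ← Polynomial.derivative_map, hf, hq₁, hq₂]
      simp [Polynomial.derivative_map]
  let PB : StandardEtalePresentation A' P.Ring :=
    ⟨P, P.X, P.hasMap_X, by simpa [StandardEtalePair.lift_X_left] using Function.bijective_id⟩
  refine ⟨P.Ring, inferInstance, inferInstance, inferInstance, ?_⟩
  exact nonempty_algEquiv_of_pair_eq (PB.baseChange (T := Ab')) (PP.baseChange (T := Ab')) hPmap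

end Groth.Agent.Lib.Helper57.StdEtLift
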