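import Mathlib
import Groth.Agent.Lib.Helper57.StdEtLift2

set_option autoImplicit false
universe u

open Polynomial CategoryTheory Limits AlgebraicGeometry TensorProduct

namespace Groth.Agent.Lib.Helper57.StdEtLift

lemma exists_of_isPullback {P X Y S : Scheme.{u}} {fst : P ⟶ X} {snd : P ⟶ Y} {f : X ⟶ S}
    {g : Y ⟶ S} (sq : IsPullback fst snd f g) (x : X) (y : Y) (h : f x = g y) :
    ∃ z : P, fst z = x ∧ snd z = y := by
  obtain ⟨z, hz1, hz2⟩ := Scheme.Pullback.exists_preimage_pullback x y h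
  refine ⟨sq.isoPullback.inv z, ?_, ?_⟩
  · rw [← Scheme.Hom.comp_apply, sq.isoPullback_inv_fst, hz1]
  · rw [← Scheme.Hom.comp_apply, sq.isoPullback_inv_snd, hz2]

/-- Affine core. -/
theorem affCore {A Ab Cb : CommRingCat.{u}} (φ : A ⟶ Ab) [IsPreimmersion (Spec.map φ)]
    (ψb : Ab ⟶ Cb) (hψ : ψb.hom.Etale) (𝔮 : Spec Cb) :
    ∃ (B : CommRingCat.{u}) (ψ : A ⟶ B) (W : Scheme.{u}) (j : W ⟶ Spec Cb) (q : W ⟶ Spec B)
      (w : W), ψ.hom.Etale ∧ IsOpenImmersion j ∧ j w = 𝔮 ∧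
      IsPullback q (j ≫ Spec.map ψb) (Spec.map ψ) (Spec.map φ) := by
  algebraize [ψb.hom]
  obtain ⟨hemb, hsurj⟩ := (IsPreimmersion.SpecMap_iff φ).mp inferInstance
  have hEt : Algebra.IsEtaleAt Ab 𝔮.asIdeal := by
    have h1 := (Algebra.etaleLocus_eq_univ_iff_etale (R := Ab) (A := Cb)).mpr inferInstance
    have h2 : 𝔮 ∈ Algebra.etaleLocus Ab Cb := h1 ▸ Set.mem_univ 𝔮
    exact h2
  obtain ⟨c, hc, hstd⟩ := Algebra.IsEtaleAt.exists_isStandardEtale (R := Ab) 𝔮.asIdeal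
  let 𝔭 : Ideal Ab := 𝔮.asIdeal.comap (algebraMap Ab Cb)
  obtain ⟨a, ha, B, _, _, hB, ⟨e⟩⟩ := ring_core φ.hom hsurj hemb (C₁ := Localization.Away c) 𝔭
  let A' := Localization.Away a
  let Ab' := Localization.Away (φ.hom a)
  let C₁ := Localization.Away c
  letI algA'Ab' : Algebra A' Ab' := (Localization.awayMap φ.hom a).toAlgebra
  let T₁ := Ab' ⊗[A'] B
  let T₂ := Ab' ⊗[Ab] C₁
  let iA : A ⟶ CommRingCat.of A' := CommRingCat.ofHom (algebraMap A A')
  let iAb : Ab ⟶ CommRingCat.of Ab' := CommRingCat.ofHom (algebraMap Ab Ab')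
  let φ'c : CommRingCat.of A' ⟶ CommRingCat.of Ab' := CommRingCat.ofHom (algebraMap A' Ab')
  let βc : CommRingCat.of A' ⟶ CommRingCat.of B := CommRingCat.ofHom (algebraMap A' B)
  let l₁ : CommRingCat.of Ab' ⟶ CommRingCat.of T₁ :=
    CommRingCat.ofHom Algebra.TensorProduct.includeLeftRingHom
  let r₁ : CommRingCat.of B ⟶ CommRingCat.of T₁ :=
    CommRingCat.ofHom Algebra.TensorProduct.includeRight.toRingHom
  let l₂ : CommRingCat.of Ab' ⟶ CommRingCat.of T₂ :=
    CommRingCat.ofHom Algebra.TensorProduct.includeLeftRingHom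
  let r₂ : CommRingCat.of C₁ ⟶ CommRingCat.of T₂ :=
    CommRingCat.ofHom Algebra.TensorProduct.includeRight.toRingHom
  let iC : Cb ⟶ CommRingCat.of C₁ := CommRingCat.ofHom (algebraMap Cb C₁)
  let γ : Ab ⟶ CommRingCat.of C₁ := CommRingCat.ofHom (algebraMap Ab C₁)
  let ec : CommRingCat.of T₁ ⟶ CommRingCat.of T₂ := e.toRingEquiv.toCommRingCatIso.hom
  have po₁ : IsPushout φ'c βc l₁ r₁ := CommRingCat.isPushout_tensorProduct A' Ab' B
  have po₂ : IsPushout iAb γ l₂ r₂ := CommRingCat.isPushout_tensorProduct Ab Ab' C₁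
  have top : IsPullback (Spec.map r₁) (Spec.map l₁) (Spec.map βc) (Spec.map φ'c) :=
    (isPullback_SpecMap_of_isPushout _ _ _ _ po₁).flip
  have sq₂ : IsPullback (Spec.map l₂) (Spec.map r₂) (Spec.map iAb) (Spec.map γ) :=
    isPullback_SpecMap_of_isPushout _ _ _ _ po₂
  have hcomm : iA ≫ φ'c = φ ≫ iAb := by
    have hφ' : (Localization.awayMap φ.hom a).comp (algebraMap A A') =
        (algebraMap Ab Ab').comp φ.hom := IsLocalization.map_comp _
    ext x
    exact congrArg (fun h : A →+* Ab' => h x) hφ'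
  have bot : IsPullback (Spec.map φ'c) (Spec.map iAb) (Spec.map iA) (Spec.map φ) := by
    refine IsOpenImmersion.isPullback _ _ _ _ ?_ ?_
    · rw [← Spec.map_comp, ← Spec.map_comp, hcomm]
    · rw [Scheme.Hom.opensRange_localizationAway, Scheme.Hom.opensRange_localizationAway]
      ext 𝔯
      rfl
  have big := top.paste_vert bot
  have hγ : γ = ψb ≫ iC := by
    ext x
    exact IsScalarTower.algebraMap_apply Ab Cb C₁ x
  have he : l₁ ≫ ec = l₂ := by
    ext x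
    exact e.commutes x
  have left : IsPullback (Spec.map ec) (Spec.map l₂ ≫ Spec.map iAb) (Spec.map l₁ ≫ Spec.map iAb)
      (𝟙 _) :=
    IsPullback.of_horiz_isIso ⟨by rw [Category.comp_id, ← Spec.map_comp_assoc, he]⟩
  have final := left.paste_horiz big
  rw [Category.id_comp] at final
  have hj : (Spec.map r₂ ≫ Spec.map iC) ≫ Spec.map ψb = Spec.map l₂ ≫ Spec.map iAb := by
    rw [Category.assoc, ← Spec.map_comp, ← Spec.map_comp, ← Spec.map_comp, ← hγ, po₂.w]
  have hr₂ : IsOpenImmersion (Spec.map r₂) :=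
    MorphismProperty.of_isPullback (P := @IsOpenImmersion) sq₂ inferInstance
  -- the point
  have h1 : 𝔮 ∈ (Spec.map iC).opensRange := by
    rw [Scheme.Hom.opensRange_localizationAway]; exact hc
  obtain ⟨𝔮₁, h𝔮₁⟩ := h1
  have h2 : Spec.map ψb 𝔮 ∈ (Spec.map iAb).opensRange := by
    rw [Scheme.Hom.opensRange_localizationAway]; exact ha
  obtain ⟨𝔭', h𝔭'⟩ := h2
  obtain ⟨t, ht1, ht2⟩ := exists_of_isPullback sq₂ 𝔭' 𝔮₁ (by
    rw [h𝔭', hγ, Spec.map_comp, Scheme.Hom.comp_apply, h𝔮₁])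
  refine ⟨CommRingCat.of B, iA ≫ βc, Spec (CommRingCat.of T₂), Spec.map r₂ ≫ Spec.map iC,
    Spec.map ec ≫ Spec.map r₁, t, ?_, inferInstance, ?_, ?_⟩
  · show ((algebraMap A' B).comp (algebraMap A A')).Etale
    exact RingHom.Etale.stableUnderComposition _ _ (RingHom.etale_algebraMap.mpr inferInstance)
      (RingHom.etale_algebraMap.mpr inferInstance)
  · rw [Scheme.Hom.comp_apply, ht2, h𝔮₁]
  · rw [hj, Spec.map_comp]
    exact final

end Groth.Agent.Lib.Helper57.StdEtLift
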