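import Mathlib
import Groth.Agent.Lib.Helper57.SplitAlg1
import Groth.Agent.Lib.Helper57.StdEtLift3

set_option autoImplicit false
universe u

open Polynomial CategoryTheory Limits AlgebraicGeometry TensorProduct

namespace Groth.Agent.Lib.Helper57.SplitAlg

open Groth.Agent.Lib.Helper57.StdEtLift in
/-- Existence of a prime of the tensor product over two compatible primes. -/
lemma exists_prime_tensor {R R' B : Type u} [CommRing R] [CommRing R'] [CommRing B]
    [Algebra R R'] [Algebra R B] (t : Ideal R') [t.IsPrime] (b : Ideal B) [b.IsPrime]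
    (htb : t.comap (algebraMap R R') = b.comap (algebraMap R B)) :
    ∃ z : Ideal (R' ⊗[R] B), z.IsPrime ∧
      z.comap (Algebra.TensorProduct.includeLeftRingHom : R' →+* R' ⊗[R] B) = t ∧
      z.comap (Algebra.TensorProduct.includeRight : B →ₐ[R] R' ⊗[R] B).toRingHom = b := by
  have sq := isPullback_SpecMap_of_isPushout _ _ _ _ (CommRingCat.isPushout_tensorProduct R R' B)
  let tpt : Spec (CommRingCat.of R') := ⟨t, inferInstance⟩
  let bpt : Spec (CommRingCat.of B) := ⟨b, inferInstance⟩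
  obtain ⟨z, hz1, hz2⟩ := exists_of_isPullback sq tpt bpt (PrimeSpectrum.ext htb)
  refine ⟨z.asIdeal, z.isPrime, ?_, ?_⟩
  · exact congrArg PrimeSpectrum.asIdeal hz1
  · exact congrArg PrimeSpectrum.asIdeal hz2

/-- Key lemma: over a splitting algebra, every pair of compatible primes is hit by one of the
tautological maps `x ↦ r`. -/
theorem exists_root_of_primes {R R' B : Type u} [CommRing R] [CommRing R'] [CommRing B]
    [Algebra R R'] [Algebra R B] (PP : StandardEtalePresentation R B) (m : Multiset R')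
    (hm : PP.f.map (algebraMap R R') = (m.map (fun r => X - C r)).prod)
    (t : Ideal R') [t.IsPrime] (b : Ideal B) [b.IsPrime]
    (htb : t.comap (algebraMap R R') = b.comap (algebraMap R B)) :
    ∃ r ∈ m, aeval r PP.g ∉ t ∧
      ∀ (R'' : Type u) [CommRing R''] [Algebra R' R''] [Algebra R R''] [IsScalarTower R R' R'']
        (θ : B →ₐ[R] R'') (_ : θ PP.x = algebraMap R' R'' r) (z' : Ideal R'') [z'.IsPrime]
        (_ : z'.comap (algebraMap R' R'') = t), z'.comap θ = b := by
  classical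
  obtain ⟨z, hzp, hz1, hz2⟩ := exists_prime_tensor t b htb
  let iL : R' →ₐ[R] R' ⊗[R] B := Algebra.TensorProduct.includeLeft
  let iR : B →ₐ[R] R' ⊗[R] B := Algebra.TensorProduct.includeRight
  have hz1' : ∀ y : R', iL y ∈ z ↔ y ∈ t := fun y => by rw [← hz1]; rfl
  have hz2' : ∀ y : B, iR y ∈ z ↔ y ∈ b := fun y => by rw [← hz2]; rfl
  let xt : R' ⊗[R] B := iR PP.x
  have key0 : ∀ p : R[X], iR (aeval PP.x p) = aeval xt p := fun p =>
    (Polynomial.aeval_algHom_apply iR PP.x p).symm
  have key1 : ∀ (p : R[X]) (r : R'), iL (aeval r p) = aeval (iL r) p := fun p r =>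
    (Polynomial.aeval_algHom_apply iL r p).symm
  have key2 : ∀ (p : R[X]) (r : R'), xt - iL r ∈ z → (aeval xt p ∈ z ↔ aeval (iL r) p ∈ z) := by
    intro p r hr
    have hdvd : xt - iL r ∣ aeval xt p - aeval (iL r) p := by
      rw [← Polynomial.eval_map_algebraMap, ← Polynomial.eval_map_algebraMap]
      exact Polynomial.sub_dvd_eval_sub _ _ _
    have hmem : aeval xt p - aeval (iL r) p ∈ z := Ideal.mem_of_dvd _ hdvd hr
    constructor
    · intro h
      have := z.sub_mem h hmem
      simpa using this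
    · intro h
      have := z.add_mem hmem h
      simpa using this
  -- the product
  have hprod : (m.map (fun r => xt - iL r)).prod = 0 := by
    have h0 : aeval xt PP.f = 0 := by rw [← key0, PP.hasMap.1, map_zero]
    have h1 : aeval xt PP.f = eval xt ((PP.f.map (algebraMap R R')).map (iL : R' →+* R' ⊗[R] B)) := by
      rw [Polynomial.map_map, ← Polynomial.eval_map_algebraMap]
      congr 2
    rw [h1, hm, Polynomial.map_multiset_prod, Polynomial.eval_multiset_prod, Multiset.map_map,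
      Multiset.map_map] at h0
    rw [← h0]
    congr 1
    refine Multiset.map_congr rfl ?_
    intro r _
    simp
  have hmemz : (m.map (fun r => xt - iL r)).prod ∈ z := hprod ▸ z.zero_mem
  obtain ⟨y, hy, hyz⟩ := (hzp.multiset_prod_mem_iff_exists_mem _).mp hmemz
  obtain ⟨r, hr, rfl⟩ := Multiset.mem_map.mp hy
  have hunit : IsUnit (aeval xt PP.g) := by rw [← key0]; exact PP.hasMap.2.map iR
  have hg : aeval r PP.g ∉ t := by
    intro h
    have h1 : aeval (iL r) PP.g ∈ z := by rw [← key1]; exact (hz1' _).mpr h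
    have h2 : aeval xt PP.g ∈ z := (key2 PP.g r hyz).mpr h1
    exact hzp.ne_top (z.eq_top_of_isUnit_mem h2 hunit)
  refine ⟨r, hr, hg, ?_⟩
  intro R'' _ _ _ _ θ hθ z' _ hz'
  have hz'' : ∀ y : R', algebraMap R' R'' y ∈ z' ↔ y ∈ t := fun y => by rw [← hz']; rfl
  have hθa : ∀ q : R[X], θ (aeval PP.x q) = algebraMap R' R'' (aeval r q) := fun q => by
    rw [← Polynomial.aeval_algHom_apply, hθ, Polynomial.aeval_algebraMap_apply]
  ext β
  obtain ⟨p, n, hp⟩ := PP.exists_mul_aeval_x_g_pow_eq_aeval_x β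
  have e1 : θ β * algebraMap R' R'' (aeval r PP.g) ^ n = algebraMap R' R'' (aeval r p) := by
    rw [← hθa, ← hθa, ← map_pow, ← map_mul, hp]
  have hgz' : algebraMap R' R'' (aeval r PP.g) ^ n ∉ z' := fun h =>
    hg ((hz'' _).mp (‹z'.IsPrime›.mem_of_pow_mem n h))
  have s1 : θ β ∈ z' ↔ aeval r p ∈ t := by
    rw [← hz'', ← e1]
    constructor
    · intro h; exact z'.mul_mem_right _ h
    · intro h; exact (‹z'.IsPrime›.mem_or_mem h).resolve_right hgz'
  have hgb : aeval PP.x PP.g ^ n ∉ b := fun h =>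
    ‹b.IsPrime›.ne_top (b.eq_top_of_isUnit_mem h (PP.hasMap.2.pow n))
  have s2 : β ∈ b ↔ aeval PP.x p ∈ b := by
    rw [← hp]
    constructor
    · intro h; exact b.mul_mem_right _ h
    · intro h; exact (‹b.IsPrime›.mem_or_mem h).resolve_right hgb
  have s3 : aeval PP.x p ∈ b ↔ aeval r p ∈ t := by
    rw [← hz2', key0, key2 p r hyz, ← key1, hz1']
  rw [Ideal.mem_comap]
  exact s1.trans (s3.symm.trans s2.symm)

/-- An étale morphism is, locally on the source and over a given affine open of the target,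
standard étale. -/
theorem exists_standardEtale_nbhd {U S : Scheme.{u}} (e : U ⟶ S) [Etale e] (u : U)
    {V : S.Opens} (hV : IsAffineOpen V) (hu : e u ∈ V) :
    ∃ (B : Type u) (_ : CommRing B) (_ : Algebra Γ(S, V) B)
      (_ : Algebra.IsStandardEtale Γ(S, V) B)
      (j : Spec (CommRingCat.of B) ⟶ U) (b : Spec (CommRingCat.of B)), IsOpenImmersion j ∧
      j b = u ∧ j ≫ e = Spec.map (CommRingCat.ofHom (algebraMap Γ(S, V) B)) ≫ hV.fromSpec := by
  have hu1 : u ∈ e ⁻¹ᵁ V := hu
  obtain ⟨U₀, hU₀, huU₀, hle'⟩ := exists_isAffineOpen_mem_and_subset hu1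
  have hle : U₀ ≤ e ⁻¹ᵁ V := hle'
  let ψ := e.appLE V U₀ hle
  have hψ : ψ.hom.Etale := HasRingHomProperty.appLE @Etale e inferInstance ⟨_, hV⟩ ⟨U₀, hU₀⟩ hle
  algebraize [ψ.hom]
  let 𝔮 := hU₀.primeIdealOf ⟨u, huU₀⟩
  have hEt : Algebra.IsEtaleAt Γ(S, V) 𝔮.asIdeal := by
    have h1 := (Algebra.etaleLocus_eq_univ_iff_etale (R := Γ(S, V)) (A := Γ(U, U₀))).mpr
      inferInstance
    have h2 : 𝔮 ∈ Algebra.etaleLocus Γ(S, V) Γ(U, U₀) := h1 ▸ Set.mem_univ 𝔮
    exact h2
  obtain ⟨c, hc, hstd⟩ := Algebra.IsEtaleAt.exists_isStandardEtale (R := Γ(S, V)) 𝔮.asIdeal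
  let iC : Γ(U, U₀) ⟶ CommRingCat.of (Localization.Away c) :=
    CommRingCat.ofHom (algebraMap Γ(U, U₀) (Localization.Away c))
  have h1 : 𝔮 ∈ (Spec.map iC).opensRange := by
    rw [Scheme.Hom.opensRange_localizationAway]; exact hc
  obtain ⟨b, hb⟩ := h1
  refine ⟨Localization.Away c, inferInstance, inferInstance, hstd, Spec.map iC ≫ hU₀.fromSpec, b,
    inferInstance, ?_, ?_⟩
  · rw [Scheme.Hom.comp_apply, hb, IsAffineOpen.fromSpec_primeIdealOf]
  · rw [Category.assoc, ← IsAffineOpen.SpecMap_appLE_fromSpec e hV hU₀ hle, ← Spec.map_comp_assoc]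
    congr 2

end Groth.Agent.Lib.Helper57.SplitAlg
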