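import Groth.Agent.Lib.Helper57.IntStalkSets

set_option autoImplicit false
open CategoryTheory CategoryTheory.Limits AlgebraicGeometry Opposite
universe u

/-! Stalks of étale sheaves of sets: pullback, direct images off a closed range. -/

namespace Groth.Agent.Lib.Helper57.StalkSets

open Groth.Agent.Lib.Helper4

/-- The stalk functor on sheaves of sets. -/
noncomputable abbrev stalkSh {X : Scheme.{u}} {Ω : Type u} [Field Ω] [IsSepClosed Ω]
    (ξ : Spec (CommRingCat.of Ω) ⟶ X) : EtDesc.Sh X ⥤ Type (u + 1) :=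
  (Scheme.pointSmallEtale ξ).sheafFiber (A := Type (u + 1))

instance pflSh {X : Scheme.{u}} {Ω : Type u} [Field Ω] [IsSepClosed Ω]
    (ξ : Spec (CommRingCat.of Ω) ⟶ X) : PreservesFiniteLimits (stalkSh ξ) :=
  PointULift.preservesFiniteLimits_sheafFiber.{u, u + 1}
    (Scheme.pointSmallEtale ξ) (Type (u + 1))

variable {X Y : Scheme.{u}} (f : X ⟶ Y) {Ω : Type u} [Field Ω] [IsSepClosed Ω]

noncomputable def sheafFiberIsoSh (ξ : Spec (CommRingCat.of Ω) ⟶ X) :
    (Scheme.pointSmallEtale (ξ ≫ f)).sheafFiber (A := Type (u + 1)) ≅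
      (EtStalkPull.comapPt f ξ).sheafFiber where
  hom := GrothendieckTopology.Point.Hom.sheafFiber (EtStalkPull.ptIso f ξ).hom
  inv := GrothendieckTopology.Point.Hom.sheafFiber (EtStalkPull.ptIso f ξ).inv
  hom_inv_id := by
    rw [← GrothendieckTopology.Point.Hom.sheafFiber_comp, Iso.inv_hom_id,
      GrothendieckTopology.Point.Hom.sheafFiber_id]
  inv_hom_id := by
    rw [← GrothendieckTopology.Point.Hom.sheafFiber_comp, Iso.hom_inv_id,
      GrothendieckTopology.Point.Hom.sheafFiber_id]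

noncomputable def stalkPullIsoSh (ξ : Spec (CommRingCat.of Ω) ⟶ X) :
    EtDesc.pullSh f ⋙ stalkSh ξ ≅ stalkSh (ξ ≫ f) :=
  (GrothendieckTopology.Point.sheafFiberComapIso (Scheme.pointSmallEtale ξ)
    (EtCoh.bc f) (EtCoh.coverPreserving_bc f) (Type (u + 1))).symm ≪≫ (sheafFiberIsoSh f ξ).symm

/-- Sections of a sheaf of sets over an empty étale scheme form a singleton. -/
theorem unique_sect_of_isEmpty {Z : Scheme.{u}} (G : EtDesc.Sh Z) (V : Z.Etale) [IsEmpty V.left] :
    Nonempty (Unique (G.obj.obj (op V))) := by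
  have hbot : (⊥ : Sieve V) ∈ Z.smallEtaleTopology V := by
    have h := (Scheme.ofArrows_mem_smallEtaleTopology_iff (X := Z) (W := V) (ι := PEmpty.{1})
      (Z := fun e => e.elim) (fun e => e.elim)).2 (by
        ext x
        exact (IsEmpty.false x).elim)
    convert h using 1
    ext Y f
    constructor
    · intro hf
      exact hf.elim
    · rintro ⟨W, a, b, ⟨e⟩, _⟩
      exact e.elim
  have hT : IsTerminal (G.obj.obj (op V)) := Sheaf.isTerminalOfBotCover G V hbot
  exact ⟨Types.isTerminalEquivUnique _ hT⟩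

/-- The direct image of a sheaf of sets along a morphism with closed range has singleton stalks at
geometric points outside the range. -/
theorem unique_stalk_pushSh (hcl : IsClosed (Set.range f.base))
    (G : EtDesc.Sh X) (ξ : Spec (CommRingCat.of Ω) ⟶ Y)
    (hξ : Disjoint (Set.range ξ.base) (Set.range f.base)) :
    Nonempty (Unique ((stalkSh ξ).obj ((EtDesc.pushSh f).obj G))) := by
  set Φ := Scheme.pointSmallEtale ξ with hΦ
  set P : (Y.Etale)ᵒᵖ ⥤ Type (u + 1) := ((EtDesc.pushSh f).obj G).obj with hP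
  change Nonempty (Unique (Φ.presheafFiber.obj P))
  let W : Y.Opens := ⟨(Set.range f.base)ᶜ, hcl.isOpen_compl⟩
  -- restriction of a neighbourhood to the complement of the range
  have key : ∀ (T : Scheme.{u}) (g : T ⟶ Y) [Etale g] (v : Spec (CommRingCat.of Ω) ⟶ T)
      (hv : v ≫ g = ξ), ∃ (U' : Y.Etale) (j : U' ⟶ Scheme.Etale.mk g) (u' : Φ.fiber.obj U'),
        Φ.fiber.map j u' = Over.homMk v hv ∧ IsEmpty ((EtCoh.bc f).obj U').left := by
    intro T g _ v hv
    let W' : T.Opens := g ⁻¹ᵁ W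
    let U' : Y.Etale := Scheme.Etale.mk (W'.ι ≫ g)
    let j : U' ⟶ Scheme.Etale.mk g := MorphismProperty.Over.homMk W'.ι rfl
    have hrange : Set.range v.base ⊆ Set.range W'.ι.base := by
      rintro _ ⟨a, rfl⟩
      rw [Scheme.Opens.range_ι]
      change g.base (v.base a) ∈ (Set.range f.base)ᶜ
      have : g.base (v.base a) = ξ.base a := by
        rw [← hv]; rfl
      rw [this]
      exact Set.disjoint_left.1 hξ ⟨a, rfl⟩
    let l : Spec (CommRingCat.of Ω) ⟶ W'.toScheme := IsOpenImmersion.lift W'.ι v hrange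
    have hl : l ≫ W'.ι = v := IsOpenImmersion.lift_fac _ _ _
    let u' : Φ.fiber.obj U' := Over.homMk l (by
      change l ≫ W'.ι ≫ g = ξ
      rw [← Category.assoc, hl, hv])
    have hu' : Φ.fiber.map j u' = Over.homMk v hv := by
      apply Over.OverMorphism.ext
      exact hl
    refine ⟨U', j, u', hu', ?_⟩
    constructor
    intro z
    have h1 : (pullback.fst U'.hom f ≫ U'.hom).base z = (pullback.snd U'.hom f ≫ f).base z := by
      rw [pullback.condition]
    have h2 : (pullback.fst U'.hom f ≫ U'.hom).base z ∈ (Set.range f.base)ᶜ := by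
      change g.base (W'.ι.base ((pullback.fst U'.hom f).base z)) ∈ (Set.range f.base)ᶜ
      exact ((pullback.fst U'.hom f).base z).2
    rw [h1] at h2
    exact h2 ⟨_, rfl⟩
  have hsub : Subsingleton (Φ.presheafFiber.obj P) := by
    constructor
    intro p₁ p₂
    obtain ⟨U, x, z₁, z₂, rfl, rfl⟩ := Φ.toPresheafFiber_jointly_surjective₂ (P := P) p₁ p₂
    cases U with | _ T g
    have : Etale g := ‹_›
    obtain ⟨v, hv, rfl⟩ := Over.homMk_surjective x
    obtain ⟨U', j, u', hu', hempty⟩ := key T g v hv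
    obtain ⟨huniq⟩ := unique_sect_of_isEmpty G ((EtCoh.bc f).obj U')
    have h12 : P.map j.op z₁ = P.map j.op z₂ := (huniq.eq_default _).trans (huniq.default_eq _)
    rw [← hu', ← Φ.toPresheafFiber_w_apply j u' P, ← Φ.toPresheafFiber_w_apply j u' P, h12]
  have hne : Nonempty (Φ.presheafFiber.obj P) := by
    obtain ⟨U', j, u', hu', hempty⟩ := key Y (𝟙 Y) ξ (Category.comp_id ξ)
    obtain ⟨huniq⟩ := unique_sect_of_isEmpty G ((EtCoh.bc f).obj U')
    exact ⟨Φ.toPresheafFiber U' u' P huniq.default⟩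
  obtain ⟨p⟩ := hne
  exact ⟨⟨⟨p⟩, fun q => Subsingleton.elim q p⟩⟩

end Groth.Agent.Lib.Helper57.StalkSets
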