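import Mathlib
import Groth.Agent.Lib.Helper57.StdEtLift3

set_option autoImplicit false
universe u

open CategoryTheory Limits AlgebraicGeometry

namespace Groth.Agent.Lib.Helper57.StdEtLift

/-- For a preimmersion, there are small affine opens of the target around any point of the image
whose preimage is affine. -/
lemma exists_affine_preimage_affine {X Z : Scheme.{u}} (ι : Z ⟶ X) [IsPreimmersion ι] (z : Z) :
    ∃ X₁ : X.Opens, IsAffineOpen X₁ ∧ ι z ∈ X₁ ∧ IsAffineOpen (ι ⁻¹ᵁ X₁) := by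
  obtain ⟨Z₁, hZ₁, hz, -⟩ := exists_isAffineOpen_mem_and_subset (x := z) (U := ⊤) trivial
  obtain ⟨t, ht, htZ⟩ := ι.isEmbedding.isOpen_iff.mp Z₁.isOpen
  have hzt : ι z ∈ (⟨t, ht⟩ : X.Opens) := by
    have : z ∈ ι ⁻¹' t := by rw [htZ]; exact hz
    exact this
  obtain ⟨X₁, hX₁, hzX₁, hX₁t⟩ := exists_isAffineOpen_mem_and_subset hzt
  have hle1 : ι ⁻¹ᵁ X₁ ≤ Z₁ := by
    intro y hy
    have : y ∈ ι ⁻¹' t := hX₁t hy
    rw [htZ] at this; exact this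
  obtain ⟨h, hh, hzh⟩ := hZ₁.exists_basicOpen_le (V := ι ⁻¹ᵁ X₁) ⟨z, hzX₁⟩ hz
  have hDh : IsAffineOpen (Z.basicOpen h) := hZ₁.basicOpen h
  obtain ⟨t', ht', htZ'⟩ := ι.isEmbedding.isOpen_iff.mp (Z.basicOpen h).isOpen
  have hzt' : ι z ∈ (⟨t', ht'⟩ : X.Opens) ⊓ X₁ := by
    refine ⟨?_, hzX₁⟩
    have : z ∈ ι ⁻¹' t' := by rw [htZ']; exact hzh
    exact this
  obtain ⟨a, ha, hza⟩ := hX₁.exists_basicOpen_le (V := (⟨t', ht'⟩ : X.Opens) ⊓ X₁) ⟨ι z, hzt'⟩ hzX₁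
  refine ⟨X.basicOpen a, hX₁.basicOpen a, hza, ?_⟩
  have hle2 : ι ⁻¹ᵁ (X.basicOpen a) ≤ Z.basicOpen h := by
    intro y hy
    have : y ∈ ι ⁻¹' t' := (ha hy).1
    rw [htZ'] at this; exact this
  have e1 : ι ⁻¹ᵁ (X.basicOpen a) = Z.basicOpen (ι.app X₁ a) := Scheme.preimage_basicOpen ι a
  have e2 : Z.basicOpen (Z.presheaf.map (homOfLE hh).op (ι.app X₁ a)) =
      Z.basicOpen (ι.app X₁ a) := by
    rw [Scheme.basicOpen_res]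
    exact inf_eq_right.mpr (e1 ▸ hle2)
  rw [e1, ← e2]
  exact hDh.basicOpen _

/-- Étale neighbourhoods lift along preimmersions (locally). -/
theorem exists_etale_lift {X Z V : Scheme.{u}} (ι : Z ⟶ X) [IsPreimmersion ι] (g : V ⟶ Z)
    [Etale g] (v : V) :
    ∃ (U : Scheme.{u}) (p : U ⟶ X) (W : Scheme.{u}) (j : W ⟶ V) (q : W ⟶ U) (w : W),
      Etale p ∧ IsOpenImmersion j ∧ j w = v ∧ IsPullback q (j ≫ g) p ι := by
  obtain ⟨X₁, hX₁, hzX₁, hZ₁⟩ := exists_affine_preimage_affine ι (g v)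
  have hv1 : v ∈ g ⁻¹ᵁ (ι ⁻¹ᵁ X₁) := hzX₁
  obtain ⟨V₁, hV₁, hvV₁, hV₁le⟩ := exists_isAffineOpen_mem_and_subset hv1
  have hle : V₁ ≤ g ⁻¹ᵁ (ι ⁻¹ᵁ X₁) := hV₁le
  let φ := ι.appLE X₁ (ι ⁻¹ᵁ X₁) le_rfl
  let ψb := g.appLE (ι ⁻¹ᵁ X₁) V₁ hle
  have S1 : IsPullback (Spec.map φ) hZ₁.fromSpec hX₁.fromSpec ι :=
    IsOpenImmersion.isPullback _ _ _ _ (IsAffineOpen.SpecMap_appLE_fromSpec ι hX₁ hZ₁ le_rfl).symm
      (by simp)
  haveI : IsPreimmersion (Spec.map φ) :=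
    MorphismProperty.of_isPullback (P := @IsPreimmersion) S1.flip inferInstance
  have hψ : ψb.hom.Etale := HasRingHomProperty.appLE @Etale g inferInstance ⟨_, hZ₁⟩ ⟨V₁, hV₁⟩ hle
  obtain ⟨B, ψ, W, j₀, q, w, hψet, hj₀, hw, sq⟩ := affCore φ ψb hψ (hV₁.primeIdealOf ⟨v, hvV₁⟩)
  have big := sq.paste_vert S1
  have e1 : (j₀ ≫ Spec.map ψb) ≫ hZ₁.fromSpec = (j₀ ≫ hV₁.fromSpec) ≫ g := by
    rw [Category.assoc, Category.assoc, IsAffineOpen.SpecMap_appLE_fromSpec g hZ₁ hV₁ hle]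
  rw [e1] at big
  haveI : Etale (Spec.map ψ) := (HasRingHomProperty.Spec_iff (P := @Etale)).mpr hψet
  refine ⟨Spec B, Spec.map ψ ≫ hX₁.fromSpec, W, j₀ ≫ hV₁.fromSpec, q, w, inferInstance,
    inferInstance, ?_, big⟩
  rw [Scheme.Hom.comp_apply, hw, IsAffineOpen.fromSpec_primeIdealOf]

end Groth.Agent.Lib.Helper57.StdEtLift
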