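import Mathlib

set_option autoImplicit false
universe w w' u u' v v'

open CategoryTheory Limits Abelian

/-! Degenerate Leray: an exact functor preserving injectives, with a natural identification of
`Hom(Z', -)` and `Hom(Z, Φ -)`, transports vanishing of `Ext`. -/

namespace Groth.Agent.Lib.Helper57.TR

variable {𝒜 : Type u} [Category.{v} 𝒜] [Abelian 𝒜] {ℬ : Type u'} [Category.{v'} ℬ] [Abelian ℬ]
  [EnoughInjectives 𝒜] [HasExt.{w} 𝒜] [HasExt.{w'} ℬ]
  (Φ : 𝒜 ⥤ ℬ) [Φ.Additive] [PreservesFiniteLimits Φ] [PreservesFiniteColimits Φ]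
  (hinj : ∀ I : 𝒜, Injective I → Injective (Φ.obj I)) (Z' : 𝒜) (Z : ℬ)
  (β : ∀ G : 𝒜, (Z' ⟶ G) ≃ (Z ⟶ Φ.obj G))
  (hβ : ∀ (G G' : 𝒜) (g : G ⟶ G') (a : Z' ⟶ G), β G' (a ≫ g) = β G a ≫ Φ.map g)

/-- the short exact sequence `0 → G → I → Q → 0` with `I` injective -/
noncomputable def injSC (G : 𝒜) : ShortComplex 𝒜 :=
  ShortComplex.mk (Injective.ι G) (cokernel.π (Injective.ι G)) (cokernel.condition _)

lemma injSC_shortExact (G : 𝒜) : (injSC G).ShortExact where
  exact := ShortComplex.exact_cokernel _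
  mono_f := by dsimp [injSC]; infer_instance
  epi_g := by dsimp [injSC]; infer_instance

include hinj hβ in
theorem subsingleton_ext_of_exact : ∀ (q : ℕ) (G : 𝒜), Subsingleton (Ext.{w} Z' G q) →
    Subsingleton (Ext.{w'} Z (Φ.obj G) q) := by
  intro q
  induction q with
  | zero =>
    intro G hG
    refine ⟨fun x y => ?_⟩
    obtain ⟨a, rfl⟩ := (Ext.mk₀_bijective Z (Φ.obj G)).2 x
    obtain ⟨b, rfl⟩ := (Ext.mk₀_bijective Z (Φ.obj G)).2 y
    obtain ⟨a', rfl⟩ := (β G).surjective a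
    obtain ⟨b', rfl⟩ := (β G).surjective b
    have : Ext.mk₀ a' = Ext.mk₀ b' := Subsingleton.elim _ _
    rw [(Ext.mk₀_bijective Z' G).1 this]
  | succ q ih =>
    intro G hG
    have hS := injSC_shortExact G
    have hS' := hS.map_of_exact Φ
    haveI : Injective (injSC G).X₂ := by dsimp [injSC]; infer_instance
    haveI : Injective ((injSC G).map Φ).X₂ := hinj _ inferInstance
    suffices h0 : ∀ x₁ : Ext.{w'} Z (Φ.obj G) (q + 1), x₁ = 0 from
      ⟨fun x y => (h0 x).trans (h0 y).symm⟩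
    intro x₁
    have hx₁ : x₁.comp (Ext.mk₀ ((injSC G).map Φ).f) (add_zero (q + 1)) = 0 :=
      Ext.eq_zero_of_injective _
    obtain ⟨x₃, hx₃⟩ := Ext.covariant_sequence_exact₁ Z hS' x₁ hx₁ rfl
    rw [← hx₃]
    cases q with
    | zero =>
      obtain ⟨b, rfl⟩ := (Ext.mk₀_bijective Z _).2 x₃
      obtain ⟨a, rfl⟩ := (β (injSC G).X₃).surjective b
      have ha : (Ext.mk₀ a).comp hS.extClass (zero_add 1) = 0 := hG.elim _ _
      obtain ⟨x₂, hx₂⟩ := Ext.covariant_sequence_exact₃ Z' hS (Ext.mk₀ a) rfl ha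
      obtain ⟨a', rfl⟩ := (Ext.mk₀_bijective Z' _).2 x₂
      rw [Ext.mk₀_comp_mk₀] at hx₂
      have ha' : a' ≫ (injSC G).g = a := (Ext.mk₀_bijective Z' _).1 hx₂
      have e1 : β (injSC G).X₃ a = β (injSC G).X₂ a' ≫ ((injSC G).map Φ).g := by
        rw [← ha', hβ]
        rfl
      have hz : (Ext.mk₀ ((injSC G).map Φ).g).comp hS'.extClass (zero_add 1) = 0 :=
        hS'.comp_extClass
      have e2 : (Ext.mk₀ (β (injSC G).X₃ a) : Ext.{w'} Z ((injSC G).map Φ).X₃ 0) =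
          (Ext.mk₀ (β (injSC G).X₂ a')).comp (Ext.mk₀ ((injSC G).map Φ).g) (add_zero 0) := by
        rw [Ext.mk₀_comp_mk₀]
        exact congrArg Ext.mk₀ e1
      show (Ext.mk₀ (β (injSC G).X₃ a) : Ext.{w'} Z ((injSC G).map Φ).X₃ 0).comp
        hS'.extClass _ = 0
      rw [e2, Ext.comp_assoc_of_second_deg_zero]
      have h0 : (Ext.mk₀ ((β (injSC G).X₂) a') : Ext.{w'} Z ((injSC G).map Φ).X₂ 0).comp
          ((Ext.mk₀ ((injSC G).map Φ).g).comp hS'.extClass (zero_add 1)) (zero_add 1) = 0 := by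
        rw [hz, Ext.comp_zero]
      exact h0
    | succ q =>
      have hsub : Subsingleton (Ext.{w} Z' (injSC G).X₃ (q + 1)) := by
        suffices h1 : ∀ x : Ext.{w} Z' (injSC G).X₃ (q + 1), x = 0 from
          ⟨fun x y => (h1 x).trans (h1 y).symm⟩
        intro x
        have hx : x.comp hS.extClass (rfl : q + 1 + 1 = q + 1 + 1) = 0 := hG.elim _ _
        obtain ⟨x₂, hx₂⟩ := Ext.covariant_sequence_exact₃ Z' hS x rfl hx
        rw [← hx₂, Ext.eq_zero_of_injective x₂, Ext.zero_comp]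
      have hsub' : Subsingleton (Ext.{w'} Z ((injSC G).map Φ).X₃ (q + 1)) :=
        ih (injSC G).X₃ hsub
      have : x₃ = 0 := hsub'.elim _ _
      rw [this, Ext.zero_comp]
      rfl

end Groth.Agent.Lib.Helper57.TR
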