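import Mathlib
import Groth.Agent.Lib.Helper57.TR8
import Groth.Agent.Lib.Helper57.TR9
import Groth.Agent.Lib.Helper57.EtPushExact
import Groth.Agent.Lib.Helper4.InjPull
import Groth.Prelude.Def_EtAcyc

set_option autoImplicit false
universe u

open CategoryTheory Limits AlgebraicGeometry Opposite

/-! Vanishing of cohomology detected on a finite étale cover of degree prime to the torsion. -/

namespace Groth.Agent.Lib.Helper57.TR

open Groth.Agent.Lib.Helper57.EZ Groth.Agent.Lib.Helper4 Groth.Agent.Lib.Helper57.FinStalk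
  Groth.Agent.Lib.Helper57.IntStalk Groth.Agent.Lib.Helper57.LS Groth.Agent.Lib.Helper57.FE

lemma bijective_nsmul_of_coprime {A : Type*} [AddCommGroup A] (d : ℕ)
    (h : ∀ a : A, ∃ m : ℕ, Nat.Coprime m d ∧ m • a = 0) :
    Function.Bijective (fun a : A => d • a) := by
  have key : ∀ a : A, ∃ B : ℤ, a = d • (B • a) := by
    intro a
    obtain ⟨m, hm, hma⟩ := h a
    have e : (1 : ℤ) = (m : ℤ) * Nat.gcdA m d + (d : ℤ) * Nat.gcdB m d := by
      have := Nat.gcd_eq_gcd_ab m d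
      rw [hm.gcd_eq_one] at this
      exact_mod_cast this
    refine ⟨Nat.gcdB m d, ?_⟩
    calc a = (1 : ℤ) • a := (one_zsmul a).symm
      _ = ((m : ℤ) * Nat.gcdA m d + (d : ℤ) * Nat.gcdB m d) • a := by rw [← e]
      _ = Nat.gcdA m d • ((m : ℤ) • a) + (d : ℤ) • (Nat.gcdB m d • a) := by
        rw [add_smul, mul_comm (m : ℤ), mul_smul, mul_smul]
      _ = d • (Nat.gcdB m d • a) := by
        rw [natCast_zsmul, hma, smul_zero, zero_add, natCast_zsmul]
  constructor
  · intro a b hab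
    have hc : d • (a - b) = 0 := by
      rw [smul_sub]
      exact sub_eq_zero.mpr hab
    obtain ⟨B, hB⟩ := key (a - b)
    have : a - b = 0 := by
      rw [hB, ← natCast_zsmul, smul_comm, natCast_zsmul, hc, smul_zero]
    exact sub_eq_zero.mp this
  · intro a
    obtain ⟨B, hB⟩ := key a
    exact ⟨B • a, hB.symm⟩

/-- lifting a point of the fibre functor through an étale neighbourhood containing its image -/
theorem exists_fiber_lift {X : Scheme.{u}} {Ω : Type u} [Field Ω] [IsSepClosed Ω]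
    (ξ : Spec (CommRingCat.of Ω) ⟶ X) {U V : X.Etale} (g : V ⟶ U)
    (u : (Scheme.pointSmallEtale ξ).fiber.obj U) (v : V.left)
    (hv : g.left v = ptHom u default) :
    ∃ u' : (Scheme.pointSmallEtale ξ).fiber.obj V,
      (Scheme.pointSmallEtale ξ).fiber.map g u' = u := by
  have : Etale V.hom := V.prop
  have : Etale U.hom := U.prop
  have hk : Etale (g.left ≫ U.hom) := by
    rw [MorphismProperty.Over.w g]; infer_instance
  have : Etale g.left := Etale.of_comp g.left U.hom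
  obtain ⟨ybar, hy, -⟩ := exists_lift_geomPoint g.left (ptHom u) v default hv
  refine ⟨mkPt ξ V ybar ?_, ?_⟩
  · rw [← MorphismProperty.Over.w g, ← Category.assoc, hy]
    exact ptHom_comp u
  · apply pt_ext
    exact hy

theorem exists_coprime_nsmul_eq_zero {X : Scheme.{u}} (L : Set ℕ) (F : EtCoh.Ab X)
    (hF : EtAcyc.IsLTorsion L F) (d : ℕ) (hL : ∀ p : ℕ, p.Prime → p ∈ L → ¬ p ∣ d)
    {Ω : Type u} [Field Ω] [IsSepClosed Ω] (ξ : Spec (CommRingCat.of Ω) ⟶ X)
    (a : ((Scheme.pointSmallEtale ξ).presheafFiber.obj F.obj : AddCommGrpCat.{u + 1})) :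
    ∃ m : ℕ, Nat.Coprime m d ∧ m • a = 0 := by
  obtain ⟨U, u, s, rfl⟩ :=
    (Scheme.pointSmallEtale ξ).toPresheafFiber_jointly_surjective (P := F.obj) a
  obtain ⟨V, g, m, ⟨v, hv⟩, ⟨hm0, hmL⟩, hms⟩ := hF U s (ptHom u default)
  obtain ⟨u', rfl⟩ := exists_fiber_lift ξ g u v hv
  refine ⟨m, ?_, ?_⟩
  · by_contra hc
    obtain ⟨p, hp, hpm, hpd⟩ := Nat.Prime.not_coprime_iff_dvd.mp hc
    exact hL p hp (hmL p hp hpm) hpd
  · rw [← (Scheme.pointSmallEtale ξ).toPresheafFiber_w_apply, ← map_nsmul, hms, map_zero]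

theorem isIso_nsmul_of_isLTorsion {X : Scheme.{u}} (L : Set ℕ) (F : EtCoh.Ab X)
    (hF : EtAcyc.IsLTorsion L F) (d : ℕ) (hL : ∀ p : ℕ, p.Prime → p ∈ L → ¬ p ∣ d) :
    IsIso (d • 𝟙 F) := by
  rw [EtStalk.isIso_iff_stalk]
  intro Ω _ _ ξ
  rw [Functor.map_nsmul]
  have hid : (EtCoh.stalk ξ).map (𝟙 F) = 𝟙 _ := CategoryTheory.Functor.map_id _ _
  rw [hid, ConcreteCategory.isIso_iff_bijective]
  exact bijective_nsmul_of_coprime d (exists_coprime_nsmul_eq_zero L F hF d hL ξ)

end Groth.Agent.Lib.Helper57.TR
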