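import Mathlib
import Groth.Agent.Lib.Helper57.TR10

set_option autoImplicit false
universe u

open CategoryTheory Limits AlgebraicGeometry Opposite

/-! Vanishing of cohomology detected on a finite étale cover of degree prime to the torsion:
assembly. -/

namespace Groth.Agent.Lib.Helper57.TR

open Groth.Agent.Lib.Helper57.EZ Groth.Agent.Lib.Helper4 Groth.Agent.Lib.Helper57.FinStalk
  Groth.Agent.Lib.Helper57.IntStalk Groth.Agent.Lib.Helper57.LS Groth.Agent.Lib.Helper57.FE

variable {X' X : Scheme.{u}} (f : X' ⟶ X)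

theorem finrank_eq_of_card [IsFinite f] [Etale f] (d : ℕ)
    (hd : ∀ (Ω : Type u) [Field Ω] [IsSepClosed Ω] (ξ : Spec (CommRingCat.of Ω) ⟶ X),
      Nat.card ↥(pullback f ξ) = d) (x : X) : f.finrank x = d := by
  have h1 := hd (AlgebraicClosure (X.residueField x)) (geomPtAlg X x)
  rw [card_points_eq_finrank (pullback.snd f (geomPtAlg X x)),
    Scheme.Hom.finrank_pullback_snd, geomPtAlg_default] at h1
  exact h1

/-- `Hom(ℤ_{X'}, G) ≃ Hom(ℤ_X, f_* G)` -/
noncomputable def βZ (G : EtCoh.Ab X') :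
    (EtCoh.const X' ℤ ⟶ G) ≃ (EtCoh.const X ℤ ⟶ (EtCoh.push f).obj G) where
  toFun a := (EtCoh.pullPushAdj f).homEquiv _ _ ((EtCore.pullConst f ℤ).hom ≫ a)
  invFun b := (EtCore.pullConst f ℤ).inv ≫ ((EtCoh.pullPushAdj f).homEquiv _ _).symm b
  left_inv a := by simp
  right_inv b := by simp

lemma βZ_natural (G G' : EtCoh.Ab X') (g : G ⟶ G') (a : EtCoh.const X' ℤ ⟶ G) :
    βZ f G' (a ≫ g) = βZ f G a ≫ (EtCoh.push f).map g := by
  simp only [βZ, Equiv.coe_fn_mk]
  rw [← Category.assoc, Adjunction.homEquiv_naturality_right]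

theorem subsingleton_H_push [IsFinite f] (G : EtCoh.Ab X') (q : ℕ)
    (h : Subsingleton (EtCoh.H X' G q)) : Subsingleton (EtCoh.H X ((EtCoh.push f).obj G) q) := by
  haveI := EtPushExact.push_preservesFiniteLimits f
  haveI := EtPushExact.push_preservesFiniteColimits f
  exact subsingleton_ext_of_exact (EtCoh.push f) (fun I _ => InjPull.injective_push f I)
    (EtCoh.const X' ℤ) (EtCoh.const X ℤ) (βZ f) (βZ_natural f) q G h

theorem subsingleton_H_of_cover [IsFinite f] [Etale f] (d : ℕ) (hd : ∀ x : X, f.finrank x = d)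
    (F : EtCoh.Ab X) (hiso : IsIso (d • 𝟙 F)) (q : ℕ)
    (h : Subsingleton (EtCoh.H X' ((EtCoh.pull f).obj F) q)) : Subsingleton (EtCoh.H X F q) := by
  have hP := subsingleton_H_push f _ q h
  have htr := trace_formula f d hd F
  let u := (EtCoh.pullPushAdj f).unit.app F
  let t := (traceAdj f).counit.app F
  haveI : IsIso ((EtCoh.HF X q).map (u ≫ t)) := by
    rw [htr]; infer_instance
  have hbij : Function.Bijective ((EtCoh.HF X q).map (u ≫ t)) :=
    (ConcreteCategory.isIso_iff_bijective _).1 inferInstance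
  refine ⟨fun x y => hbij.1 ?_⟩
  rw [Functor.map_comp, ConcreteCategory.comp_apply, ConcreteCategory.comp_apply]
  congr 1
  exact hP.elim _ _

end Groth.Agent.Lib.Helper57.TR
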