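import Groth.Agent.Lib.Helper57.FlatThick
import Mathlib.AlgebraicGeometry.Morphisms.Etale
import Mathlib.AlgebraicGeometry.Morphisms.Integral

/-!
# Étale morphisms and universal homeomorphisms

`existsUnique_lift_uh`: étale morphisms have the unique lifting property against universal
homeomorphisms (integral, universally injective, surjective morphisms).
-/

set_option autoImplicit false

universe u

open AlgebraicGeometry CategoryTheory Limits

namespace Groth.Agent.Lib.Helper57.UnivHomeo

open Groth.Agent.Lib.Helper57.FlatThick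

/-- Universal homeomorphisms: integral, universally injective and surjective morphisms. -/
structure IsUH {T T' : Scheme.{u}} (t : T ⟶ T') : Prop where
  integral : IsIntegralHom t
  inj : UniversallyInjective t
  surj : Surjective t

theorem IsUH.mk' {T T' : Scheme.{u}} (t : T ⟶ T') [IsIntegralHom t] [UniversallyInjective t]
    [Surjective t] : IsUH t := ⟨inferInstance, inferInstance, inferInstance⟩

theorem IsUH.baseChange {X X' T P : Scheme.{u}} {i : X ⟶ X'} (h : IsUH i)
    {g : T ⟶ X'} {fst : P ⟶ X} {snd : P ⟶ T} (sq : IsPullback fst snd i g) : IsUH snd :=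
  ⟨MorphismProperty.of_isPullback (P := @IsIntegralHom) sq h.1,
    MorphismProperty.of_isPullback (P := @UniversallyInjective) sq h.2,
    MorphismProperty.of_isPullback (P := @Surjective) sq h.3⟩

theorem IsUH.bijective {Z Z' : Scheme.{u}} {i : Z ⟶ Z'} (hi : IsUH i) : Function.Bijective i :=
  have := hi.2
  have := hi.3
  ⟨i.injective, i.surjective⟩

theorem IsUH.isClosedMap {Z Z' : Scheme.{u}} {i : Z ⟶ Z'} (hi : IsUH i) : IsClosedMap i :=
  have := hi.1
  i.isClosedMap

/-- The open subset of the target of a universal homeomorphism corresponding to an open subset of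
the source. -/
def uhOpen {Z Z' : Scheme.{u}} (i : Z ⟶ Z') (hi : IsUH i) (U : Z.Opens) : Z'.Opens :=
  ⟨i '' (U : Set Z), by
    rw [← isClosed_compl_iff, ← Set.image_compl_eq hi.bijective]
    exact hi.isClosedMap _ (isClosed_compl_iff.mpr U.2)⟩

theorem preimage_uhOpen {Z Z' : Scheme.{u}} (i : Z ⟶ Z') (hi : IsUH i)
    (U : Z.Opens) : i ⁻¹ᵁ (uhOpen i hi U) = U := by
  ext z
  exact hi.bijective.1.mem_set_image

theorem mem_uhOpen {Z Z' : Scheme.{u}} (i : Z ⟶ Z') (hi : IsUH i)
    (U : Z.Opens) (z : Z) : i z ∈ uhOpen i hi U ↔ z ∈ U :=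
  hi.bijective.1.mem_set_image

/-- If `σ ≫ q` is universally injective and `σ` is surjective then `q` is universally injective. -/
theorem universallyInjective_of_comp {A B C : Scheme.{u}} (σ : A ⟶ B) (q : B ⟶ C)
    [Surjective σ] [UniversallyInjective (σ ≫ q)] : UniversallyInjective q := by
  rw [universallyInjective_eq]
  intro B' C' i₁ i₂ q' hpb a b hab
  obtain ⟨a', rfl⟩ := (pullback.snd σ i₁).surjective a
  obtain ⟨b', rfl⟩ := (pullback.snd σ i₁).surjective b
  have big : IsPullback (pullback.snd σ i₁ ≫ q') (pullback.fst σ i₁) i₂ (σ ≫ q) :=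
    (IsPullback.of_hasPullback σ i₁).flip.paste_horiz hpb
  have : UniversallyInjective (pullback.snd σ i₁ ≫ q') :=
    MorphismProperty.of_isPullback (P := @UniversallyInjective) big.flip ‹_›
  have hab' : (pullback.snd σ i₁ ≫ q') a' = (pullback.snd σ i₁ ≫ q') b' := hab
  rw [(pullback.snd σ i₁ ≫ q').injective hab']

theorem isIso_of_uh {U T T' : Scheme.{u}} (u : U ⟶ T') (s : T ⟶ U) (t : T ⟶ T')
    (hst : s ≫ u = t) (hs : Surjective s) (ht : IsUH t) [Etale u] : IsIso u := by
  subst hst
  have := ht.2
  have := ht.3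
  have hui : UniversallyInjective u := universallyInjective_of_comp s u
  have hsurj : Surjective u := ⟨fun y => by
    obtain ⟨w, rfl⟩ := (s ≫ u).surjective y
    exact ⟨s w, rfl⟩⟩
  have hdiag : Surjective (pullback.diagonal u) := (UniversallyInjective.iff_diagonal u).mp hui
  have hiso : IsIso (pullback.diagonal u) :=
    (isIso_iff_isOpenImmersion_and_surjective _).mpr ⟨inferInstance, hdiag⟩
  have : Mono u := (pullback.isIso_diagonal_iff u).mp hiso
  have : IsOpenImmersion u := IsOpenImmersion.of_flat_of_mono u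
  exact (isIso_iff_isOpenImmersion_and_surjective _).mpr ⟨inferInstance, hsurj⟩

/-- Étale morphisms have the unique lifting property against universal homeomorphisms. -/
theorem existsUnique_lift_uh {X S T T' : Scheme.{u}} (f : X ⟶ S) [Etale f]
    (t : T ⟶ T') (ht : IsUH t) (a : T ⟶ X) (b : T' ⟶ S)
    (hab : t ≫ b = a ≫ f) : ∃! l : T' ⟶ X, t ≫ l = a ∧ l ≫ f = b := by
  have htsurj : Surjective t := ht.3
  have hc : IsUH (pullback.fst (pullback.snd f b) t) :=
    ht.baseChange (IsPullback.of_hasPullback (pullback.snd f b) t).flip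
  have hσT1 : pullback.lift (pullback.lift a t hab.symm) (𝟙 _) (by
      rw [pullback.lift_snd, Category.id_comp]) ≫ pullback.snd (pullback.snd f b) t = 𝟙 _ :=
    pullback.lift_snd _ _ _
  have hσT2 : pullback.lift (pullback.lift a t hab.symm) (𝟙 _) (by
      rw [pullback.lift_snd, Category.id_comp]) ≫ pullback.fst (pullback.snd f b) t =
      pullback.lift a t hab.symm :=
    pullback.lift_fst _ _ _
  generalize pullback.lift (pullback.lift a t hab.symm) (𝟙 _) (by
      rw [pullback.lift_snd, Category.id_comp]) = σT at hσT1 hσT2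
  have hσ1 : pullback.lift a t hab.symm ≫ pullback.fst f b = a := pullback.lift_fst _ _ _
  have hσ2 : pullback.lift a t hab.symm ≫ pullback.snd f b = t := pullback.lift_snd _ _ _
  generalize pullback.lift a t hab.symm = σ at hσT2 hσ1 hσ2
  have : Etale (pullback.snd f b) :=
    MorphismProperty.pullback_snd (P := @Etale) f b inferInstance
  have : Etale (pullback.snd (pullback.snd f b) t) :=
    MorphismProperty.pullback_snd (P := @Etale) _ _ inferInstance
  have hpost : MorphismProperty.HasOfPostcompProperty @IsOpenImmersion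
      (@LocallyOfFiniteType ⊓ @FormallyUnramified) := by
    rw [MorphismProperty.hasOfPostcompProperty_iff_le_diagonal]
    intro X Y g ⟨hft, hfu⟩
    exact inferInstanceAs (IsOpenImmersion (pullback.diagonal g))
  have hσTopen : IsOpenImmersion σT :=
    MorphismProperty.of_postcomp (W := @IsOpenImmersion)
      (W' := @LocallyOfFiniteType ⊓ @FormallyUnramified) σT
      (pullback.snd (pullback.snd f b) t) ⟨inferInstance, inferInstance⟩ (by
        rw [hσT1]; exact inferInstanceAs (IsOpenImmersion (𝟙 _)))
  have hmem := mem_uhOpen _ hc σT.opensRange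
  have hpre := preimage_uhOpen _ hc σT.opensRange
  generalize uhOpen _ hc σT.opensRange = U at hmem hpre
  have hr : Set.range σ ⊆ Set.range U.ι := by
    rintro _ ⟨x, rfl⟩
    rw [Scheme.Opens.range_ι, ← hσT2]
    exact (hmem (σT x)).mpr ⟨x, rfl⟩
  have hσ' : IsOpenImmersion.lift U.ι σ hr ≫ U.ι = σ := IsOpenImmersion.lift_fac _ _ _
  generalize IsOpenImmersion.lift U.ι σ hr = σ' at hσ'
  have sq1 : IsPullback σ' σT U.ι (pullback.fst (pullback.snd f b) t) :=
    IsOpenImmersion.isPullback σ' σT U.ι _ (by rw [hσT2, hσ']) (by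
      rw [Scheme.Opens.opensRange_ι, hpre])
  have hσ'th : IsUH σ' := hc.baseChange sq1.flip
  have hst : σ' ≫ (U.ι ≫ pullback.snd f b) = t := by
    rw [← Category.assoc, hσ', hσ2]
  have hiso : IsIso (U.ι ≫ pullback.snd f b) := isIso_of_uh _ σ' t hst hσ'th.3 ht
  have h1 : t ≫ inv (U.ι ≫ pullback.snd f b) = σ' := by
    rw [← hst, Category.assoc, IsIso.hom_inv_id, Category.comp_id]
  refine ⟨inv (U.ι ≫ pullback.snd f b) ≫ U.ι ≫ pullback.fst f b, ⟨?_, ?_⟩, ?_⟩
  · rw [← Category.assoc, h1, ← Category.assoc, hσ', hσ1]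
  · rw [Category.assoc, Category.assoc, pullback.condition, ← Category.assoc U.ι,
      IsIso.inv_hom_id_assoc]
  · rintro l' ⟨hl'1, hl'2⟩
    apply eq_of_surjective_comp_eq f t
    · rw [hl'1, ← Category.assoc, h1, ← Category.assoc, hσ', hσ1]
    · rw [hl'2, Category.assoc, Category.assoc, pullback.condition, ← Category.assoc U.ι,
        IsIso.inv_hom_id_assoc]

end Groth.Agent.Lib.Helper57.UnivHomeo
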