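import Groth.Agent.Lib.Helper57.EtRes2
import Groth.Prelude.Def_MoreMor

universe u

open CategoryTheory CategoryTheory.Limits AlgebraicGeometry TopologicalSpace

namespace Groth.Agent.Lib.Helper57.Wt

/-- Regrouping a `finsum` over a sigma type with finite nonempty fibres. -/
theorem finsum_sigma_const {α : Type*} {β : α → Type*} [∀ a, Finite (β a)] [∀ a, Nonempty (β a)]
    (F : α → ℤ) :
    ∑ᶠ p : Σ a, β a, F p.1 = ∑ᶠ a, (Nat.card (β a) : ℤ) * F a := by
  classical
  have hcard : ∀ a, (Nat.card (β a) : ℤ) ≠ 0 := fun a => by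
    have : Nat.card (β a) ≠ 0 := Nat.card_ne_zero.mpr ⟨inferInstance, inferInstance⟩
    exact_mod_cast this
  have hsupp : Function.support (fun a => (Nat.card (β a) : ℤ) * F a) = Function.support F := by
    ext a
    simp only [Function.mem_support, ne_eq, mul_eq_zero, hcard a, false_or]
  by_cases hS : (Function.support F).Finite
  · have : ∀ a, Fintype (β a) := fun a => Fintype.ofFinite _
    rw [finsum_eq_sum_of_support_subset (s := hS.toFinset.sigma (fun a => Finset.univ))]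
    · rw [finsum_eq_sum_of_support_subset (s := hS.toFinset)]
      · rw [Finset.sum_sigma]
        refine Finset.sum_congr rfl fun a _ => ?_
        simp [Nat.card_eq_fintype_card]
      · rw [hsupp]; simp
    · intro p hp
      simp only [Finset.coe_sigma, Set.Finite.coe_toFinset, Finset.coe_univ, Set.mem_sigma_iff,
        Set.mem_univ, and_true]
      exact hp
  · rw [finsum_of_infinite_support, finsum_of_infinite_support]
    · rw [hsupp]; exact hS
    · intro hfin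
      apply hS
      refine (hfin.image Sigma.fst).subset ?_
      intro a ha
      obtain ⟨b⟩ := (inferInstance : Nonempty (β a))
      exact ⟨⟨a, b⟩, ha, rfl⟩

section GeomPoints

variable {Ω : Type u} [Field Ω]

/-- The image point of a geometric point. -/
noncomputable abbrev gpt {X : Scheme.{u}} (ζ : Spec (.of Ω) ⟶ X) : X :=
  ζ (IsLocalRing.closedPoint Ω)

/-- The residue field embedding of a geometric point. -/
noncomputable def gemb {X : Scheme.{u}} (ζ : Spec (.of Ω) ⟶ X) :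
    X.residueField (gpt ζ) ⟶ .of Ω :=
  X.descResidueField (Scheme.stalkClosedPointTo ζ)

theorem specToEquivOfField_apply {X : Scheme.{u}} (ζ : Spec (.of Ω) ⟶ X) :
    Scheme.SpecToEquivOfField Ω X ζ = ⟨gpt ζ, gemb ζ⟩ := rfl

theorem gpt_comp {X Y : Scheme.{u}} (ζ : Spec (.of Ω) ⟶ X) (π : X ⟶ Y) :
    gpt (ζ ≫ π) = π (gpt ζ) := rfl

theorem gemb_comp {X Y : Scheme.{u}} (ζ : Spec (.of Ω) ⟶ X) (π : X ⟶ Y) :
    gemb (ζ ≫ π) = π.residueFieldMap (gpt ζ) ≫ gemb ζ :=
  Scheme.descResidueField_stalkClosedPointTo_comp π ζ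

theorem comp_eq_iff {U V : Scheme.{u}} (ζ : Spec (.of Ω) ⟶ U) (π : U ⟶ V)
    (ξ : Spec (.of Ω) ⟶ V) :
    ζ ≫ π = ξ ↔ ∃ e : π (gpt ζ) = gpt ξ,
      π.residueFieldMap (gpt ζ) ≫ gemb ζ = (V.residueFieldCongr e).hom ≫ gemb ξ := by
  rw [← (Scheme.SpecToEquivOfField Ω V).injective.eq_iff, specToEquivOfField_apply,
    specToEquivOfField_apply, Scheme.SpecToEquivOfField_eq_iff]
  constructor
  · rintro ⟨e, h⟩
    refine ⟨e, ?_⟩
    rw [← gemb_comp]
    exact h
  · rintro ⟨e, h⟩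
    refine ⟨e, ?_⟩
    show gemb (ζ ≫ π) = _
    rw [gemb_comp]
    exact h

/-- The set of embeddings of `κ(u)` into `Ω` compatible with a geometric point `ξ` of `V`. -/
abbrev Emb {U V : Scheme.{u}} (π : U ⟶ V) (ξ : Spec (.of Ω) ⟶ V) (u : {u : U // π u = gpt ξ}) :
    Type u :=
  {σ : U.residueField u.1 ⟶ .of Ω //
    π.residueFieldMap u.1 ≫ σ = (V.residueFieldCongr u.2).hom ≫ gemb ξ}

/-- Forgetting the compatibility proofs. -/
def embForget {U V : Scheme.{u}} (π : U ⟶ V) (ξ : Spec (.of Ω) ⟶ V) :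
    (Σ u : {u : U // π u = gpt ξ}, Emb π ξ u) → Σ u : U, (U.residueField u ⟶ .of Ω) :=
  fun q => ⟨q.1.1, q.2.1⟩

theorem embForget_injective {U V : Scheme.{u}} (π : U ⟶ V) (ξ : Spec (.of Ω) ⟶ V) :
    Function.Injective (embForget π ξ) := by
  rintro ⟨⟨u₁, h₁⟩, ⟨σ₁, k₁⟩⟩ ⟨⟨u₂, h₂⟩, ⟨σ₂, k₂⟩⟩ h
  simp only [embForget, Sigma.mk.injEq] at h
  obtain ⟨rfl, h⟩ := h
  obtain rfl := eq_of_heq h
  rfl

/-- Lifts of a geometric point `ξ` of `V` to `U` correspond to points `u` over its image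
together with a compatible embedding of `κ(u)` into `Ω`. -/
noncomputable def liftMap {U V : Scheme.{u}} (π : U ⟶ V) (ξ : Spec (.of Ω) ⟶ V) :
    {ζ : Spec (.of Ω) ⟶ U // ζ ≫ π = ξ} → Σ u : {u : U // π u = gpt ξ}, Emb π ξ u :=
  fun ζ => ⟨⟨gpt ζ.1, ((comp_eq_iff ζ.1 π ξ).mp ζ.2).choose⟩,
    ⟨gemb ζ.1, ((comp_eq_iff ζ.1 π ξ).mp ζ.2).choose_spec⟩⟩

theorem embForget_liftMap {U V : Scheme.{u}} (π : U ⟶ V) (ξ : Spec (.of Ω) ⟶ V)
    (ζ : {ζ : Spec (.of Ω) ⟶ U // ζ ≫ π = ξ}) :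
    embForget π ξ (liftMap π ξ ζ) = Scheme.SpecToEquivOfField Ω U ζ.1 := rfl

theorem liftMap_bijective {U V : Scheme.{u}} (π : U ⟶ V) (ξ : Spec (.of Ω) ⟶ V) :
    Function.Bijective (liftMap π ξ) := by
  constructor
  · intro ζ₁ ζ₂ h
    have h1 := congrArg (embForget π ξ) h
    rw [embForget_liftMap, embForget_liftMap] at h1
    exact Subtype.ext ((Scheme.SpecToEquivOfField Ω U).injective h1)
  · rintro ⟨⟨u, hu⟩, ⟨σ, hσ⟩⟩
    have h1 : Scheme.SpecToEquivOfField Ω U ((Scheme.SpecToEquivOfField Ω U).symm ⟨u, σ⟩) =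
        ⟨u, σ⟩ := Equiv.apply_symm_apply _ _
    have h2 : (Scheme.SpecToEquivOfField Ω U).symm ⟨u, σ⟩ ≫ π = ξ := by
      rw [comp_eq_iff]
      rw [specToEquivOfField_apply] at h1
      generalize (Scheme.SpecToEquivOfField Ω U).symm ⟨u, σ⟩ = ζ at h1
      rw [Sigma.mk.injEq] at h1
      obtain ⟨h3, h4⟩ := h1
      revert h4
      generalize gemb ζ = σ'
      revert σ'
      rw [h3]
      intro σ' h4
      obtain rfl := eq_of_heq h4
      exact ⟨hu, hσ⟩
    refine ⟨⟨_, h2⟩, ?_⟩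
    apply embForget_injective
    rw [embForget_liftMap]
    exact h1

theorem liftMap_apply_fst {U V : Scheme.{u}} (π : U ⟶ V) (ξ : Spec (.of Ω) ⟶ V)
    (ζ : {ζ : Spec (.of Ω) ⟶ U // ζ ≫ π = ξ}) : (liftMap π ξ ζ).1.1 = gpt ζ.1 := rfl

/-- compatible embeddings are algebra homomorphisms -/
noncomputable def embEquivAlgHom {U V : Scheme.{u}} (π : U ⟶ V) (ξ : Spec (.of Ω) ⟶ V)
    (u : {u : U // π u = gpt ξ}) :
    letI := (π.residueFieldMap u.1).hom.toAlgebra
    letI : Algebra (V.residueField (π u.1)) Ω :=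
      ((V.residueFieldCongr u.2).hom ≫ gemb ξ).hom.toAlgebra
    Emb π ξ u ≃ (U.residueField u.1 →ₐ[V.residueField (π u.1)] Ω) :=
  letI := (π.residueFieldMap u.1).hom.toAlgebra
  letI : Algebra (V.residueField (π u.1)) Ω :=
    ((V.residueFieldCongr u.2).hom ≫ gemb ξ).hom.toAlgebra
  { toFun := fun σ => { σ.1.hom with commutes' := fun r => congr($(σ.2).hom r) }
    invFun := fun φ => ⟨CommRingCat.ofHom φ.toRingHom, by
      ext r
      exact φ.commutes r⟩
    left_inv := fun σ => rfl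
    right_inv := fun φ => rfl }

/-- **Geometric point formula for fibre integrals.** -/
theorem fibreIntegral_eq_finsum_lifts [IsAlgClosed Ω] {U V : Scheme.{u}} (π : U ⟶ V)
    (hπ : ∀ u, (π.residueFieldMap u).hom.Finite) (w : U → ℤ) (ξ : Spec (.of Ω) ⟶ V) :
    MoreMor.fibreIntegral π w (gpt ξ) =
      ∑ᶠ ζ : {ζ : Spec (.of Ω) ⟶ U // ζ ≫ π = ξ}, w (gpt ζ.1) := by
  have hcard : ∀ u : {u : U // π u = gpt ξ},
      Finite (Emb π ξ u) ∧ Nonempty (Emb π ξ u) ∧
      Nat.card (Emb π ξ u) = (letI := (π.residueFieldMap u.1).hom.toAlgebra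
        Field.finSepDegree (V.residueField (π u.1)) (U.residueField u.1)) := by
    intro u
    letI := (π.residueFieldMap u.1).hom.toAlgebra
    letI : Algebra (V.residueField (π u.1)) Ω :=
      ((V.residueFieldCongr u.2).hom ≫ gemb ξ).hom.toAlgebra
    have : FiniteDimensional (V.residueField (π u.1)) (U.residueField u.1) := hπ u.1
    have h1 : Field.finSepDegree (V.residueField (π u.1)) (U.residueField u.1) =
        Nat.card (U.residueField u.1 →ₐ[V.residueField (π u.1)] Ω) :=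
      Field.finSepDegree_eq_of_isAlgClosed _ _ Ω
    have h2 : Nat.card (Emb π ξ u) =
        Nat.card (U.residueField u.1 →ₐ[V.residueField (π u.1)] Ω) :=
      Nat.card_congr (embEquivAlgHom π ξ u)
    have h3 : Field.finSepDegree (V.residueField (π u.1)) (U.residueField u.1) ≠ 0 :=
      NeZero.ne _
    have h4 : Nat.card (Emb π ξ u) ≠ 0 := by rw [h2, ← h1]; exact h3
    obtain ⟨h5, h6⟩ := Nat.card_ne_zero.mp h4
    exact ⟨h6, h5, h2.trans h1.symm⟩
  have : ∀ u, Finite (Emb π ξ u) := fun u => (hcard u).1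
  have : ∀ u, Nonempty (Emb π ξ u) := fun u => (hcard u).2.1
  have h1 : ∑ᶠ ζ : {ζ : Spec (.of Ω) ⟶ U // ζ ≫ π = ξ}, w (gpt ζ.1) =
      ∑ᶠ q : Σ u : {u : U // π u = gpt ξ}, Emb π ξ u, w q.1.1 :=
    finsum_eq_of_bijective (liftMap π ξ) (liftMap_bijective π ξ) (fun ζ => rfl)
  rw [h1, finsum_sigma_const (fun u : {u : U // π u = gpt ξ} => w u.1)]
  unfold MoreMor.fibreIntegral
  refine finsum_congr fun u => ?_
  rw [(hcard u).2.2, mul_comm]

/-- Every point is the image of a geometric point with algebraically closed field. -/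
theorem exists_geomPoint {V : Scheme.{u}} (v : V) :
    ∃ (Ω : Type u) (_ : Field Ω) (_ : IsAlgClosed Ω) (ξ : Spec (.of Ω) ⟶ V), gpt ξ = v := by
  refine ⟨AlgebraicClosure (V.residueField v), inferInstance, inferInstance,
    Spec.map (CommRingCat.ofHom (algebraMap (V.residueField v)
      (AlgebraicClosure (V.residueField v)))) ≫ V.fromSpecResidueField v, ?_⟩
  rw [gpt_comp]
  exact Scheme.fromSpecResidueField_apply _ _

/-- Lifts of geometric points along a base change. -/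
noncomputable def liftsBaseChange {U V U' V' : Scheme.{u}} {π : U ⟶ V} {π' : U' ⟶ V'}
    {h : U' ⟶ U} {g : V' ⟶ V} (hc : IsPullback h π' π g) (ξ' : Spec (.of Ω) ⟶ V') :
    {ζ' : Spec (.of Ω) ⟶ U' // ζ' ≫ π' = ξ'} ≃ {ζ : Spec (.of Ω) ⟶ U // ζ ≫ π = ξ' ≫ g} where
  toFun ζ' := ⟨ζ'.1 ≫ h, by rw [Category.assoc, hc.w, ← Category.assoc, ζ'.2]⟩
  invFun ζ := ⟨hc.lift ζ.1 ξ' ζ.2, hc.lift_snd _ _ _⟩
  left_inv ζ' := by
    apply Subtype.ext
    apply hc.hom_ext
    · simp
    · simp [ζ'.2]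
  right_inv ζ := by
    apply Subtype.ext
    simp

theorem fibreIntegral_baseChange_gpt [IsAlgClosed Ω] {U V U' V' : Scheme.{u}} {π : U ⟶ V}
    {π' : U' ⟶ V'} {h : U' ⟶ U} {g : V' ⟶ V} (hc : IsPullback h π' π g)
    (hπ : ∀ u, (π.residueFieldMap u).hom.Finite) (hπ' : ∀ u, (π'.residueFieldMap u).hom.Finite)
    (w : U → ℤ) (ξ' : Spec (.of Ω) ⟶ V') :
    MoreMor.fibreIntegral π' (w ∘ h) (gpt ξ') = MoreMor.fibreIntegral π w (g (gpt ξ')) := by
  rw [← gpt_comp, fibreIntegral_eq_finsum_lifts π' hπ', fibreIntegral_eq_finsum_lifts π hπ]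
  exact finsum_eq_of_bijective (liftsBaseChange hc ξ') (liftsBaseChange hc ξ').bijective
    (fun ζ' => rfl)

theorem fibreIntegral_baseChange {U V U' V' : Scheme.{u}} {π : U ⟶ V}
    {π' : U' ⟶ V'} {h : U' ⟶ U} {g : V' ⟶ V} (hc : IsPullback h π' π g)
    (hπ : ∀ u, (π.residueFieldMap u).hom.Finite) (hπ' : ∀ u, (π'.residueFieldMap u).hom.Finite)
    (w : U → ℤ) (v' : V') :
    MoreMor.fibreIntegral π' (w ∘ h) v' = MoreMor.fibreIntegral π w (g v') := by
  obtain ⟨Ω, _, _, ξ', rfl⟩ := exists_geomPoint v'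
  exact fibreIntegral_baseChange_gpt hc hπ hπ' w ξ'

/-- Finite residue field extensions for locally quasi-finite morphisms. -/
theorem finite_residueFieldMap {U V : Scheme.{u}} (π : U ⟶ V) [LocallyQuasiFinite π]
    [LocallyOfFiniteType π] (u : U) : (π.residueFieldMap u).hom.Finite :=
  EtRes.finite_residueFieldMap_of_quasiFiniteAt π u (π.quasiFiniteAt u)

theorem fibreIntegral_baseChange_lqf {U V U' V' : Scheme.{u}} (π : U ⟶ V)
    [LocallyQuasiFinite π] [LocallyOfFiniteType π]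
    (π' : U' ⟶ V') (h : U' ⟶ U) (g : V' ⟶ V) (hc : IsPullback h π' π g) (w : U → ℤ) (v' : V') :
    MoreMor.fibreIntegral π' (w ∘ h) v' = MoreMor.fibreIntegral π w (g v') := by
  have : LocallyQuasiFinite π' := MorphismProperty.of_isPullback hc inferInstance
  have : LocallyOfFiniteType π' := MorphismProperty.of_isPullback hc inferInstance
  exact fibreIntegral_baseChange hc (finite_residueFieldMap π) (finite_residueFieldMap π') w v'

end GeomPoints

end Groth.Agent.Lib.Helper57.Wt
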