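import Groth.Agent.Lib.Helper57.Wt9
import Mathlib.AlgebraicGeometry.Morphisms.FlatDescent

universe u

open CategoryTheory CategoryTheory.Limits AlgebraicGeometry TopologicalSpace

namespace Groth.Agent.Lib.Helper57.Wt

/-- A map which is closed on each member of a finite open cover is closed. -/
theorem isClosedMap_of_finite_cover {A B : Type*} [TopologicalSpace A] [TopologicalSpace B]
    (g : A → B) {K : Type*} [Finite K] (W : K → Set A) (hcov : ∀ x, ∃ k, x ∈ W k)
    (hcl : ∀ k, IsClosedMap (fun x : W k => g x.1)) : IsClosedMap g := by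
  intro Z hZ
  have : g '' Z = ⋃ k, (fun x : W k => g x.1) '' (Subtype.val ⁻¹' Z) := by
    ext b
    simp only [Set.mem_image, Set.mem_iUnion, Set.mem_preimage, Subtype.exists, exists_and_right,
      exists_prop]
    constructor
    · rintro ⟨x, hx, rfl⟩
      obtain ⟨k, hk⟩ := hcov x
      exact ⟨k, x, ⟨hk, hx⟩, rfl⟩
    · rintro ⟨k, x, ⟨-, hx⟩, rfl⟩
      exact ⟨x, hx, rfl⟩
  rw [this]
  exact isClosed_iUnion_of_finite fun k => hcl k _ (hZ.preimage continuous_subtype_val)

/-- A morphism whose source is covered by finitely many opens, each finite over the target, is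
universally closed. -/
theorem universallyClosed_of_finite_cover {P B : Scheme.{u}} (g : P ⟶ B) {K : Type*} [Finite K]
    (U : K → P.Opens) (hU : ∀ k, IsFinite ((U k).ι ≫ g)) (hcov : ∀ p : P, ∃ k, p ∈ U k) :
    UniversallyClosed g := by
  rw [universallyClosed_eq]
  apply MorphismProperty.universally_mk'
  intro T t _
  let W : K → (pullback t g).Opens := fun k => pullback.snd t g ⁻¹ᵁ U k
  have hW : ∀ k, IsFinite ((W k).ι ≫ pullback.fst t g) := by
    intro k
    have sq := (isPullback_morphismRestrict (pullback.snd t g) (U k)).paste_vert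
      (IsPullback.of_hasPullback t g).flip
    exact MorphismProperty.of_isPullback sq (hU k)
  apply isClosedMap_of_finite_cover _ (fun k => (W k : Set ↑(pullback t g)))
  · intro x
    obtain ⟨k, hk⟩ := hcov (pullback.snd t g x)
    exact ⟨k, hk⟩
  · intro k
    have := hW k
    exact ((W k).ι ≫ pullback.fst t g).isClosedMap

/-- Descent of universal closedness from an étale neighbourhood over which the morphism is
covered by finitely many finite pieces. -/
theorem exists_universallyClosed_restrict {X Y V₀ : Scheme.{u}} (f : X ⟶ Y) (a : V₀ ⟶ Y) [Etale a]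
    (N : V₀.Opens) {K : Type*} [Finite K] (U : K → (pullback f a).Opens)
    (hU : ∀ k, IsFinite ((U k).ι ≫ pullback.snd f a))
    (hcov : ∀ p : ↑(pullback f a), pullback.snd f a p ∈ N → ∃ k, p ∈ U k) :
    ∃ O : Y.Opens, (O : Set Y) = a '' N ∧ UniversallyClosed (f ∣_ O) := by
  let b : (N : Scheme.{u}) ⟶ Y := N.ι ≫ a
  let O : Y.Opens := ⟨a '' N, a.isOpenMap _ N.2⟩
  refine ⟨O, rfl, ?_⟩
  -- step 1: the base change to `N` is universally closed
  let m : pullback f b ⟶ pullback f a :=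
    pullback.lift (pullback.fst f b) (pullback.snd f b ≫ N.ι)
      (by rw [Category.assoc]; exact pullback.condition)
  have hm1 : m ≫ pullback.fst f a = pullback.fst f b := pullback.lift_fst _ _ _
  have hm2 : m ≫ pullback.snd f a = pullback.snd f b ≫ N.ι := pullback.lift_snd _ _ _
  have sqm : IsPullback m (pullback.snd f b) (pullback.snd f a) N.ι := by
    refine IsPullback.of_right ?_ hm2 (IsPullback.of_hasPullback f a)
    rw [hm1]
    exact IsPullback.of_hasPullback f b
  have huc : UniversallyClosed (pullback.snd f b) := by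
    apply universallyClosed_of_finite_cover (pullback.snd f b) (fun k => m ⁻¹ᵁ U k)
    · intro k
      have sq := (isPullback_morphismRestrict m (U k)).paste_vert sqm
      exact MorphismProperty.of_isPullback sq (hU k)
    · intro p
      obtain ⟨k, hk⟩ := hcov (m p) (by
        show (m ≫ pullback.snd f a) p ∈ N
        rw [hm2]
        exact (pullback.snd f b p).2)
      exact ⟨k, hk⟩
  -- step 2: descent along `N ⟶ O`
  have hrange : Set.range b ⊆ Set.range O.ι := by
    rintro _ ⟨v, rfl⟩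
    rw [Scheme.Opens.range_ι]
    exact ⟨v.1, v.2, rfl⟩
  let aN : (N : Scheme.{u}) ⟶ O := IsOpenImmersion.lift O.ι b hrange
  have haN : aN ≫ O.ι = b := IsOpenImmersion.lift_fac _ _ _
  have hrange' : Set.range (pullback.fst f b) ⊆ Set.range (f ⁻¹ᵁ O).ι := by
    rintro _ ⟨p, rfl⟩
    rw [Scheme.Opens.range_ι]
    show f (pullback.fst f b p) ∈ O
    have : f (pullback.fst f b p) = b (pullback.snd f b p) :=
      congr($(pullback.condition (f := f) (g := b)) p)
    rw [this]
    exact ⟨(pullback.snd f b p).1, (pullback.snd f b p).2, rfl⟩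
  let m' : pullback f b ⟶ (f ⁻¹ᵁ O : Scheme.{u}) :=
    IsOpenImmersion.lift (f ⁻¹ᵁ O).ι (pullback.fst f b) hrange'
  have hm' : m' ≫ (f ⁻¹ᵁ O).ι = pullback.fst f b := IsOpenImmersion.lift_fac _ _ _
  have hcomm : m' ≫ f ∣_ O = pullback.snd f b ≫ aN := by
    rw [← cancel_mono O.ι, Category.assoc, morphismRestrict_ι, ← Category.assoc, hm',
      Category.assoc, haN]
    exact pullback.condition
  have sq' : IsPullback m' (pullback.snd f b) (f ∣_ O) aN := by
    refine IsPullback.of_right ?_ hcomm (isPullback_morphismRestrict f O).flip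
    rw [hm', haN]
    exact IsPullback.of_hasPullback f b
  have hsurj : Surjective aN := by
    constructor
    rintro ⟨y, v, hv, rfl⟩
    refine ⟨⟨v, hv⟩, ?_⟩
    apply O.ι.isOpenEmbedding.injective
    show (aN ≫ O.ι) ⟨v, hv⟩ = _
    rw [haN]
    rfl
  have hetale : Etale aN := by
    have : Etale (aN ≫ O.ι) := by rw [haN]; infer_instance
    exact MorphismProperty.of_postcomp (W := @Etale) (W' := @Etale) aN O.ι inferInstance this
  exact MorphismProperty.of_isPullback_of_descendsAlong (P := @UniversallyClosed)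
    (Q := @Surjective ⊓ @Flat ⊓ @LocallyOfFinitePresentation) sq'.flip
    ⟨⟨hsurj, inferInstance⟩, inferInstance⟩ huc

theorem finsum_le_finsum_of_finite {K : Type*} [Finite K] {a b : K → ℤ} (h : ∀ k, a k ≤ b k) :
    ∑ᶠ k, a k ≤ ∑ᶠ k, b k := by
  have := Fintype.ofFinite K
  rw [finsum_eq_sum_of_fintype, finsum_eq_sum_of_fintype]
  exact Finset.sum_le_sum fun k _ => h k

/-- Counting lemma: étale locally around `y` the number of geometric points of the fibres is at
least the number at `y`, provided the morphism is universally open at the points over `y`. -/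
theorem exists_count_pieces {X Y : Scheme.{u}} (f : X ⟶ Y) [LocallyQuasiFinite f]
    [LocallyOfFiniteType f] [IsSeparated f] (hfin : ∀ y : Y, (f ⁻¹' {y}).Finite) (y : Y)
    (hopen : ∀ (V : Scheme.{u}) (a : V ⟶ Y) [Etale a] (u : ↑(pullback f a)),
      f (pullback.fst f a u) = y → ∀ S ∈ nhds u,
        pullback.snd f a '' S ∈ nhds (pullback.snd f a u)) :
    ∃ (V₀ : Scheme.{u}) (a : V₀ ⟶ Y) (v₀ : V₀), Etale a ∧ a v₀ = y ∧
      ∃ (K : Type) (_ : Finite K) (U : K → (pullback f a).Opens),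
        (∀ k, IsFinite ((U k).ι ≫ pullback.snd f a)) ∧
        ∃ N : V₀.Opens, v₀ ∈ N ∧ ∀ v ∈ N,
          MoreMor.fibreIntegral f (fun _ => 1) y ≤ MoreMor.fibreIntegral f (fun _ => 1) (a v) ∧
          (MoreMor.fibreIntegral f (fun _ => 1) (a v) = MoreMor.fibreIntegral f (fun _ => 1) y →
            ∀ p : ↑(pullback f a), pullback.snd f a p = v → ∃ k, p ∈ U k) := by
  have : Finite ↥(f ⁻¹' {y}) := (hfin y).to_subtype
  obtain ⟨n, ⟨e⟩⟩ := Finite.exists_equiv_fin ↥(f ⁻¹' {y})
  let x : Fin n → ↑X := fun i => (e.symm i).1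
  have hxinj : Function.Injective x := fun i i' h => e.symm.injective (Subtype.ext h)
  have hxs : ∀ i, f (x i) = y := fun i => (e.symm i).2
  obtain ⟨V₀, a, v₀, ha, hav, J, hJ, Vp, vp, hclopen, hdisj, hVp, hcov⟩ :=
    EtRes.exists_etale_nbhd_purelyInseparable f y x hxinj hxs (fun i => f.quasiFiniteAt _)
  refine ⟨V₀, a, v₀, ha, hav, Σ i, J i, inferInstance, fun k => Vp k.1 k.2,
    fun k => (hVp k.1 k.2).2.1, ?_⟩
  let q := pullback.snd f a
  let g : ↑(pullback f a) → ℤ := fun p => (fun _ => (1 : ℤ)) p * deg q p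
  let t : (Σ i, J i) → ↑V₀ → Set ↑(pullback f a) := fun k v => {p | p ∈ Vp k.1 k.2 ∧ q p = v}
  have hT : ∀ v, {p : ↑(pullback f a) | q p = v}.Finite := finite_fibre_snd f hfin a
  have hF : ∀ v, MoreMor.fibreIntegral f (fun _ => 1) (a v) = ∑ᶠ p ∈ {p | q p = v}, g p := by
    intro v
    rw [← fibreIntegral_baseChange_lqf f q (pullback.fst f a) a (IsPullback.of_hasPullback f a)
      (fun _ => 1) v, fibreIntegral_eq_finsum_mem]
    rfl
  have hgpos : ∀ p, 0 < g p := fun p => by
    show 0 < (1 : ℤ) * deg q p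
    rw [one_mul]
    exact deg_pos _ _ (finite_residueFieldMap _ _)
  have hdisj' : ∀ v, Pairwise (Function.onFun Disjoint fun k => t k v) := by
    rintro v ⟨i, j⟩ ⟨i', j'⟩ hne
    rw [Function.onFun, Set.disjoint_left]
    rintro p ⟨h1, -⟩ ⟨h2, -⟩
    apply hne
    obtain ⟨rfl, h3⟩ := hdisj i j i' j' ⟨p, h1, h2⟩
    rw [eq_of_heq h3]
  have htfin : ∀ k v, (t k v).Finite := fun k v => (hT v).subset fun p hp => hp.2
  have hsub : ∀ v, (⋃ k, t k v) ⊆ {p | q p = v} := by
    intro v p hp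
    obtain ⟨k, hk⟩ := Set.mem_iUnion.mp hp
    exact hk.2
  have hv₀ : ∀ k : Σ i, J i, t k v₀ = {vp k.1 k.2} := by
    intro k
    obtain ⟨h1, h2, h3, h4, h5, h6⟩ := hVp k.1 k.2
    ext p
    constructor
    · rintro ⟨e1, e2⟩
      exact h4 p e1 e2
    · rintro rfl
      exact ⟨h1, h3⟩
  have hgpt : ∀ k : Σ i, J i, g (vp k.1 k.2) = 1 := by
    intro k
    obtain ⟨h1, h2, h3, h4, h5, h6⟩ := hVp k.1 k.2
    show (1 : ℤ) * deg q (vp k.1 k.2) = 1
    rw [one_mul]
    exact deg_eq_one _ _ h5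
  have hcov₀ : {p | q p = v₀} = ⋃ k, t k v₀ := by
    refine Set.Subset.antisymm ?_ (hsub v₀)
    intro p hp
    have h1 : f (pullback.fst f a p) = y := by
      rw [← hav, ← (show q p = v₀ from hp)]
      exact congr($(pullback.condition (f := f) (g := a)) p)
    obtain ⟨i, hi⟩ : ∃ i, pullback.fst f a p = x i := by
      refine ⟨e ⟨_, h1⟩, ?_⟩
      simp [x]
    obtain ⟨j, hj⟩ := hcov p i hp hi
    exact Set.mem_iUnion.mpr ⟨⟨i, j⟩, hj, hp⟩
  have h0 : MoreMor.fibreIntegral f (fun _ => 1) y = ∑ᶠ _k : Σ i, J i, (1 : ℤ) := by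
    rw [← hav, hF, hcov₀, finsum_mem_iUnion (hdisj' v₀) (fun k => htfin k v₀)]
    refine finsum_congr fun k => ?_
    rw [hv₀, finsum_mem_singleton, hgpt]
  -- the neighbourhood
  have hnhds : ∀ k : Σ i, J i, q '' (Vp k.1 k.2 : Set ↑(pullback f a)) ∈ nhds v₀ := by
    intro k
    obtain ⟨h1, h2, h3, h4, h5, h6⟩ := hVp k.1 k.2
    have := hopen V₀ a (vp k.1 k.2) (by rw [h6]; exact hxs _) _ ((Vp k.1 k.2).2.mem_nhds h1)
    rw [h3] at this
    exact this
  let N : Set ↑V₀ := ⋂ k : Σ i, J i, interior (q '' (Vp k.1 k.2 : Set ↑(pullback f a)))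
  have hN : IsOpen N := isOpen_iInter_of_finite fun k => isOpen_interior
  have hv₀N : v₀ ∈ N := Set.mem_iInter.mpr fun k => mem_interior_iff_mem_nhds.mpr (hnhds k)
  refine ⟨⟨N, hN⟩, hv₀N, ?_⟩
  intro v hv
  have hk1 : ∀ k : Σ i, J i, (1 : ℤ) ≤ ∑ᶠ p ∈ t k v, g p := by
    intro k
    obtain ⟨p, hp, hpv⟩ := interior_subset (Set.mem_iInter.mp hv k)
    have h1 : g p ≤ ∑ᶠ p ∈ t k v, g p :=
      single_le_finsum_mem' (htfin k v) (fun p' _ => (hgpos p').le) ⟨hp, hpv⟩
    have := hgpos p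
    omega
  have h2 : MoreMor.fibreIntegral f (fun _ => 1) y ≤ ∑ᶠ p ∈ ⋃ k, t k v, g p := by
    rw [h0, finsum_mem_iUnion (hdisj' v) (fun k => htfin k v)]
    exact finsum_le_finsum_of_finite hk1
  constructor
  · rw [hF v]
    exact h2.trans (finsum_mem_le_of_subset (hsub v) (hT v) fun p _ => (hgpos p).le)
  · intro heq p hp
    by_contra hnot
    have h3 : ∑ᶠ p ∈ ⋃ k, t k v, g p < ∑ᶠ p ∈ {p | q p = v}, g p :=
      finsum_mem_lt_of_subset (hsub v) (hT v) (fun p _ => hgpos p) (p₀ := p) hp (by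
        intro hmem
        obtain ⟨k, hk⟩ := Set.mem_iUnion.mp hmem
        exact hnot ⟨k, hk.1⟩)
    rw [← hF v, heq] at h3
    omega

theorem fibreIntegral_one_nonneg {X Y : Scheme.{u}} (f : X ⟶ Y) (y : Y) :
    0 ≤ MoreMor.fibreIntegral f (fun _ => 1) y := by
  rw [fibreIntegral_eq]
  apply finsum_nonneg
  intro u
  rw [one_mul]
  unfold deg
  exact Int.natCast_nonneg _

/-- Lower semicontinuity of the number of geometric points. -/
theorem exists_nhds_le_count {X Y : Scheme.{u}} (f : X ⟶ Y) [LocallyQuasiFinite f]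
    [LocallyOfFiniteType f] [IsSeparated f] (hfin : ∀ y : Y, (f ⁻¹' {y}).Finite) (y : Y)
    (hopen : ∀ (V : Scheme.{u}) (a : V ⟶ Y) [Etale a] (u : ↑(pullback f a)),
      f (pullback.fst f a u) = y → ∀ S ∈ nhds u,
        pullback.snd f a '' S ∈ nhds (pullback.snd f a u)) :
    ∃ O : Y.Opens, y ∈ O ∧ ∀ z ∈ O,
      MoreMor.fibreIntegral f (fun _ => 1) y ≤ MoreMor.fibreIntegral f (fun _ => 1) z := by
  obtain ⟨V₀, a, v₀, ha, hav, K, hK, U, hU, N, hN, hN'⟩ := exists_count_pieces f hfin y hopen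
  refine ⟨⟨a '' N, a.isOpenMap _ N.2⟩, ⟨v₀, hN, hav⟩, ?_⟩
  rintro _ ⟨v, hv, rfl⟩
  exact (hN' v hv).1

/-- Properness near a point around which the number of geometric points is constant. -/
theorem exists_isProper_restrict {X Y : Scheme.{u}} (f : X ⟶ Y) [LocallyQuasiFinite f]
    [LocallyOfFiniteType f] [IsSeparated f] (hfin : ∀ y : Y, (f ⁻¹' {y}).Finite) (y : Y)
    (hopen : ∀ (V : Scheme.{u}) (a : V ⟶ Y) [Etale a] (u : ↑(pullback f a)),
      f (pullback.fst f a u) = y → ∀ S ∈ nhds u,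
        pullback.snd f a '' S ∈ nhds (pullback.snd f a u))
    (hconst : ∃ V ∈ nhds y, ∀ z ∈ V,
      MoreMor.fibreIntegral f (fun _ => 1) z = MoreMor.fibreIntegral f (fun _ => 1) y) :
    ∃ U : Y.Opens, y ∈ U ∧ IsProper (f ∣_ U) := by
  obtain ⟨V₀, a, v₀, ha, hav, K, hK, U, hU, N, hN, hN'⟩ := exists_count_pieces f hfin y hopen
  obtain ⟨V, hV, hVc⟩ := hconst
  let N' : V₀.Opens := N ⊓ ⟨a ⁻¹' interior V, isOpen_interior.preimage a.continuous⟩
  have hv₀N' : v₀ ∈ N' := ⟨hN, by
    show a v₀ ∈ interior V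
    rw [hav]
    exact mem_interior_iff_mem_nhds.mpr hV⟩
  obtain ⟨O, hO, huc⟩ := exists_universallyClosed_restrict f a N' U hU (by
    intro p hp
    exact (hN' _ hp.1).2 (hVc _ (interior_subset hp.2)) p rfl)
  refine ⟨O, ?_, ?_⟩
  · show y ∈ (O : Set Y)
    rw [hO]
    exact ⟨v₀, hv₀N', hav⟩
  · exact {}

end Groth.Agent.Lib.Helper57.Wt
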