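import Groth.Agent.Lib.Helper57.Wt7

universe u

open CategoryTheory CategoryTheory.Limits AlgebraicGeometry TopologicalSpace

namespace Groth.Agent.Lib.Helper57.Wt

/-- Local constancy for a composition, single point case, with trivial base change. -/
theorem lc_comp_of_single_point {X Y Z : Scheme.{u}} (f : X ⟶ Y) (g : Y ⟶ Z)
    [LocallyQuasiFinite f] [LocallyOfFiniteType f] [LocallyQuasiFinite g] [LocallyOfFiniteType g]
    (wf : X → ℤ) (wg : Y → ℤ) (hf : MoreMor.IsWeighting f wf) (hg : MoreMor.IsWeighting g wg)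
    {W : Scheme.{u}} (j : W ⟶ X) [IsOpenImmersion j] [IsFinite (j ≫ f ≫ g)] (z₀ : Z) (u₀ : W)
    (hu₀ : g (f (j u₀)) = z₀) (huniq : ∀ u : W, g (f (j u)) = z₀ → u = u₀)
    (hdeg : deg (j ≫ f ≫ g) u₀ = 1) :
    ∃ N : Z.Opens, z₀ ∈ N ∧ ∀ z ∈ N,
      MoreMor.fibreIntegral (j ≫ f ≫ g) (fun u => wf (j u) * wg (f (j u))) z =
        MoreMor.fibreIntegral (j ≫ f ≫ g) (fun u => wf (j u) * wg (f (j u))) z₀ := by
  obtain ⟨V₀, a, v₀, ha, hav, J, hJ, Vj, vj, hVj, -, hcov⟩ :=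
    EtRes.exists_etale_nbhd_purelyInseparable_open g z₀ (fun _ : Unit => f (j u₀))
      (fun _ _ _ => rfl) (fun _ => hu₀) (fun _ => g.quasiFiniteAt _)
  let pX := pullback.fst (f ≫ g) a
  let qX := pullback.snd (f ≫ g) a
  let φ₀ := pbMap f g a
  have hφ1 : φ₀ ≫ pullback.fst g a = pX ≫ f := pbMap_fst _ _ _
  have hφ2 : φ₀ ≫ pullback.snd g a = qX := pbMap_snd _ _ _
  have sqφ : IsPullback pX φ₀ f (pullback.fst g a) := (isPullback_pbMap f g a).flip
  let h₀ := pullback.fst j pX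
  let j₀ := pullback.snd j pX
  have sqW : IsPullback h₀ j₀ j pX := IsPullback.of_hasPullback j pX
  have sqW' : IsPullback h₀ (j₀ ≫ qX) (j ≫ f ≫ g) a :=
    sqW.paste_vert (IsPullback.of_hasPullback (f ≫ g) a)
  have : IsFinite (j₀ ≫ qX) := MorphismProperty.of_isPullback sqW' inferInstance
  have : LocallyQuasiFinite φ₀ := MorphismProperty.of_isPullback sqφ inferInstance
  have : LocallyOfFiniteType φ₀ := MorphismProperty.of_isPullback sqφ inferInstance
  let ψ := j₀ ≫ φ₀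
  have : LocallyQuasiFinite ψ := by show LocallyQuasiFinite (j₀ ≫ φ₀); infer_instance
  have : LocallyOfFiniteType ψ := by show LocallyOfFiniteType (j₀ ≫ φ₀); infer_instance
  let r := pullback.snd g a
  have hψr : ψ ≫ r = j₀ ≫ qX := by rw [Category.assoc, hφ2]
  have : IsFinite (ψ ≫ r) := by rw [hψr]; infer_instance
  have hfinres : ∀ {A B : Scheme.{u}} (g : A ⟶ B) [IsFinite g] (x : A),
      (g.residueFieldMap x).hom.Finite := fun g _ x => finite_residueFieldMap g x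
  -- the point of `W₀`
  obtain ⟨u₁, hu₁h, hu₁q⟩ := Scheme.exists_preimage_of_isPullback sqW' u₀ v₀
    (by rw [hav]; exact hu₀)
  have hW₀uniq : ∀ u u' : ↑(pullback j pX), (j₀ ≫ qX) u = v₀ → (j₀ ≫ qX) u' = v₀ → u = u' := by
    apply fibre_subsingleton_of_isPullback sqW' (hfinres _) (hfinres _) v₀
    · intro u u' h1 h2
      rw [hav] at h1 h2
      rw [huniq u h1, huniq u' h2]
    · intro u h1
      rw [hav] at h1
      rw [huniq u h1]
      exact hdeg
  -- the piece containing its image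
  have hmp1 : pullback.fst g a (ψ u₁) = f (j u₀) := by
    show (φ₀ ≫ pullback.fst g a) (j₀ u₁) = _
    rw [hφ1]
    show f ((j₀ ≫ pX) u₁) = _
    rw [← sqW.w]
    show f (j (h₀ u₁)) = _
    rw [hu₁h]
  have hmp2 : r (ψ u₁) = v₀ := by
    show (ψ ≫ r) u₁ = v₀
    rw [hψr]
    exact hu₁q
  obtain ⟨jj, hjj⟩ := hcov (ψ u₁) () hmp2 hmp1
  obtain ⟨hV1, hV2, hV3, hV4, hV5, hV6⟩ := hVj () jj
  let D : (pullback g a).Opens := Vj () jj
  have hu₁D : ψ u₁ ∈ D := by
    show ψ u₁ ∈ Vj () jj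
    rw [hjj]; exact hV1
  -- shrinking (a)
  obtain ⟨Na, hNa, hNa'⟩ := exists_nbhd_subset ψ r (ψ ≫ r).isClosedMap D v₀ (by
    intro u hu
    have : (j₀ ≫ qX) u = v₀ := by rw [← hψr]; exact hu
    rw [hW₀uniq u u₁ this hu₁q]
    exact hu₁D)
  have : IsSeparated (D.ι ≫ r) := by
    have := hV2
    infer_instance
  have hfinD := isFinite_morphismRestrict_of_factor ψ r D Na hNa'
  obtain ⟨O, hO, hO'⟩ := IsWeighting.flex_restrict hf sqφ j₀ (D ⊓ r ⁻¹ᵁ Na) hfinD (ψ u₁)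
    ⟨hu₁D, by show r (ψ u₁) ∈ Na; rw [hmp2]; exact hNa⟩
  -- shrinking (b)
  have := hV2
  obtain ⟨Nb, hNb, hNb'⟩ := exists_nbhd_subset D.ι r (D.ι ≫ r).isClosedMap O v₀ (by
    intro y hy
    have e1 : D.ι y = vj () jj := hV4 y.1 y.2 hy
    rw [e1, ← hjj]
    exact hO)
  -- the weighting of `g`
  have hG := hg V₀ a D hV2
  obtain ⟨Nc, hNc, hv₀Nc, hNc'⟩ := (IsLocallyConstant.iff_exists_open _).mp hG v₀
  -- key formula
  let ws : ↑(pullback j pX) → ℤ := fun u => wf (pX (j₀ u))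
  let wq : ↑(pullback g a) → ℤ := fun y => wg (pullback.fst g a y)
  have key : ∀ v : ↑V₀, v ∈ Na → v ∈ Nb →
      MoreMor.fibreIntegral (j ≫ f ≫ g) (fun u => wf (j u) * wg (f (j u))) (a v) =
        MoreMor.fibreIntegral (D.ι ≫ r) (fun y => wq (D.ι y)) v *
          MoreMor.fibreIntegral ψ ws (ψ u₁) := by
    intro v h1 h2
    have e1 := fibreIntegral_baseChange_lqf (j ≫ f ≫ g) (j₀ ≫ qX) h₀ a sqW'
      (fun u => wf (j u) * wg (f (j u))) v
    rw [← e1]
    have e2 : ((fun u => wf (j u) * wg (f (j u))) ∘ h₀) = fun u => ws u * wq (ψ u) := by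
      funext u
      show wf (j (h₀ u)) * wg (f (j (h₀ u))) = wf (pX (j₀ u)) * wg (pullback.fst g a (φ₀ (j₀ u)))
      have e3 : j (h₀ u) = pX (j₀ u) := congr($(sqW.w) u)
      have e4 : pullback.fst g a (φ₀ (j₀ u)) = f (pX (j₀ u)) := congr($(hφ1) (j₀ u))
      rw [e3, e4]
    rw [e2, ← hψr]
    rw [fibreIntegral_comp ψ r (fun u => finite_residueFieldMap ψ u) ws wq v
      ((Scheme.Hom.finite_preimage_singleton (ψ ≫ r) v).subset fun u hu => hu)]
    rw [fibreIntegral_openImmersion D.ι r wq v, Scheme.Opens.range_ι, finsum_mem_mul]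
    rw [finsum_mem_inter_support_eq _ {y | r y = v} {y | y ∈ D ∧ r y = v}]
    · refine finsum_mem_congr rfl fun y hy => ?_
      rw [hO' y (hNb' ⟨y, hy.1⟩ (by have e7 : r y = v := hy.2; show r y ∈ Nb; rw [e7]; exact h2))]
    · ext y
      simp only [Set.mem_inter_iff, Function.mem_support, ne_eq]
      constructor
      · rintro ⟨e5, e6⟩
        refine ⟨⟨?_, e5⟩, e6⟩
        by_contra hyD
        apply e6
        have : IsEmpty {u : ↑(pullback j pX) // ψ u = y} := by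
          constructor
          rintro ⟨u, hu⟩
          apply hyD
          rw [← hu]
          apply hNa' u
          rw [hu, e5]
          exact h1
        rw [fibreIntegral_eq, finsum_of_isEmpty, mul_zero]
      · rintro ⟨⟨-, e5⟩, e6⟩
        exact ⟨e5, e6⟩
  let N₂ : Set ↑V₀ := (Na : Set _) ∩ Nb ∩ Nc
  have hN₂ : IsOpen N₂ := (Na.2.inter Nb.2).inter hNc
  refine ⟨⟨a '' N₂, a.isOpenMap _ hN₂⟩, ⟨v₀, ⟨⟨hNa, hNb⟩, hv₀Nc⟩, hav⟩, ?_⟩
  rintro _ ⟨v, ⟨⟨h1, h2⟩, h3⟩, rfl⟩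
  rw [key v h1 h2, ← hav, key v₀ hNa hNb, hNc' v h3]

/-- Local constancy for a composition, single point case, over an arbitrary base. -/
theorem lc_comp_of_single_point' {X Y Z : Scheme.{u}} (f : X ⟶ Y) (g : Y ⟶ Z)
    [LocallyQuasiFinite f] [LocallyOfFiniteType f] [LocallyQuasiFinite g] [LocallyOfFiniteType g]
    (wf : X → ℤ) (wg : Y → ℤ) (hf : MoreMor.IsWeighting f wf) (hg : MoreMor.IsWeighting g wg)
    {P V W : Scheme.{u}} {p : P ⟶ X} {q : P ⟶ V} {e : V ⟶ Z} (sq : IsPullback p q (f ≫ g) e)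
    (j : W ⟶ P) [IsOpenImmersion j] [IsFinite (j ≫ q)] (v : V) (u₀ : W) (hu₀ : q (j u₀) = v)
    (huniq : ∀ u : W, q (j u) = v → u = u₀) (hdeg : deg (j ≫ q) u₀ = 1) :
    ∃ N : V.Opens, v ∈ N ∧ ∀ v₁ ∈ N,
      MoreMor.fibreIntegral (j ≫ q) (fun u => wf (p (j u)) * wg (f (p (j u)))) v₁ =
        MoreMor.fibreIntegral (j ≫ q) (fun u => wf (p (j u)) * wg (f (p (j u)))) v := by
  let gV := pullback.snd g e
  let aV := pullback.fst g e
  let fV : P ⟶ pullback g e := pullback.lift (p ≫ f) q (by rw [Category.assoc]; exact sq.w)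
  have hfV1 : fV ≫ aV = p ≫ f := pullback.lift_fst _ _ _
  have hfV2 : fV ≫ gV = q := pullback.lift_snd _ _ _
  have sqf : IsPullback p fV f aV :=
    IsPullback.of_bot (by rw [hfV2]; exact sq) hfV1.symm (IsPullback.of_hasPullback g e)
  have : LocallyQuasiFinite fV := MorphismProperty.of_isPullback sqf inferInstance
  have : LocallyOfFiniteType fV := MorphismProperty.of_isPullback sqf inferInstance
  have : LocallyQuasiFinite gV := by show LocallyQuasiFinite (pullback.snd g e); infer_instance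
  have : LocallyOfFiniteType gV := by show LocallyOfFiniteType (pullback.snd g e); infer_instance
  have hwf := isWeighting_baseChange f wf hf fV p aV sqf
  have hwg := isWeighting_baseChange g wg hg gV aV e (IsPullback.of_hasPullback g e)
  have hjq : j ≫ fV ≫ gV = j ≫ q := by rw [hfV2]
  have : IsFinite (j ≫ fV ≫ gV) := by rw [hjq]; infer_instance
  have hres := lc_comp_of_single_point fV gV (wf ∘ p) (wg ∘ aV) hwf hwg j v u₀
    (by
      show (fV ≫ gV) (j u₀) = v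
      rw [hfV2]; exact hu₀)
    (by
      intro u hu
      apply huniq u
      have : (fV ≫ gV) (j u) = v := hu
      rw [hfV2] at this
      exact this)
    (by rw [hjq]; exact hdeg)
  rw [hjq] at hres
  obtain ⟨N, hN1, hN2⟩ := hres
  refine ⟨N, hN1, fun v₁ hv₁ => ?_⟩
  have hfun : ∀ u, wf (p (j u)) * wg (f (p (j u))) =
      (wf ∘ p) (j u) * (wg ∘ aV) (fV (j u)) := by
    intro u
    show _ = wf (p (j u)) * wg ((fV ≫ aV) (j u))
    rw [hfV1]
    rfl
  simp_rw [hfun]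
  exact hN2 v₁ hv₁

/-- A function is a weighting as soon as the integrals over pieces with a single, purely
inseparable point in the fibre are constant near that fibre. -/
theorem isWeighting_of_single_point {X Y : Scheme.{u}} (F : X ⟶ Y) (w : X → ℤ)
    (H : ∀ {P V W : Scheme.{u}} {p : P ⟶ X} {q : P ⟶ V} {e : V ⟶ Y} (_ : IsPullback p q F e)
      (j : W ⟶ P) [IsOpenImmersion j] [IsFinite (j ≫ q)] (v : V) (u₀ : W), q (j u₀) = v →
      (∀ u : W, q (j u) = v → u = u₀) → deg (j ≫ q) u₀ = 1 →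
      ∃ N : V.Opens, v ∈ N ∧ ∀ v₁ ∈ N,
        MoreMor.fibreIntegral (j ≫ q) (fun u => w (p (j u))) v₁ =
          MoreMor.fibreIntegral (j ≫ q) (fun u => w (p (j u))) v) :
    MoreMor.IsWeighting F w := by
  intro V' a' _ U' hU'
  rw [IsLocallyConstant.iff_exists_open]
  intro v'
  let q' := pullback.snd F a'
  let π' := U'.ι ≫ q'
  let w' : ↥U' → ℤ := fun u => w (pullback.fst F a' (U'.ι u))
  have : IsFinite π' := hU'
  obtain ⟨V₁, b, v₁, hb, hbv, K, hK, E, pt, hEfin, hEpt, N₁, hN₁, hcov, hdisj⟩ :=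
    exists_decomp π' v'
  let π₁ := pullback.snd π' b
  let c₁ := pullback.fst q' b
  let q₁ := pullback.snd q' b
  have sq₁ : IsPullback (c₁ ≫ pullback.fst F a') q₁ F (b ≫ a') :=
    (IsPullback.of_hasPullback q' b).paste_horiz (IsPullback.of_hasPullback F a')
  let ι₁ : pullback π' b ⟶ pullback q' b := pbMap U'.ι q' b
  have hι1 : ι₁ ≫ c₁ = pullback.fst π' b ≫ U'.ι := pbMap_fst _ _ _
  have hι2 : ι₁ ≫ q₁ = π₁ := pbMap_snd _ _ _
  let wQ : ↑(pullback π' b) → ℤ := fun z => w' (pullback.fst π' b z)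
  let G : K → ↑V₁ → ℤ := fun k =>
    MoreMor.fibreIntegral ((E k).ι ≫ π₁) (fun u => wQ ((E k).ι u))
  have hG : ∀ k, ∃ N : V₁.Opens, v₁ ∈ N ∧ ∀ v ∈ N, G k v = G k v₁ := by
    intro k
    have hjq : ((E k).ι ≫ ι₁) ≫ q₁ = (E k).ι ≫ π₁ := by rw [Category.assoc, hι2]
    have : IsFinite (((E k).ι ≫ ι₁) ≫ q₁) := by rw [hjq]; exact hEfin k
    obtain ⟨h1, h2, h3, h4⟩ := hEpt k
    have hres := H sq₁ ((E k).ι ≫ ι₁) v₁ ⟨pt k, h1⟩
      (by
        show (ι₁ ≫ q₁) (pt k) = v₁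
        rw [hι2]; exact h2)
      (by
        intro u hu
        apply Subtype.ext
        apply h3 u.1 u.2
        have : (ι₁ ≫ q₁) u.1 = v₁ := hu
        rw [hι2] at this
        exact this)
      (by
        rw [hjq, deg_comp_of_isOpenImmersion]
        exact h4)
    rw [hjq] at hres
    obtain ⟨N, hN1, hN2⟩ := hres
    refine ⟨N, hN1, fun v hv => ?_⟩
    have hfun : ∀ u, wQ ((E k).ι u) =
        w ((c₁ ≫ pullback.fst F a') (((E k).ι ≫ ι₁) u)) := by
      intro u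
      show _ = w (pullback.fst F a' ((ι₁ ≫ c₁) ((E k).ι u)))
      rw [hι1]
      rfl
    show MoreMor.fibreIntegral _ (fun u => wQ ((E k).ι u)) v =
      MoreMor.fibreIntegral _ (fun u => wQ ((E k).ι u)) v₁
    simp_rw [hfun]
    exact hN2 v hv
  choose Nk hNk1 hNk2 using hG
  have hF : ∀ v : ↑V₁, MoreMor.fibreIntegral π₁ wQ v = MoreMor.fibreIntegral π' w' (b v) :=
    fun v => fibreIntegral_baseChange_lqf π' π₁ (pullback.fst π' b) b
      (IsPullback.of_hasPullback π' b) w' v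
  have hsum : ∀ v ∈ N₁, MoreMor.fibreIntegral π₁ wQ v = ∑ᶠ k, G k v := by
    intro v hv
    apply fibreIntegral_eq_finsum_pieces_top (fun k => (E k).ι) π₁ wQ v
    · intro z hz
      obtain ⟨k, hk⟩ := hcov z (hz ▸ hv)
      exact ⟨k, by rw [Scheme.Opens.range_ι]; exact hk⟩
    · intro z _ k k' h1 h2
      rw [Scheme.Opens.range_ι] at h1 h2
      exact hdisj z k k' h1 h2
    · intro k
      have := hEfin k
      exact finite_fibre_of_isFinite (E k).ι π₁ v
  let N : Set ↑V₁ := (N₁ : Set ↑V₁) ∩ ⋂ k, (Nk k : Set ↑V₁)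
  have hN : IsOpen N := N₁.2.inter (isOpen_iInter_of_finite fun k => (Nk k).2)
  have hv₁N : v₁ ∈ N := ⟨hN₁, Set.mem_iInter.mpr hNk1⟩
  refine ⟨b '' N, b.isOpenMap _ hN, ⟨v₁, hv₁N, hbv⟩, ?_⟩
  rintro _ ⟨v, ⟨hv1, hv2⟩, rfl⟩
  show MoreMor.fibreIntegral π' w' (b v) = MoreMor.fibreIntegral π' w' v'
  rw [← hbv, ← hF, ← hF, hsum v hv1, hsum v₁ hN₁]
  exact finsum_congr fun k => hNk2 k v (Set.mem_iInter.mp hv2 k)

/-- **Stacks 0F3F**: composition of weightings. -/
theorem isWeighting_comp {X Y Z : Scheme.{u}} (f : X ⟶ Y) (g : Y ⟶ Z)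
    [LocallyQuasiFinite f] [LocallyOfFiniteType f] [LocallyQuasiFinite g] [LocallyOfFiniteType g]
    (wf : X → ℤ) (wg : Y → ℤ) (hf : MoreMor.IsWeighting f wf) (hg : MoreMor.IsWeighting g wg) :
    MoreMor.IsWeighting (f ≫ g) (fun x => wf x * wg (f x)) := by
  apply isWeighting_of_single_point
  intro P V W p q e sq j _ _ v u₀ hu₀ huniq hdeg
  exact lc_comp_of_single_point' f g wf wg hf hg sq j v u₀ hu₀ huniq hdeg

end Groth.Agent.Lib.Helper57.Wt
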