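import Groth.Agent.Lib.Helper57.Wt10
import Groth.Agent.Lib.Helper57.Wt8
import Groth.Agent.Lib.Helper57.EtUnr1

set_option autoImplicit false
universe u
open CategoryTheory CategoryTheory.Limits AlgebraicGeometry TopologicalSpace

namespace Groth.Agent.Lib.Helper57.Wt

/-- Étale morphisms are locally quasi-finite. -/
theorem locallyQuasiFinite_of_etale {X Y : Scheme.{u}} (f : X ⟶ Y) [Etale f] :
    LocallyQuasiFinite f := by
  refine ⟨fun {U} hU {V} hV e => ?_⟩
  have hf : (f.appLE U V e).hom.Etale :=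
    HasRingHomProperty.appLE (P := @Etale) f inferInstance ⟨U, hU⟩ ⟨V, hV⟩ e
  algebraize [(f.appLE U V e).hom]
  have : Algebra.Etale Γ(Y, U) Γ(X, V) := hf
  show Algebra.QuasiFinite Γ(Y, U) Γ(X, V)
  infer_instance

/-- The residue degree of an open immersion is one. -/
theorem deg_of_isOpenImmersion {P V : Scheme.{u}} (h : P ⟶ V) [IsOpenImmersion h] (p : P) :
    deg h p = 1 := by
  apply deg_eq_one
  let _ := (h.residueFieldMap p).hom.toAlgebra
  have hbij : Function.Bijective (h.residueFieldMap p).hom :=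
    ConcreteCategory.bijective_of_isIso (h.residueFieldMap p)
  rw [isPurelyInseparable_iff]
  intro x
  obtain ⟨y, rfl⟩ := hbij.2 x
  exact ⟨isIntegral_algebraMap, fun _ => ⟨y, rfl⟩⟩

/-- The fibre integral along an isomorphism is evaluation at the inverse image. -/
theorem fibreIntegral_of_isIso {P V : Scheme.{u}} (h : P ⟶ V) [IsIso h] (w : P → ℤ) (v : V) :
    MoreMor.fibreIntegral h w v = w ((inv h) v) := by
  rw [fibreIntegral_eq]
  have hv : h (inv h v) = v := by
    rw [← Scheme.Hom.comp_apply, IsIso.inv_hom_id]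
    rfl
  have hinj : Function.Injective h := h.isOpenEmbedding.injective
  let _ : Unique {u : P // h u = v} :=
    ⟨⟨⟨inv h v, hv⟩⟩, fun u => Subtype.ext (hinj (u.2.trans hv.symm))⟩
  rw [finsum_unique]
  show w (inv h v) * deg h (inv h v) = _
  rw [deg_of_isOpenImmersion, mul_one]

/-- The constant function one is a weighting of every étale morphism. -/
theorem isWeighting_one_of_etale {X Y : Scheme.{u}} (F : X ⟶ Y) [Etale F] :
    MoreMor.IsWeighting F (fun _ => 1) := by
  apply isWeighting_of_single_point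
  intro P V W p q e sq j _ _ v u₀ hu₀ huniq hdeg
  have : Etale q := MorphismProperty.of_isPullback sq inferInstance
  have : Etale (j ≫ q) := inferInstance
  have : LocallyQuasiFinite (j ≫ q) := locallyQuasiFinite_of_etale _
  have hres : Function.Surjective ((j ≫ q).residueFieldMap u₀).hom := by
    let _ : Algebra ↑(V.residueField ((j ≫ q) u₀)) ↑(W.residueField u₀) :=
      ((j ≫ q).residueFieldMap u₀).hom.toAlgebra
    have h1 : IsPurelyInseparable ↑(V.residueField ((j ≫ q) u₀)) ↑(W.residueField u₀) := by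
      apply isPurelyInseparable_of_finSepDegree_eq_one
      have := hdeg
      unfold deg at this
      exact_mod_cast this
    have h2 : Algebra.IsSeparable ↑(V.residueField ((j ≫ q) u₀)) ↑(W.residueField u₀) :=
      inferInstance
    exact IsPurelyInseparable.surjective_algebraMap_of_isSeparable _ _
  obtain ⟨U', hU', hiso⟩ := EtUnr.exists_isIso_restrict (j ≫ q) u₀
    (fun y' hy' => huniq y' (hy'.trans hu₀)) hres
  have hvU : v ∈ U' := hu₀ ▸ hU'
  have key : ∀ v₁ ∈ U', MoreMor.fibreIntegral (j ≫ q) (fun _ => (1 : ℤ)) v₁ = 1 := by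
    intro v₁ hv₁
    have hbc := fibreIntegral_baseChange_lqf (j ≫ q) ((j ≫ q) ∣_ U') ((j ≫ q) ⁻¹ᵁ U').ι U'.ι
      (isPullback_morphismRestrict (j ≫ q) U').flip (fun _ => (1 : ℤ)) ⟨v₁, hv₁⟩
    have h3 : U'.ι ⟨v₁, hv₁⟩ = v₁ := rfl
    rw [h3] at hbc
    rw [← hbc]
    exact fibreIntegral_of_isIso _ _ _
  exact ⟨U', hvU, fun v₁ hv₁ => by rw [key v₁ hv₁, key v hvU]⟩


section EtaleCount

variable {X Y : Scheme.{u}} (f : X ⟶ Y) [Etale f] [IsSeparated f] [LocallyOfFiniteType f]
  [QuasiCompact f]

/-- The number of geometric points of the fibre of an étale quasi-compact morphism, as an integral. -/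
theorem card_geomFiber_of_etale (y : Y) :
    ENat.card ↥(MoreMor.geomFiber f y) =
      ((MoreMor.fibreIntegral f (fun _ => 1) y).toNat : ℕ∞) := by
  have := locallyQuasiFinite_of_etale f
  exact (nGeomConnComp_eq f y fun y => Scheme.Hom.finite_preimage_singleton f y).2

theorem card_geomFiber_eq_iff (y z : Y) :
    ENat.card ↥(MoreMor.geomFiber f z) = ENat.card ↥(MoreMor.geomFiber f y) ↔
      MoreMor.fibreIntegral f (fun _ => 1) z = MoreMor.fibreIntegral f (fun _ => 1) y := by
  rw [card_geomFiber_of_etale, card_geomFiber_of_etale]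
  have h3 := fibreIntegral_one_nonneg f z
  have h4 := fibreIntegral_one_nonneg f y
  constructor
  · intro h1
    have h2 : (MoreMor.fibreIntegral f (fun _ => 1) z).toNat =
        (MoreMor.fibreIntegral f (fun _ => 1) y).toNat := Nat.cast_injective h1
    omega
  · intro h
    rw [h]

theorem card_geomFiber_le_iff (y z : Y) :
    ENat.card ↥(MoreMor.geomFiber f y) ≤ ENat.card ↥(MoreMor.geomFiber f z) ↔
      MoreMor.fibreIntegral f (fun _ => 1) y ≤ MoreMor.fibreIntegral f (fun _ => 1) z := by
  rw [card_geomFiber_of_etale, card_geomFiber_of_etale]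
  have h3 := fibreIntegral_one_nonneg f z
  have h4 := fibreIntegral_one_nonneg f y
  rw [Nat.cast_le]
  omega

theorem hopen_of_etale (y : Y) : ∀ (V : Scheme.{u}) (a : V ⟶ Y) [Etale a]
    (u : ↑(pullback f a)), f (pullback.fst f a u) = y → ∀ S ∈ nhds u,
      pullback.snd f a '' S ∈ nhds (pullback.snd f a u) := by
  intro V a _ u _ S hS
  exact (pullback.snd f a).isOpenMap.image_mem_nhds hS

/-- Lower semicontinuity of the geometric point count, pointwise form. -/
theorem exists_nhds_card_le (y : Y) :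
    ∃ O : Y.Opens, y ∈ O ∧ ∀ z ∈ O,
      ENat.card ↥(MoreMor.geomFiber f y) ≤ ENat.card ↥(MoreMor.geomFiber f z) := by
  have := locallyQuasiFinite_of_etale f
  obtain ⟨O, hyO, hO⟩ := exists_nhds_le_count f
    (fun y => Scheme.Hom.finite_preimage_singleton f y) y (hopen_of_etale f y)
  exact ⟨O, hyO, fun z hz => (card_geomFiber_le_iff f y z).mpr (hO z hz)⟩

/-- If the geometric point count is constant near `y` then `f` is finite over a neighbourhood
of `y`. -/
theorem exists_isFinite_restrict_of_const (y : Y)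
    (hconst : ∃ V ∈ nhds y, ∀ z ∈ V,
      ENat.card ↥(MoreMor.geomFiber f z) = ENat.card ↥(MoreMor.geomFiber f y)) :
    ∃ U : Y.Opens, y ∈ U ∧ IsFinite (f ∣_ U) := by
  have := locallyQuasiFinite_of_etale f
  obtain ⟨V, hV, hVc⟩ := hconst
  obtain ⟨U, hyU, hU⟩ := exists_isProper_restrict f
    (fun y => Scheme.Hom.finite_preimage_singleton f y) y (hopen_of_etale f y)
    ⟨V, hV, fun z hz => (card_geomFiber_eq_iff f y z).mp (hVc z hz)⟩
  exact ⟨U, hyU, IsFinite.of_isProper_of_locallyQuasiFinite _⟩

/-- If `f` is finite over a neighbourhood of `y` then the geometric point count is constant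
near `y`. -/
theorem exists_const_of_isFinite_restrict (y : Y) (U : Y.Opens) (hyU : y ∈ U)
    (hfin : IsFinite (f ∣_ U)) :
    ∃ O : Y.Opens, y ∈ O ∧ ∀ z ∈ O,
      ENat.card ↥(MoreMor.geomFiber f z) = ENat.card ↥(MoreMor.geomFiber f y) := by
  have := locallyQuasiFinite_of_etale f
  have hw := isWeighting_one_of_etale f
  have sq : IsPullback (𝟙 X) f f (𝟙 Y) := IsPullback.of_horiz_isIso ⟨by simp⟩
  have hfin' : IsFinite ((𝟙 X ≫ f) ∣_ U) := by
    rw [Category.id_comp]
    exact hfin
  obtain ⟨O, hyO, hO⟩ := IsWeighting.flex_restrict hw sq (𝟙 X) U hfin' y hyU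
  refine ⟨O, hyO, fun z hz => (card_geomFiber_eq_iff f y z).mpr ?_⟩
  have := hO z hz
  simp only [Category.id_comp] at this
  exact this

end EtaleCount

end Groth.Agent.Lib.Helper57.Wt
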