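import Groth.Agent.Lib.Helper57.Wt1

universe u

open CategoryTheory CategoryTheory.Limits AlgebraicGeometry TopologicalSpace

namespace Groth.Agent.Lib.Helper57.Wt

/-- The separable degree of the residue field extension of `q` at `p`. -/
noncomputable def deg {P V : Scheme.{u}} (q : P ⟶ V) (p : P) : ℤ :=
  letI := (q.residueFieldMap p).hom.toAlgebra
  (Field.finSepDegree (V.residueField (q p)) (P.residueField p) : ℤ)

theorem fibreIntegral_eq {P V : Scheme.{u}} (q : P ⟶ V) (w : P → ℤ) (v : V) :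
    MoreMor.fibreIntegral q w v = ∑ᶠ u : {u : P // q u = v}, w u.1 * deg q u.1 := rfl

theorem deg_comp_of_isOpenImmersion {W P V : Scheme.{u}} (j : W ⟶ P) [IsOpenImmersion j]
    (q : P ⟶ V) (u : W) : deg (j ≫ q) u = deg q (j u) := by
  unfold deg
  letI a1 := (q.residueFieldMap (j u)).hom.toAlgebra
  letI a2 : Algebra (V.residueField (q (j u))) (W.residueField u) :=
    ((j ≫ q).residueFieldMap u).hom.toAlgebra
  let e : P.residueField (j u) ≃ₐ[V.residueField (q (j u))] W.residueField u :=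
    { (asIso (j.residueFieldMap u)).commRingCatIsoToRingEquiv with
      commutes' := fun r => by
        have := Scheme.residueFieldMap_comp j q u
        exact congr($(this).hom r).symm }
  have := Field.finSepDegree_eq_of_equiv (V.residueField (q (j u))) _ _ e
  exact congrArg (Nat.cast) this.symm

theorem deg_pos {P V : Scheme.{u}} (q : P ⟶ V) (p : P) (h : (q.residueFieldMap p).hom.Finite) :
    0 < deg q p := by
  unfold deg
  letI := (q.residueFieldMap p).hom.toAlgebra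
  have : FiniteDimensional (V.residueField (q p)) (P.residueField p) := h
  have h3 : Field.finSepDegree (V.residueField (q p)) (P.residueField p) ≠ 0 := NeZero.ne _
  exact_mod_cast Nat.pos_of_ne_zero h3

theorem deg_eq_one {P V : Scheme.{u}} (q : P ⟶ V) (p : P)
    (h : letI := (q.residueFieldMap p).hom.toAlgebra
      IsPurelyInseparable (V.residueField (q p)) (P.residueField p)) : deg q p = 1 := by
  unfold deg
  letI := (q.residueFieldMap p).hom.toAlgebra
  have : IsPurelyInseparable (V.residueField (q p)) (P.residueField p) := h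
  rw [IsPurelyInseparable.finSepDegree_eq_one]
  rfl

/-- Pointwise formula for the integral over an open. -/
theorem fibreIntegral_openImmersion {W P V : Scheme.{u}} (j : W ⟶ P) [IsOpenImmersion j]
    (q : P ⟶ V) (w : P → ℤ) (v : V) :
    MoreMor.fibreIntegral (j ≫ q) (fun u => w (j u)) v =
      ∑ᶠ p ∈ {p : P | p ∈ Set.range j ∧ q p = v}, w p * deg q p := by
  rw [fibreIntegral_eq, ← finsum_set_coe_eq_finsum_mem]
  let e : {u : W // (j ≫ q) u = v} → ↥{p : P | p ∈ Set.range j ∧ q p = v} :=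
    fun u => ⟨j u.1, ⟨u.1, rfl⟩, u.2⟩
  have he : Function.Bijective e := by
    constructor
    · intro u₁ u₂ h
      apply Subtype.ext
      exact j.isOpenEmbedding.injective (congrArg Subtype.val h)
    · rintro ⟨_, ⟨u, rfl⟩, hu⟩
      exact ⟨⟨u, hu⟩, rfl⟩
  refine finsum_eq_of_bijective e he fun u => ?_
  rw [deg_comp_of_isOpenImmersion]

theorem fibreIntegral_eq_of_fibre_eq {W₁ W₂ P V : Scheme.{u}} (j₁ : W₁ ⟶ P) [IsOpenImmersion j₁]
    (j₂ : W₂ ⟶ P) [IsOpenImmersion j₂] (q : P ⟶ V) (w : P → ℤ) (v : V)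
    (h : ∀ p, q p = v → (p ∈ Set.range j₁ ↔ p ∈ Set.range j₂)) :
    MoreMor.fibreIntegral (j₁ ≫ q) (fun u => w (j₁ u)) v =
      MoreMor.fibreIntegral (j₂ ≫ q) (fun u => w (j₂ u)) v := by
  rw [fibreIntegral_openImmersion, fibreIntegral_openImmersion]
  have : {p : P | p ∈ Set.range j₁ ∧ q p = v} = {p : P | p ∈ Set.range j₂ ∧ q p = v} := by
    ext p
    constructor
    · rintro ⟨h1, h2⟩; exact ⟨(h p h2).mp h1, h2⟩
    · rintro ⟨h1, h2⟩; exact ⟨(h p h2).mpr h1, h2⟩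
  rw [this]


/-- Additivity of the fibre integral over pieces which are disjoint on the fibre. -/
theorem fibreIntegral_eq_finsum_pieces {K : Type*} [Finite K] {W P V : Scheme.{u}} (j : W ⟶ P)
    [IsOpenImmersion j] {Wk : K → Scheme.{u}} (jk : ∀ k, Wk k ⟶ P) [∀ k, IsOpenImmersion (jk k)]
    (q : P ⟶ V) (w : P → ℤ) (v : V)
    (hcov : ∀ p, q p = v → (p ∈ Set.range j ↔ ∃ k, p ∈ Set.range (jk k)))
    (hdisj : ∀ p, q p = v → ∀ k k', p ∈ Set.range (jk k) → p ∈ Set.range (jk k') → k = k')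
    (hfin : ∀ k, {p : P | p ∈ Set.range (jk k) ∧ q p = v}.Finite) :
    MoreMor.fibreIntegral (j ≫ q) (fun u => w (j u)) v =
      ∑ᶠ k, MoreMor.fibreIntegral (jk k ≫ q) (fun u => w (jk k u)) v := by
  rw [fibreIntegral_openImmersion]
  simp_rw [fibreIntegral_openImmersion]
  have h1 : {p : P | p ∈ Set.range j ∧ q p = v} =
      ⋃ k, {p : P | p ∈ Set.range (jk k) ∧ q p = v} := by
    ext p
    simp only [Set.mem_iUnion]
    constructor
    · rintro ⟨h1, h2⟩
      obtain ⟨k, hk⟩ := (hcov p h2).mp h1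
      exact ⟨k, hk, h2⟩
    · rintro ⟨k, hk, h2⟩
      exact ⟨(hcov p h2).mpr ⟨k, hk⟩, h2⟩
  rw [h1]
  apply finsum_mem_iUnion _ hfin
  intro k k' hkk'
  rw [Function.onFun, Set.disjoint_left]
  rintro p ⟨h1, h2⟩ ⟨h3, -⟩
  exact hkk' (hdisj p h2 k k' h1 h3)

theorem fibreIntegral_eq_finsum_pieces_top {K : Type*} [Finite K] {P V : Scheme.{u}}
    {Wk : K → Scheme.{u}} (jk : ∀ k, Wk k ⟶ P) [∀ k, IsOpenImmersion (jk k)]
    (q : P ⟶ V) (w : P → ℤ) (v : V)
    (hcov : ∀ p, q p = v → ∃ k, p ∈ Set.range (jk k))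
    (hdisj : ∀ p, q p = v → ∀ k k', p ∈ Set.range (jk k) → p ∈ Set.range (jk k') → k = k')
    (hfin : ∀ k, {p : P | p ∈ Set.range (jk k) ∧ q p = v}.Finite) :
    MoreMor.fibreIntegral q w v =
      ∑ᶠ k, MoreMor.fibreIntegral (jk k ≫ q) (fun u => w (jk k u)) v := by
  have := fibreIntegral_eq_finsum_pieces (𝟙 P) jk q w v
    (fun p hp => ⟨fun _ => hcov p hp, fun _ => ⟨p, rfl⟩⟩) hdisj hfin
  rw [← this, Category.id_comp]
  rfl

/-- Finiteness of fibres of a finite morphism, in the form used above. -/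
theorem finite_fibre_of_isFinite {W P V : Scheme.{u}} (j : W ⟶ P) (q : P ⟶ V)
    [IsFinite (j ≫ q)] (v : V) : {p : P | p ∈ Set.range j ∧ q p = v}.Finite := by
  have h1 : ((j ≫ q) ⁻¹' {v}).Finite := Scheme.Hom.finite_preimage_singleton (j ≫ q) v
  refine (h1.image j).subset ?_
  rintro _ ⟨⟨u, rfl⟩, hu⟩
  exact ⟨u, hu, rfl⟩

/-- The flexible form of the weighting condition. -/
theorem IsWeighting.flex {X Y : Scheme.{u}} {f : X ⟶ Y} {w : X → ℤ}
    (hw : MoreMor.IsWeighting f w) {P V W : Scheme.{u}} {p : P ⟶ X} {q : P ⟶ V} {a : V ⟶ Y}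
    [Etale a] (sq : IsPullback p q f a) (j : W ⟶ P) [IsOpenImmersion j]
    (hfin : IsFinite (j ≫ q)) :
    IsLocallyConstant (MoreMor.fibreIntegral (j ≫ q) (fun u => w (p (j u)))) := by
  let e := sq.isoPullback
  let U₀ : (pullback f a).Opens := (j ≫ e.hom).opensRange
  have h1 : (j ≫ e.hom).isoOpensRange.hom ≫ U₀.ι ≫ pullback.snd f a = j ≫ q := by
    rw [← Category.assoc, Scheme.Hom.isoOpensRange_hom_ι]
    simp [e]
  have h2 : IsFinite (U₀.ι ≫ pullback.snd f a) := by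
    have : U₀.ι ≫ pullback.snd f a = (j ≫ e.hom).isoOpensRange.inv ≫ j ≫ q := by
      rw [← h1, Iso.inv_hom_id_assoc]
    rw [this]
    infer_instance
  have h3 := hw V a U₀ h2
  have h4 : MoreMor.fibreIntegral (j ≫ q) (fun u => w (p (j u))) =
      MoreMor.fibreIntegral (U₀.ι ≫ pullback.snd f a)
        (fun u => w (pullback.fst f a (U₀.ι u))) := by
    funext v
    have h5 := fibreIntegral_eq_of_fibre_eq (j ≫ e.hom) U₀.ι (pullback.snd f a)
      (fun x => w (pullback.fst f a x)) v (fun x _ => by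
        rw [Scheme.Opens.range_ι]; rfl)
    rw [← h5]
    have h6 : (j ≫ e.hom) ≫ pullback.snd f a = j ≫ q := by simp [e]
    rw [h6]
    congr 1
    funext u
    have h7 : pullback.fst f a ((j ≫ e.hom) u) = p (j u) := by
      have : e.hom ≫ pullback.fst f a = p := sq.isoPullback_hom_fst
      rw [← this]
      rfl
    rw [h7]
  rw [h4]
  exact h3

/-- Shrinking lemma. -/
theorem exists_nbhd_subset {W P V : Scheme.{u}} (j : W ⟶ P) (q : P ⟶ V)
    (hcl : IsClosedMap (j ≫ q)) (A : P.Opens) (v : V)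
    (h : ∀ u : W, q (j u) = v → j u ∈ A) :
    ∃ N : V.Opens, v ∈ N ∧ ∀ u : W, q (j u) ∈ N → j u ∈ A := by
  have hZ : IsClosed {u : W | j u ∉ A} :=
    (A.2.preimage j.continuous).isClosed_compl
  have hI := hcl _ hZ
  refine ⟨⟨_, hI.isOpen_compl⟩, ?_, ?_⟩
  · rintro ⟨u, hu, huv⟩
    exact hu (h u huv)
  · intro u hu
    by_contra hA
    exact hu ⟨u, hA, rfl⟩

section GeomPoints

variable {Ω : Type u} [Field Ω]

theorem card_emb [IsAlgClosed Ω] {U V : Scheme.{u}} (π : U ⟶ V)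
    (hπ : ∀ u, (π.residueFieldMap u).hom.Finite) (ξ : Spec (.of Ω) ⟶ V)
    (u : {u : U // π u = gpt ξ}) :
    Finite (Emb π ξ u) ∧ Nonempty (Emb π ξ u) ∧ (Nat.card (Emb π ξ u) : ℤ) = deg π u.1 := by
  letI := (π.residueFieldMap u.1).hom.toAlgebra
  letI : Algebra (V.residueField (π u.1)) Ω :=
    ((V.residueFieldCongr u.2).hom ≫ gemb ξ).hom.toAlgebra
  have : FiniteDimensional (V.residueField (π u.1)) (U.residueField u.1) := hπ u.1
  have h1 : Field.finSepDegree (V.residueField (π u.1)) (U.residueField u.1) =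
      Nat.card (U.residueField u.1 →ₐ[V.residueField (π u.1)] Ω) :=
    Field.finSepDegree_eq_of_isAlgClosed _ _ Ω
  have h2 : Nat.card (Emb π ξ u) =
      Nat.card (U.residueField u.1 →ₐ[V.residueField (π u.1)] Ω) :=
    Nat.card_congr (embEquivAlgHom π ξ u)
  have h3 : Field.finSepDegree (V.residueField (π u.1)) (U.residueField u.1) ≠ 0 :=
    NeZero.ne _
  have h4 : Nat.card (Emb π ξ u) ≠ 0 := by rw [h2, ← h1]; exact h3
  obtain ⟨h5, h6⟩ := Nat.card_ne_zero.mp h4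
  refine ⟨h6, h5, ?_⟩
  unfold deg
  exact congrArg Nat.cast (h2.trans h1.symm)

/-- Every point over the image of a geometric point is the image of a lift. -/
theorem exists_lift_gpt [IsAlgClosed Ω] {U V : Scheme.{u}} (π : U ⟶ V)
    (hπ : ∀ u, (π.residueFieldMap u).hom.Finite) (ξ : Spec (.of Ω) ⟶ V) (u : U)
    (hu : π u = gpt ξ) : ∃ ζ : Spec (.of Ω) ⟶ U, ζ ≫ π = ξ ∧ gpt ζ = u := by
  obtain ⟨σ⟩ := (card_emb π hπ ξ ⟨u, hu⟩).2.1
  obtain ⟨ζ, hζ⟩ := (liftMap_bijective π ξ).2 ⟨⟨u, hu⟩, σ⟩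
  refine ⟨ζ.1, ζ.2, ?_⟩
  rw [← liftMap_apply_fst, hζ]

/-- If `π` has at most one point over the image of `ξ`, of separable degree one, then `ξ` has at
most one lift. -/
theorem lift_unique [IsAlgClosed Ω] {U V : Scheme.{u}} (π : U ⟶ V)
    (hπ : ∀ u, (π.residueFieldMap u).hom.Finite) (ξ : Spec (.of Ω) ⟶ V)
    (huniq : ∀ u₁ u₂, π u₁ = gpt ξ → π u₂ = gpt ξ → u₁ = u₂)
    (hdeg : ∀ u, π u = gpt ξ → deg π u = 1)
    (ζ₁ ζ₂ : Spec (.of Ω) ⟶ U) (h₁ : ζ₁ ≫ π = ξ) (h₂ : ζ₂ ≫ π = ξ) : ζ₁ = ζ₂ := by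
  have hsub : Subsingleton (Σ u : {u : U // π u = gpt ξ}, Emb π ξ u) := by
    constructor
    rintro ⟨⟨u₁, hu₁⟩, σ₁⟩ ⟨⟨u₂, hu₂⟩, σ₂⟩
    obtain rfl := huniq u₁ u₂ hu₁ hu₂
    obtain ⟨h5, -, h7⟩ := card_emb π hπ ξ ⟨u₁, hu₁⟩
    rw [hdeg u₁ hu₁] at h7
    have h8 : Nat.card (Emb π ξ ⟨u₁, hu₁⟩) = 1 := by exact_mod_cast h7
    have := (Nat.card_eq_one_iff_unique.mp h8).1
    rw [Subsingleton.elim σ₁ σ₂]
  have := (liftMap_bijective π ξ).1 (hsub.elim (liftMap π ξ ⟨ζ₁, h₁⟩) (liftMap π ξ ⟨ζ₂, h₂⟩))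
  exact congrArg Subtype.val this

/-- Uniqueness of the point in the fibre is preserved by base change when the residue field
extension has separable degree one. -/
theorem fibre_subsingleton_of_isPullback {U V U' V' : Scheme.{u}} {π : U ⟶ V} {π' : U' ⟶ V'}
    {h : U' ⟶ U} {g : V' ⟶ V} (hc : IsPullback h π' π g)
    (hπ : ∀ u, (π.residueFieldMap u).hom.Finite) (hπ' : ∀ u, (π'.residueFieldMap u).hom.Finite)
    (v' : V') (huniq : ∀ u₁ u₂, π u₁ = g v' → π u₂ = g v' → u₁ = u₂)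
    (hdeg : ∀ u, π u = g v' → deg π u = 1) :
    ∀ u₁ u₂, π' u₁ = v' → π' u₂ = v' → u₁ = u₂ := by
  obtain ⟨Ω, _, _, ξ', rfl⟩ := exists_geomPoint v'
  intro u₁ u₂ hu₁ hu₂
  obtain ⟨ζ₁, hζ₁, rfl⟩ := exists_lift_gpt π' hπ' ξ' u₁ hu₁
  obtain ⟨ζ₂, hζ₂, rfl⟩ := exists_lift_gpt π' hπ' ξ' u₂ hu₂
  have h1 := lift_unique π hπ (ξ' ≫ g) huniq hdeg (ζ₁ ≫ h) (ζ₂ ≫ h)
    (by rw [Category.assoc, hc.w, ← Category.assoc, hζ₁])
    (by rw [Category.assoc, hc.w, ← Category.assoc, hζ₂])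
  have h2 : ζ₁ = ζ₂ := hc.hom_ext h1 (hζ₁.trans hζ₂.symm)
  rw [h2]

end GeomPoints

/-- Restriction of a weighting to an open subscheme. -/
theorem isWeighting_restrict {X Y : Scheme.{u}} (f : X ⟶ Y) (w : X → ℤ)
    (hw : MoreMor.IsWeighting f w) (X' : X.Opens) :
    MoreMor.IsWeighting (X'.ι ≫ f) (fun x => w (X'.ι x)) := by
  intro V g _ U hU
  let j' : pullback (X'.ι ≫ f) g ⟶ pullback f g :=
    pullback.lift (pullback.fst _ _ ≫ X'.ι) (pullback.snd _ _)
      (by rw [Category.assoc, pullback.condition])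
  have hj1 : j' ≫ pullback.fst f g = pullback.fst _ _ ≫ X'.ι := pullback.lift_fst _ _ _
  have hj2 : j' ≫ pullback.snd f g = pullback.snd _ _ := pullback.lift_snd _ _ _
  have sq : IsPullback j' (pullback.fst (X'.ι ≫ f) g) (pullback.fst f g) X'.ι := by
    refine IsPullback.of_right ?_ hj1 (IsPullback.of_hasPullback f g).flip
    rw [hj2]
    exact (IsPullback.of_hasPullback (X'.ι ≫ f) g).flip
  have : IsOpenImmersion j' := MorphismProperty.of_isPullback sq.flip inferInstance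
  have hfin : IsFinite ((U.ι ≫ j') ≫ pullback.snd f g) := by
    rw [Category.assoc, hj2]; exact hU
  have h1 := IsWeighting.flex hw (IsPullback.of_hasPullback f g) (U.ι ≫ j') hfin
  have h2 : (U.ι ≫ j') ≫ pullback.snd f g = U.ι ≫ pullback.snd (X'.ι ≫ f) g := by
    rw [Category.assoc, hj2]
  rw [h2] at h1
  convert h1 using 2
  funext u
  have : pullback.fst f g ((U.ι ≫ j') u) = X'.ι (pullback.fst (X'.ι ≫ f) g (U.ι u)) := by
    show (j' ≫ pullback.fst f g) (U.ι u) = _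
    rw [hj1]
    rfl
  rw [this]

end Groth.Agent.Lib.Helper57.Wt
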