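import Groth.Agent.Lib.Helper57.Wt2
import Groth.Agent.Lib.Helper57.EtRes4
import Groth.Agent.Lib.Helper57.EtRes5

universe u

open CategoryTheory CategoryTheory.Limits AlgebraicGeometry TopologicalSpace

namespace Groth.Agent.Lib.Helper57.Wt

section OpenMap

variable {X' X Y V : Scheme.{u}} (i : X' ⟶ X) (f : X ⟶ Y) (g : V ⟶ Y)

/-- The canonical map `X' ×_Y V ⟶ X ×_Y V` induced by `i : X' ⟶ X`. -/
noncomputable def pbMap : pullback (i ≫ f) g ⟶ pullback f g :=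
  pullback.lift (pullback.fst _ _ ≫ i) (pullback.snd _ _)
    (by rw [Category.assoc, pullback.condition])

@[reassoc (attr := simp)]
theorem pbMap_fst : pbMap i f g ≫ pullback.fst f g = pullback.fst _ _ ≫ i :=
  pullback.lift_fst _ _ _

@[reassoc (attr := simp)]
theorem pbMap_snd : pbMap i f g ≫ pullback.snd f g = pullback.snd _ _ :=
  pullback.lift_snd _ _ _

theorem isPullback_pbMap :
    IsPullback (pbMap i f g) (pullback.fst (i ≫ f) g) (pullback.fst f g) i := by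
  refine IsPullback.of_right ?_ (pbMap_fst i f g) (IsPullback.of_hasPullback f g).flip
  rw [pbMap_snd]
  exact (IsPullback.of_hasPullback (i ≫ f) g).flip

instance [IsOpenImmersion i] : IsOpenImmersion (pbMap i f g) :=
  MorphismProperty.of_isPullback (isPullback_pbMap i f g).flip inferInstance

end OpenMap

/-- Étale-local decomposition of a finite morphism at a point of the base. -/
theorem exists_decomp {U V : Scheme.{u}} (π : U ⟶ V) [IsFinite π] (v : V) :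
    ∃ (V₁ : Scheme.{u}) (b : V₁ ⟶ V) (v₁ : V₁), Etale b ∧ b v₁ = v ∧
      ∃ (K : Type) (_ : Finite K) (E : K → (pullback π b).Opens) (pt : K → ↑(pullback π b)),
        (∀ k, IsFinite ((E k).ι ≫ pullback.snd π b)) ∧
        (∀ k, pt k ∈ E k ∧ pullback.snd π b (pt k) = v₁ ∧
          (∀ z ∈ E k, pullback.snd π b z = v₁ → z = pt k) ∧
          deg (pullback.snd π b) (pt k) = 1) ∧
        ∃ N : V₁.Opens, v₁ ∈ N ∧ (∀ z, pullback.snd π b z ∈ N → ∃ k, z ∈ E k) ∧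
          (∀ z k k', z ∈ E k → z ∈ E k' → k = k') := by
  have hfib : (π ⁻¹' {v}).Finite := Scheme.Hom.finite_preimage_singleton π v
  have : Finite ↥(π ⁻¹' {v}) := hfib.to_subtype
  obtain ⟨n, ⟨e⟩⟩ := Finite.exists_equiv_fin ↥(π ⁻¹' {v})
  let x : Fin n → ↑U := fun i => (e.symm i).1
  have hxinj : Function.Injective x := fun i i' h => e.symm.injective (Subtype.ext h)
  have hxs : ∀ i, π (x i) = v := fun i => (e.symm i).2
  obtain ⟨V₁, b, v₁, hb, hbv, J, hJ, E, pt, hclopen, hdisj, hE, hcov⟩ :=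
    EtRes.exists_etale_nbhd_purelyInseparable π v x hxinj hxs (fun i => π.quasiFiniteAt _)
  refine ⟨V₁, b, v₁, hb, hbv, Σ i, J i, inferInstance, fun (k : Σ i, J i) => E k.1 k.2,
    fun (k : Σ i, J i) => pt k.1 k.2,
    fun (k : Σ i, J i) => (hE k.1 k.2).2.1, fun (k : Σ i, J i) => ?_, ?_⟩
  · obtain ⟨h1, h2, h3, h4, h5, h6⟩ := hE k.1 k.2
    exact ⟨h1, h3, h4, deg_eq_one _ _ h5⟩
  · have hRcl : IsClosed (⋃ k : Σ i, J i, (E k.1 k.2 : Set ↑(pullback π b)))ᶜ :=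
      (isOpen_iUnion fun (k : Σ i, J i) => (E k.1 k.2).2).isClosed_compl
    have hI := (pullback.snd π b).isClosedMap _ hRcl
    refine ⟨⟨_, hI.isOpen_compl⟩, ?_, ?_, ?_⟩
    · rintro ⟨z, hz, hzv⟩
      apply hz
      have h1 : π (pullback.fst π b z) = v := by
        rw [← hbv, ← hzv]
        exact congr($(pullback.condition (f := π) (g := b)) z)
      obtain ⟨i, hi⟩ : ∃ i, pullback.fst π b z = x i := by
        refine ⟨e ⟨_, h1⟩, ?_⟩
        simp [x]
      obtain ⟨j, hj⟩ := hcov z i hzv hi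
      exact Set.mem_iUnion.mpr ⟨⟨i, j⟩, hj⟩
    · intro z hz
      by_contra hk
      apply hz
      refine ⟨z, ?_, rfl⟩
      intro hz'
      obtain ⟨k, hk'⟩ := Set.mem_iUnion.mp hz'
      exact hk ⟨k, hk'⟩
    · rintro z ⟨i, j⟩ ⟨i', j'⟩ h1 h2
      obtain ⟨rfl, h3⟩ := hdisj i j i' j' ⟨z, h1, h2⟩
      rw [eq_of_heq h3]

/-- Local constancy of the integral over a piece with a single, purely inseparable point in the
fibre. The base `V` is arbitrary over `Y`. -/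
theorem lc_of_single_point {X Y : Scheme.{u}} (f : X ⟶ Y) [LocallyOfFiniteType f]
    [LocallyQuasiFinite f] (w : X → ℤ) (hw : MoreMor.IsWeighting f w)
    {P V W : Scheme.{u}} {p : P ⟶ X} {q : P ⟶ V} {e : V ⟶ Y} (sq : IsPullback p q f e)
    (j : W ⟶ P) [IsOpenImmersion j] [IsFinite (j ≫ q)] (v : V) (u₀ : W) (hu₀ : q (j u₀) = v)
    (huniq : ∀ u : W, q (j u) = v → u = u₀) (hdeg : deg (j ≫ q) u₀ = 1) :
    ∃ N : V.Opens, v ∈ N ∧ ∀ v₁ ∈ N,
      MoreMor.fibreIntegral (j ≫ q) (fun u => w (p (j u))) v₁ =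
        MoreMor.fibreIntegral (j ≫ q) (fun u => w (p (j u))) v := by
  -- étale localization of `f` at the image point
  have hfx : f (p (j u₀)) = e v := by
    rw [← hu₀]
    exact congr($(sq.w) (j u₀))
  obtain ⟨V₀, a, v₀, ha, hav, J, hJ, Vj, vj, hVj, -, hcov⟩ :=
    EtRes.exists_etale_nbhd_purelyInseparable_open f (e v) (fun _ : Unit => p (j u₀))
      (fun _ _ _ => rfl) (fun _ => hfx) (fun _ => f.quasiFiniteAt _)
  -- the common refinement
  obtain ⟨v₂, hv₂c, hv₂d⟩ := Scheme.Pullback.exists_preimage_pullback (f := e) (g := a) v v₀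
    hav.symm
  let c := pullback.fst e a
  let d := pullback.snd e a
  let c' := pullback.fst q c
  let q₂ := pullback.snd q c
  have sqc : IsPullback c' q₂ q c := IsPullback.of_hasPullback q c
  let m : pullback q c ⟶ pullback f a := pullback.lift (c' ≫ p) (q₂ ≫ d) (by
    rw [Category.assoc, sq.w, ← Category.assoc, sqc.w, Category.assoc, Category.assoc]
    congr 1
    exact pullback.condition)
  have hm1 : m ≫ pullback.fst f a = c' ≫ p := pullback.lift_fst _ _ _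
  have hm2 : m ≫ pullback.snd f a = q₂ ≫ d := pullback.lift_snd _ _ _
  have sqm : IsPullback m q₂ (pullback.snd f a) d := by
    refine IsPullback.of_right ?_ hm2 (IsPullback.of_hasPullback f a)
    rw [hm1]
    have : d ≫ a = c ≫ e := pullback.condition.symm
    rw [this]
    exact sqc.paste_horiz sq
  -- base change of `W`
  let h₂ := pullback.fst j c'
  let j₂ := pullback.snd j c'
  have sqW : IsPullback h₂ j₂ j c' := IsPullback.of_hasPullback j c'
  have sqW' : IsPullback h₂ (j₂ ≫ q₂) (j ≫ q) c := sqW.paste_vert sqc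
  have : IsFinite (j₂ ≫ q₂) := MorphismProperty.of_isPullback sqW' inferInstance
  have hfinres : ∀ {A B : Scheme.{u}} (g : A ⟶ B) [IsFinite g] (x : A),
      (g.residueFieldMap x).hom.Finite := fun g _ x => finite_residueFieldMap g x
  -- the point of `W₂`
  obtain ⟨u₂, hu₂h, hu₂q⟩ := Scheme.exists_preimage_of_isPullback sqW' u₀ v₂
    (by rw [hv₂c]; exact hu₀)
  have hW₂uniq : ∀ u₁ u₂ : ↑(pullback j c'), (j₂ ≫ q₂) u₁ = v₂ → (j₂ ≫ q₂) u₂ = v₂ → u₁ = u₂ := by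
    apply fibre_subsingleton_of_isPullback sqW' (hfinres _) (hfinres _) v₂
    · intro u₁ u₂ h1 h2
      rw [hv₂c] at h1 h2
      rw [huniq u₁ h1, huniq u₂ h2]
    · intro u h1
      rw [hv₂c] at h1
      rw [huniq u h1]
      exact hdeg
  -- the piece containing its image
  have hmp1 : pullback.fst f a (m (j₂ u₂)) = p (j u₀) := by
    show (m ≫ pullback.fst f a) (j₂ u₂) = _
    rw [hm1]
    show p ((j₂ ≫ c') u₂) = _
    rw [← sqW.w]
    show p (j (h₂ u₂)) = _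
    rw [hu₂h]
  have hmp2 : pullback.snd f a (m (j₂ u₂)) = v₀ := by
    show (m ≫ pullback.snd f a) (j₂ u₂) = _
    rw [hm2]
    show d ((j₂ ≫ q₂) u₂) = _
    rw [hu₂q]
    exact hv₂d
  obtain ⟨jj, hjj⟩ := hcov (m (j₂ u₂)) () hmp2 hmp1
  obtain ⟨hV1, hV2, hV3, hV4, hV5, hV6⟩ := hVj () jj
  let D : (pullback q c).Opens := m ⁻¹ᵁ (Vj () jj)
  have hp₂D : j₂ u₂ ∈ D := by
    show m (j₂ u₂) ∈ Vj () jj
    rw [hjj]; exact hV1
  have sqD : IsPullback (m ∣_ Vj () jj) (D.ι ≫ q₂) ((Vj () jj).ι ≫ pullback.snd f a) d :=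
    (isPullback_morphismRestrict m (Vj () jj)).paste_vert sqm
  have : IsFinite (D.ι ≫ q₂) := MorphismProperty.of_isPullback sqD hV2
  have hDuniq : ∀ z₁ z₂ : ↥D, (D.ι ≫ q₂) z₁ = v₂ → (D.ι ≫ q₂) z₂ = v₂ → z₁ = z₂ := by
    have := hV2
    apply fibre_subsingleton_of_isPullback sqD (hfinres _) (hfinres _) v₂
    · intro z₁ z₂ h1 h2
      rw [hv₂d] at h1 h2
      apply Subtype.ext
      have e1 := hV4 z₁.1 z₁.2 h1
      have e2 := hV4 z₂.1 z₂.2 h2
      exact e1.trans e2.symm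
    · intro z h1
      rw [hv₂d] at h1
      rw [deg_comp_of_isOpenImmersion]
      have e1 : (Vj () jj).ι z = vj () jj := hV4 z.1 z.2 h1
      rw [e1]
      exact deg_eq_one _ _ hV5.2
  -- shrinking
  obtain ⟨Na, hNa, hNa'⟩ := exists_nbhd_subset j₂ q₂ (j₂ ≫ q₂).isClosedMap D v₂ (by
    intro u hu
    rw [hW₂uniq u u₂ hu hu₂q]
    exact hp₂D)
  obtain ⟨Nb, hNb, hNb'⟩ := exists_nbhd_subset D.ι q₂ (D.ι ≫ q₂).isClosedMap j₂.opensRange v₂ (by
    intro z hz
    rw [hDuniq z ⟨j₂ u₂, hp₂D⟩ hz hu₂q]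
    exact ⟨u₂, rfl⟩)
  -- local constancy of the integral over `D`
  have hG := hw V₀ a (Vj () jj) hV2
  obtain ⟨Nc, hNc, hv₀Nc, hNc'⟩ := (IsLocallyConstant.iff_exists_open _).mp hG v₀
  -- assemble
  let wP : ↑(pullback q c) → ℤ := fun z => w (p (c' z))
  have key : ∀ v' : ↑(pullback e a), v' ∈ Na → v' ∈ Nb →
      MoreMor.fibreIntegral (j ≫ q) (fun u => w (p (j u))) (c v') =
        MoreMor.fibreIntegral ((Vj () jj).ι ≫ pullback.snd f a)
          (fun u => w (pullback.fst f a ((Vj () jj).ι u))) (d v') := by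
    intro v' h1 h2
    have e1 := fibreIntegral_baseChange_lqf (j ≫ q) (j₂ ≫ q₂) h₂ c sqW'
      (fun u => w (p (j u))) v'
    have e2 := fibreIntegral_baseChange_lqf ((Vj () jj).ι ≫ pullback.snd f a) (D.ι ≫ q₂)
      (m ∣_ Vj () jj) d sqD (fun u => w (pullback.fst f a ((Vj () jj).ι u))) v'
    rw [← e1, ← e2]
    have e3 := fibreIntegral_eq_of_fibre_eq j₂ D.ι q₂ wP v' (by
      intro z hz
      constructor
      · rintro ⟨u, rfl⟩
        rw [Scheme.Opens.range_ι]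
        exact hNa' u (hz ▸ h1)
      · intro hzD
        rw [Scheme.Opens.range_ι] at hzD
        exact hNb' ⟨z, hzD⟩ (hz ▸ h2))
    convert e3 using 2
    · funext u
      show w (p (j (h₂ u))) = w (p (c' (j₂ u)))
      have : j (h₂ u) = c' (j₂ u) := congr($(sqW.w) u)
      rw [this]
    · funext z
      show w (pullback.fst f a ((Vj () jj).ι ((m ∣_ Vj () jj) z))) = w (p (c' (D.ι z)))
      have e4 : (Vj () jj).ι ((m ∣_ Vj () jj) z) = m (D.ι z) :=
        congr($(morphismRestrict_ι m (Vj () jj)) z)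
      rw [e4]
      have e5 : pullback.fst f a (m (D.ι z)) = p (c' (D.ι z)) := congr($(hm1) (D.ι z))
      rw [e5]
  have hcopen : IsOpenMap c := c.isOpenMap
  let N₂ : Set ↑(pullback e a) := (Na : Set _) ∩ Nb ∩ (d ⁻¹' Nc)
  have hN₂ : IsOpen N₂ := (Na.2.inter Nb.2).inter (hNc.preimage d.continuous)
  refine ⟨⟨c '' N₂, hcopen _ hN₂⟩, ⟨v₂, ⟨⟨hNa, hNb⟩, ?_⟩, hv₂c⟩, ?_⟩
  · show d v₂ ∈ Nc
    rw [hv₂d]; exact hv₀Nc
  · rintro _ ⟨v', ⟨⟨h1, h2⟩, h3⟩, rfl⟩
    rw [key v' h1 h2, ← hv₂c, key v₂ hNa hNb, hNc' _ h3, hv₂d]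

/-- **Base change of weightings** (Stacks 0F3D). -/
theorem isWeighting_baseChange {X Y : Scheme.{u}} (f : X ⟶ Y) [LocallyQuasiFinite f]
    [LocallyOfFiniteType f] (w : X → ℤ) (hw : MoreMor.IsWeighting f w)
    {X' Y' : Scheme.{u}} (f' : X' ⟶ Y') (h : X' ⟶ X) (g : Y' ⟶ Y) (hc : IsPullback h f' f g) :
    MoreMor.IsWeighting f' (w ∘ h) := by
  intro V' a' _ U' hU'
  rw [IsLocallyConstant.iff_exists_open]
  intro v'
  let q' := pullback.snd f' a'
  let π' := U'.ι ≫ q'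
  let w' : ↥U' → ℤ := fun u => (w ∘ h) (pullback.fst f' a' (U'.ι u))
  have : IsFinite π' := hU'
  obtain ⟨V₁, b, v₁, hb, hbv, K, hK, E, pt, hEfin, hEpt, N₁, hN₁, hcov, hdisj⟩ :=
    exists_decomp π' v'
  let π₁ := pullback.snd π' b
  let c₁ := pullback.fst q' b
  let q₁ := pullback.snd q' b
  have sq₁ : IsPullback ((c₁ ≫ pullback.fst f' a') ≫ h) q₁ f ((b ≫ a') ≫ g) :=
    ((IsPullback.of_hasPullback q' b).paste_horiz (IsPullback.of_hasPullback f' a')).paste_horiz hc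
  let ι₁ : pullback π' b ⟶ pullback q' b := pbMap U'.ι q' b
  have hι1 : ι₁ ≫ c₁ = pullback.fst π' b ≫ U'.ι := pbMap_fst _ _ _
  have hι2 : ι₁ ≫ q₁ = π₁ := pbMap_snd _ _ _
  let wQ : ↑(pullback π' b) → ℤ := fun z => w' (pullback.fst π' b z)
  let G : K → ↑V₁ → ℤ := fun k =>
    MoreMor.fibreIntegral ((E k).ι ≫ π₁) (fun u => wQ ((E k).ι u))
  have hG : ∀ k, ∃ N : V₁.Opens, v₁ ∈ N ∧ ∀ v ∈ N, G k v = G k v₁ := by
    intro k
    have hjq : ((E k).ι ≫ ι₁) ≫ q₁ = (E k).ι ≫ π₁ := by rw [Category.assoc, hι2]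
    have : IsFinite (((E k).ι ≫ ι₁) ≫ q₁) := by rw [hjq]; exact hEfin k
    obtain ⟨h1, h2, h3, h4⟩ := hEpt k
    have hres := lc_of_single_point f w hw sq₁ ((E k).ι ≫ ι₁) v₁ ⟨pt k, h1⟩
      (by
        show (ι₁ ≫ q₁) (pt k) = v₁
        rw [hι2]; exact h2)
      (by
        intro u hu
        apply Subtype.ext
        apply h3 u.1 u.2
        have : (ι₁ ≫ q₁) u.1 = v₁ := hu
        rw [hι2] at this
        exact this)
      (by
        rw [hjq, deg_comp_of_isOpenImmersion]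
        exact h4)
    rw [hjq] at hres
    obtain ⟨N, hN1, hN2⟩ := hres
    refine ⟨N, hN1, fun v hv => ?_⟩
    have hfun : ∀ u, wQ ((E k).ι u) =
        w (((c₁ ≫ pullback.fst f' a') ≫ h) (((E k).ι ≫ ι₁) u)) := by
      intro u
      show _ = w (h (pullback.fst f' a' ((ι₁ ≫ c₁) ((E k).ι u))))
      rw [hι1]
      rfl
    show MoreMor.fibreIntegral _ (fun u => wQ ((E k).ι u)) v =
      MoreMor.fibreIntegral _ (fun u => wQ ((E k).ι u)) v₁
    simp_rw [hfun]
    exact hN2 v hv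
  choose Nk hNk1 hNk2 using hG
  have hF : ∀ v : ↑V₁, MoreMor.fibreIntegral π₁ wQ v = MoreMor.fibreIntegral π' w' (b v) :=
    fun v => fibreIntegral_baseChange_lqf π' π₁ (pullback.fst π' b) b
      (IsPullback.of_hasPullback π' b) w' v
  have hsum : ∀ v ∈ N₁, MoreMor.fibreIntegral π₁ wQ v = ∑ᶠ k, G k v := by
    intro v hv
    apply fibreIntegral_eq_finsum_pieces_top (fun k => (E k).ι) π₁ wQ v
    · intro z hz
      obtain ⟨k, hk⟩ := hcov z (hz ▸ hv)
      exact ⟨k, by rw [Scheme.Opens.range_ι]; exact hk⟩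
    · intro z _ k k' h1 h2
      rw [Scheme.Opens.range_ι] at h1 h2
      exact hdisj z k k' h1 h2
    · intro k
      have := hEfin k
      exact finite_fibre_of_isFinite (E k).ι π₁ v
  let N : Set ↑V₁ := (N₁ : Set ↑V₁) ∩ ⋂ k, (Nk k : Set ↑V₁)
  have hN : IsOpen N := N₁.2.inter (isOpen_iInter_of_finite fun k => (Nk k).2)
  have hv₁N : v₁ ∈ N := ⟨hN₁, Set.mem_iInter.mpr hNk1⟩
  refine ⟨b '' N, b.isOpenMap _ hN, ⟨v₁, hv₁N, hbv⟩, ?_⟩
  rintro _ ⟨v, ⟨hv1, hv2⟩, rfl⟩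
  show MoreMor.fibreIntegral π' w' (b v) = MoreMor.fibreIntegral π' w' v'
  rw [← hbv, ← hF, ← hF, hsum v hv1, hsum v₁ hN₁]
  exact finsum_congr fun k => hNk2 k v (Set.mem_iInter.mp hv2 k)

end Groth.Agent.Lib.Helper57.Wt
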