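import Groth.Agent.Lib.Helper57.Wt3

universe u

open CategoryTheory CategoryTheory.Limits AlgebraicGeometry TopologicalSpace

namespace Groth.Agent.Lib.Helper57.Wt

theorem single_le_finsum_mem' {α : Type*} {s : Set α} {f : α → ℤ} (hs : s.Finite)
    (h : ∀ j ∈ s, 0 ≤ f j) {i : α} (hi : i ∈ s) : f i ≤ ∑ᶠ j ∈ s, f j := by
  rw [finsum_mem_eq_finite_toFinset_sum f hs]
  exact Finset.single_le_sum (fun j hj => h j (hs.mem_toFinset.mp hj)) (hs.mem_toFinset.mpr hi)

/-- Étale localization at a single point, together with the constancy of the integral. -/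
theorem exists_local_piece {X Y : Scheme.{u}} (f : X ⟶ Y) [LocallyQuasiFinite f]
    [LocallyOfFiniteType f] (w : X → ℤ) (hw : MoreMor.IsWeighting f w) (x : X) :
    ∃ (V₀ : Scheme.{u}) (a : V₀ ⟶ Y) (v₀ : V₀), Etale a ∧ a v₀ = f x ∧
      ∃ (Vj : (pullback f a).Opens) (vj : ↑(pullback f a)), vj ∈ Vj ∧
        pullback.fst f a vj = x ∧ pullback.snd f a vj = v₀ ∧
        ∃ N : V₀.Opens, v₀ ∈ N ∧ ∀ v ∈ N,
          {p : ↑(pullback f a) | p ∈ Vj ∧ pullback.snd f a p = v}.Finite ∧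
          ∑ᶠ p ∈ {p : ↑(pullback f a) | p ∈ Vj ∧ pullback.snd f a p = v},
            w (pullback.fst f a p) * deg (pullback.snd f a) p = w x := by
  obtain ⟨V₀, a, v₀, ha, hav, J, hJ, Vj, vj, hVj, -, hcov⟩ :=
    EtRes.exists_etale_nbhd_purelyInseparable_open f (f x) (fun _ : Unit => x)
      (fun _ _ _ => rfl) (fun _ => rfl) (fun _ => f.quasiFiniteAt _)
  obtain ⟨p₀, hp₀x, hp₀v⟩ := Scheme.Pullback.exists_preimage_pullback (f := f) (g := a) x v₀
    hav.symm
  obtain ⟨jj, hjj⟩ := hcov p₀ () hp₀v hp₀x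
  obtain ⟨hV1, hV2, hV3, hV4, hV5, hV6⟩ := hVj () jj
  have hG := hw V₀ a (Vj () jj) hV2
  obtain ⟨Nc, hNc, hv₀Nc, hNc'⟩ := (IsLocallyConstant.iff_exists_open _).mp hG v₀
  refine ⟨V₀, a, v₀, ha, hav, Vj () jj, vj () jj, hV1, hV6, hV3, ⟨Nc, hNc⟩, hv₀Nc, ?_⟩
  have hform : ∀ v, MoreMor.fibreIntegral ((Vj () jj).ι ≫ pullback.snd f a)
      (fun u => w (pullback.fst f a ((Vj () jj).ι u))) v =
      ∑ᶠ p ∈ {p : ↑(pullback f a) | p ∈ Vj () jj ∧ pullback.snd f a p = v},
            w (pullback.fst f a p) * deg (pullback.snd f a) p := by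
    intro v
    have := fibreIntegral_openImmersion (Vj () jj).ι (pullback.snd f a)
      (fun p => w (pullback.fst f a p)) v
    rw [Scheme.Opens.range_ι] at this
    exact this
  intro v hv
  constructor
  · have := finite_fibre_of_isFinite (Vj () jj).ι (pullback.snd f a) v
    rw [Scheme.Opens.range_ι] at this
    exact this
  · rw [← hform, hNc' v hv, hform]
    have hset : {p : ↑(pullback f a) | p ∈ Vj () jj ∧ pullback.snd f a p = v₀} = {vj () jj} := by
      ext p
      constructor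
      · rintro ⟨h1, h2⟩
        exact hV4 p h1 h2
      · rintro rfl
        exact ⟨hV1, hV3⟩
    rw [hset, finsum_mem_singleton, hV6, deg_eq_one _ _ hV5.2, mul_one]

/-- The image of a locally quasi-finite morphism with a positive weighting is open. -/
theorem isOpen_range_of_pos {X Y : Scheme.{u}} (f : X ⟶ Y) [LocallyQuasiFinite f]
    [LocallyOfFiniteType f] (w : X → ℤ) (hw : MoreMor.IsWeighting f w) (hpos : ∀ x, 0 < w x) :
    IsOpen (Set.range f) := by
  rw [isOpen_iff_forall_mem_open]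
  rintro _ ⟨x, rfl⟩
  obtain ⟨V₀, a, v₀, ha, hav, Vj, vj, hvj, hvjx, hvjv, N, hN, hN'⟩ := exists_local_piece f w hw x
  refine ⟨a '' N, ?_, a.isOpenMap _ N.2, ⟨v₀, hN, hav⟩⟩
  rintro _ ⟨v, hv, rfl⟩
  obtain ⟨-, hsum⟩ := hN' v hv
  have hne : {p : ↑(pullback f a) | p ∈ Vj ∧ pullback.snd f a p = v}.Nonempty := by
    by_contra hempty
    rw [Set.not_nonempty_iff_eq_empty] at hempty
    rw [hempty, finsum_mem_empty] at hsum
    exact absurd hsum (hpos x).ne
  obtain ⟨p, -, hp⟩ := hne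
  refine ⟨pullback.fst f a p, ?_⟩
  rw [← hp]
  exact congr($(pullback.condition (f := f) (g := a)) p)

/-- A locally quasi-finite morphism with a positive weighting is open. -/
theorem isOpenMap_of_pos {X Y : Scheme.{u}} (f : X ⟶ Y) [LocallyQuasiFinite f]
    [LocallyOfFiniteType f] (w : X → ℤ) (hw : MoreMor.IsWeighting f w) (hpos : ∀ x, 0 < w x) :
    IsOpenMap f := by
  intro S hS
  let X' : X.Opens := ⟨S, hS⟩
  have h1 := isOpen_range_of_pos (X'.ι ≫ f) (fun x => w (X'.ι x)) (isWeighting_restrict f w hw X')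
    (fun x => hpos _)
  convert h1 using 1
  ext y
  constructor
  · rintro ⟨x, hx, rfl⟩
    exact ⟨⟨x, hx⟩, rfl⟩
  · rintro ⟨x, rfl⟩
    exact ⟨x.1, x.2, rfl⟩

/-- **Stacks 0F3E**: positive weighting implies universally open. -/
theorem universallyOpen_of_pos {X Y : Scheme.{u}} (f : X ⟶ Y) [LocallyQuasiFinite f]
    [LocallyOfFiniteType f] (w : X → ℤ) (hw : MoreMor.IsWeighting f w) (hpos : ∀ x, 0 < w x) :
    UniversallyOpen f := by
  refine ⟨?_⟩
  intro X' Y' i₁ i₂ f' sq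
  have : LocallyQuasiFinite f' := MorphismProperty.of_isPullback sq.flip inferInstance
  have : LocallyOfFiniteType f' := MorphismProperty.of_isPullback sq.flip inferInstance
  exact isOpenMap_of_pos f' (w ∘ i₁) (isWeighting_baseChange f w hw f' i₁ i₂ sq.flip)
    (fun x => hpos _)

/-- **Stacks 0F3H-ish**: a positive weighting is upper semicontinuous. -/
theorem upperSemicontinuous_of_pos {X Y : Scheme.{u}} (f : X ⟶ Y) [LocallyQuasiFinite f]
    [LocallyOfFiniteType f] (w : X → ℤ) (hw : MoreMor.IsWeighting f w) (hpos : ∀ x, 0 < w x) :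
    UpperSemicontinuous w := by
  intro x c hc
  obtain ⟨V₀, a, v₀, ha, hav, Vj, vj, hvj, hvjx, hvjv, N, hN, hN'⟩ := exists_local_piece f w hw x
  let O : Set ↑(pullback f a) := (Vj : Set _) ∩ (pullback.snd f a) ⁻¹' N
  have hO : IsOpen O := Vj.2.inter (N.2.preimage (pullback.snd f a).continuous)
  have hOx : IsOpen (pullback.fst f a '' O) := (pullback.fst f a).isOpenMap _ hO
  have hxO : x ∈ pullback.fst f a '' O := ⟨vj, ⟨hvj, by show pullback.snd f a vj ∈ N; rw [hvjv]; exact hN⟩, hvjx⟩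
  refine Filter.mem_of_superset (hOx.mem_nhds hxO) ?_
  rintro _ ⟨p, ⟨hp1, hp2⟩, rfl⟩
  show w (pullback.fst f a p) < c
  refine lt_of_le_of_lt ?_ hc
  obtain ⟨hfin, hsum⟩ := hN' _ hp2
  rw [← hsum]
  have hdeg : ∀ p' : ↑(pullback f a), 0 < deg (pullback.snd f a) p' := fun p' =>
    deg_pos _ _ (finite_residueFieldMap _ _)
  have h1 : w (pullback.fst f a p) * deg (pullback.snd f a) p ≤
      ∑ᶠ p' ∈ {p' : ↑(pullback f a) | p' ∈ Vj ∧ pullback.snd f a p' = pullback.snd f a p},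
        w (pullback.fst f a p') * deg (pullback.snd f a) p' :=
    single_le_finsum_mem' hfin (fun p' _ => (mul_pos (hpos _) (hdeg p')).le) ⟨hp1, rfl⟩
  refine le_trans ?_ h1
  have := hdeg p
  nlinarith [hpos (pullback.fst f a p)]

end Groth.Agent.Lib.Helper57.Wt
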