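import Groth.Agent.Lib.Helper57.Wt4

universe u

open CategoryTheory CategoryTheory.Limits AlgebraicGeometry TopologicalSpace

namespace Groth.Agent.Lib.Helper57.Wt

theorem finsum_mem_le_of_subset {α : Type*} {s t : Set α} {g : α → ℤ} (hst : s ⊆ t)
    (ht : t.Finite) (hnn : ∀ p ∈ t, 0 ≤ g p) : ∑ᶠ p ∈ s, g p ≤ ∑ᶠ p ∈ t, g p := by
  classical
  have hs : s.Finite := ht.subset hst
  rw [finsum_mem_eq_finite_toFinset_sum g hs, finsum_mem_eq_finite_toFinset_sum g ht]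
  apply Finset.sum_le_sum_of_subset_of_nonneg
  · intro p hp
    exact ht.mem_toFinset.mpr (hst (hs.mem_toFinset.mp hp))
  · intro p hp _
    exact hnn p (ht.mem_toFinset.mp hp)

theorem finsum_mem_lt_of_subset {α : Type*} {s t : Set α} {g : α → ℤ} (hst : s ⊆ t)
    (ht : t.Finite) (hpos : ∀ p ∈ t, 0 < g p) {p₀ : α} (hp₀t : p₀ ∈ t) (hp₀s : p₀ ∉ s) :
    ∑ᶠ p ∈ s, g p < ∑ᶠ p ∈ t, g p := by
  classical
  have hs : s.Finite := ht.subset hst
  rw [finsum_mem_eq_finite_toFinset_sum g hs, finsum_mem_eq_finite_toFinset_sum g ht]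
  apply Finset.sum_lt_sum_of_subset (i := p₀)
  · intro p hp
    exact ht.mem_toFinset.mpr (hst (hs.mem_toFinset.mp hp))
  · exact ht.mem_toFinset.mpr hp₀t
  · intro h
    exact hp₀s (hs.mem_toFinset.mp h)
  · exact hpos p₀ hp₀t
  · intro p hp _
    exact (hpos p (ht.mem_toFinset.mp hp)).le

theorem fibreIntegral_eq_finsum_mem {P V : Scheme.{u}} (q : P ⟶ V) (w : P → ℤ) (v : V) :
    MoreMor.fibreIntegral q w v = ∑ᶠ p ∈ {p : P | q p = v}, w p * deg q p := by
  rw [fibreIntegral_eq, ← finsum_set_coe_eq_finsum_mem]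
  rfl

/-- Superadditivity over disjoint pieces for nonnegative weights. -/
theorem finsum_pieces_le {K : Type*} [Finite K] {P V : Scheme.{u}} {Wk : K → Scheme.{u}}
    (jk : ∀ k, Wk k ⟶ P) [∀ k, IsOpenImmersion (jk k)] (q : P ⟶ V) (w : P → ℤ) (v : V)
    (hdisj : ∀ p, q p = v → ∀ k k', p ∈ Set.range (jk k) → p ∈ Set.range (jk k') → k = k')
    (hfin : {p : P | q p = v}.Finite) (hnn : ∀ p, q p = v → 0 ≤ w p * deg q p) :
    ∑ᶠ k, MoreMor.fibreIntegral (jk k ≫ q) (fun u => w (jk k u)) v ≤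
      MoreMor.fibreIntegral q w v := by
  simp_rw [fibreIntegral_openImmersion]
  rw [fibreIntegral_eq_finsum_mem]
  have hfin' : ∀ k, {p : P | p ∈ Set.range (jk k) ∧ q p = v}.Finite := fun k =>
    hfin.subset fun p hp => hp.2
  rw [← finsum_mem_iUnion _ hfin']
  · apply finsum_mem_le_of_subset _ hfin (fun p hp => hnn p hp)
    intro p hp
    obtain ⟨k, hk⟩ := Set.mem_iUnion.mp hp
    exact hk.2
  · intro k k' hkk'
    rw [Function.onFun, Set.disjoint_left]
    rintro p ⟨h1, h2⟩ ⟨h3, -⟩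
    exact hkk' (hdisj p h2 k k' h1 h3)

/-- Finiteness of fibres is preserved by base change. -/
theorem finite_fibre_snd {X Y V : Scheme.{u}} (f : X ⟶ Y) [LocallyQuasiFinite f]
    [LocallyOfFiniteType f] (hfin : ∀ y : Y, (f ⁻¹' {y}).Finite) (a : V ⟶ Y) (v : V) :
    {p : ↑(pullback f a) | pullback.snd f a p = v}.Finite := by
  have h1 : (⋃ x ∈ f ⁻¹' {a v}, {p : ↑(pullback f a) |
      pullback.fst f a p = x ∧ pullback.snd f a p = v}).Finite :=
    Set.Finite.biUnion (hfin (a v)) fun x _ =>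
      EtRes.finite_points (f := f) (g := a) x v (finite_residueFieldMap f x)
  refine h1.subset ?_
  intro p hp
  refine Set.mem_biUnion (x := pullback.fst f a p) ?_ ⟨rfl, hp⟩
  show f (pullback.fst f a p) = a v
  rw [← hp]
  exact congr($(pullback.condition (f := f) (g := a)) p)

/-- **Stacks 0F3I-ish**: lower semicontinuity of the integral of a positive weighting. -/
theorem lowerSemicontinuous_fibreIntegral {X Y : Scheme.{u}} (f : X ⟶ Y) [LocallyQuasiFinite f]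
    [LocallyOfFiniteType f] [IsSeparated f] (hfin : ∀ y : Y, (f ⁻¹' {y}).Finite)
    (w : X → ℤ) (hw : MoreMor.IsWeighting f w) (hpos : ∀ x, 0 < w x) :
    LowerSemicontinuous (MoreMor.fibreIntegral f w) := by
  intro y c hc
  have : Finite ↥(f ⁻¹' {y}) := (hfin y).to_subtype
  obtain ⟨n, ⟨e⟩⟩ := Finite.exists_equiv_fin ↥(f ⁻¹' {y})
  let x : Fin n → ↑X := fun i => (e.symm i).1
  have hxinj : Function.Injective x := fun i i' h => e.symm.injective (Subtype.ext h)
  have hxs : ∀ i, f (x i) = y := fun i => (e.symm i).2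
  obtain ⟨V₀, a, v₀, ha, hav, J, hJ, Vp, vp, hclopen, hdisj, hVp, hcov⟩ :=
    EtRes.exists_etale_nbhd_purelyInseparable f y x hxinj hxs (fun i => f.quasiFiniteAt _)
  let wP : ↑(pullback f a) → ℤ := fun p => w (pullback.fst f a p)
  let G : (Σ i, J i) → ↑V₀ → ℤ := fun k =>
    MoreMor.fibreIntegral ((Vp k.1 k.2).ι ≫ pullback.snd f a) (fun u => wP ((Vp k.1 k.2).ι u))
  have hG : ∀ k : Σ i, J i, ∃ N : V₀.Opens, v₀ ∈ N ∧ ∀ v ∈ N, G k v = G k v₀ := by
    intro k
    have h1 := hw V₀ a (Vp k.1 k.2) (hVp k.1 k.2).2.1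
    obtain ⟨Nc, hNc, hv₀Nc, hNc'⟩ := (IsLocallyConstant.iff_exists_open _).mp h1 v₀
    exact ⟨⟨Nc, hNc⟩, hv₀Nc, hNc'⟩
  choose Nk hNk1 hNk2 using hG
  let N : Set ↑V₀ := ⋂ k, (Nk k : Set ↑V₀)
  have hN : IsOpen N := isOpen_iInter_of_finite fun k => (Nk k).2
  have hv₀N : v₀ ∈ N := Set.mem_iInter.mpr hNk1
  have hF : ∀ v, MoreMor.fibreIntegral (pullback.snd f a) wP v =
      MoreMor.fibreIntegral f w (a v) := fun v =>
    fibreIntegral_baseChange_lqf f (pullback.snd f a) (pullback.fst f a) a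
      (IsPullback.of_hasPullback f a) w v
  have hdisj' : ∀ (v : ↑V₀) (p : ↑(pullback f a)), pullback.snd f a p = v →
      ∀ k k' : Σ i, J i, p ∈ Set.range (Vp k.1 k.2).ι → p ∈ Set.range (Vp k'.1 k'.2).ι →
      k = k' := by
    rintro v p - ⟨i, j⟩ ⟨i', j'⟩ h1 h2
    rw [Scheme.Opens.range_ι] at h1 h2
    obtain ⟨rfl, h3⟩ := hdisj i j i' j' ⟨p, h1, h2⟩
    rw [eq_of_heq h3]
  have h0 : MoreMor.fibreIntegral (pullback.snd f a) wP v₀ = ∑ᶠ k, G k v₀ := by
    apply fibreIntegral_eq_finsum_pieces_top (fun k : Σ i, J i => (Vp k.1 k.2).ι)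
      (pullback.snd f a) wP v₀
    · intro p hp
      have h1 : f (pullback.fst f a p) = y := by
        rw [← hav, ← hp]
        exact congr($(pullback.condition (f := f) (g := a)) p)
      obtain ⟨i, hi⟩ : ∃ i, pullback.fst f a p = x i := by
        refine ⟨e ⟨_, h1⟩, ?_⟩
        simp [x]
      obtain ⟨j, hj⟩ := hcov p i hp hi
      exact ⟨⟨i, j⟩, by rw [Scheme.Opens.range_ι]; exact hj⟩
    · exact hdisj' v₀
    · intro k
      have := (hVp k.1 k.2).2.1
      exact finite_fibre_of_isFinite (Vp k.1 k.2).ι (pullback.snd f a) v₀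
  have h1 : ∀ v, ∑ᶠ k, G k v ≤ MoreMor.fibreIntegral (pullback.snd f a) wP v := by
    intro v
    apply finsum_pieces_le (fun k : Σ i, J i => (Vp k.1 k.2).ι) (pullback.snd f a) wP v
      (hdisj' v) (finite_fibre_snd f hfin a v)
    intro p _
    exact (mul_pos (hpos _) (deg_pos _ _ (finite_residueFieldMap _ _))).le
  refine Filter.mem_of_superset ((a.isOpenMap _ hN).mem_nhds ⟨v₀, hv₀N, hav⟩) ?_
  rintro _ ⟨v, hv, rfl⟩
  show c < MoreMor.fibreIntegral f w (a v)
  calc c < MoreMor.fibreIntegral f w y := hc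
    _ = MoreMor.fibreIntegral f w (a v₀) := by rw [hav]
    _ = MoreMor.fibreIntegral (pullback.snd f a) wP v₀ := (hF v₀).symm
    _ = ∑ᶠ k, G k v₀ := h0
    _ = ∑ᶠ k, G k v := finsum_congr fun k => (hNk2 k v (Set.mem_iInter.mp hv k)).symm
    _ ≤ MoreMor.fibreIntegral (pullback.snd f a) wP v := h1 v
    _ = MoreMor.fibreIntegral f w (a v) := hF v

end Groth.Agent.Lib.Helper57.Wt
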