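import Groth.Agent.Lib.Helper57.Wt5
import Mathlib.AlgebraicGeometry.ZariskisMainTheorem

universe u

open CategoryTheory CategoryTheory.Limits AlgebraicGeometry TopologicalSpace

namespace Groth.Agent.Lib.Helper57.Wt

/-- If the integral of a positive weighting is constant then the morphism is closed. -/
theorem isClosedMap_of_const {X Y : Scheme.{u}} (f : X ⟶ Y) [LocallyQuasiFinite f]
    [LocallyOfFiniteType f] [IsSeparated f] (hfin : ∀ y : Y, (f ⁻¹' {y}).Finite)
    (w : X → ℤ) (hw : MoreMor.IsWeighting f w) (hpos : ∀ x, 0 < w x) (d : ℤ)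
    (hconst : ∀ y, MoreMor.fibreIntegral f w y = d) : IsClosedMap f := by
  intro Z hZ
  rw [← isOpen_compl_iff, isOpen_iff_mem_nhds]
  intro y hy
  let X₀ : X.Opens := ⟨Zᶜ, hZ.isOpen_compl⟩
  have hw₀ := isWeighting_restrict f w hw X₀
  have hfin₀ : ∀ y : Y, ((X₀.ι ≫ f) ⁻¹' {y}).Finite := fun y =>
    ((hfin y).preimage X₀.ι.isOpenEmbedding.injective.injOn).subset fun x hx => hx
  have hlsc := lowerSemicontinuous_fibreIntegral (X₀.ι ≫ f) hfin₀ _ hw₀ (fun x => hpos _)
  have hF₀ : ∀ y', MoreMor.fibreIntegral (X₀.ι ≫ f) (fun x => w (X₀.ι x)) y' =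
      ∑ᶠ p ∈ {p : X | p ∈ X₀ ∧ f p = y'}, w p * deg f p := by
    intro y'
    have := fibreIntegral_openImmersion X₀.ι f w y'
    rw [Scheme.Opens.range_ι] at this
    exact this
  have hy0 : MoreMor.fibreIntegral (X₀.ι ≫ f) (fun x => w (X₀.ι x)) y = d := by
    rw [← hconst y, hF₀, fibreIntegral_eq_finsum_mem]
    congr 1
    ext p
    have : {p : X | p ∈ X₀ ∧ f p = y} = {p : X | f p = y} := by
      ext p
      constructor
      · rintro ⟨-, h⟩; exact h
      · intro h
        refine ⟨?_, h⟩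
        intro hpZ
        exact hy ⟨p, hpZ, h⟩
    rw [this]
  have h1 := hlsc y (d - 1) (by show d - 1 < _; rw [hy0]; omega)
  filter_upwards [h1] with y' hy'
  rintro ⟨p₀, hp₀Z, rfl⟩
  have h2 : MoreMor.fibreIntegral (X₀.ι ≫ f) (fun x => w (X₀.ι x)) (f p₀) <
      MoreMor.fibreIntegral f w (f p₀) := by
    rw [hF₀, fibreIntegral_eq_finsum_mem]
    apply finsum_mem_lt_of_subset (fun p hp => hp.2) ((hfin (f p₀)).subset fun p hp => hp)
      (fun p _ => mul_pos (hpos _) (deg_pos _ _ (finite_residueFieldMap _ _)))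
      (p₀ := p₀) rfl
    rintro ⟨h3, -⟩
    exact h3 hp₀Z
  rw [hconst] at h2
  omega

/-- If the integral of a positive weighting is constant then the morphism is finite. -/
theorem isFinite_of_const {X Y : Scheme.{u}} (f : X ⟶ Y) [LocallyQuasiFinite f]
    [LocallyOfFiniteType f] [IsSeparated f] (hfin : ∀ y : Y, (f ⁻¹' {y}).Finite)
    (w : X → ℤ) (hw : MoreMor.IsWeighting f w) (hpos : ∀ x, 0 < w x) (d : ℤ)
    (hconst : ∀ y, MoreMor.fibreIntegral f w y = d) : IsFinite f := by
  have huc : UniversallyClosed f := by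
    rw [universallyClosed_eq]
    apply MorphismProperty.universally_mk'
    intro T t _
    have h1 : pullback.fst t f = (pullbackSymmetry t f).hom ≫ pullback.snd f t := by simp
    rw [h1]
    refine (MorphismProperty.cancel_left_of_respectsIso (topologically @IsClosedMap)
      (pullbackSymmetry t f).hom (pullback.snd f t)).mpr ?_
    exact isClosedMap_of_const (pullback.snd f t)
      (fun v => (finite_fibre_snd f hfin t v).subset fun p hp => hp)
      (w ∘ pullback.fst f t)
      (isWeighting_baseChange f w hw _ _ _ (IsPullback.of_hasPullback f t))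
      (fun x => hpos _) d
      (fun v => by
        rw [fibreIntegral_baseChange_lqf f (pullback.snd f t) (pullback.fst f t) t
          (IsPullback.of_hasPullback f t) w v, hconst])
  have : IsProper f := {}
  exact IsFinite.of_isProper_of_locallyQuasiFinite f

/-- **Stacks 0F3K-ish**: the locus where the integral is maximal is open and `f` is finite over
it. -/
theorem exists_isOpen_isFinite {X Y : Scheme.{u}} (f : X ⟶ Y) [LocallyQuasiFinite f]
    [LocallyOfFiniteType f] [IsSeparated f] (hfin : ∀ y : Y, (f ⁻¹' {y}).Finite)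
    (w : X → ℤ) (hw : MoreMor.IsWeighting f w) (hpos : ∀ x, 0 < w x) (d : ℤ)
    (hmax : ∀ y : Y, MoreMor.fibreIntegral f w y ≤ d) :
    ∃ hYd : IsOpen {y : Y | MoreMor.fibreIntegral f w y = d},
      IsFinite (f ∣_ ⟨{y : Y | MoreMor.fibreIntegral f w y = d}, hYd⟩) := by
  have hlsc := lowerSemicontinuous_fibreIntegral f hfin w hw hpos
  have hYd : IsOpen {y : Y | MoreMor.fibreIntegral f w y = d} := by
    have : {y : Y | MoreMor.fibreIntegral f w y = d} =
        MoreMor.fibreIntegral f w ⁻¹' Set.Ioi (d - 1) := by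
      ext y
      have := hmax y
      show MoreMor.fibreIntegral f w y = d ↔ d - 1 < MoreMor.fibreIntegral f w y
      constructor
      · intro h; omega
      · intro h; omega
    rw [this]
    exact hlsc.isOpen_preimage _
  refine ⟨hYd, ?_⟩
  let Yd : Y.Opens := ⟨_, hYd⟩
  have sq : IsPullback (f ⁻¹ᵁ Yd).ι (f ∣_ Yd) f Yd.ι := (isPullback_morphismRestrict f Yd).flip
  refine isFinite_of_const (f ∣_ Yd) ?_ (w ∘ (f ⁻¹ᵁ Yd).ι)
    (isWeighting_baseChange f w hw _ _ _ sq) (fun x => hpos _) d ?_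
  · intro y
    refine ((hfin (Yd.ι y)).preimage (f ⁻¹ᵁ Yd).ι.isOpenEmbedding.injective.injOn).subset ?_
    intro x hx
    show f ((f ⁻¹ᵁ Yd).ι x) = Yd.ι y
    have hx' : (f ∣_ Yd) x = y := hx
    rw [← hx']
    exact congr($(sq.w) x)
  · intro y
    rw [fibreIntegral_baseChange_lqf f (f ∣_ Yd) _ _ sq w y]
    exact y.2

end Groth.Agent.Lib.Helper57.Wt
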