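import Groth.Agent.Lib.Helper57.Wt5

universe u

open CategoryTheory CategoryTheory.Limits AlgebraicGeometry TopologicalSpace

namespace Groth.Agent.Lib.Helper57.Wt

/-- Tower law for the separable degrees of residue field extensions. -/
theorem deg_comp {W Q V : Scheme.{u}} (ψ : W ⟶ Q) (r : Q ⟶ V) (u : W)
    (h : (ψ.residueFieldMap u).hom.Finite) : deg (ψ ≫ r) u = deg ψ u * deg r (ψ u) := by
  unfold deg
  letI a1 := (r.residueFieldMap (ψ u)).hom.toAlgebra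
  letI a2 := (ψ.residueFieldMap u).hom.toAlgebra
  letI a3 : Algebra (V.residueField (r (ψ u))) (W.residueField u) :=
    ((ψ ≫ r).residueFieldMap u).hom.toAlgebra
  have : IsScalarTower (V.residueField (r (ψ u))) (Q.residueField (ψ u)) (W.residueField u) :=
    IsScalarTower.of_algebraMap_eq fun x => by
      have := Scheme.residueFieldMap_comp ψ r u
      exact congr($(this).hom x)
  have : Module.Finite (Q.residueField (ψ u)) (W.residueField u) := h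
  have h1 := Field.finSepDegree_mul_finSepDegree_of_isAlgebraic (V.residueField (r (ψ u)))
    (Q.residueField (ψ u)) (W.residueField u)
  rw [mul_comm]
  exact_mod_cast h1.symm

/-- Regrouping a finite sum along a map. -/
theorem finsum_mem_fiberwise {α β : Type*} (ψ : α → β) (T : Set α) (S : Set β) (hT : T.Finite)
    (hTS : ∀ u, u ∈ T ↔ ψ u ∈ S) (B : β → ℤ) (C : α → ℤ) :
    ∑ᶠ u ∈ T, C u * B (ψ u) = ∑ᶠ y ∈ S, B y * ∑ᶠ u ∈ {u | ψ u = y}, C u := by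
  classical
  have hinner : ∀ y ∈ S, ∑ᶠ u ∈ {u | ψ u = y}, C u = ∑ u ∈ hT.toFinset with ψ u = y, C u := by
    intro y hy
    apply finsum_mem_eq_sum_of_inter_support_eq
    ext u
    simp only [Set.mem_inter_iff, Set.mem_setOf_eq, Function.mem_support, ne_eq,
      Finset.coe_filter, Set.Finite.mem_toFinset]
    constructor
    · rintro ⟨h1, h2⟩
      exact ⟨⟨(hTS u).mpr (h1 ▸ hy), h1⟩, h2⟩
    · rintro ⟨⟨-, h1⟩, h2⟩
      exact ⟨h1, h2⟩
  have hS' : ∑ᶠ y ∈ S, B y * ∑ᶠ u ∈ {u | ψ u = y}, C u =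
      ∑ y ∈ hT.toFinset.image ψ, B y * ∑ u ∈ hT.toFinset with ψ u = y, C u := by
    rw [finsum_mem_eq_sum_of_inter_support_eq (s := S) (t := hT.toFinset.image ψ)]
    · refine Finset.sum_congr rfl fun y hy => ?_
      obtain ⟨u, hu, rfl⟩ := Finset.mem_image.mp hy
      rw [hinner _ ((hTS u).mp (hT.mem_toFinset.mp hu))]
    · ext y
      simp only [Set.mem_inter_iff, Function.mem_support, ne_eq, Finset.coe_image,
        Set.Finite.coe_toFinset, Set.mem_image]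
      constructor
      · rintro ⟨h1, h2⟩
        refine ⟨?_, h2⟩
        by_contra hne
        apply h2
        have : {u | ψ u = y} = (∅ : Set α) := by
          ext u
          simp only [Set.mem_setOf_eq, Set.mem_empty_iff_false, iff_false]
          intro hu
          exact hne ⟨u, (hTS u).mpr (hu ▸ h1), hu⟩
        rw [this, finsum_mem_empty, mul_zero]
      · rintro ⟨⟨u, hu, rfl⟩, h2⟩
        exact ⟨(hTS u).mp hu, h2⟩
  rw [hS', finsum_mem_eq_finite_toFinset_sum _ hT,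
    ← Finset.sum_fiberwise_of_maps_to (g := ψ) (t := hT.toFinset.image ψ)
      (fun u hu => Finset.mem_image_of_mem ψ hu)]
  refine Finset.sum_congr rfl fun y _ => ?_
  rw [Finset.mul_sum]
  refine Finset.sum_congr rfl fun u hu => ?_
  rw [(Finset.mem_filter.mp hu).2, mul_comm]

/-- Tower formula for fibre integrals. -/
theorem fibreIntegral_comp {W Q V : Scheme.{u}} (ψ : W ⟶ Q) (r : Q ⟶ V)
    (hψ : ∀ u, (ψ.residueFieldMap u).hom.Finite) (ws : W → ℤ) (wq : Q → ℤ) (v : V)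
    (hfin : {u : W | (ψ ≫ r) u = v}.Finite) :
    MoreMor.fibreIntegral (ψ ≫ r) (fun u => ws u * wq (ψ u)) v =
      ∑ᶠ y ∈ {y : Q | r y = v}, (wq y * deg r y) * MoreMor.fibreIntegral ψ ws y := by
  rw [fibreIntegral_eq_finsum_mem]
  simp_rw [fibreIntegral_eq_finsum_mem ψ]
  rw [← finsum_mem_fiberwise ψ {u : W | (ψ ≫ r) u = v} {y : Q | r y = v} hfin
    (fun u => Iff.rfl) (fun y => wq y * deg r y) (fun u => ws u * deg ψ u)]
  refine finsum_mem_congr rfl fun u _ => ?_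
  rw [deg_comp ψ r u (hψ u)]
  ring

/-- Finiteness over an open of the intermediate scheme. -/
theorem isFinite_morphismRestrict_of_factor {W Q V : Scheme.{u}} (ψ : W ⟶ Q) (r : Q ⟶ V)
    [IsFinite (ψ ≫ r)] (D : Q.Opens) [IsSeparated (D.ι ≫ r)] (N : V.Opens)
    (h : ∀ u : W, r (ψ u) ∈ N → ψ u ∈ D) : IsFinite (ψ ∣_ (D ⊓ r ⁻¹ᵁ N)) := by
  let DN : Q.Opens := D ⊓ r ⁻¹ᵁ N
  have hrange : Set.range (DN.ι ≫ r) ⊆ Set.range N.ι := by
    rintro _ ⟨y, rfl⟩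
    rw [Scheme.Opens.range_ι]
    exact y.2.2
  let ρ : (DN : Scheme.{u}) ⟶ N := IsOpenImmersion.lift N.ι (DN.ι ≫ r) hrange
  have hρ : ρ ≫ N.ι = DN.ι ≫ r := IsOpenImmersion.lift_fac _ _ _
  have hsep : IsSeparated ρ := by
    have : IsSeparated (ρ ≫ N.ι) := by
      rw [hρ]
      have : DN.ι ≫ r = Q.homOfLE (inf_le_left : DN ≤ D) ≫ D.ι ≫ r := by
        rw [Scheme.homOfLE_ι_assoc]
      rw [this]
      infer_instance
    exact IsSeparated.of_comp ρ N.ι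
  have hEq : ψ ⁻¹ᵁ DN = (ψ ≫ r) ⁻¹ᵁ N := by
    ext u
    constructor
    · rintro ⟨-, h2⟩; exact h2
    · intro h2; exact ⟨h u h2, h2⟩
  have hcomp : (ψ ∣_ DN) ≫ ρ = (W.isoOfEq hEq).hom ≫ ((ψ ≫ r) ∣_ N) := by
    rw [← cancel_mono N.ι, Category.assoc, hρ, morphismRestrict_ι_assoc, Category.assoc,
      morphismRestrict_ι, Scheme.isoOfEq_hom_ι_assoc]
  have : IsFinite ((ψ ∣_ DN) ≫ ρ) := by
    rw [hcomp]
    infer_instance
  exact IsFinite.of_comp (ψ ∣_ DN) ρ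

/-- Local constancy of the integral over an open of the base over which the piece is finite. -/
theorem IsWeighting.flex_restrict {X Y : Scheme.{u}} {f : X ⟶ Y} [LocallyQuasiFinite f]
    [LocallyOfFiniteType f] {w : X → ℤ} (hw : MoreMor.IsWeighting f w) {P Q W : Scheme.{u}}
    {p : P ⟶ X} {φ : P ⟶ Q} {a : Q ⟶ Y} [Etale a] (sq : IsPullback p φ f a) (j : W ⟶ P)
    [IsOpenImmersion j] (D : Q.Opens) (hfin : IsFinite ((j ≫ φ) ∣_ D)) (y₀ : Q) (hy₀ : y₀ ∈ D) :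
    ∃ O : Q.Opens, y₀ ∈ O ∧ ∀ y ∈ O,
      MoreMor.fibreIntegral (j ≫ φ) (fun u => w (p (j u))) y =
        MoreMor.fibreIntegral (j ≫ φ) (fun u => w (p (j u))) y₀ := by
  have sq' : IsPullback ((φ ⁻¹ᵁ D).ι ≫ p) (φ ∣_ D) f (D.ι ≫ a) :=
    (isPullback_morphismRestrict φ D).flip.paste_horiz sq
  have hcomp : (j ≫ φ) ∣_ D = j ∣_ (φ ⁻¹ᵁ D) ≫ φ ∣_ D := morphismRestrict_comp j φ D
  have hfin' : IsFinite (j ∣_ (φ ⁻¹ᵁ D) ≫ φ ∣_ D) := by rw [← hcomp]; exact hfin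
  have h1 := IsWeighting.flex hw sq' (j ∣_ (φ ⁻¹ᵁ D)) hfin'
  obtain ⟨O', hO', hy₀O', hO'c⟩ := (IsLocallyConstant.iff_exists_open _).mp h1 ⟨y₀, hy₀⟩
  have : LocallyQuasiFinite φ := MorphismProperty.of_isPullback sq inferInstance
  have : LocallyOfFiniteType φ := MorphismProperty.of_isPullback sq inferInstance
  have sqR : IsPullback ((j ≫ φ) ⁻¹ᵁ D).ι ((j ≫ φ) ∣_ D) (j ≫ φ) D.ι :=
    (isPullback_morphismRestrict (j ≫ φ) D).flip
  have hbc : ∀ y : ↥D, MoreMor.fibreIntegral (j ∣_ (φ ⁻¹ᵁ D) ≫ φ ∣_ D)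
      (fun u => w (((φ ⁻¹ᵁ D).ι ≫ p) ((j ∣_ (φ ⁻¹ᵁ D)) u))) y =
      MoreMor.fibreIntegral (j ≫ φ) (fun u => w (p (j u))) (D.ι y) := by
    intro y
    have h2 := fibreIntegral_baseChange_lqf (j ≫ φ) ((j ≫ φ) ∣_ D) _ _ sqR
      (fun u => w (p (j u))) y
    rw [← h2, hcomp]
    congr 1
    funext u
    show w (p ((φ ⁻¹ᵁ D).ι ((j ∣_ (φ ⁻¹ᵁ D)) u))) = w (p (j (((j ≫ φ) ⁻¹ᵁ D).ι u)))
    have : (φ ⁻¹ᵁ D).ι ((j ∣_ (φ ⁻¹ᵁ D)) u) = j ((j ⁻¹ᵁ (φ ⁻¹ᵁ D)).ι u) :=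
      congr($(morphismRestrict_ι j (φ ⁻¹ᵁ D)) u)
    rw [this]
    rfl
  refine ⟨⟨D.ι '' O', D.ι.isOpenEmbedding.isOpenMap _ hO'⟩, ⟨⟨y₀, hy₀⟩, hy₀O', rfl⟩, ?_⟩
  rintro _ ⟨y, hy, rfl⟩
  have := hO'c y hy
  rw [hbc, hbc] at this
  exact this

end Groth.Agent.Lib.Helper57.Wt
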