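import Groth.Agent.Lib.Helper57.Wt5
import Mathlib.AlgebraicGeometry.Artinian

universe u

open CategoryTheory CategoryTheory.Limits AlgebraicGeometry TopologicalSpace

namespace Groth.Agent.Lib.Helper57.Wt

theorem isSepClosed_of_ringEquiv {k k' : Type*} [Field k] [Field k'] (e : k ≃+* k')
    [IsSepClosed k] : IsSepClosed k' := by
  refine ⟨fun p hp => ?_⟩
  have hq : (p.map (e.symm : k' →+* k)).Separable := hp.map
  have h1 := IsSepClosed.splits_of_separable _ hq
  have h2 := h1.map (e : k →+* k')
  rw [Polynomial.map_map] at h2
  have h3 : (e : k →+* k').comp (e.symm : k' →+* k) = RingHom.id k' := by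
    ext x; simp
  rwa [h3, Polynomial.map_id] at h2

/-- The residue field of the spectrum of a field is that field. -/
noncomputable def residueFieldSpecFieldEquiv (K : Type u) [Field K] (o : Spec (.of K)) :
    (Spec (.of K)).residueField o ≃+* K :=
  ((Scheme.Spec.residueFieldIso (.of K) o).commRingCatIsoToRingEquiv).trans
    (Ideal.algEquivResidueFieldOfField o.asIdeal).symm.toRingEquiv

instance (K : Type u) [Field K] [IsSepClosed K] (o : Spec (.of K)) :
    IsSepClosed ((Spec (.of K)).residueField o) :=
  isSepClosed_of_ringEquiv (residueFieldSpecFieldEquiv K o).symm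

/-- Over a separably closed field all separable degrees of residue field extensions are one. -/
theorem deg_eq_one_of_isSepClosed {G : Scheme.{u}} (K : Type u) [Field K] [IsSepClosed K]
    (q : G ⟶ Spec (.of K)) (p : G) (h : (q.residueFieldMap p).hom.Finite) : deg q p = 1 := by
  apply deg_eq_one
  letI := (q.residueFieldMap p).hom.toAlgebra
  have : Module.Finite ((Spec (.of K)).residueField (q p)) (G.residueField p) := h
  infer_instance

section GeomFiber

variable {X Y : Scheme.{u}} (f : X ⟶ Y) (y : Y)

/-- The projection from the geometric fibre to the source. -/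
noncomputable def gfFst : MoreMor.geomFiber f y ⟶ X :=
  pullback.fst (f.fiberToSpecResidueField y)
    (Spec.map (CommRingCat.ofHom
      (algebraMap (Y.residueField y) (SeparableClosure (Y.residueField y))))) ≫ f.fiberι y

/-- The projection from the geometric fibre to the separably closed point. -/
noncomputable def gfSnd :
    MoreMor.geomFiber f y ⟶ Spec (.of (SeparableClosure (Y.residueField y))) :=
  pullback.snd (f.fiberToSpecResidueField y)
    (Spec.map (CommRingCat.ofHom
      (algebraMap (Y.residueField y) (SeparableClosure (Y.residueField y)))))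

/-- The separably closed geometric point over `y`. -/
noncomputable def gfPt : Spec (.of (SeparableClosure (Y.residueField y))) ⟶ Y :=
  Spec.map (CommRingCat.ofHom
      (algebraMap (Y.residueField y) (SeparableClosure (Y.residueField y)))) ≫
    Y.fromSpecResidueField y

theorem isPullback_geomFiber : IsPullback (gfFst f y) (gfSnd f y) f (gfPt y) :=
  (IsPullback.of_hasPullback (f.fiberToSpecResidueField y)
    (Spec.map (CommRingCat.ofHom
      (algebraMap (Y.residueField y) (SeparableClosure (Y.residueField y)))))).paste_horiz
    (IsPullback.of_hasPullback f (Y.fromSpecResidueField y))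

theorem gfPt_apply (o : Spec (.of (SeparableClosure (Y.residueField y)))) : gfPt y o = y := by
  show Y.fromSpecResidueField y _ = y
  exact Scheme.fromSpecResidueField_apply _ _

/-- The number of geometric connected components of a finite discrete fibre is the integral
of the constant function one. -/
theorem nGeomConnComp_eq [LocallyQuasiFinite f] [LocallyOfFiniteType f]
    (hfin : ∀ y : Y, (f ⁻¹' {y}).Finite) :
    MoreMor.nGeomConnComp f y = ((MoreMor.fibreIntegral f (fun _ => 1) y).toNat : ℕ∞) ∧
      ENat.card ↥(MoreMor.geomFiber f y) =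
        ((MoreMor.fibreIntegral f (fun _ => 1) y).toNat : ℕ∞) := by
  have sq := isPullback_geomFiber f y
  have : LocallyQuasiFinite (gfSnd f y) := MorphismProperty.of_isPullback sq inferInstance
  have : LocallyOfFiniteType (gfSnd f y) := MorphismProperty.of_isPullback sq inferInstance
  have : IsLocallyArtinian (MoreMor.geomFiber f y) :=
    IsLocallyArtinian.of_locallyQuasiFinite (gfSnd f y)
  have hdisc : DiscreteTopology ↥(MoreMor.geomFiber f y) := inferInstance
  let o : Spec (.of (SeparableClosure (Y.residueField y))) :=
    IsLocalRing.closedPoint (SeparableClosure (Y.residueField y))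
  have ho : ∀ p : ↥(MoreMor.geomFiber f y), gfSnd f y p = o :=
    fun p => Subsingleton.elim (α := PrimeSpectrum _) _ _
  -- finiteness of the geometric fibre
  have hGfin : Finite ↥(MoreMor.geomFiber f y) := by
    let e := sq.isoPullback
    have h1 := finite_fibre_snd f hfin (gfPt y) o
    have h2 : (Set.univ : Set ↥(MoreMor.geomFiber f y)).Finite := by
      refine (h1.preimage (e.hom.homeomorph.injective.injOn)).subset ?_
      intro p _
      show pullback.snd f (gfPt y) (e.hom p) = o
      have : e.hom ≫ pullback.snd f (gfPt y) = gfSnd f y := sq.isoPullback_hom_snd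
      rw [← Scheme.Hom.comp_apply, this]
      exact ho p
    exact Set.finite_univ_iff.mp h2
  -- the integral over the geometric fibre
  have h3 : MoreMor.fibreIntegral (gfSnd f y) ((fun _ => (1 : ℤ)) ∘ gfFst f y) o =
      MoreMor.fibreIntegral f (fun _ => 1) y := by
    rw [fibreIntegral_baseChange_lqf f (gfSnd f y) (gfFst f y) (gfPt y) sq, gfPt_apply]
  have h4 : MoreMor.fibreIntegral (gfSnd f y) ((fun _ => (1 : ℤ)) ∘ gfFst f y) o =
      (Nat.card ↥(MoreMor.geomFiber f y) : ℤ) := by
    rw [fibreIntegral_eq]
    have h5 : ∀ u : {u : ↥(MoreMor.geomFiber f y) // gfSnd f y u = o},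
        ((fun _ => (1 : ℤ)) ∘ gfFst f y) u.1 * deg (gfSnd f y) u.1 = 1 := by
      intro u
      rw [deg_eq_one_of_isSepClosed _ _ _ (finite_residueFieldMap _ _)]
      rfl
    simp_rw [h5]
    have := Fintype.ofFinite {u : ↥(MoreMor.geomFiber f y) // gfSnd f y u = o}
    rw [finsum_eq_sum_of_fintype, Finset.sum_const, Finset.card_univ, nsmul_eq_mul, mul_one,
      ← Nat.card_eq_fintype_card]
    congr 1
    exact Nat.card_congr (Equiv.subtypeUnivEquiv ho)
  have h6 : (MoreMor.fibreIntegral f (fun _ => 1) y).toNat = Nat.card ↥(MoreMor.geomFiber f y) := by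
    rw [← h3, h4, Int.toNat_natCast]
  have h7 : ENat.card ↥(MoreMor.geomFiber f y) = (Nat.card ↥(MoreMor.geomFiber f y) : ℕ∞) :=
    ENat.card_eq_coe_natCard _
  refine ⟨?_, by rw [h6, h7]⟩
  rw [h6, ← h7]
  unfold MoreMor.nGeomConnComp
  apply ENat.card_congr
  refine (Equiv.ofBijective (ConnectedComponents.mk : ↥(MoreMor.geomFiber f y) → _) ⟨?_, ?_⟩).symm
  · intro a b hab
    have := ConnectedComponents.coe_eq_coe'.mp hab
    rw [connectedComponent_eq_singleton] at this
    exact this
  · exact ConnectedComponents.surjective_coe

end GeomFiber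

end Groth.Agent.Lib.Helper57.Wt
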