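import Groth.Agent.Lib.Helper57.ZarHens1
import Groth.Agent.Lib.Helper4.ExtAdj
import Groth.Agent.Lib.Helper4.OverEt
import Groth.Prelude.Def_EtCore

/-!
# Étale cohomology agrees with Zariski cohomology when all local rings are strictly henselian
-/

set_option autoImplicit false
open CategoryTheory CategoryTheory.Limits AlgebraicGeometry Opposite TopologicalSpace
universe u

noncomputable section

namespace Groth.Agent.Lib.Helper57.ZarHens

open Groth.Agent.Lib.Helper4 Groth.Agent.Lib.Helper69

variable (S : Scheme.{u}) [EtZar.ZarCont S]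

instance : (EtZar.resZar S).Additive where

instance zarWEq : (Opens.grothendieckTopology S).WEqualsLocallyBijective AddCommGrpCat.{u + 1} :=
  .ofEssentiallySmall (Opens.grothendieckTopology S)

theorem resZar_preservesFiniteLimits : PreservesFiniteLimits (EtZar.resZar S) := by
  have : PreservesLimitsOfSize.{u + 1, u + 1} (EtZar.resZar S) :=
    (ZarEt.adjZar S).rightAdjoint_preservesLimits
  exact PreservesLimitsOfSize.preservesFiniteLimits _

theorem resZar_preservesEpimorphisms
    (hS : ∀ s : S, EtCoh.IsStrictlyHenselianLocalRing (S.presheaf.stalk s)) :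
    (EtZar.resZar S).PreservesEpimorphisms := by
  refine ⟨fun {F F''} e he => ?_⟩
  rw [← Sheaf.isLocallySurjective_iff_epi' AddCommGrpCat.{u + 1}]
  constructor
  intro U₀ s x hx
  obtain ⟨U, rfl⟩ : ∃ U : S.Opens, U = U₀ := ⟨U₀, rfl⟩
  have hls : Sheaf.IsLocallySurjective e := (Sheaf.isLocallySurjective_iff_epi' _ e).2 he
  have hmem := Presheaf.imageSieve_mem S.smallEtaleTopology e.hom
    (U := op ((EtZar.zarToEt S).obj U)) s
  obtain ⟨V, g, v, ⟨t, ht⟩, hv⟩ := (OverEt.mem_iff_forall_exists _ _).1 hmem
    (⟨x, hx⟩ : U.toScheme)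
  obtain ⟨U₁, hxU₁, ⟨σ⟩⟩ := exists_zariski_section V v hS
  have hVx : (V.hom : V.left ⟶ S) v = x := by
    have h1 : g.left ≫ U.ι = V.hom := MorphismProperty.Over.w g
    rw [← h1, Scheme.Hom.comp_apply]
    exact congrArg (fun p : U.toScheme => U.ι p) hv
  rw [hVx] at hxU₁
  have hle : U₁ ≤ U := by
    have h2 := ZarEt.range_subset_of_hom ((EtZar.zarToEt S).obj U₁) U (σ ≫ g)
    intro y hy
    apply h2
    exact ⟨⟨y, hy⟩, rfl⟩
  refine ⟨U₁, homOfLE hle, ⟨F.obj.map σ.op t, ?_⟩, hxU₁⟩
  have h3 : σ ≫ g = (EtZar.zarToEt S).map (homOfLE hle) := Subsingleton.elim _ _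
  change e.hom.app (op ((EtZar.zarToEt S).obj U₁)) (F.obj.map σ.op t) =
    F''.obj.map ((EtZar.zarToEt S).map (homOfLE hle)).op s
  rw [← h3, op_comp, Functor.map_comp, ConcreteCategory.comp_apply, ← ht]
  exact NatTrans.naturality_apply e.hom σ.op t

theorem resZar_preservesFiniteColimits
    (hS : ∀ s : S, EtCoh.IsStrictlyHenselianLocalRing (S.presheaf.stalk s)) :
    PreservesFiniteColimits (EtZar.resZar S) := by
  have hepi := resZar_preservesEpimorphisms S hS
  have hlim := resZar_preservesFiniteLimits S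
  have h1 := ((Functor.preservesFiniteLimits_tfae (EtZar.resZar S)).out 3 0).mp hlim
  refine ((Functor.preservesFiniteColimits_tfae (EtZar.resZar S)).out 0 3).mp ?_
  intro T hT
  have := hT.epi_g
  exact ⟨(h1 T hT).1, inferInstance⟩

/-- The image of the whole space is a terminal object of the small étale site. -/
def zarTopIsTerminal : IsTerminal ((EtZar.zarToEt S).obj ⊤) :=
  IsTerminal.ofUniqueHom (fun V => ZarEt.toZar V ⊤ (Set.subset_univ _))
    (fun _ _ => Subsingleton.elim _ _)

/-- Global sections of the restriction to the Zariski site. -/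
def resZarGsecIso : EtZar.resZar S ⋙
    (sheafSections (Opens.grothendieckTopology S) AddCommGrpCat.{u + 1}).obj (op ⊤) ≅
      EtCore.gsec S :=
  NatIso.ofComponents (fun F => F.obj.mapIso
    (IsTerminal.uniqueUpToIso (zarTopIsTerminal S) (EtCore.topIsTerminal S)).op.symm)
    (fun {F G} φ => by
      simp only [Functor.comp_map, Functor.mapIso_hom, Iso.symm_hom]
      exact (φ.hom.naturality _).symm)

/-- The pullback of a constant Zariski sheaf to the étale site is constant. -/
def pullZarConstIso :
    constantSheaf (Opens.grothendieckTopology S) AddCommGrpCat.{u + 1} ⋙ ZarEt.pullZar S ≅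
      constantSheaf S.smallEtaleTopology AddCommGrpCat.{u + 1} :=
  Adjunction.leftAdjointUniq
    (((constantSheafAdj (Opens.grothendieckTopology S) AddCommGrpCat.{u + 1}
      (isTerminalTop : IsTerminal (⊤ : S.Opens))).comp (ZarEt.adjZar S)).ofNatIsoRight
        (resZarGsecIso S))
    (EtCore.constAdj S)

end Groth.Agent.Lib.Helper57.ZarHens
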